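import Mathlib.Algebra.Homology.HomologicalComplex
import Mathlib.Algebra.Homology.Embedding.CochainComplex
import Mathlib.CategoryTheory.Preadditive.Basic

/-!
# Cutting a cochain complex at a degree (hand-made canonical truncations)

Given `K : CochainComplex C ℤ`, a degree `a`, and a factorization
`K.X a --π--> Ca --δ--> K.X (a+1)` of the differential with `π` epi and killing the incoming
differential, we build the complex `… 0 ⟶ Ca ⟶ K.X (a+1) ⟶ …` together with the map from `K`.
Dually for a factorization `K.X (b-1) ⟶ Zb ⟶ K.X b` with the second map mono.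
-/

set_option autoImplicit false
universe v u

open CategoryTheory CategoryTheory.Limits

namespace Groth.Agent.H6

variable {C : Type u} [Category.{v} C] [Preadditive C] [HasZeroObject C]

open ZeroObject

namespace CutGE

variable (K : CochainComplex C ℤ) (a : ℤ) (Ca : C)

/-- The objects of the truncated complex. -/
noncomputable def obj (n : ℤ) : C := if n < a then 0 else if n = a then Ca else K.X n

lemma isZero_obj (n : ℤ) (h : n < a) : IsZero (obj K a Ca n) := by
  unfold obj; rw [if_pos h]; exact isZero_zero C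

lemma obj_eq_self : obj K a Ca a = Ca := by
  unfold obj; rw [if_neg (lt_irrefl a), if_pos rfl]

lemma obj_eq_of_lt (n : ℤ) (h : a < n) : obj K a Ca n = K.X n := by
  unfold obj; rw [if_neg (by omega), if_neg (by omega)]

/-- `obj a ≅ Ca`. -/
noncomputable def isoSelf : obj K a Ca a ≅ Ca := eqToIso (obj_eq_self K a Ca)

/-- `obj n ≅ K.X n` for `a < n`. -/
noncomputable def isoOfLt (n : ℤ) (h : a < n) : obj K a Ca n ≅ K.X n :=
  eqToIso (obj_eq_of_lt K a Ca n h)

variable {K a Ca}
variable (π : K.X a ⟶ Ca) (δ : Ca ⟶ K.X (a + 1))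

/-- The components of the projection. -/
noncomputable def projF (n : ℤ) : K.X n ⟶ obj K a Ca n :=
  if h1 : n < a then 0 else if h2 : n = a then
    (K.XIsoOfEq h2).hom ≫ π ≫ (isoSelf K a Ca).inv ≫ eqToHom (by rw [h2])
  else (isoOfLt K a Ca n (by omega)).inv

lemma projF_self : projF π a = π ≫ (isoSelf K a Ca).inv := by
  unfold projF
  rw [dif_neg (lt_irrefl a), dif_pos rfl]
  simp

lemma projF_of_lt (n : ℤ) (h : a < n) : projF π n = (isoOfLt K a Ca n h).inv := by
  unfold projF
  rw [dif_neg (by omega), dif_neg (by omega)]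

lemma epi_projF [Epi π] (n : ℤ) : Epi (projF π n) := by
  by_cases h1 : n < a
  · exact ⟨fun g g' _ => (isZero_obj K a Ca n h1).eq_of_src _ _⟩
  · by_cases h2 : n = a
    · subst h2
      rw [projF_self]
      infer_instance
    · rw [projF_of_lt π n (by omega)]
      infer_instance

/-- The differentials. -/
noncomputable def d (n : ℤ) : obj K a Ca n ⟶ obj K a Ca (n + 1) :=
  if h1 : n < a then 0 else if h2 : n = a then
    eqToHom (by rw [h2]) ≫ (isoSelf K a Ca).hom ≫ δ ≫ (isoOfLt K a Ca (a + 1) (by omega)).inv ≫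
      eqToHom (by rw [h2])
  else (isoOfLt K a Ca n (by omega)).hom ≫ K.d n (n + 1) ≫
    (isoOfLt K a Ca (n + 1) (by omega)).inv

lemma d_self : d (K := K) (a := a) (Ca := Ca) δ a =
    (isoSelf K a Ca).hom ≫ δ ≫ (isoOfLt K a Ca (a + 1) (by omega)).inv := by
  unfold d
  rw [dif_neg (lt_irrefl a), dif_pos rfl]
  simp

lemma d_of_lt (n : ℤ) (h : a < n) : d (K := K) (a := a) (Ca := Ca) δ n =
    (isoOfLt K a Ca n h).hom ≫ K.d n (n + 1) ≫ (isoOfLt K a Ca (n + 1) (by omega)).inv := by
  unfold d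
  rw [dif_neg (by omega), dif_neg (by omega)]

variable (hπδ : π ≫ δ = K.d a (a + 1)) (hdπ : ∀ m, K.d m a ≫ π = 0)

include hπδ hdπ in
lemma projF_comm (n : ℤ) : projF π n ≫ d δ n = K.d n (n + 1) ≫ projF π (n + 1) := by
  by_cases h1 : n < a
  · have hz : projF π n = 0 := (isZero_obj K a Ca n h1).eq_of_tgt _ _
    rw [hz, zero_comp]
    by_cases h2 : n + 1 = a
    · subst h2
      rw [projF_self, ← Category.assoc, hdπ, zero_comp]
    · exact ((isZero_obj K a Ca (n + 1) (by omega)).eq_of_tgt _ _)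
  · by_cases h2 : n = a
    · subst h2
      rw [projF_self, d_self, projF_of_lt π (n + 1) (by omega), Category.assoc,
        Iso.inv_hom_id_assoc, ← Category.assoc, hπδ]
    · rw [projF_of_lt π n (by omega), d_of_lt δ n (by omega), projF_of_lt π (n + 1) (by omega),
        Iso.inv_hom_id_assoc]

include hπδ hdπ in
lemma d_comp_d [Epi π] (n : ℤ) : d δ n ≫ d δ (n + 1) = 0 := by
  have := epi_projF π n
  rw [← cancel_epi (projF π n), comp_zero, ← Category.assoc, projF_comm π δ hπδ hdπ,
    Category.assoc, projF_comm π δ hπδ hdπ, ← Category.assoc, K.d_comp_d, zero_comp]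

variable [Epi π]

/-- The truncated complex. -/
noncomputable def cx : CochainComplex C ℤ :=
  CochainComplex.of (obj K a Ca) (d δ) (d_comp_d π δ hπδ hdπ)

/-- The projection `K ⟶ cx`. -/
noncomputable def proj : K ⟶ cx π δ hπδ hdπ :=
  CochainComplex.ofHom (projF π) (by
    intro n
    rw [show (cx π δ hπδ hdπ).d n (n + 1) = d δ n from CochainComplex.of_d _ _ n]
    exact projF_comm π δ hπδ hdπ n)

lemma proj_f (n : ℤ) : (proj π δ hπδ hdπ).f n = projF π n := rfl

lemma isStrictlyGE_cx : (cx π δ hπδ hdπ).IsStrictlyGE a := by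
  rw [CochainComplex.isStrictlyGE_iff]
  intro i hi
  exact isZero_obj K a Ca i hi

lemma isIso_proj_f (n : ℤ) (h : a < n) : IsIso ((proj π δ hπδ hdπ).f n) := by
  rw [proj_f, projF_of_lt π n h]
  infer_instance

lemma proj_f_self : (proj π δ hπδ hdπ).f a = π ≫ (isoSelf K a Ca).inv := by
  rw [proj_f, projF_self]

/-- `cx.X a ≅ Ca`, with the source literally `(cx ..).X a`. -/
noncomputable def cxIsoSelf : (cx π δ hπδ hdπ).X a ≅ Ca := isoSelf K a Ca

lemma proj_f_self' : (proj π δ hπδ hdπ).f a = π ≫ (cxIsoSelf π δ hπδ hdπ).inv :=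
  proj_f_self π δ hπδ hdπ

lemma isZero_cx_X (n : ℤ) (h : n < a) : IsZero ((cx π δ hπδ hdπ).X n) := isZero_obj K a Ca n h

end CutGE

namespace CutLE

variable (K : CochainComplex C ℤ) (b : ℤ) (Zb : C)

/-- The objects of the truncated complex. -/
noncomputable def obj (n : ℤ) : C := if b < n then 0 else if n = b then Zb else K.X n

lemma isZero_obj (n : ℤ) (h : b < n) : IsZero (obj K b Zb n) := by
  unfold obj; rw [if_pos h]; exact isZero_zero C

lemma obj_eq_self : obj K b Zb b = Zb := by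
  unfold obj; rw [if_neg (lt_irrefl b), if_pos rfl]

lemma obj_eq_of_lt (n : ℤ) (h : n < b) : obj K b Zb n = K.X n := by
  unfold obj; rw [if_neg (by omega), if_neg (by omega)]

/-- `obj b ≅ Zb`. -/
noncomputable def isoSelf : obj K b Zb b ≅ Zb := eqToIso (obj_eq_self K b Zb)

/-- `obj n ≅ K.X n` for `n < b`. -/
noncomputable def isoOfLt (n : ℤ) (h : n < b) : obj K b Zb n ≅ K.X n :=
  eqToIso (obj_eq_of_lt K b Zb n h)

variable {K b Zb}
variable (ι : Zb ⟶ K.X b) (δ : ∀ m, K.X m ⟶ Zb)

/-- The components of the inclusion. -/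
noncomputable def inclF (n : ℤ) : obj K b Zb n ⟶ K.X n :=
  if h1 : b < n then 0 else if h2 : n = b then
    eqToHom (by rw [h2]) ≫ (isoSelf K b Zb).hom ≫ ι ≫ (K.XIsoOfEq h2).inv
  else (isoOfLt K b Zb n (by omega)).hom

lemma inclF_self : inclF ι b = (isoSelf K b Zb).hom ≫ ι := by
  unfold inclF
  rw [dif_neg (lt_irrefl b), dif_pos rfl]
  simp

lemma inclF_of_lt (n : ℤ) (h : n < b) : inclF ι n = (isoOfLt K b Zb n h).hom := by
  unfold inclF
  rw [dif_neg (by omega), dif_neg (by omega)]

lemma mono_inclF [Mono ι] (n : ℤ) : Mono (inclF ι n) := by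
  by_cases h1 : b < n
  · exact ⟨fun g g' _ => (isZero_obj K b Zb n h1).eq_of_tgt _ _⟩
  · by_cases h2 : n = b
    · subst h2
      rw [inclF_self]
      infer_instance
    · rw [inclF_of_lt ι n (by omega)]
      infer_instance

/-- The differentials. -/
noncomputable def d (b : ℤ) (δ : ∀ m, K.X m ⟶ Zb) (n : ℤ) : obj K b Zb n ⟶ obj K b Zb (n + 1) :=
  if h1 : b < n + 1 then 0 else if h2 : n + 1 = b then
    (isoOfLt K b Zb n (by omega)).hom ≫ δ n ≫ (isoSelf K b Zb).inv ≫ eqToHom (by rw [h2])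
  else (isoOfLt K b Zb n (by omega)).hom ≫ K.d n (n + 1) ≫
    (isoOfLt K b Zb (n + 1) (by omega)).inv

lemma d_of_succ_eq (n : ℤ) (h : n + 1 = b) : d b δ n =
    (isoOfLt K b Zb n (by omega)).hom ≫ δ n ≫ (isoSelf K b Zb).inv ≫ eqToHom (by rw [h]) := by
  unfold d
  rw [dif_neg (by omega), dif_pos h]

lemma d_of_lt (n : ℤ) (h : n + 1 < b) : d b δ n =
    (isoOfLt K b Zb n (by omega)).hom ≫ K.d n (n + 1) ≫
      (isoOfLt K b Zb (n + 1) (by omega)).inv := by
  unfold d
  rw [dif_neg (by omega), dif_neg (by omega)]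

variable (hδι : ∀ m, δ m ≫ ι = K.d m b) (hιd : ∀ m, ι ≫ K.d b m = 0)

include hδι hιd in
lemma inclF_comm (n : ℤ) : d b δ n ≫ inclF ι (n + 1) = inclF ι n ≫ K.d n (n + 1) := by
  by_cases h1 : b < n + 1
  · have hz : inclF ι (n + 1) = 0 := (isZero_obj K b Zb (n + 1) h1).eq_of_src _ _
    rw [hz, comp_zero]
    by_cases h2 : n = b
    · subst h2
      rw [inclF_self, Category.assoc, hιd, comp_zero]
    · have hz' : inclF ι n = 0 := (isZero_obj K b Zb n (by omega)).eq_of_src _ _
      rw [hz', zero_comp]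
  · by_cases h2 : n + 1 = b
    · subst h2
      rw [d_of_succ_eq δ n rfl, inclF_self, inclF_of_lt ι n (by omega)]
      simp only [eqToHom_refl, Category.comp_id, Category.assoc, Iso.inv_hom_id_assoc, hδι]
    · rw [d_of_lt δ n (by omega), inclF_of_lt ι n (by omega), inclF_of_lt ι (n + 1) (by omega),
        Category.assoc, Category.assoc, Iso.inv_hom_id, Category.comp_id]

include hδι hιd in
lemma d_comp_d [Mono ι] (n : ℤ) : d b δ n ≫ d b δ (n + 1) = 0 := by
  have := mono_inclF ι (n + 1 + 1)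
  rw [← cancel_mono (inclF ι (n + 1 + 1)), zero_comp, Category.assoc, inclF_comm ι δ hδι hιd,
    ← Category.assoc, inclF_comm ι δ hδι hιd, Category.assoc, K.d_comp_d, comp_zero]

variable [Mono ι]

/-- The truncated complex. -/
noncomputable def cx : CochainComplex C ℤ :=
  CochainComplex.of (obj K b Zb) (d b δ) (d_comp_d ι δ hδι hιd)

/-- The inclusion `cx ⟶ K`. -/
noncomputable def incl : cx ι δ hδι hιd ⟶ K :=
  CochainComplex.ofHom (inclF ι) (by
    intro n
    rw [show (cx ι δ hδι hιd).d n (n + 1) = d b δ n from CochainComplex.of_d _ _ n]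
    exact (inclF_comm ι δ hδι hιd n).symm)

lemma incl_f (n : ℤ) : (incl ι δ hδι hιd).f n = inclF ι n := rfl

lemma isStrictlyLE_cx : (cx ι δ hδι hιd).IsStrictlyLE b := by
  rw [CochainComplex.isStrictlyLE_iff]
  intro i hi
  exact isZero_obj K b Zb i hi

lemma isIso_incl_f (n : ℤ) (h : n < b) : IsIso ((incl ι δ hδι hιd).f n) := by
  rw [incl_f, inclF_of_lt ι n h]
  infer_instance

lemma incl_f_self : (incl ι δ hδι hιd).f b = (isoSelf K b Zb).hom ≫ ι := by
  rw [incl_f, inclF_self]

/-- `cx.X b ≅ Zb`, with the source literally `(cx ..).X b`. -/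
noncomputable def cxIsoSelf : (cx ι δ hδι hιd).X b ≅ Zb := isoSelf K b Zb

lemma incl_f_self' : (incl ι δ hδι hιd).f b = (cxIsoSelf ι δ hδι hιd).hom ≫ ι :=
  incl_f_self ι δ hδι hιd

lemma isZero_cx_X (n : ℤ) (h : b < n) : IsZero ((cx ι δ hδι hιd).X n) := isZero_obj K b Zb n h

end CutLE

end Groth.Agent.H6
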