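import Mathlib.Algebra.Homology.QuasiIso
import Mathlib.Algebra.Homology.Refinements
import Mathlib.Algebra.Homology.ShortComplex.QuasiIso
import Mathlib.Algebra.Homology.Embedding.CochainComplex

/-!
# Quasi-isomorphism criteria for "cut" maps of cochain complexes in an abelian category
-/

set_option autoImplicit false
universe v u

open CategoryTheory CategoryTheory.Limits

namespace Groth.Agent.H6

variable {B : Type u} [Category.{v} B] [Abelian B]

/-- `φ : K ⟶ L` with `K` exact below `a`, `L` zero below `a`, `φ` iso above `a`, and at `a` an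
epimorphism whose kernel is the image of the incoming differential: then `φ` is a quasi-iso. -/
lemma quasiIso_of_cutGE {K L : CochainComplex B ℤ} (φ : K ⟶ L) (a' a : ℤ) (ha : a' + 1 = a)
    (hK : ∀ n, n < a → K.ExactAt n) (hL : ∀ n, n < a → IsZero (L.X n))
    (hiso : ∀ n, a < n → IsIso (φ.f n)) (hepi : Epi (φ.f a))
    (hex : ∀ ⦃T : B⦄ (y : T ⟶ K.X a), y ≫ φ.f a = 0 →
      ∃ (T' : B) (π : T' ⟶ T) (_ : Epi π) (x : T' ⟶ K.X a'), π ≫ y = x ≫ K.d a' a) :
    QuasiIso φ := by
  obtain rfl : a' = a - 1 := by omega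
  refine ⟨fun n => ?_⟩
  rcases lt_trichotomy n a with h | h | h
  · rw [quasiIsoAt_iff_exactAt φ n (hK n h)]
    exact HomologicalComplex.ExactAt.of_isZero (hL n h)
  · subst h
    rw [quasiIsoAt_iff_isIso_homologyMap]
    have hm : Mono (HomologicalComplex.homologyMap φ n) := by
      rw [HomologicalComplex.mono_homologyMap_iff_up_to_refinements φ (n - 1) n (n + 1)
        (by simp) (by simp)]
      intro T x₂ _ y₁ hy₁
      apply hex x₂
      rw [hy₁, (hL (n - 1) (by omega)).eq_of_tgt y₁ 0, zero_comp]
    have he : Epi (HomologicalComplex.homologyMap φ n) := by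
      rw [HomologicalComplex.epi_homologyMap_iff_up_to_refinements φ (n - 1) n (n + 1)
        (by simp) (by simp)]
      intro T y₂ hy₂
      obtain ⟨T', π, hπ, x₂, hx₂⟩ := surjective_up_to_refinements_of_epi (φ.f n) y₂
      have := hiso (n + 1) (by omega)
      refine ⟨T', π, hπ, x₂, ?_, 0, ?_⟩
      · rw [← cancel_mono (φ.f (n + 1)), Category.assoc, ← φ.comm, ← Category.assoc, ← hx₂,
          Category.assoc, hy₂, comp_zero, zero_comp]
      · rw [zero_comp, add_zero, hx₂]
    exact isIso_of_mono_of_epi _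
  · rw [quasiIsoAt_iff' φ (n - 1) n (n + 1) (by simp) (by simp)]
    have h1 : Epi (φ.f (n - 1)) := by
      rcases (show a = n - 1 ∨ a < n - 1 by omega) with h' | h'
      · rw [← h']; exact hepi
      · have := hiso (n - 1) h'
        infer_instance
    have h2 := hiso n h
    have h3 := hiso (n + 1) (by omega)
    have : Epi ((HomologicalComplex.shortComplexFunctor' B (ComplexShape.up ℤ) (n - 1) n
      (n + 1)).map φ).τ₁ := h1
    have : IsIso ((HomologicalComplex.shortComplexFunctor' B (ComplexShape.up ℤ) (n - 1) n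
      (n + 1)).map φ).τ₂ := h2
    have : Mono ((HomologicalComplex.shortComplexFunctor' B (ComplexShape.up ℤ) (n - 1) n
      (n + 1)).map φ).τ₃ := by
      change Mono (φ.f (n + 1))
      infer_instance
    exact ShortComplex.quasiIso_of_epi_of_isIso_of_mono _

/-- Dual criterion: `φ : M ⟶ K` with `K` exact above `b`, `M` zero above `b`, `φ` iso below `b`,
and at `b` a monomorphism whose image is the kernel of the outgoing differential. -/
lemma quasiIso_of_cutLE {M K : CochainComplex B ℤ} (φ : M ⟶ K) (b b' : ℤ) (hb : b + 1 = b')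
    (hK : ∀ n, b < n → K.ExactAt n) (hM : ∀ n, b < n → IsZero (M.X n))
    (hiso : ∀ n, n < b → IsIso (φ.f n)) (hmono : Mono (φ.f b))
    (hex : ∀ ⦃T : B⦄ (y : T ⟶ K.X b), y ≫ K.d b b' = 0 →
      ∃ (T' : B) (π : T' ⟶ T) (_ : Epi π) (x : T' ⟶ M.X b), π ≫ y = x ≫ φ.f b) :
    QuasiIso φ := by
  subst hb
  refine ⟨fun n => ?_⟩
  rcases lt_trichotomy n b with h | h | h
  · rw [quasiIsoAt_iff' φ (n - 1) n (n + 1) (by simp) (by simp)]
    have h3 : Mono (φ.f (n + 1)) := by
      rcases (show n + 1 = b ∨ n + 1 < b by omega) with h' | h'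
      · rw [h']; exact hmono
      · have := hiso (n + 1) h'
        infer_instance
    have h2 := hiso n h
    have h1 := hiso (n - 1) (by omega)
    have : Epi ((HomologicalComplex.shortComplexFunctor' B (ComplexShape.up ℤ) (n - 1) n
      (n + 1)).map φ).τ₁ := by
      change Epi (φ.f (n - 1))
      infer_instance
    have : IsIso ((HomologicalComplex.shortComplexFunctor' B (ComplexShape.up ℤ) (n - 1) n
      (n + 1)).map φ).τ₂ := h2
    have : Mono ((HomologicalComplex.shortComplexFunctor' B (ComplexShape.up ℤ) (n - 1) n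
      (n + 1)).map φ).τ₃ := h3
    exact ShortComplex.quasiIso_of_epi_of_isIso_of_mono _
  · subst h
    rw [quasiIsoAt_iff_isIso_homologyMap]
    have hm : Mono (HomologicalComplex.homologyMap φ n) := by
      rw [HomologicalComplex.mono_homologyMap_iff_up_to_refinements φ (n - 1) n (n + 1)
        (by simp) (by simp)]
      intro T x₂ _ y₁ hy₁
      have := hiso (n - 1) (by omega)
      refine ⟨T, 𝟙 T, inferInstance, y₁ ≫ inv (φ.f (n - 1)), ?_⟩
      rw [Category.id_comp, ← cancel_mono (φ.f n), hy₁, Category.assoc, Category.assoc, ← φ.comm,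
        IsIso.inv_hom_id_assoc]
    have he : Epi (HomologicalComplex.homologyMap φ n) := by
      rw [HomologicalComplex.epi_homologyMap_iff_up_to_refinements φ (n - 1) n (n + 1)
        (by simp) (by simp)]
      intro T y₂ hy₂
      obtain ⟨T', π, hπ, x₂, hx₂⟩ := hex y₂ hy₂
      refine ⟨T', π, hπ, x₂, (hM (n + 1) (by omega)).eq_of_tgt _ _, 0, ?_⟩
      rw [zero_comp, add_zero, hx₂]
    exact isIso_of_mono_of_epi _
  · rw [quasiIsoAt_iff_exactAt' φ n (hK n h)]
    exact HomologicalComplex.ExactAt.of_isZero (hM n h)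

end Groth.Agent.H6
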