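import Mathlib.Algebra.Homology.Factorizations.CM5a
import Mathlib.Algebra.Homology.HomologySequenceLemmas
import Groth.Agent.H6.CutCx
import Groth.Agent.H6.CutQis

set_option autoImplicit false
universe v u

open CategoryTheory CategoryTheory.Limits HomologicalComplex ZeroObject

namespace Groth.Agent.H6

variable {C : Type u} [Category.{v} C] [Abelian C]

lemma quasiIso_τ₁_of_shortExact {S₁ S₂ : ShortComplex (CochainComplex C ℤ)} (φ : S₁ ⟶ S₂)
    (hS₁ : S₁.ShortExact) (hS₂ : S₂.ShortExact) (h₂ : QuasiIso φ.τ₂) (h₃ : QuasiIso φ.τ₃) :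
    QuasiIso φ.τ₁ := by
  rw [quasiIso_iff]
  intro j
  rw [quasiIsoAt_iff_isIso_homologyMap]
  have hij : (ComplexShape.up ℤ).Rel (j - 1) j := by simp
  have e1 : Epi (homologyMap φ.τ₂ (j - 1)) := inferInstance
  have e2 : IsIso (homologyMap φ.τ₃ (j - 1)) := inferInstance
  have e3 : IsIso (homologyMap φ.τ₂ j) := inferInstance
  have e4 : Mono (homologyMap φ.τ₃ j) := inferInstance
  have h := Abelian.isIso_of_epi_of_isIso_of_isIso_of_mono' (k := 1) (n := 5) (by omega)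
    (HomologySequence.composableArrows₅_exact hS₁ (j - 1) j hij)
    (HomologySequence.composableArrows₅_exact hS₂ (j - 1) j hij)
    (HomologySequence.mapComposableArrows₅ φ hS₁ hS₂ (j - 1) j hij) 1 2 3 4 5 rfl rfl rfl rfl rfl
    e1 e2 e3 e4
  exact h

variable [EnoughInjectives C]

/-- A bounded below complex `K ≥ n` admits a monomorphic quasi-isomorphism into a complex of
injectives that is also `≥ n`. -/
lemma exists_mono_quasiIso_injective_ge (K : CochainComplex C ℤ) (n : ℤ) [K.IsStrictlyGE n] :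
    ∃ (L : CochainComplex C ℤ) (i : K ⟶ L), Mono i ∧ QuasiIso i ∧ (∀ k, Injective (L.X k)) ∧
      L.IsStrictlyGE n := by
  obtain ⟨L, i, hi, hi', hL, hLn⟩ :=
    CochainComplex.Plus.modelCategoryQuillen.exists_mono_quasiIso_injective K (n - 1) n (by omega)
  have hLex : ∀ m, m < n → L.ExactAt m := by
    intro m hm
    have hK : K.ExactAt m := ExactAt.of_isZero (K.isZero_of_isStrictlyGE n m hm)
    exact (quasiIsoAt_iff_exactAt i m hK).1 inferInstance
  have hπδ : L.pOpcycles n ≫ L.fromOpcycles n (n + 1) = L.d n (n + 1) := L.p_fromOpcycles n (n + 1)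
  have hdπ : ∀ m, L.d m n ≫ L.pOpcycles n = 0 := fun m => L.d_pOpcycles m n
  have hpn := CutGE.proj_f_self' (L.pOpcycles n) (L.fromOpcycles n (n + 1)) hπδ hdπ
  have hex : ∀ ⦃T : C⦄ (y : T ⟶ L.X n),
      y ≫ (CutGE.proj (L.pOpcycles n) (L.fromOpcycles n (n + 1)) hπδ hdπ).f n = 0 →
      ∃ (T' : C) (π : T' ⟶ T) (_ : Epi π) (x : T' ⟶ L.X (n - 1)), π ≫ y = x ≫ L.d (n - 1) n := by
    intro T y hy
    rw [hpn, ← Category.assoc] at hy
    have hy' : y ≫ L.pOpcycles n = 0 := by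
      rw [← cancel_mono (CutGE.cxIsoSelf (L.pOpcycles n) (L.fromOpcycles n (n + 1)) hπδ hdπ).inv,
        hy, zero_comp]
    exact (L.comp_pOpcycles_eq_zero_iff_up_to_refinements y (n - 1) (by simp)).1 hy'
  have hp : QuasiIso (CutGE.proj (L.pOpcycles n) (L.fromOpcycles n (n + 1)) hπδ hdπ) := by
    refine quasiIso_of_cutGE _ (n - 1) n (by omega) hLex
      (CutGE.isZero_cx_X (L.pOpcycles n) (L.fromOpcycles n (n + 1)) hπδ hdπ)
      (CutGE.isIso_proj_f (L.pOpcycles n) (L.fromOpcycles n (n + 1)) hπδ hdπ) ?_ hex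
    rw [hpn]
    infer_instance
  refine ⟨CutGE.cx (L.pOpcycles n) (L.fromOpcycles n (n + 1)) hπδ hdπ,
    i ≫ CutGE.proj (L.pOpcycles n) (L.fromOpcycles n (n + 1)) hπδ hdπ, ?_, inferInstance, ?_,
    CutGE.isStrictlyGE_cx (L.pOpcycles n) (L.fromOpcycles n (n + 1)) hπδ hdπ⟩
  · -- monomorphism
    refine HomologicalComplex.mono_of_mono_f _ (fun q => ?_)
    rcases lt_trichotomy q n with h | h | h
    · exact ⟨fun g g' _ => (K.isZero_of_isStrictlyGE n q h).eq_of_tgt _ _⟩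
    · subst h
      rw [HomologicalComplex.comp_f]
      apply Preadditive.mono_of_cancel_zero
      intro T x hx
      obtain ⟨T', π, hπ, y, hy⟩ := hex (x ≫ i.f q) (by rw [Category.assoc]; exact hx)
      have hm : Mono (homologyMap i q) := inferInstance
      rw [HomologicalComplex.mono_homologyMap_iff_up_to_refinements i (q - 1) q (q + 1)
        (by simp) (by simp)] at hm
      have h1 : (π ≫ x) ≫ K.d q (q + 1) = 0 := by
        rw [← cancel_mono (i.f (q + 1)), zero_comp, Category.assoc, Category.assoc, ← i.comm,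
          ← Category.assoc x, ← Category.assoc π, hy, Category.assoc, L.d_comp_d, comp_zero]
      obtain ⟨T'', π', hπ', x₁, hx₁⟩ := hm (π ≫ x) h1 y (by rw [Category.assoc]; exact hy)
      have h2 : x₁ = 0 := (K.isZero_of_isStrictlyGE q (q - 1) (by omega)).eq_of_tgt _ _
      rw [h2, zero_comp] at hx₁
      rw [← cancel_epi π, ← cancel_epi π', hx₁, comp_zero, comp_zero]
    · have := CutGE.isIso_proj_f (L.pOpcycles n) (L.fromOpcycles n (n + 1)) hπδ hdπ q h
      rw [HomologicalComplex.comp_f]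
      infer_instance
  · -- injectivity
    intro q
    rcases lt_trichotomy q n with h | h | h
    · exact (CutGE.isZero_cx_X (L.pOpcycles n) (L.fromOpcycles n (n + 1)) hπδ hdπ q h).injective
    · subst h
      have : Injective (L.opcycles q) := L.injective_opcycles (q - 1) q (hLex (q - 1) (by omega))
      exact Injective.of_iso
        (CutGE.cxIsoSelf (L.pOpcycles q) (L.fromOpcycles q (q + 1)) hπδ hdπ).symm this
    · have := CutGE.isIso_proj_f (L.pOpcycles n) (L.fromOpcycles n (n + 1)) hπδ hdπ q h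
      exact Injective.of_iso
        (asIso ((CutGE.proj (L.pOpcycles n) (L.fromOpcycles n (n + 1)) hπδ hdπ).f q)) (hL q)

omit [EnoughInjectives C] in
lemma isStrictlyGE_biprod (E F : CochainComplex C ℤ) (n : ℤ) [E.IsStrictlyGE n]
    [F.IsStrictlyGE n] : (E ⊞ F).IsStrictlyGE n := by
  rw [CochainComplex.isStrictlyGE_iff]
  intro k hk
  refine IsZero.of_iso ?_ (HomologicalComplex.biprodXIso E F k)
  rw [IsZero.iff_id_eq_zero]
  apply biprod.hom_ext
  · exact (E.isZero_of_isStrictlyGE n k hk).eq_of_tgt _ _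
  · exact (F.isZero_of_isStrictlyGE n k hk).eq_of_tgt _ _

omit [EnoughInjectives C] in
lemma degreewiseEpiWithInjectiveKernel_biprod_snd (E F : CochainComplex C ℤ)
    (hE : ∀ k, Injective (E.X k)) :
    CochainComplex.degreewiseEpiWithInjectiveKernel (biprod.snd : E ⊞ F ⟶ F) := by
  intro k
  rw [Abelian.epiWithInjectiveKernel_iff]
  refine ⟨E.X k, hE k, (biprod.inl : E ⟶ E ⊞ F).f k, ?_, ⟨?_⟩⟩
  · rw [← HomologicalComplex.comp_f, biprod.inl_snd, HomologicalComplex.zero_f]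
  · exact
      { r := (biprod.fst : E ⊞ F ⟶ E).f k
        s := (biprod.inr : F ⟶ E ⊞ F).f k
        f_r := by
          change (biprod.inl : E ⟶ E ⊞ F).f k ≫ (biprod.fst : E ⊞ F ⟶ E).f k = 𝟙 _
          rw [← HomologicalComplex.comp_f, biprod.inl_fst, HomologicalComplex.id_f]
        s_g := by
          change (biprod.inr : F ⟶ E ⊞ F).f k ≫ (biprod.snd : E ⊞ F ⟶ F).f k = 𝟙 _
          rw [← HomologicalComplex.comp_f, biprod.inr_snd, HomologicalComplex.id_f]
        id := by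
          change (biprod.fst : E ⊞ F ⟶ E).f k ≫ (biprod.inl : E ⟶ E ⊞ F).f k +
            (biprod.snd : E ⊞ F ⟶ F).f k ≫ (biprod.inr : F ⟶ E ⊞ F).f k = 𝟙 _
          rw [← HomologicalComplex.comp_f, ← HomologicalComplex.comp_f,
            ← HomologicalComplex.add_f_apply, biprod.total, HomologicalComplex.id_f] }

/-- Horseshoe lemma for bounded below complexes. -/
theorem exists_shortExact_injective_resolution
    (S : ShortComplex (CochainComplex C ℤ)) (hS : S.ShortExact) (n : ℤ)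
    [S.X₁.IsStrictlyGE n] [S.X₂.IsStrictlyGE n] [S.X₃.IsStrictlyGE n] :
    ∃ (T : ShortComplex (CochainComplex C ℤ)) (φ : S ⟶ T), T.ShortExact ∧
      T.X₁.IsStrictlyGE n ∧ T.X₂.IsStrictlyGE n ∧ T.X₃.IsStrictlyGE n ∧
      (∀ k : ℤ, Injective (T.X₁.X k) ∧ Injective (T.X₂.X k) ∧ Injective (T.X₃.X k)) ∧
      QuasiIso φ.τ₁ ∧ QuasiIso φ.τ₂ ∧ QuasiIso φ.τ₃ := by
  obtain ⟨I₃, c, hc, hI₃, hI₃n⟩ :=
    CochainComplex.Plus.modelCategoryQuillen.exists_quasiIso_injective S.X₃ n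
  obtain ⟨E, e, he, -, hE, hEn⟩ := exists_mono_quasiIso_injective_ge S.X₂ n
  have : (E ⊞ I₃).IsStrictlyGE n := isStrictlyGE_biprod E I₃ n
  have hmono : Mono (biprod.lift e (S.g ≫ c)) := mono_of_mono_fac (biprod.lift_fst e (S.g ≫ c))
  obtain ⟨I₂, hI₂n, ι, π', hι, hι', hπ', fac⟩ :=
    CochainComplex.Plus.modelCategoryQuillen.cm5a_cof (biprod.lift e (S.g ≫ c)) n
  have hπ : CochainComplex.degreewiseEpiWithInjectiveKernel (π' ≫ (biprod.snd : E ⊞ I₃ ⟶ I₃)) :=
    MorphismProperty.comp_mem _ _ _ hπ' (degreewiseEpiWithInjectiveKernel_biprod_snd E I₃ hE)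
  have hI₂ : ∀ k, Injective (I₂.X k) := by
    have h0 : CochainComplex.degreewiseEpiWithInjectiveKernel (0 : I₃ ⟶ 0) :=
      (CochainComplex.degreewiseEpiWithInjectiveKernel_iff_of_isZero _ (isZero_zero _)).2 hI₃
    exact (CochainComplex.degreewiseEpiWithInjectiveKernel_iff_of_isZero _ (isZero_zero _)).1
      (MorphismProperty.comp_mem _ _ _ hπ h0)
  have hfac : ι ≫ π' ≫ (biprod.snd : E ⊞ I₃ ⟶ I₃) = S.g ≫ c := by
    rw [← Category.assoc, fac, biprod.lift_snd]
  have hepi : Epi (π' ≫ (biprod.snd : E ⊞ I₃ ⟶ I₃)) := hπ.epi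
  have hTex : (ShortComplex.mk (kernel.ι (π' ≫ (biprod.snd : E ⊞ I₃ ⟶ I₃)))
      (π' ≫ (biprod.snd : E ⊞ I₃ ⟶ I₃)) (kernel.condition _)).ShortExact :=
    ShortComplex.ShortExact.mk' (ShortComplex.exact_of_f_is_kernel _ (kernelIsKernel _))
      (inferInstanceAs (Mono (kernel.ι _))) hepi
  have hz : (S.f ≫ ι) ≫ π' ≫ (biprod.snd : E ⊞ I₃ ⟶ I₃) = 0 := by
    rw [Category.assoc, hfac, ← Category.assoc, S.zero, zero_comp]
  let φ : S ⟶ ShortComplex.mk (kernel.ι (π' ≫ (biprod.snd : E ⊞ I₃ ⟶ I₃)))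
      (π' ≫ (biprod.snd : E ⊞ I₃ ⟶ I₃)) (kernel.condition _) :=
    { τ₁ := kernel.lift _ (S.f ≫ ι) hz
      τ₂ := ι
      τ₃ := c
      comm₁₂ := kernel.lift_ι _ _ _
      comm₂₃ := hfac }
  have hK1 : (kernel (π' ≫ (biprod.snd : E ⊞ I₃ ⟶ I₃))).IsStrictlyGE n := by
    rw [CochainComplex.isStrictlyGE_iff]
    intro k hk
    exact IsZero.of_mono ((kernel.ι (π' ≫ (biprod.snd : E ⊞ I₃ ⟶ I₃))).f k)
      (I₂.isZero_of_isStrictlyGE n k hk)
  have hinj1 : ∀ k, Injective ((kernel (π' ≫ (biprod.snd : E ⊞ I₃ ⟶ I₃))).X k) := by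
    intro k
    have := (hπ k).2
    exact Injective.of_iso (PreservesKernel.iso (HomologicalComplex.eval C (ComplexShape.up ℤ) k)
      (π' ≫ (biprod.snd : E ⊞ I₃ ⟶ I₃))).symm this
  have hq2 : QuasiIso φ.τ₂ := hι'
  have hq3 : QuasiIso φ.τ₃ := hc
  exact ⟨_, φ, hTex, hK1, hI₂n, hI₃n, fun k => ⟨hinj1 k, hI₂ k, hI₃ k⟩,
    quasiIso_τ₁_of_shortExact φ hS hTex hq2 hq3, hq2, hq3⟩

end Groth.Agent.H6
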