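import Mathlib.Algebra.Homology.DerivedCategory.KInjective
import Mathlib.Algebra.Homology.DerivedCategory.TStructure
import Mathlib.Algebra.Homology.HomologicalComplexLimits
import Groth.Agent.H6.InjHorseshoe

/-!
# Products of K-injective complexes and products in the derived category
-/

set_option autoImplicit false
universe w v u t

open CategoryTheory CategoryTheory.Limits HomologicalComplex

namespace Groth.Agent.H6.DerivedProd

variable {A : Type u} [Category.{v} A] [Abelian A]

section Fan

variable {ι : Type t} [HasLimitsOfShape (Discrete ι) A] {I : ι → CochainComplex A ℤ}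
  (c : Fan I) (hc : IsLimit c)

/-- the limit cone obtained by evaluating in degree `j` -/
noncomputable def evalIsLimit (j : ℤ) :
    IsLimit ((HomologicalComplex.eval A (ComplexShape.up ℤ) j).mapCone c) :=
  isLimitOfPreserves (HomologicalComplex.eval A (ComplexShape.up ℤ) j) hc

/-- termwise lifting into a product complex -/
noncomputable def liftX (j : ℤ) {T : A} (φ : ∀ n, T ⟶ (I n).X j) : T ⟶ c.pt.X j :=
  (evalIsLimit c hc j).lift
    { pt := T
      π := Discrete.natTrans (fun n => φ n.as) }

@[reassoc (attr := simp)]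
lemma liftX_proj (j : ℤ) {T : A} (φ : ∀ n, T ⟶ (I n).X j) (n : ι) :
    liftX c hc j φ ≫ (c.proj n).f j = φ n :=
  (evalIsLimit c hc j).fac _ ⟨n⟩

include hc in
lemma homX_ext (j : ℤ) {T : A} {a b : T ⟶ c.pt.X j}
    (h : ∀ n, a ≫ (c.proj n).f j = b ≫ (c.proj n).f j) : a = b :=
  (evalIsLimit c hc j).hom_ext (fun n => h n.as)

/-- assembling homotopies to zero into a product complex -/
noncomputable def homotopyZero {L : CochainComplex A ℤ} (f : L ⟶ c.pt)
    (h : ∀ n, Homotopy (f ≫ c.proj n) 0) : Homotopy f 0 where
  hom i j := liftX c hc j (fun n => (h n).hom i j)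
  zero i j hij := by
    apply homX_ext c hc
    intro n
    rw [liftX_proj, zero_comp]
    exact (h n).zero i j hij
  comm i := by
    apply homX_ext c hc
    intro n
    have hn := (h n).comm i
    rw [dNext_eq _ (show (ComplexShape.up ℤ).Rel i (i + 1) from rfl),
      prevD_eq _ (show (ComplexShape.up ℤ).Rel (i - 1) i by simp)] at hn ⊢
    simp only [HomologicalComplex.zero_f, add_zero, HomologicalComplex.comp_f] at hn ⊢
    rw [Preadditive.add_comp, Category.assoc, Category.assoc, liftX_proj,
      ← (c.proj n).comm (i - 1) i, liftX_proj_assoc]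
    exact hn

include hc in
lemma isKInjective_of_isLimit (hI : ∀ n, (I n).IsKInjective) : c.pt.IsKInjective where
  nonempty_homotopy_zero {_} f hK :=
    ⟨homotopyZero c hc f (fun n => CochainComplex.IsKInjective.homotopyZero (f ≫ c.proj n) hK)⟩

end Fan

section Derived

variable [HasDerivedCategory.{w} A]

open DerivedCategory

lemma Q_map_surjective_of_isKInjective (Y L : CochainComplex A ℤ) [L.IsKInjective]
    (φ : (Q : _ ⥤ DerivedCategory A).obj Y ⟶ Q.obj L) : ∃ f : Y ⟶ L, Q.map f = φ := by
  obtain ⟨g, hg⟩ := (CochainComplex.IsKInjective.Qh_map_bijective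
    ((HomotopyCategory.quotient _ _).obj Y) L).surjective
    ((quotientCompQhIso A).hom.app Y ≫ φ ≫ (quotientCompQhIso A).inv.app L)
  obtain ⟨f, rfl⟩ := (HomotopyCategory.quotient _ _).map_surjective g
  refine ⟨f, ?_⟩
  have := quotientCompQhIso_hom_naturality f
  rw [hg] at this
  simp only [Category.assoc, Iso.inv_hom_id_app, Functor.comp_obj] at this
  have h2 : (quotientCompQhIso A).hom.app Y ≫ φ = (quotientCompQhIso A).hom.app Y ≫ Q.map f := by
    rw [← this]; simp
  exact ((cancel_epi _).mp h2).symm

lemma nonempty_homotopy_of_Q_map_eq (Y L : CochainComplex A ℤ) [L.IsKInjective]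
    (f g : Y ⟶ L) (h : (Q : _ ⥤ DerivedCategory A).map f = Q.map g) : Nonempty (Homotopy f g) := by
  have h1 : (Qh : _ ⥤ DerivedCategory A).map ((HomotopyCategory.quotient _ _).map f) =
      Qh.map ((HomotopyCategory.quotient _ _).map g) := by
    have hf := quotientCompQhIso_hom_naturality f
    have hg := quotientCompQhIso_hom_naturality g
    rw [h, ← hg] at hf
    exact (cancel_mono _).mp hf
  exact ⟨HomotopyCategory.homotopyOfEq _ _ ((CochainComplex.IsKInjective.Qh_map_bijective
    ((HomotopyCategory.quotient _ _).obj Y) L).injective h1)⟩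

lemma Q_map_eq_of_homotopy {Y L : CochainComplex A ℤ} (f g : Y ⟶ L) (h : Homotopy f g) :
    (Q : _ ⥤ DerivedCategory A).map f = Q.map g := by
  have hf := quotientCompQhIso_hom_naturality f
  have hg := quotientCompQhIso_hom_naturality g
  rw [HomotopyCategory.eq_of_homotopy f g h, hg] at hf
  exact ((cancel_epi _).mp hf).symm

variable {ι : Type t} [HasLimitsOfShape (Discrete ι) A] {I : ι → CochainComplex A ℤ}
  (c : Fan I) (hc : IsLimit c)

include hc in
/-- the image in the derived category of a product of K-injective complexes has the universal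
property of a product, tested on objects `Q.obj Y` -/
lemma bijective_Q (hI : ∀ n, (I n).IsKInjective) (Y : CochainComplex A ℤ) :
    Function.Bijective (fun (φ : (Q : _ ⥤ DerivedCategory A).obj Y ⟶ Q.obj c.pt) =>
      fun n => φ ≫ Q.map (c.proj n)) := by
  have hP : c.pt.IsKInjective := isKInjective_of_isLimit c hc hI
  constructor
  · intro φ φ' h
    obtain ⟨g, rfl⟩ := Q_map_surjective_of_isKInjective Y c.pt φ
    obtain ⟨g', rfl⟩ := Q_map_surjective_of_isKInjective Y c.pt φ'
    have hn : ∀ n, Nonempty (Homotopy ((g - g') ≫ c.proj n) 0) := by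
      intro n
      have := hI n
      have h1 : (Q : _ ⥤ DerivedCategory A).map (g ≫ c.proj n) = Q.map (g' ≫ c.proj n) := by
        rw [Functor.map_comp, Functor.map_comp]; exact congrFun h n
      obtain ⟨H⟩ := nonempty_homotopy_of_Q_map_eq Y (I n) _ _ h1
      exact ⟨(Homotopy.ofEq (Preadditive.sub_comp _ _ _)).trans (Homotopy.equivSubZero H)⟩
    have H0 : Homotopy (g - g') 0 := homotopyZero c hc (g - g') (fun n => (hn n).some)
    have H1 : Homotopy g g' := Homotopy.equivSubZero.symm H0
    exact Q_map_eq_of_homotopy g g' H1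
  · intro ψ
    have hg : ∀ n, ∃ g : Y ⟶ I n, (Q : _ ⥤ DerivedCategory A).map g = ψ n := fun n => by
      have := hI n
      exact Q_map_surjective_of_isKInjective Y (I n) (ψ n)
    choose g hg using hg
    refine ⟨Q.map (hc.lift (Fan.mk Y g)), ?_⟩
    funext n
    have : hc.lift (Fan.mk Y g) ≫ c.proj n = g n := hc.fac (Fan.mk Y g) ⟨n⟩
    change Q.map (hc.lift (Fan.mk Y g)) ≫ Q.map (c.proj n) = ψ n
    rw [← Functor.map_comp, this, hg]

include hc in
/-- a product of K-injective complexes computes the product in the derived category -/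
lemma hasProduct_of_iso (hI : ∀ n, (I n).IsKInjective) (K : ι → DerivedCategory A)
    (e : ∀ n, (Q : _ ⥤ DerivedCategory A).obj (I n) ≅ K n) : HasProduct K := by
  have hbij : ∀ (T : DerivedCategory A), Function.Bijective
      (fun (φ : T ⟶ Q.obj c.pt) => fun n => φ ≫ Q.map (c.proj n) ≫ (e n).hom) := by
    intro T
    let Y := (Q : _ ⥤ DerivedCategory A).objPreimage T
    let eT : Q.obj Y ≅ T := (Q : _ ⥤ DerivedCategory A).objObjPreimageIso T
    have hb := bijective_Q c hc hI Y
    constructor
    · intro φ φ' h
      have : eT.hom ≫ φ = eT.hom ≫ φ' := by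
        apply hb.injective
        funext n
        have hn : φ ≫ Q.map (c.proj n) ≫ (e n).hom = φ' ≫ Q.map (c.proj n) ≫ (e n).hom :=
          congrFun h n
        simp only [← Category.assoc] at hn
        have hn' := (cancel_mono _).mp hn
        change (eT.hom ≫ φ) ≫ Q.map (c.proj n) = (eT.hom ≫ φ') ≫ Q.map (c.proj n)
        rw [Category.assoc, Category.assoc, hn']
      exact (cancel_epi _).mp this
    · intro ψ
      obtain ⟨φ, hφ⟩ := hb.surjective (fun n => eT.hom ≫ ψ n ≫ (e n).inv)
      refine ⟨eT.inv ≫ φ, ?_⟩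
      funext n
      have hn : φ ≫ Q.map (c.proj n) = eT.hom ≫ ψ n ≫ (e n).inv := congrFun hφ n
      change (eT.inv ≫ φ) ≫ Q.map (c.proj n) ≫ (e n).hom = ψ n
      rw [Category.assoc, ← Category.assoc φ, hn]
      simp
  let fan : Fan K := Fan.mk (Q.obj c.pt) (fun n => Q.map (c.proj n) ≫ (e n).hom)
  have hfan : IsLimit fan :=
    Fan.IsLimit.mk fan (fun s => ((hbij s.pt).surjective s.proj).choose)
      (fun s n => congrFun ((hbij s.pt).surjective s.proj).choose_spec n)
      (fun s m hm => (hbij s.pt).injective (by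
        funext n
        exact (hm n).trans (congrFun ((hbij s.pt).surjective s.proj).choose_spec n).symm))
  exact ⟨⟨⟨fan, hfan⟩⟩⟩

end Derived

end Groth.Agent.H6.DerivedProd
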