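import Mathlib
import Groth.Agent.H22.FinitePart
import Groth.Prelude.Def_SGA1

/-!
# Finite closed fibre over a henselian local base
-/

set_option autoImplicit false
universe u

namespace Groth.Agent.H6.FinFibreSubm

open AlgebraicGeometry CategoryTheory CategoryTheory.Limits IsLocalRing

theorem henselianLocalRing_of_complete (A : Type u) [CommRing A] [IsLocalRing A]
    [IsAdicComplete (maximalIdeal A) A] : HenselianLocalRing A := by
  have h : HenselianRing A (maximalIdeal A) := inferInstance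
  refine ⟨fun f hf a₀ h₁ h₂ => h.is_henselian f hf a₀ h₁ (h₂.map _)⟩

/-- universally closed and surjective implies universally submersive -/
theorem univSubmersive_of_universallyClosed_of_surjective {X Y : Scheme.{u}} (g : X ⟶ Y)
    [UniversallyClosed g] [Surjective g] : SGA1.UnivSubmersive g := by
  intro X' Y' i₁ i₂ f' h
  have h1 : Surjective f' := MorphismProperty.of_isPullback (P := @Surjective) h.flip inferInstance
  have h2 : UniversallyClosed f' :=
    MorphismProperty.of_isPullback (P := @UniversallyClosed) h.flip inferInstance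
  exact f'.isClosedMap.isQuotientMap f'.continuous f'.surjective

variable (A : Type u) [CommRing A] [HenselianLocalRing A]
  {S' : Scheme.{u}} (g : S' ⟶ Spec (CommRingCat.of A)) [LocallyOfFiniteType g]

include A in
theorem locallyQuasiFinite_of_finite_closedFibre
    (hfin : (g ⁻¹' {closedPoint A}).Finite)
    (hsp : ∀ t : S', ∃ s' : S', g s' = closedPoint A ∧ t ⤳ s') : LocallyQuasiFinite g := by
  rw [← Scheme.Hom.quasiFiniteLocus_eq_top_iff]
  rw [eq_top_iff]
  intro t _
  obtain ⟨s', hs', hts'⟩ := hsp t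
  have hq : g.QuasiFiniteAt s' := by
    have hfin' : (g ⁻¹' {g s'}).Finite := by rw [hs']; exact hfin
    have : Finite (g.fiber (g s')) := (g.fiberHomeo (g s')).finite_iff.mpr hfin'
    exact Scheme.Hom.quasiFiniteAt_iff_isOpen_singleton_asFiber.mpr (isOpen_discrete _)
  exact hts'.mem_open g.quasiFiniteLocus.2 hq

theorem exists_finite_open [LocallyQuasiFinite g]
    (hsp : ∀ t : S', ∃ s' : S', g s' = closedPoint A ∧ t ⤳ s') (t : S') :
    ∃ (F : Scheme.{u}) (j : F ⟶ S'), IsOpenImmersion j ∧ IsFinite (j ≫ g) ∧ t ∈ Set.range j := by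
  obtain ⟨s', hs', hts'⟩ := hsp t
  obtain ⟨U, hU, hs'U⟩ : ∃ U : S'.Opens, IsAffineOpen U ∧ s' ∈ U := by
    obtain ⟨_, ⟨U, hU : IsAffineOpen U, rfl⟩, hs'U, -⟩ :=
      S'.isBasis_affineOpens.exists_subset_of_mem_open (Set.mem_univ s') isOpen_univ
    exact ⟨U, hU, hs'U⟩
  have : IsAffine (U : Scheme.{u}) := hU
  have : IsAffineHom (U.ι ≫ g) := isAffineHom_of_isAffine _
  obtain ⟨W, -, hWf, hW⟩ := Groth.Agent.H22.FinitePart.exists_finite_part A U (U.ι ≫ g)
  refine ⟨W, W.ι ≫ U.ι, inferInstance, by rwa [Category.assoc], ?_⟩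
  have hopen : IsOpen (Set.range (W.ι ≫ U.ι)) := (W.ι ≫ U.ι).isOpenEmbedding.isOpen_range
  refine hts'.mem_open hopen ?_
  have hmem : (⟨s', hs'U⟩ : U) ∈ W := hW ⟨s', hs'U⟩ (by
    show (U.ι ≫ g) ⟨s', hs'U⟩ = closedPoint A
    rw [Scheme.Hom.comp_apply]
    exact hs')
  exact ⟨⟨⟨s', hs'U⟩, hmem⟩, rfl⟩

omit [HenselianLocalRing A] [LocallyOfFiniteType g] in
theorem existence_of_finite_opens
    (H : ∀ t : S', ∃ (F : Scheme.{u}) (j : F ⟶ S'), IsOpenImmersion j ∧ IsFinite (j ≫ g) ∧
      t ∈ Set.range j) : ValuativeCriterion.Existence g := by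
  intro S
  obtain ⟨F, j, hj, hfin, ht⟩ := H (S.i₁ (closedPoint S.K))
  have hrange : Set.range S.i₁ ⊆ Set.range j := by
    rintro _ ⟨z, rfl⟩
    have : z = closedPoint S.K := Subsingleton.elim _ _
    rw [this]
    exact ht
  let i₁' : Spec (.of S.K) ⟶ F := IsOpenImmersion.lift j S.i₁ hrange
  have hi₁' : i₁' ≫ j = S.i₁ := IsOpenImmersion.lift_fac _ _ _
  let S₂ : ValuativeCommSq (j ≫ g) :=
    { R := S.R
      K := S.K
      i₁ := i₁'
      i₂ := S.i₂
      commSq := ⟨by rw [← Category.assoc, hi₁']; exact S.commSq.w⟩ }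
  have huc : UniversallyClosed (j ≫ g) := inferInstance
  have hex : ValuativeCriterion.Existence (j ≫ g) := by
    have := huc
    rw [UniversallyClosed.eq_valuativeCriterion] at this
    exact this.1
  obtain ⟨⟨ℓ, h₁, h₂⟩⟩ := hex S₂
  exact ⟨⟨⟨ℓ ≫ j, by
    change Spec.map _ ≫ ℓ ≫ j = S.i₁
    rw [← Category.assoc, ← hi₁']
    exact congrArg (· ≫ j) h₁, by
    rw [Category.assoc]
    exact h₂⟩⟩⟩

theorem univSubmersive_of_finite_closedFibre [QuasiCompact g] [Surjective g]
    (hfin : (g ⁻¹' {closedPoint A}).Finite)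
    (hsp : ∀ t : S', ∃ s' : S', g s' = closedPoint A ∧ t ⤳ s') : SGA1.UnivSubmersive g := by
  have := locallyQuasiFinite_of_finite_closedFibre A g hfin hsp
  have hex := existence_of_finite_opens A g (exists_finite_open A g hsp)
  have : UniversallyClosed g := UniversallyClosed.of_valuativeCriterion g hex
  exact univSubmersive_of_universallyClosed_of_surjective g

end Groth.Agent.H6.FinFibreSubm
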