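import Mathlib
import Groth.Agent.H7.HenselFinitePart
import Groth.Agent.H7.IsolatedFibre

set_option autoImplicit false
universe u

namespace Groth.Agent.H6.IsolatedSplit

open AlgebraicGeometry CategoryTheory Limits MorphismProperty Topology IsLocalRing

/-- A ring with a prime containing all primes is local. -/
theorem isLocalRing_of_forall_specializes {B : Type u} [CommRing B] (p : PrimeSpectrum B)
    (h : ∀ q : PrimeSpectrum B, q ⤳ p) : IsLocalRing B := by
  have hle : ∀ q : PrimeSpectrum B, q.asIdeal ≤ p.asIdeal := fun q =>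
    (PrimeSpectrum.le_iff_specializes q p).mpr (h q)
  have hmax : p.asIdeal.IsMaximal := by
    obtain ⟨M, hM, hpM⟩ := Ideal.exists_le_maximal p.asIdeal p.2.ne_top
    have := hle ⟨M, hM.isPrime⟩
    have : M = p.asIdeal := le_antisymm this hpM
    exact this ▸ hM
  refine IsLocalRing.of_unique_max_ideal ⟨p.asIdeal, hmax, ?_⟩
  intro M hM
  have := hle ⟨M, hM.isPrime⟩
  exact hM.eq_of_le p.2.ne_top this

/-- In the spectrum of a local ring, a point to which every point specializes is the closed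
point. -/
theorem eq_closedPoint_of_forall_specializes {B : Type u} [CommRing B] [IsLocalRing B]
    (p : PrimeSpectrum B) (h : ∀ q : PrimeSpectrum B, q ⤳ p) : p = closedPoint B :=
  ((specializes_closedPoint p).antisymm (h _)).eq

/-- For an open immersion from the spectrum of a local ring, the canonical morphism from the
spectrum of the stalk at the image of the closed point is that open immersion up to iso. -/
theorem fromSpecStalk_of_local {X : Scheme.{u}} {R : CommRingCat.{u}} [IsLocalRing R]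
    (φ : Spec R ⟶ X) [IsOpenImmersion φ] :
    ∃ (e : Spec (X.presheaf.stalk (φ (closedPoint R))) ≅ Spec R),
      X.fromSpecStalk (φ (closedPoint R)) = e.hom ≫ φ := by
  have h1 : IsIso (Scheme.stalkClosedPointTo φ) := by
    unfold Scheme.stalkClosedPointTo
    infer_instance
  refine ⟨(asIso (Spec.map (Scheme.stalkClosedPointTo φ))).symm, ?_⟩
  rw [Iso.symm_hom, asIso_inv, IsIso.eq_inv_comp]
  exact Scheme.Spec_stalkClosedPointTo_fromSpecStalk φ

/-- Over a henselian local ring, a point of the closed fibre of a separated morphism locally of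
finite type which is isolated in its fibre has an open and closed neighbourhood, finite over the
base, all of whose points specialize to it. -/
theorem exists_clopen_finite_nhd (A : Type u) [CommRing A] [HenselianLocalRing A]
    (X : Scheme.{u}) (f : X ⟶ Spec (CommRingCat.of A)) [LocallyOfFiniteType f] [IsSeparated f]
    (x : X) (hx : f x = closedPoint A)
    (hisol : IsOpen ((Subtype.val : (f ⁻¹' {closedPoint A}) → X) ⁻¹' {x})) :
    ∃ W : X.Opens, x ∈ W ∧ IsClosed (W : Set X) ∧ IsFinite (W.ι ≫ f) ∧ ∀ w ∈ W, w ⤳ x := by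
  -- quasi-finite at x
  have hqf : f.QuasiFiniteAt x := by
    let s : Spec (CommRingCat.of A) := closedPoint A
    let z : f.fiber s := (f.fiberHomeo s).symm ⟨x, hx⟩
    have hz : IsOpen ({z} : Set (f.fiber s)) := by
      rw [← (f.fiberHomeo s).isOpen_image, Set.image_singleton]
      simp only [z, Homeomorph.apply_symm_apply]
      have : ({⟨x, hx⟩} : Set (f ⁻¹' {s})) = Subtype.val ⁻¹' {x} := by
        ext ⟨y, hy⟩
        simp [Subtype.ext_iff]
      rw [this]
      exact hisol
    have := Groth.Agent.H7.quasiFiniteAt_fiberι_of_isOpen_singleton f s z hz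
    rwa [f.fiberι_fiberHomeo_symm] at this
  obtain ⟨V, hVo, hV⟩ := isOpen_induced_iff.mp hisol
  have hxV : x ∈ V := by
    have : (⟨x, hx⟩ : f ⁻¹' {closedPoint A}) ∈ Subtype.val ⁻¹' V := by rw [hV]; rfl
    exact this
  have hVx : ∀ y ∈ V, f y = closedPoint A → y = x := by
    intro y hy hfy
    have : (⟨y, hfy⟩ : f ⁻¹' {closedPoint A}) ∈ Subtype.val ⁻¹' V := hy
    rw [hV] at this
    exact this
  obtain ⟨U, hU, hxU, hUV⟩ : ∃ U : X.Opens, IsAffineOpen U ∧ x ∈ U ∧
      (U : Set X) ⊆ V ∩ (f.quasiFiniteLocus : Set X) := by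
    obtain ⟨_, ⟨U, hU, rfl⟩, hxU, hUV⟩ := X.isBasis_affineOpens.exists_subset_of_mem_open
      (a := x) (u := V ∩ (f.quasiFiniteLocus : Set X))
      (show x ∈ V ∩ (f.quasiFiniteLocus : Set X) from ⟨hxV, hqf⟩)
      (hVo.inter f.quasiFiniteLocus.2)
    exact ⟨U, hU, hxU, hUV⟩
  let g : (U : Scheme.{u}) ⟶ Spec (CommRingCat.of A) := U.ι ≫ f
  have : IsAffine (U : Scheme.{u}) := hU
  have hgA : IsAffineHom g := inferInstance
  have hgQ : LocallyQuasiFinite g := by
    rw [← Scheme.Hom.quasiFiniteLocus_eq_top_iff, Scheme.Hom.quasiFiniteLocus_comp]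
    ext y
    simpa using (hUV y.2).2
  obtain ⟨W, ⟨hWc, hWf, hWm⟩, -⟩ := Groth.Agent.H7.existsUnique_clopen_finite_part A g
  have hxW : (⟨x, hxU⟩ : ↥U) ∈ W := hWm _ (by
    rw [Scheme.Hom.comp_apply]
    exact hx)
  have hιeq : (U.ι ''ᵁ W).ι ≫ f = (U.ι.isoImage W).inv ≫ (W.ι ≫ g) := by
    change _ = (U.ι.isoImage W).inv ≫ (W.ι ≫ U.ι ≫ f)
    rw [← Category.assoc (W.ι), ← Category.assoc, Scheme.Hom.isoImage_inv_ι]
  have hfin : IsFinite ((U.ι ''ᵁ W).ι ≫ f) := by
    rw [hιeq]
    infer_instance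
  refine ⟨U.ι ''ᵁ W, ⟨⟨x, hxU⟩, hxW, rfl⟩, ?_, hfin, ?_⟩
  · have : IsFinite (U.ι ''ᵁ W).ι := .of_comp _ f
    have := (U.ι ''ᵁ W).ι.isClosedMap.isClosed_range
    rwa [Scheme.Opens.range_ι] at this
  · intro w hw
    obtain ⟨w₀, hw₀, hsp, hfw₀⟩ :=
      Groth.Agent.H7.exists_specializes_closedPoint_of_isFinite A f (U.ι ''ᵁ W) w hw
    have hw₀U : w₀ ∈ U := by
      obtain ⟨u, -, rfl⟩ := hw₀
      exact u.2
    have : w₀ = x := hVx w₀ (hUV hw₀U).1 hfw₀
    exact this ▸ hsp

/-- An isolated point of the closed fibre of a separated morphism locally of finite type over a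
henselian local ring splits off: its local ring is finite over the base and its spectrum is an
open and closed subscheme. -/
theorem isolated_point_splits (A : Type u) [CommRing A] [HenselianLocalRing A]
    (X : Scheme.{u}) (f : X ⟶ Spec (CommRingCat.of A)) [LocallyOfFiniteType f] [IsSeparated f]
    (x : X) (hx : f x = closedPoint A)
    (hisol : IsOpen ((Subtype.val : (f ⁻¹' {closedPoint A}) → X) ⁻¹' {x})) :
    ((Scheme.ΓSpecIso (CommRingCat.of A)).inv ≫ f.appTop ≫
        X.presheaf.germ ⊤ x trivial).hom.Finite ∧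
      IsOpenImmersion (X.fromSpecStalk x) ∧ IsClosedImmersion (X.fromSpecStalk x) := by
  obtain ⟨W, hxW, hWc, hWf, hWs⟩ := exists_clopen_finite_nhd A X f x hx hisol
  have hWaff : IsAffine (W : Scheme.{u}) := isAffine_of_isAffineHom (W.ι ≫ f)
  let B : CommRingCat.{u} := Γ(W, ⊤)
  let e : (W : Scheme.{u}) ≅ Spec B := (W : Scheme.{u}).isoSpec
  let p : Spec B := e.hom ⟨x, hxW⟩
  have hp : ∀ q : Spec B, q ⤳ p := by
    intro q
    have h1 : W.ι (e.inv q) ⤳ x := hWs _ (e.inv q).2
    have h2 : e.inv q ⤳ (⟨x, hxW⟩ : ↥W) :=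
      (W.ι.isEmbedding.isInducing.specializes_iff).mp h1
    have h3 := h2.map e.hom.continuous
    have h4 : e.hom (e.inv q) = q := by
      rw [← Scheme.Hom.comp_apply, Iso.inv_hom_id]; rfl
    rwa [h4] at h3
  have hBloc : IsLocalRing B := isLocalRing_of_forall_specializes (B := B) p hp
  have hpc : p = closedPoint B := eq_closedPoint_of_forall_specializes (B := B) p hp
  let φ : Spec B ⟶ X := e.inv ≫ W.ι
  have hφx : φ (closedPoint B) = x := by
    rw [← hpc]
    show (e.inv ≫ W.ι) (e.hom ⟨x, hxW⟩) = x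
    rw [Scheme.Hom.comp_apply, ← Scheme.Hom.comp_apply e.hom e.inv, Iso.hom_inv_id]
    rfl
  obtain ⟨ε, hε⟩ := fromSpecStalk_of_local φ
  have hφc : IsClosedImmersion φ := by
    have : IsClosedImmersion W.ι := by
      rw [IsClosedImmersion.iff_isPreimmersion]
      refine ⟨inferInstance, ?_⟩
      rw [Scheme.Opens.range_ι]
      exact hWc
    infer_instance
  have hφf : IsFinite (φ ≫ f) := by
    show IsFinite ((e.inv ≫ W.ι) ≫ f)
    rw [Category.assoc]
    infer_instance
  have key : ∀ x' : X, x' = x → ∀ ε' : Spec (X.presheaf.stalk x') ≅ Spec B,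
      X.fromSpecStalk x' = ε'.hom ≫ φ →
      ((Scheme.ΓSpecIso (CommRingCat.of A)).inv ≫ f.appTop ≫
        X.presheaf.germ ⊤ x' trivial).hom.Finite ∧
      IsOpenImmersion (X.fromSpecStalk x') ∧ IsClosedImmersion (X.fromSpecStalk x') := by
    intro x' _ ε' hε'
    refine ⟨?_, ?_, ?_⟩
    · rw [← IsFinite.SpecMap_iff]
      have : Spec.map ((Scheme.ΓSpecIso (CommRingCat.of A)).inv ≫ f.appTop ≫
          X.presheaf.germ ⊤ x' trivial) = X.fromSpecStalk x' ≫ f := by
        rw [Spec.map_comp, Spec.map_comp, ← Scheme.fromSpecStalk_toSpecΓ, Category.assoc,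
          Category.assoc, ← Scheme.toSpecΓ_naturality_assoc, toSpecΓ_SpecMap_ΓSpecIso_inv,
          Category.comp_id]
      rw [this, hε', Category.assoc]
      infer_instance
    · rw [hε']; infer_instance
    · rw [hε']; infer_instance
  have := key (φ (closedPoint B)) hφx ε hε
  rwa [hφx] at this

end Groth.Agent.H6.IsolatedSplit
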