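import Groth.Prelude.Def_EGA43
import Groth.Agent.S3404
import Groth.Agent.H22.DVRSpec
import Groth.Agent.H25.OpenAt
import Mathlib

/-!
# Universal openness at a point and the DVR criterion (EGA IV 14.5.8)
-/

set_option autoImplicit false
universe u

open CategoryTheory Limits AlgebraicGeometry

namespace Groth.Agent.H6.UnivOpenDVR

/-- The discrete valuation ring criterion. -/
def DVRCrit {X Y : Scheme.{u}} (f : X ⟶ Y) (x : X) : Prop :=
  ∀ (A : Type u) [CommRing A] [IsDomain A] [IsDiscreteValuationRing A]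
    (g : Spec (CommRingCat.of A) ⟶ Y), g.base (IsLocalRing.closedPoint A) = f.base x →
    ∀ x' : ↥(pullback f g), (pullback.fst f g).base x' = x →
      (pullback.snd f g).base x' = IsLocalRing.closedPoint A →
      ∃ z' : ↥(pullback f g), z' ⤳ x' ∧ (pullback.snd f g).base z' ≠ IsLocalRing.closedPoint A

/-- In a DVR, a prime which is not the closed point is the generic point. -/
lemma eq_bot_of_ne_closedPoint {A : Type u} [CommRing A] [IsDomain A] [IsDiscreteValuationRing A]
    (q : PrimeSpectrum A) (hq : q ≠ IsLocalRing.closedPoint A) : q.asIdeal = ⊥ := by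
  by_contra hne
  apply hq
  have hmax : q.asIdeal.IsMaximal := q.2.isMaximal hne
  ext1
  exact (IsLocalRing.eq_maximalIdeal hmax)

/-- universal openness at `x` implies the DVR criterion. -/
theorem dvrCrit_of_isUnivOpenAt {X Y : Scheme.{u}} (f : X ⟶ Y) (x : X)
    (h : EGA43.IsUnivOpenAt f x) : DVRCrit f x := by
  intro A _ _ _ g hg x' hx' hx'c
  have hop : EGA43.IsOpenAt (pullback.snd f g).base x' := h _ g x' hx'
  let η : Spec (CommRingCat.of A) := (⟨⊥, Ideal.isPrime_bot⟩ : PrimeSpectrum A)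
  have hη : η ⤳ (pullback.snd f g).base x' := by
    rw [hx'c]
    change (⟨⊥, Ideal.isPrime_bot⟩ : PrimeSpectrum A) ⤳ IsLocalRing.closedPoint A
    rw [← PrimeSpectrum.le_iff_specializes]
    exact bot_le
  obtain ⟨z', hz', hz'η⟩ := (Groth.Agent.S3404.result (pullback.snd f g) x').1 hop η hη
  refine ⟨z', hz', ?_⟩
  rw [hz'η]
  intro hcon
  have : (⊥ : Ideal A) = IsLocalRing.maximalIdeal A := congrArg PrimeSpectrum.asIdeal hcon
  exact IsDiscreteValuationRing.not_a_field A this.symm

/-- The DVR criterion implies lifting of generizations for all base changes to locally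
Noetherian schemes. -/
theorem genLift_of_dvrCrit {X Y : Scheme.{u}} (f : X ⟶ Y) (x : X) (H : DVRCrit f x)
    {Y' P : Scheme.{u}} [IsLocallyNoetherian Y'] (g : Y' ⟶ Y) (fst : P ⟶ X) (snd : P ⟶ Y')
    (sq : IsPullback fst snd f g) (p : P) (hp : fst.base p = x) (y'' : Y')
    (hy : y'' ⤳ snd.base p) :
    ∃ p'' : P, p'' ⤳ p ∧ snd.base p'' = y'' := by
  by_cases hne : snd.base p = y''
  · exact ⟨p, specializes_rfl, hne⟩
  obtain ⟨A, h, hdvr, hcl, hfac⟩ := Groth.Agent.H22.DVRSpec.exists_dvr_through_specialization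
    (𝟙 Y') y'' (snd.base p) (by simpa using hy) (by simpa using hne)
  -- the generic point of `Spec A` goes to `y''`
  let pt : Spec (CommRingCat.of (Y'.residueField y'')) := default
  let η : Spec (CommRingCat.of A) := (Spec.map (CommRingCat.ofHom A.subtype)).base pt
  have hη : h.base η = y'' := by
    have := congrArg (fun φ => φ.base pt) hfac
    simp only [Scheme.Hom.comp_apply] at this
    rw [this]
    exact Scheme.fromSpecResidueField_apply y'' pt
  let g₁ : Spec (CommRingCat.of A) ⟶ Y := h ≫ g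
  have hg₁ : g₁.base (IsLocalRing.closedPoint A) = f.base x := by
    rw [Scheme.Hom.comp_apply, hcl, ← hp, ← Scheme.Hom.comp_apply, ← Scheme.Hom.comp_apply, sq.w]
  have sqa := IsPullback.of_right' (IsPullback.of_hasPullback f g₁) sq
  set a : pullback f g₁ ⟶ P := sq.lift (pullback.fst f g₁) (pullback.snd f g₁ ≫ h)
    (by rw [pullback.condition, Category.assoc]) with ha
  obtain ⟨p₁, hp₁a, hp₁c⟩ := Scheme.exists_preimage_of_isPullback sqa p
    (IsLocalRing.closedPoint A) hcl.symm
  have hp₁x : (pullback.fst f g₁).base p₁ = x := by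
    rw [← hp, ← hp₁a, ← Scheme.Hom.comp_apply, sq.lift_fst]
  obtain ⟨z', hz', hz'c⟩ := H A g₁ hg₁ p₁ hp₁x hp₁c
  refine ⟨a.base z', ?_, ?_⟩
  · rw [← hp₁a]
    exact hz'.map a.continuous
  · rw [← Scheme.Hom.comp_apply, sq.lift_snd, Scheme.Hom.comp_apply]
    refine Eq.trans ?_ hη
    congr 1
    have h1 := eq_bot_of_ne_closedPoint _ hz'c
    refine PrimeSpectrum.ext ?_
    rw [h1]
    change _ = Ideal.comap A.subtype _
    have hpt : pt.asIdeal = ⊥ := by
      rcases Ideal.eq_bot_or_top pt.asIdeal with h0 | h0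
      · exact h0
      · exact absurd h0 pt.2.ne_top
    rw [hpt]
    symm
    rw [← RingHom.ker_eq_comap_bot, RingHom.ker_eq_bot_iff_eq_zero]
    intro a ha
    exact Subtype.ext ha

/-- The DVR criterion implies openness at the points over `x` of all base changes to locally
Noetherian schemes. -/
theorem isOpenAt_of_dvrCrit_noeth {X Y : Scheme.{u}} (f : X ⟶ Y)
    [LocallyOfFinitePresentation f] (x : X) (H : DVRCrit f x)
    {Y' P : Scheme.{u}} [IsLocallyNoetherian Y'] (g : Y' ⟶ Y) (fst : P ⟶ X) (snd : P ⟶ Y')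
    (sq : IsPullback fst snd f g) (p : P) (hp : fst.base p = x) : EGA43.IsOpenAt snd.base p := by
  have hfp : LocallyOfFinitePresentation snd :=
    MorphismProperty.of_isPullback (P := @LocallyOfFinitePresentation) sq inferInstance
  exact ((Groth.Agent.S3404.result snd p).2 hfp).2 (genLift_of_dvrCrit f x H g fst snd sq p hp)

/-- Openness at all points over `x` of all base changes to locally Noetherian schemes. -/
def NoethOpenAt {X Y : Scheme.{u}} (f : X ⟶ Y) (x : X) : Prop :=
  ∀ (Y' P : Scheme.{u}) [IsLocallyNoetherian Y'] (g : Y' ⟶ Y) (fst : P ⟶ X) (snd : P ⟶ Y'),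
    IsPullback fst snd f g → ∀ p : P, fst.base p = x → EGA43.IsOpenAt snd.base p

section AffineCore

open TensorProduct

variable (R S C : Type u) [CommRing R] [CommRing S] [CommRing C] [Algebra R S] [Algebra R C]

/-- The standard pullback square of affine schemes. -/
lemma sqTensor : IsPullback
    (Spec.map (CommRingCat.ofHom (S := S ⊗[R] C) Algebra.TensorProduct.includeRight.toRingHom))
    (Spec.map (CommRingCat.ofHom (S := S ⊗[R] C) Algebra.TensorProduct.includeLeftRingHom))
    (Spec.map (CommRingCat.ofHom (algebraMap R C)))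
    (Spec.map (CommRingCat.ofHom (algebraMap R S))) :=
  (isPullback_SpecMap_of_isPushout _ _ _ _ (CommRingCat.isPushout_tensorProduct R S C)).flip

theorem affine_core [IsNoetherianRing R] (x : Spec (CommRingCat.of C))
    (HN : NoethOpenAt (Spec.map (CommRingCat.ofHom (algebraMap R C))) x)
    (p : Spec (CommRingCat.of (S ⊗[R] C)))
    (hp : (Spec.map (CommRingCat.ofHom (S := S ⊗[R] C)
      Algebra.TensorProduct.includeRight.toRingHom)).base p = x) :
    EGA43.IsOpenAt (Spec.map (CommRingCat.ofHom (S := S ⊗[R] C)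
      Algebra.TensorProduct.includeLeftRingHom)).base p := by
  intro N hN
  obtain ⟨s, hps, hsN⟩ : ∃ s : S ⊗[R] C, p ∈ (PrimeSpectrum.basicOpen s : Set (PrimeSpectrum (S ⊗[R] C))) ∧
      (PrimeSpectrum.basicOpen s : Set (PrimeSpectrum (S ⊗[R] C))) ⊆ N := by
    obtain ⟨_, ⟨s, rfl⟩, hps, hsN⟩ :=
      PrimeSpectrum.isTopologicalBasis_basic_opens.mem_nhds_iff.1 hN
    exact ⟨s, hps, hsN⟩
  obtain ⟨B, hB, u, hu⟩ := TensorProduct.Algebra.exists_of_fg s
  let φπ : (B ⊗[R] C) →ₐ[R] (S ⊗[R] C) := Algebra.TensorProduct.map B.val (AlgHom.id R C)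
  have hφu : φπ u = s := hu
  let πB : Spec (CommRingCat.of (S ⊗[R] C)) ⟶ Spec (CommRingCat.of (B ⊗[R] C)) :=
    Spec.map (CommRingCat.ofHom φπ.toRingHom)
  let ρB : Spec (CommRingCat.of S) ⟶ Spec (CommRingCat.of B) :=
    Spec.map (CommRingCat.ofHom B.val.toRingHom)
  have e1 : πB ≫ Spec.map (CommRingCat.ofHom (S := B ⊗[R] C)
      Algebra.TensorProduct.includeRight.toRingHom) =
      Spec.map (CommRingCat.ofHom (S := S ⊗[R] C)
        Algebra.TensorProduct.includeRight.toRingHom) := by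
    rw [← Spec.map_comp]
    congr 1
  have e2 : πB ≫ Spec.map (CommRingCat.ofHom (S := B ⊗[R] C)
      Algebra.TensorProduct.includeLeftRingHom) =
      Spec.map (CommRingCat.ofHom (S := S ⊗[R] C)
        Algebra.TensorProduct.includeLeftRingHom) ≫ ρB := by
    rw [← Spec.map_comp, ← Spec.map_comp]
    congr 1
  have e3 : ρB ≫ Spec.map (CommRingCat.ofHom (algebraMap R B)) =
      Spec.map (CommRingCat.ofHom (algebraMap R S)) := by
    rw [← Spec.map_comp]
    congr 1
  have sqB := sqTensor R B C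
  have sqπ : IsPullback πB (Spec.map (CommRingCat.ofHom (S := S ⊗[R] C)
        Algebra.TensorProduct.includeLeftRingHom)) (Spec.map (CommRingCat.ofHom (S := B ⊗[R] C)
      Algebra.TensorProduct.includeLeftRingHom)) ρB := by
    refine IsPullback.of_right ?_ e2 sqB
    rw [e1, e3]
    exact sqTensor R S C
  have hft : Algebra.FiniteType R B := (Subalgebra.fg_iff_finiteType B).1 hB
  have hnoe : IsNoetherianRing B := Algebra.FiniteType.isNoetherianRing R B
  have hopen := HN _ _ _ _ _ sqB (πB.base p) (by rw [← Scheme.Hom.comp_apply, e1, hp])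
  have hNB : (PrimeSpectrum.basicOpen u : Set (PrimeSpectrum (B ⊗[R] C))) ∈ nhds (πB.base p) := by
    refine (PrimeSpectrum.basicOpen u).isOpen.mem_nhds ?_
    change φπ u ∉ p.asIdeal
    rw [hφu]
    exact hps
  have h1 := hopen _ hNB
  have h2 : (Spec.map (CommRingCat.ofHom (S := B ⊗[R] C)
      Algebra.TensorProduct.includeLeftRingHom)).base (πB.base p) =
      ρB.base ((Spec.map (CommRingCat.ofHom (S := S ⊗[R] C)
        Algebra.TensorProduct.includeLeftRingHom)).base p) := by
    rw [← Scheme.Hom.comp_apply, e2, Scheme.Hom.comp_apply]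
  rw [h2] at h1
  have h3 := ρB.continuous.continuousAt.preimage_mem_nhds h1
  refine Filter.mem_of_superset h3 ?_
  rintro y ⟨q, hq, hqy⟩
  obtain ⟨p₁, hp₁q, hp₁y⟩ := Scheme.exists_preimage_of_isPullback sqπ q y hqy
  refine ⟨p₁, hsN ?_, hp₁y⟩
  change s ∉ p₁.asIdeal
  rw [← hφu]
  have : u ∉ (πB.base p₁).asIdeal := by rw [hp₁q]; exact hq
  exact this

theorem affine_core' [IsNoetherianRing R] (x : Spec (CommRingCat.of C))
    (HN : NoethOpenAt (Spec.map (CommRingCat.ofHom (algebraMap R C))) x)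
    {P : Scheme.{u}} (fst : P ⟶ Spec (CommRingCat.of C)) (snd : P ⟶ Spec (CommRingCat.of S))
    (sq : IsPullback fst snd (Spec.map (CommRingCat.ofHom (algebraMap R C)))
      (Spec.map (CommRingCat.ofHom (algebraMap R S))))
    (p : P) (hp : fst.base p = x) : EGA43.IsOpenAt snd.base p := by
  have sqT := sqTensor R S C
  let e := sq.isoIsPullback _ _ sqT
  have h1 : EGA43.IsOpenAt (Spec.map (CommRingCat.ofHom (S := S ⊗[R] C)
      Algebra.TensorProduct.includeLeftRingHom)).base (e.hom.base p) := by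
    apply affine_core R S C x HN
    rw [← Scheme.Hom.comp_apply, sq.isoIsPullback_hom_fst, hp]
  have h2 : EGA43.IsOpenAt e.hom.base p :=
    Groth.Agent.H25.isOpenAt_of_isOpenMap (e.hom.homeomorph.isOpenMap) p
  have h3 := Groth.Agent.H25.isOpenAt_comp h2 h1
  refine Groth.Agent.H25.isOpenAt_congr ?_ h3
  funext a
  rw [Function.comp_apply, ← Scheme.Hom.comp_apply, sq.isoIsPullback_hom_snd]

end AffineCore

lemma isPullback_comp_mono {P X Y' V Y : Scheme.{u}} {fst : P ⟶ X} {snd : P ⟶ Y'} {f : X ⟶ V}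
    {g : Y' ⟶ V} (i : V ⟶ Y) [Mono i] (sq : IsPullback fst snd f g) :
    IsPullback fst snd (f ≫ i) (g ≫ i) :=
  IsPullback.of_isLimit' ⟨by rw [← Category.assoc, sq.w, Category.assoc]⟩
    (PullbackCone.isLimitOfCompMono f g i _ sq.isLimit)

theorem noethOpenAt_of_comp_mono {X V Y : Scheme.{u}} (f₁ : X ⟶ V) (i : V ⟶ Y) [Mono i] (x : X)
    (h : NoethOpenAt (f₁ ≫ i) x) : NoethOpenAt f₁ x := by
  intro Y' P _ g fst snd sq p hp
  exact h Y' P (g ≫ i) fst snd (isPullback_comp_mono i sq) p hp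

theorem noethOpenAt_comp {U X Y : Scheme.{u}} (j : U ⟶ X) [IsOpenImmersion j] (f : X ⟶ Y) (u : U)
    (h : NoethOpenAt f (j.base u)) : NoethOpenAt (j ≫ f) u := by
  intro Y' Q _ g fstQ sndQ sqQ q hq
  have sqP := IsPullback.of_hasPullback f g
  have sqa := IsPullback.of_bot' sqQ sqP
  set a : Q ⟶ pullback f g := sqP.lift (fstQ ≫ j) sndQ (by rw [Category.assoc, sqQ.w]) with ha
  have hao : IsOpenImmersion a := MorphismProperty.of_isPullback (P := @IsOpenImmersion) sqa
    inferInstance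
  have h1 : EGA43.IsOpenAt (pullback.snd f g).base (a.base q) := by
    apply h Y' _ g _ _ sqP
    rw [← Scheme.Hom.comp_apply, sqP.lift_fst, Scheme.Hom.comp_apply, hq]
  have h2 : EGA43.IsOpenAt a.base q :=
    Groth.Agent.H25.isOpenAt_of_isOpenMap a.isOpenEmbedding.isOpenMap q
  have h3 := Groth.Agent.H25.isOpenAt_comp h2 h1
  refine Groth.Agent.H25.isOpenAt_congr ?_ h3
  funext b
  rw [Function.comp_apply, ← Scheme.Hom.comp_apply, sqP.lift_snd]

/-- The DVR criterion implies universal openness at `x`. -/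
theorem isUnivOpenAt_of_dvrCrit {X Y : Scheme.{u}} [IsLocallyNoetherian Y] (f : X ⟶ Y)
    [LocallyOfFiniteType f] (x : X) (H : DVRCrit f x) : EGA43.IsUnivOpenAt f x := by
  have HN : NoethOpenAt f x := fun Y' P _ g fst snd sq p hp =>
    isOpenAt_of_dvrCrit_noeth f x H g fst snd sq p hp
  intro Y' g x' hx'
  obtain ⟨V, hV, hxV, -⟩ := exists_isAffineOpen_mem_and_subset (x := f.base x) (U := ⊤) trivial
  obtain ⟨U, hU, hxU, hUV⟩ := exists_isAffineOpen_mem_and_subset (x := x) (U := f ⁻¹ᵁ V) hxV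
  have hy' : g.base ((pullback.snd f g).base x') ∈ V := by
    rw [← Scheme.Hom.comp_apply, ← pullback.condition, Scheme.Hom.comp_apply, hx']
    exact hxV
  obtain ⟨W, hW, hyW, hWV⟩ := exists_isAffineOpen_mem_and_subset
    (x := (pullback.snd f g).base x') (U := g ⁻¹ᵁ V) hy'
  let φ : Γ(Y, V) ⟶ Γ(X, U) := f.appLE V U hUV
  let ψ : Γ(Y, V) ⟶ Γ(Y', W) := g.appLE V W hWV
  let algC : Algebra Γ(Y, V) Γ(X, U) := φ.hom.toAlgebra
  let algS : Algebra Γ(Y, V) Γ(Y', W) := ψ.hom.toAlgebra
  have hnoe : IsNoetherianRing Γ(Y, V) := IsLocallyNoetherian.component_noetherian ⟨V, hV⟩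
  have e₁ : Spec.map φ ≫ hV.fromSpec = hU.fromSpec ≫ f := hV.SpecMap_appLE_fromSpec f hU hUV
  have e₂ : Spec.map ψ ≫ hV.fromSpec = hW.fromSpec ≫ g := hV.SpecMap_appLE_fromSpec g hW hWV
  let m := pullback.map (Spec.map φ) (Spec.map ψ) f g hU.fromSpec hW.fromSpec hV.fromSpec e₁ e₂
  have hm : IsOpenImmersion m := inferInstance
  have hx'm : x' ∈ Set.range m.base := by
    have := Scheme.Pullback.range_map (Spec.map φ) (Spec.map ψ) f g hU.fromSpec hW.fromSpec
      hV.fromSpec e₁ e₂
    rw [this]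
    refine ⟨?_, ?_⟩
    · rw [Set.mem_preimage, hx', hU.range_fromSpec]
      exact hxU
    · rw [Set.mem_preimage, hW.range_fromSpec]
      exact hyW
  obtain ⟨p₁, rfl⟩ := hx'm
  have hm1 : m ≫ pullback.fst f g = pullback.fst (Spec.map φ) (Spec.map ψ) ≫ hU.fromSpec :=
    pullback.lift_fst _ _ _
  have hm2 : m ≫ pullback.snd f g = pullback.snd (Spec.map φ) (Spec.map ψ) ≫ hW.fromSpec :=
    pullback.lift_snd _ _ _
  set x₁ := (pullback.fst (Spec.map φ) (Spec.map ψ)).base p₁ with hx₁
  have hjx : hU.fromSpec.base x₁ = x := by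
    rw [← hx', hx₁, ← Scheme.Hom.comp_apply, ← Scheme.Hom.comp_apply, hm1]
  have HN₁ : NoethOpenAt (Spec.map φ) x₁ := by
    apply noethOpenAt_of_comp_mono _ hV.fromSpec
    rw [e₁]
    apply noethOpenAt_comp
    rw [hjx]
    exact HN
  have h1 : EGA43.IsOpenAt (pullback.snd (Spec.map φ) (Spec.map ψ)).base p₁ :=
    affine_core' Γ(Y, V) Γ(Y', W) Γ(X, U) x₁ HN₁ _ _ (IsPullback.of_hasPullback _ _) p₁ rfl
  have h2 : EGA43.IsOpenAt hW.fromSpec.base ((pullback.snd (Spec.map φ) (Spec.map ψ)).base p₁) :=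
    Groth.Agent.H25.isOpenAt_of_isOpenMap hW.fromSpec.isOpenEmbedding.isOpenMap _
  have h3 := Groth.Agent.H25.isOpenAt_comp h1 h2
  have h4 : hW.fromSpec.base ∘ (pullback.snd (Spec.map φ) (Spec.map ψ)).base =
      (pullback.snd f g).base ∘ m.base := by
    funext b
    rw [Function.comp_apply, Function.comp_apply, ← Scheme.Hom.comp_apply,
      ← Scheme.Hom.comp_apply, hm2]
  rw [h4] at h3
  exact Groth.Agent.H25.isOpenAt_of_comp m.continuous h3

end Groth.Agent.H6.UnivOpenDVR
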