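import Groth.Agent.H6.UnivOpenDVR

/-!
# Universal openness and irreducible components over discrete valuation rings (EGA IV 14.5.8/9)
-/

set_option autoImplicit false
universe u

open CategoryTheory Limits AlgebraicGeometry

namespace Groth.Agent.H6.UnivOpenDVR

/-- A universally open morphism is universally open at every point. -/
theorem isUnivOpenAt_of_universallyOpen {X Y : Scheme.{u}} (f : X ⟶ Y) [UniversallyOpen f]
    (x : X) : EGA43.IsUnivOpenAt f x := by
  intro Y' g x' _
  exact Groth.Agent.H25.isOpenAt_of_isOpenMap (pullback.snd f g).isOpenMap x'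

/-- A morphism universally open at every point is universally open. -/
theorem universallyOpen_of_forall_isUnivOpenAt {X Y : Scheme.{u}} (f : X ⟶ Y)
    (h : ∀ x : X, EGA43.IsUnivOpenAt f x) : UniversallyOpen f := by
  refine ⟨fun X' Y' i₁ i₂ f' sq => ?_⟩
  change IsOpenMap f'.base
  rw [isOpenMap_iff_nhds_le]
  intro p s hs
  have hop : EGA43.IsOpenAt f'.base p :=
    Groth.Agent.H25.isOpenAt_of_isPullback (h (i₁.base p)) sq.flip p rfl
  exact Filter.mem_of_superset (hop _ hs) (Set.image_preimage_subset _ _)

section DVR

variable {A : Type u} [CommRing A] [IsDomain A] [IsDiscreteValuationRing A]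

/-- The generic point of the spectrum of a domain. -/
def genPt (A : Type u) [CommRing A] [IsDomain A] : PrimeSpectrum A := ⟨⊥, Ideal.isPrime_bot⟩

lemma genPt_ne_closedPoint : genPt A ≠ IsLocalRing.closedPoint A := by
  intro hcon
  have : (⊥ : Ideal A) = IsLocalRing.maximalIdeal A := congrArg PrimeSpectrum.asIdeal hcon
  exact IsDiscreteValuationRing.not_a_field A this.symm

lemma eq_genPt_of_ne_closedPoint (q : PrimeSpectrum A) (hq : q ≠ IsLocalRing.closedPoint A) :
    q = genPt A :=
  PrimeSpectrum.ext (eq_bot_of_ne_closedPoint q hq)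

lemma dense_singleton_genPt : Dense ({genPt A} : Set (PrimeSpectrum A)) := by
  intro q
  rw [← specializes_iff_mem_closure, ← PrimeSpectrum.le_iff_specializes]
  exact bot_le (a := q.asIdeal)

/-- A dense subset of the spectrum of a DVR contains the generic point. -/
lemma genPt_mem_of_dense {D : Set (PrimeSpectrum A)} (hD : Dense D) : genPt A ∈ D := by
  have hopen : IsOpen ({IsLocalRing.closedPoint A}ᶜ : Set (PrimeSpectrum A)) :=
    (IsLocalRing.isClosed_singleton_closedPoint A).isOpen_compl
  obtain ⟨d, hdU, hdD⟩ := hD.inter_open_nonempty _ hopen ⟨genPt A, genPt_ne_closedPoint⟩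
  rwa [← eq_genPt_of_ne_closedPoint d hdU]

/-- a point generizing the generic point is the generic point -/
lemma eq_genPt_of_specializes (q : PrimeSpectrum A) (hq : q ⤳ genPt A) : q = genPt A := by
  rw [← PrimeSpectrum.le_iff_specializes] at hq
  exact PrimeSpectrum.ext (le_bot_iff.1 hq)

end DVR

/-- The "components dominate" condition implies the DVR criterion. -/
theorem dvrCrit_of_components {X Y : Scheme.{u}} (f : X ⟶ Y) (x : X)
    (h : ∀ (A : Type u) [CommRing A] [IsDomain A] [IsDiscreteValuationRing A]
      (g : Spec (CommRingCat.of A) ⟶ Y), g.base (IsLocalRing.closedPoint A) = f.base x →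
      ∀ Z ∈ irreducibleComponents (↥(pullback f g) : Type u),
        Dense ((pullback.snd f g).base '' Z)) : DVRCrit f x := by
  intro A _ _ _ g hg x' _ _
  have hZ := irreducibleComponent_mem_irreducibleComponents x'
  have hx'Z : x' ∈ irreducibleComponent x' := mem_irreducibleComponent
  obtain ⟨ζ, hζ⟩ := QuasiSober.sober hZ.1 (isClosed_of_mem_irreducibleComponents _ hZ)
  obtain ⟨z₀, hz₀Z, hz₀⟩ := genPt_mem_of_dense (h A g hg _ hZ)
  refine ⟨ζ, hζ.specializes hx'Z, ?_⟩
  have h1 : (pullback.snd f g).base ζ ⤳ (pullback.snd f g).base z₀ :=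
    (hζ.specializes hz₀Z).map (pullback.snd f g).continuous
  rw [hz₀] at h1
  rw [eq_genPt_of_specializes _ h1]
  exact genPt_ne_closedPoint

/-- The DVR criterion at the points over `y` implies the "components dominate" condition. -/
theorem components_of_dvrCrit {X Y : Scheme.{u}} (f : X ⟶ Y) (y : Y)
    (h : ∀ x : X, f.base x = y → DVRCrit f x)
    (A : Type u) [CommRing A] [IsDomain A] [IsDiscreteValuationRing A]
    (g : Spec (CommRingCat.of A) ⟶ Y) (hg : g.base (IsLocalRing.closedPoint A) = y)
    (Z : Set ↥(pullback f g)) (hZ : Z ∈ irreducibleComponents (↥(pullback f g) : Type u)) :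
    Dense ((pullback.snd f g).base '' Z) := by
  obtain ⟨ζ, hζ⟩ := QuasiSober.sober hZ.1 (isClosed_of_mem_irreducibleComponents _ hZ)
  have key : (pullback.snd f g).base ζ = genPt A := by
    by_contra hne
    have hcl : (pullback.snd f g).base ζ = IsLocalRing.closedPoint A := by
      by_contra hne'
      exact hne (eq_genPt_of_ne_closedPoint _ hne')
    have hx : f.base ((pullback.fst f g).base ζ) = y := by
      rw [← Scheme.Hom.comp_apply, pullback.condition, Scheme.Hom.comp_apply, hcl, hg]
    obtain ⟨z', hz', hz'c⟩ := h _ hx A g (by rw [hg, hx]) ζ rfl hcl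
    -- `z'` is a generization of the generic point of the component `Z`, hence lies in `Z`
    have hirr : IsIrreducible (closure ({z'} : Set ↥(pullback f g))) :=
      isIrreducible_singleton.closure
    have hsub : Z ⊆ closure ({z'} : Set ↥(pullback f g)) := by
      rw [← hζ.def]
      exact closure_minimal (Set.singleton_subset_iff.2 hz'.mem_closure) isClosed_closure
    have hz'Z : z' ∈ Z := hZ.2 hirr hsub (subset_closure rfl)
    have h1 : (pullback.snd f g).base ζ ⤳ (pullback.snd f g).base z' :=
      (hζ.specializes hz'Z).map (pullback.snd f g).continuous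
    rw [hcl] at h1
    have h2 := h1.mem_closed (IsLocalRing.isClosed_singleton_closedPoint A) rfl
    exact hz'c h2
  refine dense_singleton_genPt.mono ?_
  rw [Set.singleton_subset_iff]
  exact ⟨ζ, hζ.mem, key⟩

end Groth.Agent.H6.UnivOpenDVR
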