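import Mathlib

/-!
# Quasi-affine schemes locally of finite type embed into affine space

`exists_immersion_affineSpace`: for `π : X ⟶ S` locally of finite type with `X` quasi-affine, there are
`n` and an immersion `X ⟶ 𝔸ⁿ_S` over `S`.

Helper results: `surjective_appLE_chart` (surjectivity of the chart ring map for `homOfVector`),
`isClosedImmersion_restrict_of_surjective`, `homOfVector_preimage_chart`, `isAffineOpen_chart`.
-/
set_option autoImplicit false
universe u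
open CategoryTheory CategoryTheory.Limits AlgebraicGeometry

namespace Groth.Agent.H6.QuasiAffineImm

theorem surjective_of_closure_le {A B : Type*} [CommRing A] [CommRing B] (φ : A →+* B) (s : Set B)
    (hs : Subring.closure s = ⊤) (h : s ⊆ φ.range) : Function.Surjective φ := by
  rw [← RingHom.range_eq_top, eq_top_iff, ← hs]
  exact Subring.closure_le.mpr h

theorem appLE_of_eq {X Y : Scheme.{u}} {g g' : X ⟶ Y} (h : g = g') (U : Y.Opens) (V : X.Opens)
    (e : V ≤ g ⁻¹ᵁ U) : g.appLE U V e = g'.appLE U V (h ▸ e) := by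
  subst h; rfl

/-- For `i = homOfVector π v`, the preimage of the chart `p⁻¹V ∩ D(x_k)` is `X_{v k}` when `X_{v k} ⊆ π⁻¹V`. -/
theorem homOfVector_preimage_chart {X S : Scheme.{u}} (π : X ⟶ S) {n : Type u} (v : n → Γ(X, ⊤))
    (k : n) (V : S.Opens) (e : X.basicOpen (v k) ≤ π ⁻¹ᵁ V) :
    (AffineSpace.homOfVector π v) ⁻¹ᵁ ((𝔸(n; S) ↘ S) ⁻¹ᵁ V ⊓ 𝔸(n; S).basicOpen (AffineSpace.coord S k)) =
      X.basicOpen (v k) := by
  rw [Scheme.Hom.preimage_inf, ← Scheme.Hom.comp_preimage, AffineSpace.homOfVector_over,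
    Scheme.preimage_basicOpen_top, AffineSpace.homOfVector_appTop_coord]
  exact inf_eq_right.mpr e

theorem isAffineOpen_chart {S : Scheme.{u}} {n : Type u} (k : n) (V : S.Opens) (hV : IsAffineOpen V) :
    IsAffineOpen ((𝔸(n; S) ↘ S) ⁻¹ᵁ V ⊓ 𝔸(n; S).basicOpen (AffineSpace.coord S k)) := by
  have h1 : IsAffineOpen ((𝔸(n; S) ↘ S) ⁻¹ᵁ V) := hV.preimage (𝔸(n; S) ↘ S)
  have := h1.basicOpen (𝔸(n; S).presheaf.map
    (homOfLE (le_top : (𝔸(n; S) ↘ S) ⁻¹ᵁ V ≤ ⊤)).op (AffineSpace.coord S k))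
  rwa [Scheme.basicOpen_res] at this


theorem appLE_restrict_top {X Y : Scheme.{u}} (f : X ⟶ Y) (c : Γ(Y, ⊤)) (W : Y.Opens) (U : X.Opens)
    (hle : U ≤ f ⁻¹ᵁ W) :
    (f.appLE W U hle).hom (Y.presheaf.map (homOfLE (le_top : W ≤ ⊤)).op c) =
      X.presheaf.map (homOfLE (le_top : U ≤ ⊤)).op (f.appTop c) := by
  have h1 := Scheme.Hom.map_appLE f hle (homOfLE (le_top : W ≤ ⊤)).op
  have h2 : f.appTop ≫ X.presheaf.map (homOfLE (le_top : U ≤ ⊤)).op =
      f.appLE ⊤ U (by simp) := rfl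
  calc (f.appLE W U hle).hom (Y.presheaf.map (homOfLE (le_top : W ≤ ⊤)).op c)
      = (Y.presheaf.map (homOfLE (le_top : W ≤ ⊤)).op ≫ f.appLE W U hle).hom c := rfl
    _ = (f.appTop ≫ X.presheaf.map (homOfLE (le_top : U ≤ ⊤)).op).hom c := by rw [h1, h2]
    _ = _ := rfl

theorem surjective_appLE_chart {X S : Scheme.{u}} (π : X ⟶ S) {n : Type u} (v : n → Γ(X, ⊤))
    (k : n) (V : S.Opens) (e : X.basicOpen (v k) ≤ π ⁻¹ᵁ V)
    (T : Finset Γ(X, ⊤)) (hT : ∀ a ∈ T, ∃ k', v k' = a) (u : Γ(X, X.basicOpen (v k)))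
    (hu : u * (X.presheaf.map (homOfLE (le_top : X.basicOpen (v k) ≤ ⊤)).op (v k)) = 1)
    (hcl : Subring.closure (Set.range (π.appLE V (X.basicOpen (v k)) e).hom ∪
        ((fun a : Γ(X, ⊤) => X.presheaf.map (homOfLE (le_top : X.basicOpen (v k) ≤ ⊤)).op a) ''
          (T : Set Γ(X, ⊤))) ∪ {u}) = ⊤)
    (hle : X.basicOpen (v k) ≤ (AffineSpace.homOfVector π v) ⁻¹ᵁ
      ((𝔸(n; S) ↘ S) ⁻¹ᵁ V ⊓ 𝔸(n; S).basicOpen (AffineSpace.coord S k))) :
    Function.Surjective ((AffineSpace.homOfVector π v).appLE _ (X.basicOpen (v k)) hle).hom := by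
  set i := AffineSpace.homOfVector π v with hi
  set W := (𝔸(n; S) ↘ S) ⁻¹ᵁ V ⊓ 𝔸(n; S).basicOpen (AffineSpace.coord S k) with hW
  have hcoord : ∀ k', (i.appLE W (X.basicOpen (v k)) hle).hom
      (𝔸(n; S).presheaf.map (homOfLE (le_top : W ≤ ⊤)).op (AffineSpace.coord S k')) =
      X.presheaf.map (homOfLE (le_top : X.basicOpen (v k) ≤ ⊤)).op (v k') := by
    intro k'
    rw [appLE_restrict_top, hi, AffineSpace.homOfVector_appTop_coord]
  apply surjective_of_closure_le _ _ hcl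
  rintro z ((⟨r, rfl⟩ | ⟨a, ha, rfl⟩) | rfl)
  · refine ⟨((𝔸(n; S) ↘ S).appLE V W inf_le_left).hom r, ?_⟩
    have h1 := Scheme.Hom.appLE_comp_appLE i (𝔸(n; S) ↘ S) V W (X.basicOpen (v k)) inf_le_left hle
    have h2 := appLE_of_eq (AffineSpace.homOfVector_over π v) V (X.basicOpen (v k))
      (hle.trans ((TopologicalSpace.Opens.map i.base).map (homOfLE (inf_le_left : W ≤ _))).le)
    rw [h2] at h1
    exact congr($(h1).hom r)
  · obtain ⟨k', rfl⟩ := hT a ha
    exact ⟨_, hcoord k'⟩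
  · -- the inverse
    have hunit : IsUnit (𝔸(n; S).presheaf.map (homOfLE (le_top : W ≤ ⊤)).op
        (AffineSpace.coord S k)) := by
      have h0 := RingedSpace.isUnit_res_basicOpen 𝔸(n; S).toRingedSpace (AffineSpace.coord S k)
      have := h0.map (𝔸(n; S).presheaf.map (homOfLE (inf_le_right : W ≤
        𝔸(n; S).basicOpen (AffineSpace.coord S k))).op).hom
      convert this using 1
      change _ = (𝔸(n; S).presheaf.map _ ≫ 𝔸(n; S).presheaf.map _).hom _
      rw [← Functor.map_comp]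
      rfl
    obtain ⟨w, hw⟩ := hunit.exists_left_inv
    refine ⟨w, ?_⟩
    have h3 := congr((i.appLE W (X.basicOpen (v k)) hle).hom $hw)
    rw [map_mul, hcoord k, map_one] at h3
    calc (i.appLE W (X.basicOpen (v k)) hle).hom w
        = (i.appLE W (X.basicOpen (v k)) hle).hom w *
          (X.presheaf.map (homOfLE (le_top : X.basicOpen (v k) ≤ ⊤)).op (v k) * z) := by
          rw [mul_comm _ z, hu, mul_one]
      _ = z := by rw [← mul_assoc, h3, one_mul]


theorem isClosedImmersion_restrict_of_surjective {X Y : Scheme.{u}} (f : X ⟶ Y) (W : Y.Opens)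
    (hW : IsAffineOpen W) (U : X.Opens) (hU : IsAffineOpen U) (hUW : f ⁻¹ᵁ W = U)
    (hsurj : Function.Surjective (f.appLE W U (le_of_eq hUW.symm)).hom) :
    IsClosedImmersion (f ∣_ W) := by
  subst hUW
  have : IsAffine (f ⁻¹ᵁ W).toScheme := hU
  have : IsAffine W.toScheme := hW
  apply IsClosedImmersion.of_surjective_of_isAffine
  rw [Scheme.Hom.appTop, morphismRestrict_app']
  have e₁ : W.ι ''ᵁ ⊤ = W := by simp
  have e₂ : (f ⁻¹ᵁ W).ι ''ᵁ ((f ∣_ W) ⁻¹ᵁ ⊤) = f ⁻¹ᵁ W := by simp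
  exact (Scheme.Hom.appLE_congr f _ e₁ e₂ (fun φ => Function.Surjective φ.hom)).mpr hsurj

/-- Generators of `Γ(X, X_f)` over `Γ(S, V)` of the special form: restrictions of finitely many global
sections together with the inverse of `f`. -/
theorem exists_finset_closure_eq_top {X S : Scheme.{u}} (π : X ⟶ S) [LocallyOfFiniteType π]
    [CompactSpace X] [QuasiSeparatedSpace X] (f : Γ(X, ⊤)) (hf : IsAffineOpen (X.basicOpen f))
    (V : S.Opens) (hV : IsAffineOpen V) (e : X.basicOpen f ≤ π ⁻¹ᵁ V) :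
    ∃ (T : Finset Γ(X, ⊤)) (u : Γ(X, X.basicOpen f)), u * (X.presheaf.map (homOfLE (le_top : X.basicOpen f ≤ ⊤)).op f) = 1 ∧
      Subring.closure (Set.range (π.appLE V (X.basicOpen f) e).hom ∪
        ((fun a : Γ(X, ⊤) => X.presheaf.map (homOfLE (le_top : X.basicOpen f ≤ ⊤)).op a) '' (T : Set Γ(X, ⊤))) ∪ {u}) = ⊤ := by
  have hft : (π.appLE V (X.basicOpen f) e).hom.FiniteType :=
    HasRingHomProperty.appLE (P := @LocallyOfFiniteType) π inferInstance ⟨V, hV⟩ ⟨_, hf⟩ e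
  algebraize [(π.appLE V (X.basicOpen f) e).hom]
  obtain ⟨s, hs⟩ := (Algebra.FiniteType.out : (⊤ : Subalgebra Γ(S, V) Γ(X, X.basicOpen f)).FG)
  have hunit : IsUnit (X.presheaf.map (homOfLE (le_top : X.basicOpen f ≤ ⊤)).op f) := RingedSpace.isUnit_res_basicOpen _ f
  obtain ⟨u, hu⟩ := hunit.exists_left_inv
  have key : ∀ z : Γ(X, X.basicOpen f), ∃ (n : ℕ) (y : Γ(X, ⊤)), z = (X.presheaf.map (homOfLE (le_top : X.basicOpen f ≤ ⊤)).op y) * u ^ n := by
    intro z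
    obtain ⟨n, y, hy⟩ := exists_eq_pow_mul_of_isCompact_of_isQuasiSeparated X ⊤ isCompact_univ
      isQuasiSeparated_univ f z
    refine ⟨n, y, ?_⟩
    have hy' : X.presheaf.map (homOfLE (le_top : X.basicOpen f ≤ ⊤)).op y =
        (X.presheaf.map (homOfLE (le_top : X.basicOpen f ≤ ⊤)).op f) ^ n * z := hy
    rw [hy']
    calc z = (u * (X.presheaf.map (homOfLE (le_top : X.basicOpen f ≤ ⊤)).op f)) ^ n * z := by rw [hu, one_pow, one_mul]
      _ = _ := by ring
  choose n y hy using key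
  classical
  refine ⟨s.image y, u, hu, ?_⟩
  rw [eq_top_iff]
  have h1 : (⊤ : Subring Γ(X, X.basicOpen f)) = (Algebra.adjoin Γ(S, V) (s : Set _)).toSubring := by
    rw [hs]; rfl
  rw [h1, Algebra.adjoin_eq_ring_closure]
  apply Subring.closure_le.mpr
  rintro z (hz | hz)
  · exact Subring.subset_closure (Set.mem_union_left _ (Set.mem_union_left _ hz))
  · rw [hy z]
    refine mul_mem (Subring.subset_closure (Set.mem_union_left _ (Set.mem_union_right _ ?_)))
      (pow_mem (Subring.subset_closure (Set.mem_union_right _ (Set.mem_singleton u))) _)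
    exact ⟨y z, by simpa using ⟨z, hz, rfl⟩, rfl⟩


theorem chart_main {X S : Scheme.{u}} (π : X ⟶ S) {n : Type u} (v : n → Γ(X, ⊤)) (k : n)
    (g : Γ(X, ⊤)) (hg : v k = g) (V : S.Opens) (hVaff : IsAffineOpen V)
    (hgaff : IsAffineOpen (X.basicOpen g)) (e : X.basicOpen g ≤ π ⁻¹ᵁ V)
    (T : Finset Γ(X, ⊤)) (hT : ∀ a ∈ T, ∃ k', v k' = a) (u : Γ(X, X.basicOpen g))
    (hu : u * (X.presheaf.map (homOfLE (le_top : X.basicOpen g ≤ ⊤)).op g) = 1)
    (hcl : Subring.closure (Set.range (π.appLE V (X.basicOpen g) e).hom ∪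
        ((fun a : Γ(X, ⊤) => X.presheaf.map (homOfLE (le_top : X.basicOpen g ≤ ⊤)).op a) ''
          (T : Set Γ(X, ⊤))) ∪ {u}) = ⊤) :
    IsClosedImmersion ((AffineSpace.homOfVector π v) ∣_
      ((𝔸(n; S) ↘ S) ⁻¹ᵁ V ⊓ 𝔸(n; S).basicOpen (AffineSpace.coord S k))) ∧
    (AffineSpace.homOfVector π v) ⁻¹ᵁ
      ((𝔸(n; S) ↘ S) ⁻¹ᵁ V ⊓ 𝔸(n; S).basicOpen (AffineSpace.coord S k)) = X.basicOpen g := by
  subst hg
  have hpre := homOfVector_preimage_chart π v k V e
  refine ⟨?_, hpre⟩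
  exact isClosedImmersion_restrict_of_surjective _ _ (isAffineOpen_chart k V hVaff) _ hgaff hpre
    (surjective_appLE_chart π v k V e T hT u hu hcl (le_of_eq hpre.symm))


instance : MorphismProperty.RespectsRight @IsImmersion @IsOpenImmersion where
  postcomp i hi f hf := by
    have : IsOpenImmersion i := hi
    have : IsImmersion f := hf
    infer_instance

/-- A quasi-affine scheme locally of finite type over `S` admits an immersion into some `𝔸ⁿ_S`. -/
theorem exists_immersion_affineSpace {X S : Scheme.{u}} (π : X ⟶ S) [LocallyOfFiniteType π]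
    [X.IsQuasiAffine] :
    ∃ (n : ℕ) (i : X ⟶ 𝔸(ULift.{u} (Fin n); S)),
      IsImmersion i ∧ i ≫ (𝔸(ULift.{u} (Fin n); S) ↘ S) = π := by
  classical
  have hloc : ∀ x : X, ∃ (f : Γ(X, ⊤)) (V : S.Opens), IsAffineOpen (X.basicOpen f) ∧
      IsAffineOpen V ∧ x ∈ X.basicOpen f ∧ X.basicOpen f ≤ π ⁻¹ᵁ V := by
    intro x
    obtain ⟨_, ⟨V, hV, rfl⟩, hxV, -⟩ := S.isBasis_affineOpens.exists_subset_of_mem_open
      (Set.mem_univ (π.base x)) isOpen_univ
    obtain ⟨_, ⟨_, ⟨f, hf, rfl⟩, rfl⟩, hxf, hfV⟩ :=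
      (Scheme.IsQuasiAffine.isBasis_basicOpen X).exists_subset_of_mem_open
        (show x ∈ ((π ⁻¹ᵁ V : X.Opens) : Set X) from hxV) (π ⁻¹ᵁ V).2
    exact ⟨f, V, hf, hV, hxf, hfV⟩
  choose f V hf hV hxf hfV using hloc
  obtain ⟨t, ht⟩ := isCompact_univ.elim_finite_subcover (fun x => (X.basicOpen (f x) : Set X))
    (fun x => (X.basicOpen (f x)).2) (fun x _ => Set.mem_iUnion.mpr ⟨x, hxf x⟩)
  choose T u hu hcl using fun x =>
    exists_finset_closure_eq_top π (f x) (hf x) (V x) (hV x) (hfV x)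
  let Tfin : Finset Γ(X, ⊤) := t.image f ∪ t.biUnion T
  let v : ULift.{u} (Fin Tfin.card) → Γ(X, ⊤) := fun k => (Tfin.equivFin.symm k.down).1
  have hv : ∀ a ∈ Tfin, ∃ k, v k = a := fun a ha => ⟨⟨Tfin.equivFin ⟨a, ha⟩⟩, by simp [v]⟩
  refine ⟨Tfin.card, AffineSpace.homOfVector π v, ?_, AffineSpace.homOfVector_over π v⟩
  have hk : ∀ x : t, ∃ k, v k = f x.1 := fun x =>
    hv _ (Finset.mem_union_left _ (Finset.mem_image_of_mem f x.2))
  choose k hk using hk
  have hmain := fun x : t => chart_main π v (k x) (f x.1) (hk x) (V x.1) (hV x.1) (hf x.1) (hfV x.1)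
    (T x.1) (fun a ha => hv a (Finset.mem_union_right _ (Finset.mem_biUnion.mpr ⟨x.1, x.2, ha⟩)))
    (u x.1) (hu x.1) (hcl x.1)
  refine IsZariskiLocalAtTarget.of_range_subset_iSup (P := @IsImmersion)
    (fun x : t => (𝔸(ULift.{u} (Fin Tfin.card); S) ↘ S) ⁻¹ᵁ V x.1 ⊓
      𝔸(ULift.{u} (Fin Tfin.card); S).basicOpen (AffineSpace.coord S (k x))) ?_ ?_
  · rintro _ ⟨y, rfl⟩
    have hy := ht (Set.mem_univ y)
    simp only [Set.mem_iUnion] at hy
    obtain ⟨x, hx, hyx⟩ := hy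
    simp only [TopologicalSpace.Opens.coe_iSup, Set.mem_iUnion]
    refine ⟨⟨x, hx⟩, ?_⟩
    have : y ∈ (AffineSpace.homOfVector π v) ⁻¹ᵁ
        ((𝔸(ULift.{u} (Fin Tfin.card); S) ↘ S) ⁻¹ᵁ V x ⊓
          𝔸(ULift.{u} (Fin Tfin.card); S).basicOpen (AffineSpace.coord S (k ⟨x, hx⟩))) := by
      rw [(hmain ⟨x, hx⟩).2]
      exact hyx
    exact this
  · intro x
    have := (hmain x).1
    infer_instance

end Groth.Agent.H6.QuasiAffineImm
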