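import Groth.Agent.H6.PuncturedDepth
import Groth.Agent.H49.FibreDepth

set_option autoImplicit false
universe u

namespace Groth.Agent.H6.Hartogs

open AlgebraicGeometry CategoryTheory Opposite TopologicalSpace
open Groth.Agent.H6.PuncturedSections Groth.Agent.H6.PuncturedDT Groth.Agent.H58
open Groth.Agent.H6.PuncturedDepth

/-- Hartogs on `Spec B` for the complement of `V(I)`. -/
theorem isIso_res_punctured (B : Type u) [CommRing B] [IsNoetherianRing B] (I : Ideal B)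
    (h : ∀ p : PrimeSpectrum B, I ≤ p.asIdeal →
      (2 : ℕ∞) ≤ LocCoh.depth (Localization.AtPrime p.asIdeal) (Localization.AtPrime p.asIdeal))
    (V : (Spec (CommRingCat.of B)).Opens) (hle : V ≤ ⊤) (hV : V = LocCoh.puncturedOpen B I) :
    IsIso ((Spec (CommRingCat.of B)).presheaf.map (homOfLE hle).op) := by
  subst hV
  by_cases htop : I = ⊤
  · have hVtop : LocCoh.puncturedOpen B I = ⊤ := by
      rw [eq_top_iff]
      intro x _
      exact mem_puncturedOpen.mpr ⟨1, by rw [htop]; trivial, by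
        rw [mem_D]; exact fun h1 => x.isPrime.ne_top ((Ideal.eq_top_iff_one _).mpr h1)⟩
    have hgen : ∀ (V : (Spec (CommRingCat.of B)).Opens) (hle : V ≤ ⊤), V = ⊤ →
        IsIso ((Spec (CommRingCat.of B)).presheaf.map (homOfLE hle).op) := by
      rintro V hle rfl
      have : homOfLE hle = 𝟙 _ := Subsingleton.elim _ _
      rw [this, op_id, CategoryTheory.Functor.map_id]
      infer_instance
    exact hgen _ hle hVtop
  · apply isIso_res_of_bijective_ρ
    rw [bijective_ρ_iff]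
    apply toO_bijective_of_two_le_idealDepth I B
    · intro h1
      apply htop
      have : I • (⊤ : Submodule B B) = I := by
        rw [smul_eq_mul, Ideal.mul_top]
      rwa [this] at h1
    · rw [X26.idealDepth_eq_iInf_depth_localization I B]
      exact le_iInf₂ fun p hp => h p hp

/-- Hartogs on `Spec B` for an arbitrary open. -/
theorem isIso_res_of_depth (B : Type u) [CommRing B] [IsNoetherianRing B]
    (V : (Spec (CommRingCat.of B)).Opens)
    (h : ∀ p : PrimeSpectrum B, (p : (Spec (CommRingCat.of B) : Type u)) ∉ V →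
      (2 : ℕ∞) ≤ LocCoh.depth (Localization.AtPrime p.asIdeal) (Localization.AtPrime p.asIdeal))
    (hle : V ≤ ⊤) :
    IsIso ((Spec (CommRingCat.of B)).presheaf.map (homOfLE hle).op) := by
  let S : Set (PrimeSpectrum B) := V.1
  have hVc : IsClosed Sᶜ := V.2.isClosed_compl
  have hz : PrimeSpectrum.zeroLocus ((PrimeSpectrum.vanishingIdeal Sᶜ : Ideal B) : Set B) = Sᶜ := by
    rw [PrimeSpectrum.zeroLocus_vanishingIdeal_eq_closure, hVc.closure_eq]
  apply isIso_res_punctured B (PrimeSpectrum.vanishingIdeal Sᶜ) _ V hle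
  · apply TopologicalSpace.Opens.ext
    show S = (PrimeSpectrum.zeroLocus _)ᶜ
    rw [hz, compl_compl]
  · intro p hp
    apply h p
    have : p ∈ PrimeSpectrum.zeroLocus ((PrimeSpectrum.vanishingIdeal Sᶜ : Ideal B) : Set B) := hp
    rw [hz] at this
    exact this

theorem fromSpec_mem (X : Scheme.{u}) (W : X.Opens) (hW : IsAffineOpen W)
    (p : PrimeSpectrum Γ(X, W)) : hW.fromSpec p ∈ W := by
  have h1 : hW.fromSpec p ∈ hW.fromSpec.opensRange := ⟨p, rfl⟩
  rwa [hW.opensRange_fromSpec] at h1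

theorem depth_localization_eq_depth_stalk (X : Scheme.{u}) [IsLocallyNoetherian X] (W : X.Opens)
    (hW : IsAffineOpen W) (p : PrimeSpectrum Γ(X, W)) :
    LocCoh.depth (Localization.AtPrime p.asIdeal) (Localization.AtPrime p.asIdeal) =
      LocCoh.depth (X.presheaf.stalk (hW.fromSpec p)) (X.presheaf.stalk (hW.fromSpec p)) := by
  have hN : IsNoetherianRing Γ(X, W) := IsLocallyNoetherian.component_noetherian ⟨W, hW⟩
  have hy : hW.fromSpec p ∈ W := fromSpec_mem X W hW p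
  let _ : Algebra Γ(X, W) (X.presheaf.stalk (hW.fromSpec p)) :=
    TopCat.Presheaf.algebra_section_stalk X.presheaf ⟨hW.fromSpec p, hy⟩
  have loc : IsLocalization.AtPrime (X.presheaf.stalk (hW.fromSpec p)) p.asIdeal :=
    hW.isLocalization_stalk' p hy
  let e : Localization.AtPrime p.asIdeal ≃ₐ[Γ(X, W)] X.presheaf.stalk (hW.fromSpec p) :=
    IsLocalization.algEquiv p.asIdeal.primeCompl _ _
  exact Groth.Agent.H49.FibreDepth.depth_eq_of_ringEquiv e.toRingEquiv

theorem bijective_res_affine (X : Scheme.{u}) [IsLocallyNoetherian X] (U : X.Opens)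
    (hU : ∀ x : ↥X, x ∉ U → (2 : ℕ∞) ≤ LocCoh.depth (X.presheaf.stalk x) (X.presheaf.stalk x))
    (W : X.Opens) (hW : IsAffineOpen W) (W' : X.Opens) (hW' : W' = W ⊓ U) (hle : W' ≤ W) :
    Function.Bijective (X.presheaf.map (homOfLE hle).op) := by
  have hN : IsNoetherianRing Γ(X, W) := IsLocallyNoetherian.component_noetherian ⟨W, hW⟩
  have nat := hW.fromSpec.naturality (homOfLE hle).op
  have i1 : IsIso (hW.fromSpec.app W) :=
    Scheme.Hom.isIso_app hW.fromSpec W (by rw [hW.opensRange_fromSpec])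
  have i2 : IsIso (hW.fromSpec.app W') :=
    Scheme.Hom.isIso_app hW.fromSpec W' (by rw [hW.opensRange_fromSpec]; exact hle)
  have hd : ∀ p : PrimeSpectrum Γ(X, W), (p : (Spec Γ(X, W) : Type u)) ∉ hW.fromSpec ⁻¹ᵁ W' →
      (2 : ℕ∞) ≤ LocCoh.depth (Localization.AtPrime p.asIdeal)
        (Localization.AtPrime p.asIdeal) := by
    intro p hp
    rw [depth_localization_eq_depth_stalk X W hW p]
    apply hU
    intro hpU
    apply hp
    show hW.fromSpec p ∈ W'
    rw [hW']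
    exact ⟨fromSpec_mem X W hW p, hpU⟩
  have i3 : IsIso ((Spec Γ(X, W)).presheaf.map
      ((Opens.map hW.fromSpec.base).map (homOfLE hle)).op) := by
    have htop : hW.fromSpec ⁻¹ᵁ W = ⊤ := hW.fromSpec_preimage_self
    have gen : ∀ (T₂ T₁ : (Spec Γ(X, W)).Opens) (g : T₁ ⟶ T₂), T₂ = ⊤ →
        (∀ p : PrimeSpectrum Γ(X, W), (p : (Spec Γ(X, W) : Type u)) ∉ T₁ →
          (2 : ℕ∞) ≤ LocCoh.depth (Localization.AtPrime p.asIdeal)
            (Localization.AtPrime p.asIdeal)) →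
        IsIso ((Spec Γ(X, W)).presheaf.map g.op) := by
      rintro T₂ T₁ g rfl hd
      have : g = homOfLE le_top := Subsingleton.elim _ _
      rw [this]
      exact isIso_res_of_depth Γ(X, W) T₁ hd le_top
    exact gen _ _ _ htop hd
  have h5 : IsIso (X.presheaf.map (homOfLE hle).op) := by
    have h4 : IsIso (X.presheaf.map (homOfLE hle).op ≫ hW.fromSpec.app W') := by
      rw [nat]; exact IsIso.comp_isIso' i1 i3
    exact IsIso.of_isIso_comp_right _ (hW.fromSpec.app W')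
  exact (ConcreteCategory.isIso_iff_bijective _).mp h5

section Glue
variable (X : Scheme.{u})

/-- restriction of sections -/
noncomputable abbrev r {V₁ V₂ : X.Opens} (h : V₁ ≤ V₂) : Γ(X, V₂) → Γ(X, V₁) :=
  fun s => X.presheaf.map (homOfLE h).op s

theorem r_r {V₁ V₂ V₃ : X.Opens} (h : V₁ ≤ V₂) (h' : V₂ ≤ V₃) (s : Γ(X, V₃)) :
    r X h (r X h' s) = r X (h.trans h') s := by
  unfold r
  rw [← ConcreteCategory.comp_apply, ← X.presheaf.map_comp]
  rfl

theorem le_iSup_affine (V : X.Opens) :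
    V ≤ ⨆ W : {W : X.Opens // IsAffineOpen W ∧ W ≤ V}, (W : X.Opens) := by
  intro x hx
  obtain ⟨_, ⟨W, hW, rfl⟩, hxW, hWV⟩ := X.isBasis_affineOpens.exists_subset_of_mem_open hx V.2
  exact Opens.mem_iSup.mpr ⟨⟨W, hW, hWV⟩, hxW⟩

theorem r_ext (V : X.Opens) (s t : Γ(X, V))
    (h : ∀ W : {W : X.Opens // IsAffineOpen W ∧ W ≤ V}, r X W.2.2 s = r X W.2.2 t) : s = t :=
  X.sheaf.eq_of_locally_eq' (fun W : {W : X.Opens // IsAffineOpen W ∧ W ≤ V} => (W : X.Opens)) V
    (fun W => homOfLE W.2.2) (le_iSup_affine X V) s t h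

variable (U : X.Opens)
  (haff : ∀ (W : X.Opens), IsAffineOpen W → Function.Bijective (r X (inf_le_left : W ⊓ U ≤ W)))

include haff in
theorem r_injective (V : X.Opens) : Function.Injective (r X (inf_le_left : V ⊓ U ≤ V)) := by
  intro s t hst
  apply r_ext X V
  rintro ⟨W, hW, hWV⟩
  apply (haff W hW).1
  rw [r_r, r_r]
  have h1 : W ⊓ U ≤ V ⊓ U := inf_le_inf_right U hWV
  rw [← r_r X h1 inf_le_left s, ← r_r X h1 inf_le_left t, hst]

include haff in
theorem r_surjective (V : X.Opens) : Function.Surjective (r X (inf_le_left : V ⊓ U ≤ V)) := by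
  intro t
  have hex : ∀ W : {W : X.Opens // IsAffineOpen W ∧ W ≤ V}, ∃ s : Γ(X, W.1),
      r X (inf_le_left : W.1 ⊓ U ≤ W.1) s = r X (inf_le_inf_right U W.2.2 : W.1 ⊓ U ≤ V ⊓ U) t :=
    fun W => (haff W.1 W.2.1).2 _
  choose sf hsf using hex
  have hc : TopCat.Presheaf.IsCompatible X.sheaf.1
      (fun W : {W : X.Opens // IsAffineOpen W ∧ W ≤ V} => (W : X.Opens)) sf := by
    intro W₁ W₂
    show r X (inf_le_left : W₁.1 ⊓ W₂.1 ≤ W₁.1) (sf W₁) = r X (inf_le_right : W₁.1 ⊓ W₂.1 ≤ W₂.1) (sf W₂)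
    apply r_injective X U haff (W₁.1 ⊓ W₂.1)
    rw [r_r, r_r]
    have e1 : W₁.1 ⊓ W₂.1 ⊓ U ≤ W₁.1 ⊓ U := inf_le_inf_right U inf_le_left
    have e2 : W₁.1 ⊓ W₂.1 ⊓ U ≤ W₂.1 ⊓ U := inf_le_inf_right U inf_le_right
    rw [← r_r X e1 inf_le_left (sf W₁), ← r_r X e2 inf_le_left (sf W₂), hsf, hsf, r_r, r_r]
  obtain ⟨s, hs, -⟩ := X.sheaf.existsUnique_gluing'
    (fun W : {W : X.Opens // IsAffineOpen W ∧ W ≤ V} => (W : X.Opens)) V
    (fun W => homOfLE W.2.2) (le_iSup_affine X V) sf hc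
  refine ⟨s, ?_⟩
  -- check on the cover `W ⊓ U` of `V ⊓ U`
  refine X.sheaf.eq_of_locally_eq'
    (fun W : {W : X.Opens // IsAffineOpen W ∧ W ≤ V} => (W : X.Opens) ⊓ U) (V ⊓ U)
    (fun W => homOfLE (inf_le_inf_right U W.2.2)) ?_ _ _ ?_
  · rintro x ⟨hxV, hxU⟩
    obtain ⟨W, hxW⟩ := Opens.mem_iSup.mp (le_iSup_affine X V hxV)
    exact Opens.mem_iSup.mpr ⟨W, hxW, hxU⟩
  · intro W
    show r X (inf_le_inf_right U W.2.2) (r X inf_le_left s) = r X (inf_le_inf_right U W.2.2) t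
    rw [← hsf W, r_r, ← hs W]
    show _ = r X inf_le_left (r X W.2.2 s)
    rw [r_r]

end Glue

/-- For affine `Y`, every ring map `Γ(Y, ⊤) ⟶ Γ(X, ⊤)` comes from a morphism `X ⟶ Y`. -/
theorem exists_hom_appTop_eq (X Y : Scheme.{u}) [IsAffine Y] (φ : Γ(Y, ⊤) ⟶ Γ(X, ⊤)) :
    ∃ g : X ⟶ Y, g.appTop = φ := by
  refine ⟨(ΓSpec.adjunction.homEquiv X (op Γ(Y, ⊤))) φ.op ≫ Y.isoSpec.inv, ?_⟩
  have h1 : Y.isoSpec.inv.appTop = (Scheme.ΓSpecIso Γ(Y, ⊤)).inv := by
    have h := congrArg Scheme.Hom.appTop (Scheme.isoSpec_inv_toSpecΓ Y)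
    rw [Scheme.Hom.comp_appTop, Scheme.toSpecΓ_appTop, Scheme.Hom.id_appTop] at h
    rw [← cancel_epi (Scheme.ΓSpecIso Γ(Y, ⊤)).hom, h, Iso.hom_inv_id]
  rw [Scheme.Hom.comp_appTop, h1, ΓSpec_adjunction_homEquiv_eq, Iso.inv_hom_id_assoc]

/-- If `Γ(X, ⊤) ⟶ Γ(U, ⊤)` is an isomorphism, morphisms from `U` to an affine scheme extend
uniquely to `X`. -/
theorem existsUnique_extension (X Y : Scheme.{u}) [IsAffine Y] (U : X.Opens)
    (hiso : IsIso U.ι.appTop) (f : (U : Scheme.{u}) ⟶ Y) : ∃! g : X ⟶ Y, U.ι ≫ g = f := by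
  obtain ⟨g, hg⟩ := exists_hom_appTop_eq X Y (f.appTop ≫ inv U.ι.appTop)
  refine ⟨g, ?_, ?_⟩
  · apply ext_of_isAffine
    rw [Scheme.Hom.comp_appTop, hg, Category.assoc, IsIso.inv_hom_id, Category.comp_id]
  · intro g' hg'
    apply ext_of_isAffine
    rw [hg]
    have h2 := congrArg Scheme.Hom.appTop hg'
    rw [Scheme.Hom.comp_appTop] at h2
    rw [← h2, Category.assoc, IsIso.hom_inv_id, Category.comp_id]

/-- Hartogs for locally Noetherian schemes: if `depth O_{X,x} ≥ 2` at all points outside `U`,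
restriction `Γ(X, V) → Γ(X, V ∩ U)` is bijective for every open `V`. -/
theorem bijective_res (X : Scheme.{u}) [IsLocallyNoetherian X] (U : X.Opens)
    (hU : ∀ x : ↥X, x ∉ U → (2 : ℕ∞) ≤ LocCoh.depth (X.presheaf.stalk x) (X.presheaf.stalk x))
    (V V' : X.Opens) (hV' : V' = V ⊓ U) (hle : V' ≤ V) :
    Function.Bijective (r X hle) := by
  subst hV'
  have haff : ∀ (W : X.Opens), IsAffineOpen W →
      Function.Bijective (r X (inf_le_left : W ⊓ U ≤ W)) :=
    fun W hW => bijective_res_affine X U hU W hW (W ⊓ U) rfl inf_le_left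
  exact ⟨r_injective X U haff V, r_surjective X U haff V⟩

theorem isIso_ι_appTop (X : Scheme.{u}) [IsLocallyNoetherian X] (U : X.Opens)
    (hU : ∀ x : ↥X, x ∉ U → (2 : ℕ∞) ≤ LocCoh.depth (X.presheaf.stalk x) (X.presheaf.stalk x)) :
    IsIso U.ι.appTop := by
  rw [Scheme.Opens.ι_appTop]
  have gen : ∀ (T : X.Opens) (h : T ≤ ⊤), T = U → IsIso (X.presheaf.map (homOfLE h).op) := by
    intro T h hT
    rw [ConcreteCategory.isIso_iff_bijective]
    exact bijective_res X U hU ⊤ T (by rw [top_inf_eq]; exact hT) h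
  exact gen _ _ U.ι_image_top

/-- S2848: morphisms to an affine scheme extend uniquely across a closed subset along which the
local rings have depth `≥ 2`. -/
theorem existsUnique_extension_of_depth (X Y : Scheme.{u}) [IsLocallyNoetherian X] [IsAffine Y]
    (U : X.Opens)
    (hU : ∀ x : ↥X, x ∉ U → (2 : ℕ∞) ≤ LocCoh.depth (X.presheaf.stalk x) (X.presheaf.stalk x))
    (f : (U : Scheme.{u}) ⟶ Y) : ∃! g : X ⟶ Y, U.ι ≫ g = f :=
  existsUnique_extension X Y U (isIso_ι_appTop X U hU) f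

end Groth.Agent.H6.Hartogs
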