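import Mathlib
import Groth.Agent.S10967
import Groth.Agent.H7.QuasiAffineDescent

/-!
# Quasi-affine morphisms as an affine-target-local property, and their fpqc descent

`Q f := (source of f is a quasi-affine scheme)` is a local affine target property; the associated
morphism property `targetAffineLocally Q` is "quasi-affine morphism". It is stable under base change
and descends along fpqc morphisms (using helper7's descent over an affine base).
-/

set_option autoImplicit false
set_option linter.unusedSectionVars false

namespace Groth.Agent.H6.QuasiAffineHom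

open AlgebraicGeometry CategoryTheory Limits TopologicalSpace MorphismProperty

universe u

/-- The affine target property: the source is a quasi-affine scheme. -/
def Q : AffineTargetMorphismProperty.{u} := fun X _ _ _ => X.IsQuasiAffine

theorem Q_iff {X Y : Scheme.{u}} (f : X ⟶ Y) [IsAffine Y] : Q f ↔ X.IsQuasiAffine := Iff.rfl

instance Q_isLocal : Q.IsLocal where
  respectsIso := by
    apply AffineTargetMorphismProperty.respectsIso_mk
    · intro X Y Z e f _ h
      have : Y.IsQuasiAffine := h
      exact Groth.Agent.H7.isQuasiAffine_of_iso e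
    · intro X Y Z e f _ h
      exact h
  to_basicOpen := by
    intro X Y _ f r h
    have hX : X.IsQuasiAffine := h
    have hc := Groth.Agent.H7.compactSpace_preimage_basicOpen f ⊤ (fun _ ↦ trivial) r
    exact Scheme.IsQuasiAffine.of_isImmersion (f ⁻¹ᵁ Y.basicOpen r).ι
  of_basicOpenCover := by
    intro X Y _ f s hs h
    refine Groth.Agent.S10967.result f (ι := s) (fun r => Y.basicOpen r.1) ?_ ?_ ?_
    · exact (isAffineOpen_top Y).iSup_basicOpen_eq_self_iff.mpr (by simpa using hs)
    · intro r
      exact (isAffineOpen_top Y).basicOpen r.1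
    · intro r
      exact h r

/-- The morphism property "quasi-affine". -/
def P : MorphismProperty Scheme.{u} := targetAffineLocally Q

instance : HasAffineProperty P Q := ⟨inferInstance, rfl⟩

theorem P_iff {X Y : Scheme.{u}} (f : X ⟶ Y) :
    P f ↔ QuasiCompact f ∧
      ∀ V : Y.Opens, IsAffineOpen V → Scheme.IsQuasiAffine (f ⁻¹ᵁ V : Scheme.{u}) := by
  constructor
  · intro h
    have h2 : ∀ V : Y.Opens, IsAffineOpen V → Scheme.IsQuasiAffine (f ⁻¹ᵁ V : Scheme.{u}) :=
      fun V hV => h ⟨V, hV⟩
    refine ⟨?_, h2⟩
    rw [quasiCompact_iff_forall_isAffineOpen]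
    intro V hV
    have := (h2 V hV).toCompactSpace
    exact isCompact_iff_compactSpace.mpr this
  · rintro ⟨-, h⟩ ⟨V, hV⟩
    exact h V hV

theorem Q_isStableUnderBaseChange : Q.IsStableUnderBaseChange := by
  intro Z X Y S _ _ f g f' g' h hg
  have hY : Y.IsQuasiAffine := hg
  have : IsAffineHom f := isAffineHom_of_isAffine f
  have : IsAffineHom f' := MorphismProperty.of_isPullback h ‹IsAffineHom f›
  exact Scheme.IsQuasiAffine.of_isAffineHom f'

instance P_isStableUnderBaseChange : P.IsStableUnderBaseChange :=
  HasAffineProperty.isStableUnderBaseChange Q_isStableUnderBaseChange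

/-- Quasi-affine morphisms descend along fpqc morphisms. -/
theorem P_descendsAlong :
    P.DescendsAlong (@Surjective ⊓ @Flat ⊓ @QuasiCompact : MorphismProperty Scheme.{u}) := by
  refine IsZariskiLocalAtTarget.descendsAlong_inf_quasiCompact _ _ ?_ ?_
  · rw [inf_comm]
    exact inf_le_inf le_rfl (IsLocalIso.le_of_isZariskiLocalAtSource _)
  · intro R S Y φ g hφ h
    rw [HasAffineProperty.iff_of_isAffine (P := P)] at h ⊢
    have hq : (pullback (Spec.map φ) g).IsQuasiAffine := h
    have hs : Surjective (Spec.map φ) := hφ.1
    have hf : Flat (Spec.map φ) := hφ.2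
    have : Surjective (pullback.snd (Spec.map φ) g) :=
      MorphismProperty.pullback_snd (P := @Surjective) _ _ hs
    have : CompactSpace Y :=
      (pullback.snd (Spec.map φ) g).surjective.compactSpace
        (pullback.snd (Spec.map φ) g).continuous
    exact Groth.Agent.H7.isQuasiAffine_of_isPullback_of_flat_surjective (Spec.map φ) g
      (pullback.snd _ _) (pullback.fst _ _) (IsPullback.of_hasPullback (Spec.map φ) g).flip

end Groth.Agent.H6.QuasiAffineHom
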