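import Mathlib
import Groth.Agent.H1.Descent

set_option autoImplicit false
set_option linter.unusedSectionVars false

namespace Groth.Agent.H6.ImmDescent

open AlgebraicGeometry CategoryTheory Limits TopologicalSpace MorphismProperty

universe u

variable {X Y : Scheme.{u}}

/-- The map to the scheme-theoretic image of a quasi-compact morphism is scheme-theoretically
dominant. -/
instance toImage_dominant (f : X ⟶ Y) [QuasiCompact f] :
    IsSchemeTheoreticallyDominant f.toImage := by
  rw [isSchemeTheoreticallyDominant_iff]
  refine Scheme.IdealSheafData.ext_of_iSup_eq_top (ι := Y.affineOpens)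
    (fun U => ⟨f.imageι ⁻¹ᵁ U.1, U.2.preimage f.imageι⟩) ?_ ?_
  · rw [eq_top_iff]
    intro x _
    have hx : f.imageι x ∈ (⨆ U : Y.affineOpens, U.1 : Y.Opens) := by
      rw [iSup_affineOpens_eq_top]; trivial
    obtain ⟨U, hU⟩ := Opens.mem_iSup.mp hx
    exact Opens.mem_iSup.mpr ⟨U, hU⟩
  · intro U
    rw [Scheme.Hom.ker_apply, Scheme.IdealSheafData.ideal_bot]
    exact (RingHom.injective_iff_ker_eq_bot _).mp (f.toImage_app_injective U)

/-- A quasi-compact scheme-theoretically dominant immersion is an open immersion. -/
theorem isOpenImmersion_of_dominant (f : X ⟶ Y) [IsImmersion f] [QuasiCompact f]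
    [IsSchemeTheoreticallyDominant f] : IsOpenImmersion f := by
  have : IsIso f.imageι := by
    delta Scheme.Hom.imageι Scheme.Hom.image
    rw [f.ker_eq_bot]
    infer_instance
  rw [← f.toImage_imageι]
  infer_instance

end Groth.Agent.H6.ImmDescent

namespace Groth.Agent.H6.ImmDescent

open AlgebraicGeometry CategoryTheory Limits TopologicalSpace MorphismProperty

universe u

/-- Quasi-compact immersions descend along fpqc morphisms. -/
theorem immersion_qc_descendsAlong :
    MorphismProperty.DescendsAlong (@IsImmersion ⊓ @QuasiCompact : MorphismProperty Scheme.{u})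
      (@Surjective ⊓ @Flat ⊓ @QuasiCompact : MorphismProperty Scheme.{u}) := by
  apply MorphismProperty.DescendsAlong.mk'
  intro X Y Z f g _ hf hg
  have hgi : IsImmersion (pullback.fst f g) := hg.1
  have hgq : QuasiCompact (pullback.fst f g) := hg.2
  have hflat : Flat f := hf.1.2
  have hqc : QuasiCompact g := by
    have := Groth.Agent.H1.quasiCompact_descendsAlong_fpqc.{u}
    exact of_pullback_fst_of_descendsAlong (P := @QuasiCompact)
      (Q := (@Surjective ⊓ @Flat ⊓ @QuasiCompact : MorphismProperty Scheme.{u})) (f := f) hf hgq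
  let h' : pullback f g ⟶ pullback f g.imageι :=
    pullback.lift (pullback.fst f g) (pullback.snd f g ≫ g.toImage)
      (by rw [Category.assoc, g.toImage_imageι, pullback.condition])
  have h'fst : h' ≫ pullback.fst f g.imageι = pullback.fst f g := pullback.lift_fst _ _ _
  have h'snd : h' ≫ pullback.snd f g.imageι = pullback.snd f g ≫ g.toImage :=
    pullback.lift_snd _ _ _
  have top : IsPullback (pullback.snd f g) h' g.toImage (pullback.snd f g.imageι) := by
    refine IsPullback.of_bot ?_ h'snd.symm (IsPullback.of_hasPullback f g.imageι).flip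
    rw [h'fst, g.toImage_imageι]
    exact (IsPullback.of_hasPullback f g).flip
  have hQ : (@Surjective ⊓ @Flat ⊓ @QuasiCompact : MorphismProperty Scheme.{u})
      (pullback.snd f g.imageι) := MorphismProperty.pullback_snd _ _ hf
  have hflat' : Flat (pullback.snd f g.imageι) := hQ.1.2
  have : IsImmersion (h' ≫ pullback.fst f g.imageι) := by rw [h'fst]; exact hgi
  have hi' : IsImmersion h' := IsImmersion.of_comp h' (pullback.fst f g.imageι)
  have : QuasiCompact (h' ≫ pullback.fst f g.imageι) := by rw [h'fst]; exact hgq
  have hq' : QuasiCompact h' := QuasiCompact.of_comp h' (pullback.fst f g.imageι)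
  have hd' : IsSchemeTheoreticallyDominant h' := IsSchemeTheoreticallyDominant.of_isPullback top
  have ho' : IsOpenImmersion h' := isOpenImmersion_of_dominant h'
  have ho : IsOpenImmersion g.toImage :=
    of_isPullback_of_descendsAlong (P := @IsOpenImmersion)
      (Q := (@Surjective ⊓ @Flat ⊓ @QuasiCompact : MorphismProperty Scheme.{u})) top.flip hQ ho'
  refine ⟨?_, hqc⟩
  rw [← g.toImage_imageι]
  infer_instance

end Groth.Agent.H6.ImmDescent
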