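import Groth.Agent.H6.HomSh
import Groth.Agent.H18.QCohCriterion
import Groth.Agent.H44.FiniteSections
import Groth.Agent.H71.QCoh.PushFT
import Groth.Agent.H67.StalkLoc

/-!
# Quasi-coherence and coherence of the sheaf Hom (helper6)

* `isQuasicoherent_homSh`: `homSh F G` is quasi-coherent if `F`, `G` are and the sections of `F`
  over affine opens are finitely presented.
* `isCoh_homSh`: `homSh F G` is coherent for `F`, `G` coherent on a locally Noetherian scheme.
-/

set_option autoImplicit false
set_option linter.style.haveILetI false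
universe u

namespace Groth.Agent.H6.HomSh

open AlgebraicGeometry CategoryTheory Opposite TopologicalSpace
open Groth.Agent.H8

variable {X : Scheme.{u}} {F G : X.Modules}

section Loc

variable {U : X.Opens} (hU : IsAffineOpen U) [F.IsQuasicoherent] [G.IsQuasicoherent]
include hU

/-- a section of the sheaf Hom over `U` vanishing on `D(r)` is killed by a power of `r` -/
theorem exists_pow_smul_eq_zero [Module.Finite Γ(X, U) Γ(F, U)] (r : Γ(X, U))
    (g : Γ(RefHull.homSh F G, U))
    (hg : (RefHull.homSh F G).presheaf.map (homOfLE (X.basicOpen_le r)).op g = 0) :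
    ∃ n : ℕ, r ^ n • g = 0 := by
  have h1 : ∀ m : Γ(F, U), ∃ n : ℕ, r ^ n • toLin g m = 0 := by
    intro m
    apply exists_pow_smul_eq_zero_of_res_basicOpen_eq_zero G hU r
    rw [← toLin_res, hg]
    apply section_ext G
    intro y
    rw [germ_toLin, map_zero]
    rfl
  choose n hn using h1
  obtain ⟨S, hS⟩ := (inferInstance : Module.Finite Γ(X, U) Γ(F, U)).fg_top
  refine ⟨S.sup n, ?_⟩
  apply eq_zero_of_toLin_eq_zero hU
  rw [toLin_smul]
  apply LinearMap.ext
  intro m
  have hm : m ∈ Submodule.span Γ(X, U) (S : Set Γ(F, U)) := by rw [hS]; trivial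
  induction hm using Submodule.span_induction with
  | mem x hx =>
    rw [LinearMap.smul_apply, LinearMap.zero_apply]
    have hle : n x ≤ S.sup n := Finset.le_sup hx
    obtain ⟨k, hk⟩ := Nat.exists_eq_add_of_le hle
    rw [hk, pow_add, mul_comm, mul_smul, hn x, smul_zero]
  | zero => rw [map_zero, map_zero]
  | add x y _ _ hx hy => rw [map_add, hx, hy]; simp
  | smul a x _ hx => rw [map_smul, hx]; simp


/-- a section of the sheaf Hom over `D(r)` times a power of `r` extends to `U` -/
theorem exists_pow_smul_eq_res [Module.FinitePresentation Γ(X, U) Γ(F, U)] (r : Γ(X, U))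
    (g : Γ(RefHull.homSh F G, X.basicOpen r)) :
    ∃ (n : ℕ) (h : Γ(RefHull.homSh F G, U)),
      (X.presheaf.map (homOfLE (X.basicOpen_le r)).op r) ^ n • g =
        (RefHull.homSh F G).presheaf.map (homOfLE (X.basicOpen_le r)).op h := by
  letI := Groth.Agent.H44.basicOpenModule G r
  haveI := Groth.Agent.H44.isLocalizedModule_resBasicOpen G r hU
  let ψ' : Γ(F, U) →ₗ[Γ(X, U)] Γ(G, X.basicOpen r) :=
    { toFun := fun m => toLin g (F.presheaf.map (homOfLE (X.basicOpen_le r)).op m)
      map_add' := fun m m' => by rw [map_add, map_add]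
      map_smul' := fun a m => by
        rw [Scheme.Modules.map_smul F (homOfLE (X.basicOpen_le r)) a m, map_smul]
        rfl }
  obtain ⟨h, s, hs⟩ := Module.FinitePresentation.exists_lift_of_isLocalizedModule
    (Submonoid.powers r) (Groth.Agent.H44.resBasicOpen G r) ψ'
  obtain ⟨_, n, rfl⟩ := s
  refine ⟨n, ofLin hU h, ?_⟩
  apply Subtype.ext
  funext y
  have hyU : y.1 ∈ U := X.basicOpen_le r y.2
  apply stalkHom_ext hU hyU
  intro m
  have e1 : ((RefHull.homSh F G).presheaf.map (homOfLE (X.basicOpen_le r)).op (ofLin hU h)).1 y =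
      fam hU h ⟨y.1, hyU⟩ := rfl
  rw [e1, fam_germ]
  have e2 : ((X.presheaf.map (homOfLE (X.basicOpen_le r)).op r) ^ n • g).1 y =
      X.presheaf.germ (X.basicOpen r) y.1 y.2 ((X.presheaf.map (homOfLE (X.basicOpen_le r)).op r) ^ n)
        • g.1 y := rfl
  rw [e2, LinearMap.smul_apply]
  have e3 : G.presheaf.map (homOfLE (X.basicOpen_le r)).op (h m) =
      (X.presheaf.map (homOfLE (X.basicOpen_le r)).op r) ^ n • ψ' m := by
    have := LinearMap.congr_fun hs m
    rw [LinearMap.comp_apply, LinearMap.smul_apply] at this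
    rw [← map_pow]
    exact this
  rw [← TopCat.Presheaf.germ_res_apply G.presheaf (homOfLE (X.basicOpen_le r)) y.1 y.2 (h m), e3,
    Mero.germ_smul]
  congr 1
  change _ = G.presheaf.germ (X.basicOpen r) y.1 y.2
    (toLin g (F.presheaf.map (homOfLE (X.basicOpen_le r)).op m))
  rw [germ_toLin, TopCat.Presheaf.germ_res_apply]

end Loc


/-- The sheaf Hom of quasi-coherent modules is quasi-coherent when the source has finitely presented
sections over affine opens. -/
theorem isQuasicoherent_homSh (F G : X.Modules) [F.IsQuasicoherent] [G.IsQuasicoherent]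
    (hfp : ∀ U : X.Opens, IsAffineOpen U → Module.FinitePresentation Γ(X, U) Γ(F, U)) :
    (RefHull.homSh F G).IsQuasicoherent := by
  refine Groth.Agent.H18.isQuasicoherent_of_localizes (RefHull.homSh F G)
    (fun U : X.affineOpens => (U : X.Opens)) ?_ (fun U => U.2) ?_ ?_
  · exact iSup_affineOpens_eq_top X
  · intro U r y
    haveI := hfp U.1 U.2
    exact exists_pow_smul_eq_res U.2 r y
  · intro U r x hx
    haveI := hfp U.1 U.2
    exact exists_pow_smul_eq_zero U.2 r x hx


/-- finitely presented sections over affine opens for coherent modules on locally Noetherian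
schemes -/
theorem finitePresentation_sections [IsLocallyNoetherian X] (F : X.Modules) (hF : Coh.IsCoh F)
    (U : X.Opens) (hU : IsAffineOpen U) : Module.FinitePresentation Γ(X, U) Γ(F, U) := by
  haveI : F.IsQuasicoherent := hF.1
  haveI : SheafOfModules.IsFiniteType (R := X.ringCatSheaf) F := hF.2
  haveI : IsNoetherianRing Γ(X, U) := IsLocallyNoetherian.component_noetherian ⟨U, hU⟩
  haveI : Module.Finite Γ(X, U) Γ(F, U) := Groth.Agent.H44.finite_sections_of_isFiniteType F hU
  exact Module.finitePresentation_of_finite _ _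

/-- The sheaf Hom of coherent modules on a locally Noetherian scheme is coherent. -/
theorem isCoh_homSh [IsLocallyNoetherian X] (F G : X.Modules) (hF : Coh.IsCoh F)
    (hG : Coh.IsCoh G) : Coh.IsCoh (RefHull.homSh F G) := by
  haveI : F.IsQuasicoherent := hF.1
  haveI : G.IsQuasicoherent := hG.1
  haveI : SheafOfModules.IsFiniteType (R := X.ringCatSheaf) F := hF.2
  haveI : SheafOfModules.IsFiniteType (R := X.ringCatSheaf) G := hG.2
  haveI hq : (RefHull.homSh F G).IsQuasicoherent :=
    isQuasicoherent_homSh F G (finitePresentation_sections F hF)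
  refine ⟨hq, ?_⟩
  refine Groth.Agent.H71.QCoh.isFiniteType_of_finite_sections_cover (RefHull.homSh F G)
    (fun U : X.affineOpens => (U : X.Opens)) (iSup_affineOpens_eq_top X) (fun U => U.2) ?_
  intro U
  haveI : IsNoetherianRing Γ(X, U.1) := IsLocallyNoetherian.component_noetherian U
  haveI : Module.Finite Γ(X, U.1) Γ(F, U.1) :=
    Groth.Agent.H44.finite_sections_of_isFiniteType F U.2
  haveI : Module.Finite Γ(X, U.1) Γ(G, U.1) :=
    Groth.Agent.H44.finite_sections_of_isFiniteType G U.2
  haveI : IsNoetherian Γ(X, U.1) Γ(G, U.1) := isNoetherian_of_isNoetherianRing_of_finite _ _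
  exact Module.Finite.equiv (secEquiv U.2).symm

/-- the structure module is quasi-coherent of finite type -/
theorem isCoh_structureModule (X : Scheme.{u}) : Coh.IsCoh (Coh.structureModule X) := by
  haveI := Groth.Agent.H67.StalkLoc.isQuasicoherent_structureModule X
  refine ⟨inferInstance, ?_⟩
  exact Groth.Agent.H71.QCoh.isFiniteType_of_finite_sections_cover (Coh.structureModule X)
    (fun U : X.affineOpens => (U : X.Opens)) (iSup_affineOpens_eq_top X) (fun U => U.2)
    (fun U => Groth.Agent.H67.StalkLoc.finite_structureModule U.1)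

/-- the dual of a coherent module on a locally Noetherian scheme is coherent -/
theorem isCoh_dual [IsLocallyNoetherian X] (F : X.Modules) (hF : Coh.IsCoh F) :
    Coh.IsCoh (RefHull.dual F) :=
  isCoh_homSh F _ hF (isCoh_structureModule X)

/-- the bidual of a coherent module on a locally Noetherian scheme is coherent -/
theorem isCoh_ddual [IsLocallyNoetherian X] (F : X.Modules) (hF : Coh.IsCoh F) :
    Coh.IsCoh (RefHull.ddual F) :=
  isCoh_dual _ (isCoh_dual F hF)

end Groth.Agent.H6.HomSh
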