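import Groth.Agent.H6.Ref1Ord
import Groth.Agent.H5.Stalk.Tensor
import Groth.Agent.H71.QCoh.TensorQCoh
import Groth.Agent.H67.ParaExt2

/-!
# The reflexive tensor product of rank one reflexive modules (helper6)
-/

set_option autoImplicit false
set_option linter.style.haveILetI false
universe u

namespace Groth.Agent.H6.Ref1

open AlgebraicGeometry CategoryTheory CategoryTheory.Limits Opposite TopologicalSpace
open Groth.Agent.H8 TensorProduct
open Groth.Agent.H5.Stalk.Tensor (b)

variable {X : Scheme.{u}}

/-- the tensor of free generators of two stalks is a free generator of the stalk of the tensor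
product -/
theorem bijective_smul_b (x : X) (F G : X.Modules) (u : F.presheaf.stalk x)
    (v : G.presheaf.stalk x)
    (hu : Function.Bijective (fun r : X.presheaf.stalk x => r • u))
    (hv : Function.Bijective (fun r : X.presheaf.stalk x => r • v)) :
    Function.Bijective (fun r : X.presheaf.stalk x => r • b x F G u v) := by
  let eF : X.presheaf.stalk x ≃ₗ[X.presheaf.stalk x] F.presheaf.stalk x :=
    LinearEquiv.ofBijective (LinearMap.toSpanSingleton (X.presheaf.stalk x) _ u) hu
  let eG : X.presheaf.stalk x ≃ₗ[X.presheaf.stalk x] G.presheaf.stalk x :=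
    LinearEquiv.ofBijective (LinearMap.toSpanSingleton (X.presheaf.stalk x) _ v) hv
  let e1 : X.presheaf.stalk x ≃ₗ[X.presheaf.stalk x]
      (F.presheaf.stalk x ⊗[X.presheaf.stalk x] G.presheaf.stalk x) :=
    (TensorProduct.lid (X.presheaf.stalk x) (X.presheaf.stalk x)).symm ≪≫ₗ
      TensorProduct.congr eF eG
  let e2 := (Groth.Agent.H5.Stalk.Tensor.stalkTensorIso x F G).symm.toLinearEquiv
  have h : (fun r : X.presheaf.stalk x => r • b x F G u v) = (e1 ≪≫ₗ e2 : _ → _) := by
    funext r
    change _ = e2 (e1 r)
    have h1 : e1 r = r • (u ⊗ₜ[X.presheaf.stalk x] v) := by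
      change TensorProduct.congr eF eG ((TensorProduct.lid _ _).symm r) = _
      rw [TensorProduct.lid_symm_apply, TensorProduct.congr_tmul]
      change (LinearMap.toSpanSingleton _ _ u 1) ⊗ₜ (LinearMap.toSpanSingleton _ _ v r) = _
      rw [LinearMap.toSpanSingleton_apply, LinearMap.toSpanSingleton_apply, one_smul,
        TensorProduct.tmul_smul]
    rw [h1]
    exact ((e2.map_smul r (u ⊗ₜ[X.presheaf.stalk x] v)).trans rfl).symm
  rw [h]
  exact (e1 ≪≫ₗ e2).bijective

/-- compatibility of the stalk pairing with specialization -/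
theorem stalkSpecializes_b {x y : X} (h : y ⤳ x) (F G : X.Modules) (u : F.presheaf.stalk x)
    (v : G.presheaf.stalk x) :
    ((CohB1.tensorMod F G).presheaf.stalkSpecializes h).hom (b x F G u v) =
      b y F G ((F.presheaf.stalkSpecializes h).hom u) ((G.presheaf.stalkSpecializes h).hom v) := by
  obtain ⟨U, hx, s, t, rfl, rfl⟩ := Groth.Agent.H5.Stalk.Tensor.exists_reps x F G u v
  rw [Groth.Agent.H5.Stalk.Tensor.b_germ, TopCat.Presheaf.germ_stalkSpecializes_apply,
    TopCat.Presheaf.germ_stalkSpecializes_apply, Groth.Agent.H5.Stalk.Tensor.b_germ]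
  unfold Groth.Agent.H5.Stalk.Tensor.tg
  rw [TopCat.Presheaf.germ_stalkSpecializes_apply]

/-- a coherent module whose generic stalk is free of rank one is invertible on a dense open -/
theorem genInvertible_of_gen_genericPoint [IsIntegral X] [IsLocallyNoetherian X] (E : X.Modules)
    (hE : Coh.IsCoh E) (q : E.presheaf.stalk (genericPoint X))
    (hq : Function.Bijective (fun a : X.presheaf.stalk (genericPoint X) => a • q)) :
    RefHull.GenInvertible E := by
  haveI : E.IsQuasicoherent := hE.1
  obtain ⟨V, hV, hηV, -⟩ := exists_isAffineOpen_mem_and_subset (x := genericPoint X) (U := ⊤)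
    trivial
  haveI : Module.FinitePresentation Γ(X, V) Γ(E, V) := HomSh.finitePresentation_sections E hE V hV
  let e : X.presheaf.stalk (genericPoint X) ≃ₗ[X.presheaf.stalk (genericPoint X)]
      E.presheaf.stalk (genericPoint X) :=
    LinearEquiv.ofBijective (LinearMap.toSpanSingleton _ _ q) hq
  obtain ⟨U, hηU, ⟨i⟩⟩ := RefOneInvertible.exists_nhds_iso_structureModule E hV hηV ⟨e⟩
  refine ⟨U, ?_, ?_⟩
  · exact U.2.dense ⟨genericPoint X, hηU⟩
  · exact Groth.Agent.H67.ParaExt.isInvertible_of_iso i.symm
      Groth.Agent.H67.ParaExt.isInvertible_structureModule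

variable [IsIntegral X] [IsLocallyNoetherian X]

omit [IsIntegral X] [IsLocallyNoetherian X] in
theorem isCoh_tensorMod (F G : X.Modules) (hF : Coh.IsCoh F) (hG : Coh.IsCoh G) :
    Coh.IsCoh (CohB1.tensorMod F G) := by
  haveI : F.IsQuasicoherent := hF.1
  haveI : G.IsQuasicoherent := hG.1
  haveI : SheafOfModules.IsFiniteType (R := X.ringCatSheaf) F := hF.2
  haveI : SheafOfModules.IsFiniteType (R := X.ringCatSheaf) G := hG.2
  exact ⟨inferInstance, inferInstance⟩

/-- a coherent module with reflexive stalks and free generic stalk of rank one is a rank one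
reflexive module -/
theorem isRef1_of_stalks (E : X.Modules) (hE : Coh.IsCoh E)
    (hrefl : ∀ x : X, Module.IsReflexive (X.presheaf.stalk x) (E.presheaf.stalk x))
    (q : E.presheaf.stalk (genericPoint X))
    (hq : Function.Bijective (fun a : X.presheaf.stalk (genericPoint X) => a • q)) :
    RefHull.IsRef1 E :=
  ⟨hE, (HomSh.isReflexive_iff_forall_isReflexiveAt E hE).mpr hrefl,
    genInvertible_of_gen_genericPoint E hE q hq⟩

/-- injectivity of `r ↦ r • m` on the generic stalk, for `m ≠ 0` -/
theorem injective_smul_genericPoint (E : X.Modules) (m : E.presheaf.stalk (genericPoint X))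
    (hm : m ≠ 0) :
    Function.Injective (fun r : X.presheaf.stalk (genericPoint X) => r • m) := by
  letI : Field (X.presheaf.stalk (genericPoint X)) := inferInstanceAs (Field X.functionField)
  intro r r' hrr'
  by_contra hne
  have h1 : (r - r') • m = 0 := by
    rw [sub_smul]
    exact sub_eq_zero.mpr hrr'
  have h2 : r - r' ≠ 0 := sub_ne_zero.mpr hne
  apply hm
  have h3 : (r - r')⁻¹ • ((r - r') • m) = m := by
    rw [← mul_smul, inv_mul_cancel₀ h2, one_smul]
  rw [← h3, h1, smul_zero]

/-- a generator at a codimension one point computes orders of rational sections -/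
theorem secOrdAt_eq_of_gen (E : X.Modules) [E.IsQuasicoherent]
    (htf : ∀ x : X, Module.IsTorsionFree (X.presheaf.stalk x) (E.presheaf.stalk x))
    (x : X) (hx : Order.coheight x = 1) (q : E.presheaf.stalk x)
    (hq : Function.Bijective (fun r : X.presheaf.stalk x => r • q))
    (c : X.presheaf.stalk (genericPoint X)) (hc : c ≠ 0)
    (w : E.presheaf.stalk (genericPoint X))
    (hw : w = c • (E.presheaf.stalkSpecializes (genericPoint_specializes x)).hom q) :
    Cyc.secOrdAt E (genericPoint X) x (genericPoint_specializes x) (Submodule.Quotient.mk w) =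
      Scheme.ord (c : X.functionField) x := by
  have hsp := genericPoint_specializes x
  have hq0 : q ≠ 0 := by
    rintro rfl
    have h1 : (fun r : X.presheaf.stalk x => r • (0 : E.presheaf.stalk x)) 1 =
        (fun r : X.presheaf.stalk x => r • (0 : E.presheaf.stalk x)) 0 := by
      simp only [smul_zero]
    exact one_ne_zero (hq.1 h1)
  have hspq : (E.presheaf.stalkSpecializes hsp).hom q ≠ 0 := by
    intro h0
    apply hq0
    apply RefGenericExt.injective_stalkSpecializes_genericPoint E htf x hsp
    rw [h0, map_zero]
  exact Groth.Agent.H54.OrdAtOrd.secOrdAt_eq_ord E x hx hsp q hq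
    (injective_smul_genericPoint E _ hspq) c hc _ (by rw [hw])

/-- the rational section `s ⊗ t` of the reflexive tensor product and its orders -/
theorem refTensor_data (hX : Pi1.IsNormalScheme X) (F G : X.Modules) (hF : RefHull.IsRef1 F)
    (hG : RefHull.IsRef1 G) (s' : F.presheaf.stalk (genericPoint X)) (hs' : s' ≠ 0)
    (t' : G.presheaf.stalk (genericPoint X)) (ht' : t' ≠ 0) :
    Function.Bijective (fun a : X.presheaf.stalk (genericPoint X) =>
      a • RefHull.stalkMapₗ (RefHull.bidualMap (CohB1.tensorMod F G)) (genericPoint X)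
        (b (genericPoint X) F G s' t')) ∧
    ∀ x : X, Order.coheight x = 1 →
      Cyc.secOrdAt (RefHull.ddual (CohB1.tensorMod F G)) (genericPoint X) x
          (genericPoint_specializes x)
          (Submodule.Quotient.mk (RefHull.stalkMapₗ (RefHull.bidualMap (CohB1.tensorMod F G))
            (genericPoint X) (b (genericPoint X) F G s' t'))) =
        Cyc.secOrdAt F (genericPoint X) x (genericPoint_specializes x)
            (Submodule.Quotient.mk s') +
          Cyc.secOrdAt G (genericPoint X) x (genericPoint_specializes x)
            (Submodule.Quotient.mk t') := by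
  letI : Field (X.presheaf.stalk (genericPoint X)) := inferInstanceAs (Field X.functionField)
  set P := CohB1.tensorMod F G with hPdef
  have hP : Coh.IsCoh P := isCoh_tensorMod F G hF.1 hG.1
  have hE : Coh.IsCoh (RefHull.ddual P) := HomSh.isCoh_ddual P hP
  haveI : (RefHull.ddual P).IsQuasicoherent := hE.1
  have hErefl := ReflNormal.isReflexive_stalk_ddual X P hP
  have hEtf : ∀ x : X, Module.IsTorsionFree (X.presheaf.stalk x)
      ((RefHull.ddual P).presheaf.stalk x) := by
    intro x
    haveI := hErefl x
    infer_instance
  have hβη := RefGenericExt.bijective_stalkMapₗ_bidualMap_genericPoint X P hP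
  constructor
  · have h1 := bijective_smul_b (genericPoint X) F G s' t'
      (bijective_smul_of_ne_zero F hF s' hs') (bijective_smul_of_ne_zero G hG t' ht')
    have h2 : (fun a : X.presheaf.stalk (genericPoint X) =>
        a • RefHull.stalkMapₗ (RefHull.bidualMap P) (genericPoint X)
          (b (genericPoint X) F G s' t')) =
        RefHull.stalkMapₗ (RefHull.bidualMap P) (genericPoint X) ∘
          (fun a : X.presheaf.stalk (genericPoint X) => a • b (genericPoint X) F G s' t') := by
      funext a
      rw [Function.comp_apply, map_smul]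
    rw [h2]
    exact hβη.comp h1
  · intro x hx
    have hsp := genericPoint_specializes x
    obtain ⟨u, a, hub, ha, hsa, hordF⟩ := exists_ord_data hX F hF s' hs' x hx
    obtain ⟨v, c, hvb, hc, htc, hordG⟩ := exists_ord_data hX G hG t' ht' x hx
    rw [hordF, hordG]
    have hpb := bijective_smul_b x F G u v hub hvb
    -- the stalk of `P` at `x` is free, hence reflexive
    have hβx : Function.Bijective (RefHull.stalkMapₗ (RefHull.bidualMap P) x) := by
      rw [HomSh.bijective_stalk_bidualMap_iff P hP x]
      unfold RefHull.IsReflexiveAt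
      let e : X.presheaf.stalk x ≃ₗ[X.presheaf.stalk x] P.presheaf.stalk x :=
        LinearEquiv.ofBijective (LinearMap.toSpanSingleton _ _ (b x F G u v)) hpb
      exact Module.equiv e
    set q := RefHull.stalkMapₗ (RefHull.bidualMap P) x (b x F G u v) with hq
    have hqb : Function.Bijective (fun r : X.presheaf.stalk x => r • q) := by
      have h2 : (fun r : X.presheaf.stalk x => r • q) =
          RefHull.stalkMapₗ (RefHull.bidualMap P) x ∘
            (fun r : X.presheaf.stalk x => r • b x F G u v) := by
        funext r
        rw [Function.comp_apply, map_smul]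
      rw [h2]
      exact hβx.comp hpb
    have hw : RefHull.stalkMapₗ (RefHull.bidualMap P) (genericPoint X)
        (b (genericPoint X) F G s' t') =
        (a * c) • ((RefHull.ddual P).presheaf.stalkSpecializes hsp).hom q := by
      rw [hq, RefGenericExt.stalkSpecializes_stalkMapₗ, stalkSpecializes_b, hsa, htc,
        Groth.Agent.H5.Stalk.Tensor.b_smul_left, Groth.Agent.H5.Stalk.Tensor.b_smul_right,
        ← mul_smul, map_smul]
    rw [secOrdAt_eq_of_gen (RefHull.ddual P) hEtf x hx q hqb (a * c) (mul_ne_zero ha hc) _ hw]
    exact Scheme.ord_mul ha hc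

/-- the reflexive tensor product of rank one reflexive modules is a rank one reflexive module -/
theorem isRef1_refTensor (hX : Pi1.IsNormalScheme X) (F G : X.Modules) (hF : RefHull.IsRef1 F)
    (hG : RefHull.IsRef1 G) : RefHull.IsRef1 (RefHull.ddual (CohB1.tensorMod F G)) := by
  obtain ⟨s', hs'⟩ := exists_gen_genericPoint F hF
  obtain ⟨t', ht'⟩ := exists_gen_genericPoint G hG
  have hs0 : s' ≠ 0 := by
    rintro rfl
    have h1 : (fun r : X.presheaf.stalk (genericPoint X) =>
        r • (0 : F.presheaf.stalk (genericPoint X))) 1 =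
        (fun r : X.presheaf.stalk (genericPoint X) =>
          r • (0 : F.presheaf.stalk (genericPoint X))) 0 := by
      simp only [smul_zero]
    exact one_ne_zero (hs'.1 h1)
  have ht0 : t' ≠ 0 := by
    rintro rfl
    have h1 : (fun r : X.presheaf.stalk (genericPoint X) =>
        r • (0 : G.presheaf.stalk (genericPoint X))) 1 =
        (fun r : X.presheaf.stalk (genericPoint X) =>
          r • (0 : G.presheaf.stalk (genericPoint X))) 0 := by
      simp only [smul_zero]
    exact one_ne_zero (ht'.1 h1)
  have hP : Coh.IsCoh (CohB1.tensorMod F G) := isCoh_tensorMod F G hF.1 hG.1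
  exact isRef1_of_stalks _ (HomSh.isCoh_ddual _ hP) (ReflNormal.isReflexive_stalk_ddual X _ hP) _
    (refTensor_data hX F G hF hG s' hs0 t' ht0).1

end Groth.Agent.H6.Ref1
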