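import Mathlib.RingTheory.Ideal.AssociatedPrime.Finiteness
import Mathlib.RingTheory.Localization.AtPrime.Basic
import Mathlib.RingTheory.Localization.Ideal
import Mathlib.RingTheory.Ideal.Operations

/-!
# Localizing at the non-zero-divisors of a module that is finite over a Noetherian quotient

`S → F` a surjection of commutative rings with `F` Noetherian, `M` a finite `F`-module regarded as an
`S`-module.  The associated primes of `M` over `S` are the preimages of those over `F`; the zero
divisors on `M` are the union of these finitely many primes; the localization of `S` at the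
non-zero-divisors on `M` is semilocal with maximal ideals the maximal associated primes.
-/

set_option autoImplicit false
universe u v w

namespace Groth.Agent.H6.NzdLoc

section Ass

variable {S : Type u} {F : Type v} {M : Type w} [CommRing S] [CommRing F] [Algebra S F]
  [AddCommGroup M] [Module S M] [Module F M] [IsScalarTower S F M]

theorem colon_bot_eq_comap (x : M) :
    Submodule.colon (⊥ : Submodule S M) {x} =
      Ideal.comap (algebraMap S F) (Submodule.colon (⊥ : Submodule F M) {x}) := by
  ext s
  simp only [Submodule.mem_colon_singleton, Submodule.mem_bot, Ideal.mem_comap, algebraMap_smul]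

theorem isAssociatedPrime_comap {P : Ideal F} (h : IsAssociatedPrime P M) :
    IsAssociatedPrime (P.comap (algebraMap S F)) M := by
  obtain ⟨x, hx⟩ := h.2
  have hP : P.IsPrime := h.1
  refine ⟨Ideal.comap_isPrime _ _, x, ?_⟩
  rw [colon_bot_eq_comap (F := F), ← Ideal.comap_radical, ← hx]

theorem exists_of_isAssociatedPrime (hφ : Function.Surjective (algebraMap S F)) {q : Ideal S}
    (h : IsAssociatedPrime q M) :
    ∃ P : Ideal F, IsAssociatedPrime P M ∧ P.comap (algebraMap S F) = q := by
  obtain ⟨x, hx⟩ := h.2
  have hq : q.IsPrime := h.1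
  have hq' : q = Ideal.comap (algebraMap S F)
      (Submodule.colon (⊥ : Submodule F M) {x}).radical := by
    rw [Ideal.comap_radical, ← colon_bot_eq_comap]; exact hx
  refine ⟨(Submodule.colon (⊥ : Submodule F M) {x}).radical, ⟨?_, x, rfl⟩, hq'.symm⟩
  have hker : RingHom.ker (algebraMap S F) ≤ q := by
    rw [hq']
    intro s hs
    rw [Ideal.mem_comap, (RingHom.mem_ker).mp hs]
    exact Ideal.zero_mem _
  have := Ideal.map_isPrime_of_surjective hφ hker
  rwa [hq', Ideal.map_comap_of_surjective _ hφ] at this

theorem associatedPrimes_eq_image (hφ : Function.Surjective (algebraMap S F)) :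
    associatedPrimes S M = Ideal.comap (algebraMap S F) '' associatedPrimes F M := by
  ext q
  constructor
  · intro h
    obtain ⟨P, hP, rfl⟩ := exists_of_isAssociatedPrime hφ h
    exact ⟨P, hP, rfl⟩
  · rintro ⟨P, hP, rfl⟩
    exact isAssociatedPrime_comap hP

theorem finite_associatedPrimes (hφ : Function.Surjective (algebraMap S F)) [IsNoetherianRing F]
    [Module.Finite F M] : (associatedPrimes S M).Finite := by
  rw [associatedPrimes_eq_image hφ]
  exact (associatedPrimes.finite F M).image _

theorem biUnion_associatedPrimes_eq_zero_divisors (hφ : Function.Surjective (algebraMap S F))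
    [IsNoetherianRing F] :
    ⋃ p ∈ associatedPrimes S M, (p : Set S) = {s : S | ∃ x : M, x ≠ 0 ∧ s • x = 0} := by
  have h := _root_.biUnion_associatedPrimes_eq_zero_divisors F M
  ext s
  have hs : algebraMap S F s ∈ (⋃ p ∈ associatedPrimes F M, (p : Set F)) ↔
      ∃ x : M, x ≠ 0 ∧ s • x = 0 := by
    rw [h]
    simp only [Set.mem_ofPred_eq, algebraMap_smul]
  rw [Set.mem_ofPred_eq, ← hs, associatedPrimes_eq_image hφ]
  simp only [Set.mem_iUnion, SetLike.mem_coe, Set.mem_image, exists_prop]
  constructor
  · rintro ⟨p, ⟨P, hP, rfl⟩, hsp⟩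
    exact ⟨P, hP, hsp⟩
  · rintro ⟨P, hP, hsp⟩
    exact ⟨_, ⟨P, hP, rfl⟩, hsp⟩

end Ass

section Loc

variable {S : Type u} {F : Type v} {M : Type w} [CommRing S] [CommRing F] [Algebra S F]
  [AddCommGroup M] [Module S M] [Module F M] [IsScalarTower S F M]

/-- a prime misses the non-zero-divisors on `M` iff it lies in an associated prime -/
theorem disjoint_nonZeroSMulDivisors_iff (hφ : Function.Surjective (algebraMap S F))
    [IsNoetherianRing F] [Module.Finite F M] (q : Ideal S) [q.IsPrime] :
    Disjoint (q : Set S) (nonZeroSMulDivisors S M) ↔ ∃ q' ∈ associatedPrimes S M, q ≤ q' := by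
  classical
  have hU := biUnion_associatedPrimes_eq_zero_divisors (S := S) (F := F) (M := M) hφ
  have hfin := finite_associatedPrimes (S := S) (F := F) (M := M) hφ
  constructor
  · intro hd
    have hsub : (q : Set S) ⊆ ⋃ p ∈ ((hfin.toFinset : Finset (Ideal S)) : Set (Ideal S)),
        ((fun p : Ideal S => p) p : Set S) := by
      intro s hs
      have hns : s ∉ nonZeroSMulDivisors S M := fun h => (Set.disjoint_left.mp hd) hs h
      have : s ∈ {s : S | ∃ x : M, x ≠ 0 ∧ s • x = 0} := by
        rw [mem_nonZeroSMulDivisors_iff] at hns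
        push Not at hns
        obtain ⟨m, hm, hm0⟩ := hns
        exact ⟨m, hm0, hm⟩
      rw [← hU] at this
      simpa using this
    obtain ⟨q', hq', hle⟩ := (Ideal.subset_union_prime (f := fun p : Ideal S => p) ⊥ ⊥
      (fun p hp _ _ => (hfin.mem_toFinset.mp hp).1)).mp hsub
    exact ⟨q', hfin.mem_toFinset.mp hq', hle⟩
  · rintro ⟨q', hq', hle⟩
    rw [Set.disjoint_left]
    intro s hs hns
    have : s ∈ ⋃ p ∈ associatedPrimes S M, (p : Set S) :=
      Set.mem_biUnion hq' (hle hs)
    rw [hU] at this
    obtain ⟨x, hx, hsx⟩ := this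
    exact hx ((mem_nonZeroSMulDivisors_iff.mp hns) x hsx)

variable (L : Type*) [CommRing L] [Algebra S L] [IsLocalization (nonZeroSMulDivisors S M) L]

/-- maximal ideals of the localization at the non-zero-divisors on `M` contract to maximal
associated primes, and conversely -/
theorem isMaximal_iff (hφ : Function.Surjective (algebraMap S F))
    [IsNoetherianRing F] [Module.Finite F M] (Q : Ideal L) :
    Q.IsMaximal ↔ (Q.IsPrime ∧
      Maximal (fun r => r ∈ associatedPrimes S M) (Q.comap (algebraMap S L))) := by
  have key : ∀ (Q : Ideal L), Q.IsPrime → ∀ q' ∈ associatedPrimes S M,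
      Q.comap (algebraMap S L) ≤ q' →
      ∃ Q' : Ideal L, Q'.IsPrime ∧ Q ≤ Q' ∧ Q'.comap (algebraMap S L) = q' := by
    intro Q hQ q' hq' hle
    have hq'prime : q'.IsPrime := hq'.1
    have hdis : Disjoint ((nonZeroSMulDivisors S M : Submonoid S) : Set S) (q' : Set S) :=
      ((disjoint_nonZeroSMulDivisors_iff (F := F) hφ q').mpr ⟨q', hq', le_rfl⟩).symm
    refine ⟨q'.map (algebraMap S L),
      IsLocalization.isPrime_of_isPrime_disjoint (nonZeroSMulDivisors S M) L q' hq'prime hdis,
      ?_, IsLocalization.under_map_of_isPrime_disjoint (nonZeroSMulDivisors S M) L hq'prime hdis⟩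
    rw [← IsLocalization.map_under (nonZeroSMulDivisors S M) L Q]
    exact Ideal.map_mono hle
  have hmax : ∀ (Q : Ideal L), Q.IsMaximal →
      Maximal (fun r => r ∈ associatedPrimes S M) (Q.comap (algebraMap S L)) := by
    intro Q hQ
    have hQp : Q.IsPrime := hQ.isPrime
    have hqp : (Q.comap (algebraMap S L)).IsPrime := Ideal.comap_isPrime _ _
    have hdis : Disjoint ((Q.comap (algebraMap S L) : Ideal S) : Set S)
        (nonZeroSMulDivisors S M) := by
      have := ((IsLocalization.isPrime_iff_isPrime_disjoint (nonZeroSMulDivisors S M) L Q).mp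
        hQp).2
      exact this.symm
    obtain ⟨q', hq', hle⟩ := (disjoint_nonZeroSMulDivisors_iff (F := F) hφ _).mp hdis
    obtain ⟨Q', hQ'p, hQQ', hQ'c⟩ := key Q hQp q' hq' hle
    have hQeq : Q = Q' := hQ.eq_of_le hQ'p.ne_top hQQ'
    have hmem : Q.comap (algebraMap S L) ∈ associatedPrimes S M := by
      rw [hQeq, hQ'c]; exact hq'
    refine ⟨hmem, ?_⟩
    intro q'' hq'' hle''
    obtain ⟨Q'', hQ''p, hQQ'', hQ''c⟩ := key Q hQp q'' hq'' hle''
    have hQeq' : Q = Q'' := hQ.eq_of_le hQ''p.ne_top hQQ''
    rw [← hQ''c, ← hQeq']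
  constructor
  · intro hQ
    exact ⟨hQ.isPrime, hmax Q hQ⟩
  · rintro ⟨hQp, hQm⟩
    obtain ⟨Q', hQ'max, hQQ'⟩ := Ideal.exists_le_maximal Q hQp.ne_top
    have h1 := hmax Q' hQ'max
    have hle : Q.comap (algebraMap S L) ≤ Q'.comap (algebraMap S L) := Ideal.comap_mono hQQ'
    have hge : Q'.comap (algebraMap S L) ≤ Q.comap (algebraMap S L) := hQm.2 h1.1 hle
    have heq : Q.comap (algebraMap S L) = Q'.comap (algebraMap S L) := le_antisymm hle hge
    have : Q = Q' := by
      rw [← IsLocalization.map_under (nonZeroSMulDivisors S M) L Q,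
        ← IsLocalization.map_under (nonZeroSMulDivisors S M) L Q']
      exact congrArg (Ideal.map (algebraMap S L)) heq
    rw [this]; exact hQ'max

theorem finite_maximal (hφ : Function.Surjective (algebraMap S F))
    [IsNoetherianRing F] [Module.Finite F M] :
    {Q : Ideal L | Q.IsMaximal}.Finite := by
  have hfin := finite_associatedPrimes (S := S) (F := F) (M := M) hφ
  refine Set.Finite.of_finite_image (f := fun Q : Ideal L => Q.comap (algebraMap S L))
    (hfin.subset ?_) ?_
  · rintro _ ⟨Q, hQ, rfl⟩
    exact ((isMaximal_iff (F := F) (M := M) L hφ Q).mp hQ).2.1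
  · intro Q _ Q' _ h
    have h' : Q.comap (algebraMap S L) = Q'.comap (algebraMap S L) := h
    rw [← IsLocalization.map_under (nonZeroSMulDivisors S M) L Q,
      ← IsLocalization.map_under (nonZeroSMulDivisors S M) L Q']
    exact congrArg (Ideal.map (algebraMap S L)) h'

end Loc

end Groth.Agent.H6.NzdLoc
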