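import Groth.Prelude.Def_FlatCA
import Groth.Agent.H6.NzdLoc

/-!
# The closed fibre of an algebra over a local ring and its non-zero-divisors
-/

set_option autoImplicit false
universe u

open TensorProduct IsLocalRing

namespace Groth.Agent.H6.NzdFiber

attribute [local instance] Algebra.TensorProduct.rightAlgebra

variable {R S : Type u} [CommRing R] [CommRing S] [Algebra R S]

/-- over a maximal ideal, the map to the fibre ring is surjective -/
theorem algebraMap_fiber_surjective (p : Ideal R) [p.IsMaximal] :
    Function.Surjective (algebraMap S (p.Fiber S)) :=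
  TensorProduct.mk_surjective _ _ _ (Ideal.algebraMap_residueField_surjective _)

theorem includeRight_fiber_surjective (p : Ideal R) [p.IsMaximal] :
    Function.Surjective (Algebra.TensorProduct.includeRight (R := R) (A := p.ResidueField) (B := S)) :=
  algebraMap_fiber_surjective p

variable (N : Type u) [AddCommGroup N] [Module S N] [Module R N] [IsScalarTower R S N]

omit [Module R N] [IsScalarTower R S N] in
theorem isScalarTower_fiberMod (p : Ideal R) [p.IsPrime] :
    IsScalarTower S (p.Fiber S) (FlatCA.fiberMod p S N) := by
  refine IsScalarTower.of_algebraMap_smul ?_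
  intro s x
  change (algebraMap S (p.Fiber S) s) • (show (p.Fiber S) ⊗[S] N from x) =
    s • (show (p.Fiber S) ⊗[S] N from x)
  induction x using TensorProduct.induction_on with
  | zero => simp
  | tmul a n =>
    rw [TensorProduct.smul_tmul', TensorProduct.smul_tmul', Algebra.smul_def, smul_eq_mul]
  | add x y hx hy => rw [smul_add, smul_add, hx, hy]

variable [IsLocalRing R]

theorem nzdFiber_localization
    [IsNoetherianRing ((maximalIdeal R).Fiber S)]
    [Module.Finite ((maximalIdeal R).Fiber S) (FlatCA.fiberMod (maximalIdeal R) S N)] :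
    (∀ (q : Ideal S) [q.IsPrime], Disjoint (q : Set S) (FlatCA.nzdFiber R S N) ↔
        ∃ q' ∈ associatedPrimes S (FlatCA.fiberMod (maximalIdeal R) S N), q ≤ q') ∧
    {Q : Ideal (Localization (FlatCA.nzdFiber R S N)) | Q.IsMaximal}.Finite ∧
    (∀ Q : Ideal (Localization (FlatCA.nzdFiber R S N)), Q.IsMaximal ↔ (Q.IsPrime ∧
        Maximal (fun r => r ∈ associatedPrimes S (FlatCA.fiberMod (maximalIdeal R) S N))
          (Q.comap (algebraMap S (Localization (FlatCA.nzdFiber R S N)))))) := by
  have := isScalarTower_fiberMod (S := S) N (maximalIdeal R)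
  have surj := algebraMap_fiber_surjective (S := S) (maximalIdeal R)
  refine ⟨fun q _ => ?_, ?_, fun Q => ?_⟩
  · exact Groth.Agent.H6.NzdLoc.disjoint_nonZeroSMulDivisors_iff
      (F := (maximalIdeal R).Fiber S) surj q
  · exact Groth.Agent.H6.NzdLoc.finite_maximal (F := (maximalIdeal R).Fiber S)
      (M := FlatCA.fiberMod (maximalIdeal R) S N) _ surj
  · exact Groth.Agent.H6.NzdLoc.isMaximal_iff (F := (maximalIdeal R).Fiber S)
      (M := FlatCA.fiberMod (maximalIdeal R) S N) _ surj Q

end Groth.Agent.H6.NzdFiber
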