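import Groth.Prelude.Def_FlatCA
import Mathlib.AlgebraicGeometry.Pullbacks
import Mathlib.Algebra.Category.Ring.Constructions
import Mathlib.RingTheory.Flat.Stability
import Mathlib.LinearAlgebra.TensorProduct.Quotient

/-!
# Ring maps with geometrically integral fibres: fibre rings are domains; universal purity
-/

set_option autoImplicit false
universe u

open TensorProduct CategoryTheory

namespace Groth.Agent.H6.GeomIntFibres

section Translate

variable {A B : Type u} [CommRing A] [CommRing B] [Algebra A B]

/-- geometrically integral fibres: every base change to a field is a domain -/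
theorem isDomain_tensor (h : FlatCA.GeomIntegralFibres A B) (K : Type u) [Field K] [Algebra A K] :
    IsDomain (K ⊗[A] B) := by
  have pb := AlgebraicGeometry.isPullback_SpecMap_of_isPushout _ _ _ _
    (CommRingCat.isPushout_tensorProduct A K B).flip
  have := h.geometrically_isIntegral _ _ _ pb
  exact (AlgebraicGeometry.affine_isIntegral_iff _).mp this

/-- geometrically integral fibres are stable under base change -/
theorem of_isPushout (h : FlatCA.GeomIntegralFibres A B) (A' B' : Type u) [CommRing A']
    [CommRing B'] [Algebra A A'] [Algebra B B'] [Algebra A' B'] [Algebra A B']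
    [IsScalarTower A B B'] [IsScalarTower A A' B'] [Algebra.IsPushout A B A' B'] :
    FlatCA.GeomIntegralFibres A' B' := by
  have pb := AlgebraicGeometry.isPullback_SpecMap_of_isPushout _ _ _ _
    (CommRingCat.isPushout_of_isPushout A B A' B')
  exact MorphismProperty.of_isPullback (P := @AlgebraicGeometry.GeometricallyIntegral) pb h

theorem isDomain_fiber (h : FlatCA.GeomIntegralFibres A B) (t : Ideal A) [t.IsPrime] :
    IsDomain (t.Fiber B) :=
  isDomain_tensor h t.ResidueField

end Translate

section Flat

variable {R S : Type u} [CommRing R] [CommRing S] [Algebra R S]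

/-- for a flat algebra, the kernel of the map to the fibre ring over `t` is `tS` -/
theorem mem_map_of_one_tmul_eq_zero [Module.Flat R S] (t : Ideal R) [t.IsPrime] {b : S}
    (hb : (1 : t.ResidueField) ⊗ₜ[R] b = 0) : b ∈ t.map (algebraMap R S) := by
  let ι : (R ⧸ t) →ₗ[R] t.ResidueField :=
    (IsScalarTower.toAlgHom R (R ⧸ t) t.ResidueField).toLinearMap
  have hι : Function.Injective ι := t.injective_algebraMap_quotient_residueField
  have hinj := Module.Flat.rTensor_preserves_injective_linearMap (M := S) ι hι
  have h1 : (ι.rTensor S) ((1 : R ⧸ t) ⊗ₜ[R] b) = 0 := by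
    rw [LinearMap.rTensor_tmul]
    have : ι 1 = 1 := map_one (IsScalarTower.toAlgHom R (R ⧸ t) t.ResidueField)
    rw [this, hb]
  have h2 : (1 : R ⧸ t) ⊗ₜ[R] b = 0 := hinj (by rw [h1, map_zero])
  have h3 := congrArg (TensorProduct.quotTensorEquivQuotSMul S t) h2
  rw [TensorProduct.quotTensorEquivQuotSMul_mk_one_tmul, map_zero,
    Submodule.Quotient.mk_eq_zero, Ideal.smul_top_eq_map] at h3
  exact h3

/-- elements of `tS` die in the fibre ring over `t` -/
theorem one_tmul_eq_zero_of_mem_map (t : Ideal R) [t.IsPrime] {b : S}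
    (hb : b ∈ t.map (algebraMap R S)) : (1 : t.ResidueField) ⊗ₜ[R] b = 0 := by
  have hle : t.map (algebraMap R S) ≤ (⊥ : Ideal (t.Fiber S)).comap
      (Algebra.TensorProduct.includeRight (R := R) (A := t.ResidueField) (B := S)) := by
    rw [Ideal.map_le_iff_le_comap]
    intro a ha
    rw [Ideal.mem_comap, Ideal.mem_comap, Ideal.mem_bot, Algebra.TensorProduct.includeRight_apply,
      Algebra.algebraMap_eq_smul_one, ← TensorProduct.smul_tmul, Algebra.smul_def, mul_one,
      (Ideal.algebraMap_residueField_eq_zero).mpr ha, TensorProduct.zero_tmul]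
  have := hle hb
  rwa [Ideal.mem_comap, Ideal.mem_bot, Algebra.TensorProduct.includeRight_apply] at this

end Flat

section Ass

/-- the only associated prime of a domain, as a module over itself, is zero -/
theorem eq_bot_of_mem_associatedPrimes_self {D : Type u} [CommRing D] [IsDomain D] {r : Ideal D}
    (hr : r ∈ associatedPrimes D D) : r = ⊥ := by
  obtain ⟨hprime, x, hx⟩ := hr
  have hx0 : x ≠ 0 := by
    rintro rfl
    apply hprime.ne_top
    rw [hx, Ideal.radical_eq_top]
    ext y
    simp [Submodule.mem_colon_singleton]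
  rw [hx]
  have : Submodule.colon (⊥ : Submodule D D) {x} = ⊥ := by
    ext y
    rw [Submodule.mem_colon_singleton, Submodule.mem_bot, Submodule.mem_bot, smul_eq_mul,
      mul_eq_zero]
    exact ⟨fun h => h.resolve_right hx0, fun h => Or.inl h⟩
  rw [this]
  exact (Ideal.radical_eq_iff.mpr (Ideal.isRadical_iff_quotient_reduced _ |>.mpr (by
    have : IsReduced (D ⧸ (⊥ : Ideal D)) :=
      isReduced_of_injective (RingEquiv.quotientBot D) (RingEquiv.injective _)
    exact this)))

end Ass

section Main

variable {A B : Type u} [CommRing A] [CommRing B] [Algebra A B]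
  (A' B' N' : Type u) [CommRing A'] [CommRing B'] [Algebra A A'] [Algebra B B']
  [Algebra A' B'] [Algebra A B'] [IsScalarTower A B B'] [IsScalarTower A A' B']
  [AddCommGroup N'] [Module B' N'] [Module B N'] [IsScalarTower B B' N'] [Module A' N']
  [IsScalarTower A' B' N']

attribute [local instance] Algebra.TensorProduct.rightAlgebra in
/-- the fibre module of a base change of `B` itself is the fibre ring -/
noncomputable def fiberModEquiv (f : B →ₗ[B] N') (hbc : IsBaseChange B' f) (t' : Ideal A')
    [t'.IsPrime] : FlatCA.fiberMod t' B' N' ≃ₗ[t'.Fiber B'] t'.Fiber B' :=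
  let e1 : N' ≃ₗ[B'] B' := hbc.equiv.symm ≪≫ₗ TensorProduct.AlgebraTensorModule.rid B B' B'
  (TensorProduct.AlgebraTensorModule.congr (LinearEquiv.refl (t'.Fiber B') (t'.Fiber B')) e1) ≪≫ₗ
    TensorProduct.AlgebraTensorModule.rid B' (t'.Fiber B') (t'.Fiber B')

/-- no impurity for a flat algebra with geometrically integral fibres (as a module over itself) -/
theorem not_isImpurity [Module.Flat A B] (h : FlatCA.GeomIntegralFibres A B) (p : Ideal A)
    [p.IsPrime] (f : B →ₗ[B] N') (t' t : Ideal A') [t'.IsPrime] [t.IsPrime] (P : Ideal B')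
    [P.IsPrime] : ¬ FlatCA.IsImpurity A B B p A' B' N' f t' t P := by
  rintro ⟨hpo, hbc, hle, _, hP, hass, hno⟩
  have hgi' : FlatCA.GeomIntegralFibres A' B' := of_isPushout h A' B'
  have hd' : IsDomain (t'.Fiber B') := isDomain_fiber hgi' t'
  have hd : IsDomain (t.Fiber B') := isDomain_fiber hgi' t
  have hflat : Module.Flat A' B' :=
    Module.Flat.isBaseChange A A' B B' (f := (IsScalarTower.toAlgHom A B B').toLinearMap)
      hpo.symm.out
  have hbot : FlatCA.fiberIdeal t' P = ⊥ := by
    rw [LinearEquiv.AssociatedPrimes.eq (fiberModEquiv A' B' N' f hbc t')] at hass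
    exact eq_bot_of_mem_associatedPrimes_self hass
  have hPle : P ≤ t'.map (algebraMap A' B') := by
    intro b hb
    apply mem_map_of_one_tmul_eq_zero t'
    have : (1 : t'.ResidueField) ⊗ₜ[A'] b ∈ FlatCA.fiberIdeal t' P := Ideal.mem_map_of_mem _ hb
    rwa [hbot, Ideal.mem_bot] at this
  let q : PrimeSpectrum (t.Fiber B') := ⟨⊥, Ideal.isPrime_bot⟩
  let P'' := (PrimeSpectrum.primesOverOrderIsoFiber A' B' t).symm q
  have hP''prime : (P'' : Ideal B').IsPrime := P''.2.1
  have hP''over : (P'' : Ideal B').LiesOver t := P''.2.2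
  refine hno (P'' : Ideal B') ?_ hP''over
  intro b hb
  have h1 : b ∈ t.map (algebraMap A' B') := Ideal.map_mono hle (hPle hb)
  have h2 := one_tmul_eq_zero_of_mem_map t h1
  rw [PrimeSpectrum.coe_primesOverOrderIsoFiber_symm_apply, Ideal.mem_comap,
    Algebra.TensorProduct.includeRight_apply, h2]
  exact Ideal.zero_mem _

end Main

end Groth.Agent.H6.GeomIntFibres
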