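import Mathlib
import Groth.Prelude.Def_FlatCA

/-!
# Universal injectivity of `N → N^` from a condition on associated primes

* `univInj_of_finite`: universal injectivity may be tested on finite modules.
* `univInj_of_assoc_meet`: over Noetherian rings, if for all finite `Q` and all associated primes
  `q` of `N ⊗ Q` we have `IS + q ≠ S`, then `N → N^` is universally injective.
-/

set_option autoImplicit false
set_option linter.unusedSectionVars false
universe u

open TensorProduct

namespace Groth.Agent.H6.UnivInjAdic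

section General

variable {R : Type u} [CommRing R] {M N : Type u} [AddCommGroup M] [AddCommGroup N] [Module R M]
  [Module R N]

/-- Universal injectivity can be tested on finite modules. -/
theorem univInj_of_finite (f : M →ₗ[R] N)
    (h : ∀ (Q : Type u) [AddCommGroup Q] [Module R Q], Module.Finite R Q →
      Function.Injective (f.lTensor Q)) : FlatCA.UnivInj R f := by
  intro Q _ _
  rw [injective_iff_map_eq_zero]
  intro x hx
  obtain ⟨Q', hfg, y, rfl⟩ := Submodule.exists_fg_le_eq_rTensor_subtype x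
  have h1 : Q'.subtype.rTensor N (f.lTensor Q' y) = Q'.subtype.rTensor N 0 := by
    rw [map_zero, ← LinearMap.comp_apply, LinearMap.rTensor_comp_lTensor,
      ← LinearMap.lTensor_comp_rTensor, LinearMap.comp_apply]
    exact hx
  obtain ⟨Q'', hfg'', le, h2⟩ := hfg.exists_rTensor_fg_inclusion_eq h1
  rw [map_zero, ← LinearMap.comp_apply, LinearMap.rTensor_comp_lTensor,
    ← LinearMap.lTensor_comp_rTensor, LinearMap.comp_apply] at h2
  have h3 : (Q'.inclusion le).rTensor M y = 0 := by
    have hfin : Module.Finite R Q'' := Module.Finite.iff_fg.mpr hfg''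
    exact (injective_iff_map_eq_zero _).mp (h Q'' hfin) _ h2
  have h4 : Q'.subtype = Q''.subtype ∘ₗ Q'.inclusion le := rfl
  rw [h4, LinearMap.rTensor_comp, LinearMap.comp_apply, h3, map_zero]

end General

section Adic

variable {R S : Type u} [CommRing R] [CommRing S] [Algebra R S]
  (I : Ideal R) (N : Type u) [AddCommGroup N] [Module S N] [Module R N] [IsScalarTower R S N]

/-- `m ⊗ q ∈ (IS)^n (N ⊗ Q)` when `m ∈ I^n N`. -/
theorem tmul_mem_pow_smul_top (Q : Type u) [AddCommGroup Q] [Module R Q] (n : ℕ) (m : N)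
    (hm : m ∈ (I ^ n • ⊤ : Submodule R N)) (q : Q) :
    m ⊗ₜ[R] q ∈ ((I.map (algebraMap R S)) ^ n • ⊤ : Submodule S (N ⊗[R] Q)) := by
  refine Submodule.smul_induction_on hm ?_ ?_
  · intro a ha m' _
    have e : (a • m') ⊗ₜ[R] q = (algebraMap R S a) • (m' ⊗ₜ[R] q) := by
      rw [TensorProduct.smul_tmul', algebraMap_smul]
    rw [e]
    apply Submodule.smul_mem_smul _ Submodule.mem_top
    rw [← Ideal.map_pow]
    exact Ideal.mem_map_of_mem _ ha
  · intro x y hx hy
    rw [TensorProduct.add_tmul]
    exact Submodule.add_mem _ hx hy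

/-- The kernel of `Q ⊗ N → Q ⊗ N^` lies (after swapping) in `⋂ (IS)^n (N ⊗ Q)`. -/
theorem comm_mem_iInf_of_lTensor_of_eq_zero (Q : Type u) [AddCommGroup Q] [Module R Q]
    (x : Q ⊗[R] N) (hx : (AdicCompletion.of I N).lTensor Q x = 0) :
    TensorProduct.comm R Q N x ∈
      (⨅ n : ℕ, (I.map (algebraMap R S)) ^ n • ⊤ : Submodule S (N ⊗[R] Q)) := by
  rw [Submodule.mem_iInf]
  intro n
  have h1 : ((I ^ n • ⊤ : Submodule R N).mkQ).lTensor Q x = 0 := by
    rw [← AdicCompletion.eval_comp_of, LinearMap.lTensor_comp, LinearMap.comp_apply, hx, map_zero]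
  have hex : Function.Exact ((I ^ n • ⊤ : Submodule R N).subtype.lTensor Q)
      (((I ^ n • ⊤ : Submodule R N).mkQ).lTensor Q) :=
    lTensor_exact Q (LinearMap.exact_subtype_mkQ _) (Submodule.mkQ_surjective _)
  have key : ∀ z : Q ⊗[R] (I ^ n • ⊤ : Submodule R N),
      TensorProduct.comm R Q N ((I ^ n • ⊤ : Submodule R N).subtype.lTensor Q z) ∈
        ((I.map (algebraMap R S)) ^ n • ⊤ : Submodule S (N ⊗[R] Q)) := by
    intro z
    induction z with
    | zero => simp
    | tmul q m =>
      rw [LinearMap.lTensor_tmul, TensorProduct.comm_tmul]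
      exact tmul_mem_pow_smul_top I N Q n _ m.2 q
    | add z₁ z₂ h₁ h₂ =>
      rw [map_add, map_add]
      exact Submodule.add_mem _ h₁ h₂
  obtain ⟨z, rfl⟩ := (hex x).mp h1
  exact key z

variable [IsNoetherianRing S] [Module.Finite S N]

theorem finite_tensor (Q : Type u) [AddCommGroup Q] [Module R Q] [Module.Finite R Q] :
    Module.Finite S (N ⊗[R] Q) :=
  Module.Finite.equiv (TensorProduct.AlgebraTensorModule.cancelBaseChange R S S N Q)

theorem univInj_of_assoc_meet
    (h : ∀ (Q : Type u) [AddCommGroup Q] [Module R Q], Module.Finite R Q →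
      ∀ q ∈ associatedPrimes S (N ⊗[R] Q), I.map (algebraMap R S) ⊔ q ≠ ⊤) :
    FlatCA.UnivInj R (AdicCompletion.of I N) := by
  apply univInj_of_finite
  intro Q _ _ hQ
  rw [injective_iff_map_eq_zero]
  intro x hx
  have hmem := comm_mem_iInf_of_lTensor_of_eq_zero (S := S) I N Q x hx
  have hfin : Module.Finite S (N ⊗[R] Q) := finite_tensor N Q
  obtain ⟨r, hr⟩ := ((I.map (algebraMap R S)).mem_iInf_smul_pow_eq_bot_iff _).mp hmem
  by_contra hne
  have hne' : TensorProduct.comm R Q N x ≠ 0 := by
    intro h0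
    exact hne ((TensorProduct.comm R Q N).map_eq_zero_iff.mp h0)
  obtain ⟨P, hP, hle⟩ := exists_le_isAssociatedPrime_of_isNoetherianRing S _ hne'
  apply h Q hQ P hP
  rw [Ideal.eq_top_iff_one]
  have h1 : (1 - (r : S)) ∈ P := by
    apply hle
    rw [Submodule.mem_colon_singleton, Submodule.mem_bot, sub_smul, one_smul, hr, sub_self]
  have h2 : (1 : S) = (r : S) + (1 - (r : S)) := by ring
  rw [h2]
  exact Submodule.add_mem_sup r.2 h1

end Adic

end Groth.Agent.H6.UnivInjAdic
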