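import Mathlib.AlgebraicGeometry.SpreadingOut
import Mathlib.AlgebraicGeometry.Morphisms.FinitePresentation
import Mathlib.AlgebraicGeometry.Birational.RationalMap

set_option autoImplicit false
universe u

open CategoryTheory AlgebraicGeometry

namespace Groth.Agent.H6.SpreadLfp

variable {X Y S : Scheme.{u}} {R A : CommRingCat.{u}}

/-- Lifting a map from a finitely presented algebra to the stalk to sections over a neighbourhood,
without any germ-injectivity hypothesis. -/
lemma exists_lift_of_finitePresentation {U : X.Opens} {x : X} (hxU : x ∈ U)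
    (φ : A ⟶ X.presheaf.stalk x) (φRA : R ⟶ A) (φRX : R ⟶ Γ(X, U))
    (hφRA : RingHom.FinitePresentation φRA.hom)
    (e : φRA ≫ φ = φRX ≫ X.presheaf.germ U x hxU) :
    ∃ (V : X.Opens) (hxV : x ∈ V) (φ' : A ⟶ Γ(X, V)) (i : V ≤ U), IsAffineOpen V ∧
      φ = φ' ≫ X.presheaf.germ V x hxV ∧ φRX ≫ X.presheaf.map i.hom.op = φRA ≫ φ' := by
  classical
  let := φRA.hom.toAlgebra
  obtain ⟨n, π, hπ, hker⟩ := hφRA
  obtain ⟨s, hs⟩ := hker
  -- lift the images of the variables
  choose W hxW f hf using fun i : Fin n ↦ X.presheaf.exists_germ_eq (φ (π (.X i)))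
  have H : x ∈ (Finset.univ.inf W ⊓ U : X.Opens) := by
    rw [← SetLike.mem_coe, TopologicalSpace.Opens.coe_inf, TopologicalSpace.Opens.coe_finset_inf]
    exact ⟨by simpa using fun i ↦ hxW i, hxU⟩
  set W₀ : X.Opens := Finset.univ.inf W ⊓ U with hW₀
  let g : MvPolynomial (Fin n) R →+* Γ(X, W₀) :=
    MvPolynomial.eval₂Hom (φRX ≫ X.presheaf.map (homOfLE (inf_le_right : W₀ ≤ U)).op).hom
      (fun i ↦ X.presheaf.map (homOfLE (inf_le_left.trans (Finset.inf_le (Finset.mem_univ i)) :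
        W₀ ≤ W i)).op (f i))
  have hg : (X.presheaf.germ W₀ x H).hom.comp g = φ.hom.comp π.toRingHom := by
    apply MvPolynomial.ringHom_ext
    · intro r
      have h1 : φ (π (MvPolynomial.C r)) = (φRA ≫ φ) r := by
        have : π (MvPolynomial.C r) = φRA r := π.commutes r
        rw [this]; rfl
      simp only [RingHom.coe_comp, Function.comp_apply, g, MvPolynomial.coe_eval₂Hom,
        MvPolynomial.eval₂_C, AlgHom.toRingHom_eq_coe, RingHom.coe_coe]
      erw [h1, e]
      exact X.presheaf.germ_res_apply _ _ _ _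
    · intro i
      simp only [RingHom.coe_comp, Function.comp_apply, g, MvPolynomial.coe_eval₂Hom,
        MvPolynomial.eval₂_X, AlgHom.toRingHom_eq_coe, RingHom.coe_coe]
      exact (X.presheaf.germ_res_apply _ _ _ _).trans (hf i)
  -- kill the relations
  have hzero : ∀ r : s, ∃ (V : X.Opens) (i : V ⟶ W₀) (_ : x ∈ V),
      X.presheaf.map i.op (g r) = 0 := by
    intro r
    refine X.toRingedSpace.exists_res_eq_zero_of_germ_eq_zero W₀ (g r) ⟨x, H⟩ ?_
    have : (X.presheaf.germ W₀ x H).hom (g r) = φ.hom (π r) := congr($hg r)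
    refine this.trans ?_
    have : π r = 0 := by
      have : (r : MvPolynomial (Fin n) R) ∈ RingHom.ker π.toRingHom := hs ▸ Ideal.subset_span r.2
      exact this
    rw [this, map_zero]
  choose V' iV' hxV' hV' using hzero
  have H' : x ∈ (Finset.univ.inf V' ⊓ W₀ : X.Opens) := by
    rw [← SetLike.mem_coe, TopologicalSpace.Opens.coe_inf, TopologicalSpace.Opens.coe_finset_inf]
    exact ⟨by simpa using fun i ↦ hxV' i, H⟩
  obtain ⟨_, ⟨V : X.Opens, hV, rfl⟩, hxV, hVW⟩ :=
    X.isBasis_affineOpens.exists_subset_of_mem_open H' (Finset.univ.inf V' ⊓ W₀ : X.Opens).2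
  have hVW' : V ≤ Finset.univ.inf V' ⊓ W₀ := hVW
  have hVW₀ : V ≤ W₀ := hVW'.trans inf_le_right
  let g' : MvPolynomial (Fin n) R →+* Γ(X, V) :=
    (X.presheaf.map (homOfLE hVW₀).op).hom.comp g
  have hg'ker : RingHom.ker π.toRingHom ≤ RingHom.ker g' := by
    rw [← hs, Ideal.span_le]
    intro r hr
    have hle : V ≤ V' ⟨r, hr⟩ := hVW'.trans (inf_le_left.trans (Finset.inf_le (Finset.mem_univ _)))
    change g' r = 0
    have : g' r = X.presheaf.map (homOfLE hle).op (X.presheaf.map (iV' ⟨r, hr⟩).op (g r)) := by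
      change X.presheaf.map (homOfLE hVW₀).op (g r) = _
      rw [← ConcreteCategory.comp_apply, ← Functor.map_comp]
      rfl
    rw [this, hV' ⟨r, hr⟩, map_zero]
  let φ' : A →+* Γ(X, V) := RingHom.liftOfSurjective π.toRingHom hπ ⟨g', hg'ker⟩
  have hφ' : ∀ p, φ' (π p) = g' p := fun p ↦
    RingHom.liftOfRightInverse_comp_apply _ _ _ ⟨g', hg'ker⟩ p
  refine ⟨V, hxV, CommRingCat.ofHom φ', hVW₀.trans inf_le_right, hV, ?_, ?_⟩
  · ext a
    obtain ⟨p, rfl⟩ := hπ a
    change φ (π p) = X.presheaf.germ V x hxV (φ' (π p))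
    rw [hφ']
    change _ = X.presheaf.germ V x hxV (X.presheaf.map (homOfLE hVW₀).op (g p))
    rw [X.presheaf.germ_res_apply]
    exact congr($hg p).symm
  · ext r
    change X.presheaf.map _ (φRX r) = φ' (φRA r)
    have : φRA r = π (MvPolynomial.C r) := (π.commutes r).symm
    rw [this, hφ']
    change _ = X.presheaf.map (homOfLE hVW₀).op (g (MvPolynomial.C r))
    simp only [g, MvPolynomial.coe_eval₂Hom, MvPolynomial.eval₂_C]
    change X.presheaf.map _ (φRX r) =
      X.presheaf.map (homOfLE hVW₀).op (X.presheaf.map _ (φRX r))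
    rw [← ConcreteCategory.comp_apply (X.presheaf.map _) (X.presheaf.map _), ← Functor.map_comp]
    rfl

variable (sX : X ⟶ S) (sY : Y ⟶ S)

set_option backward.isDefEq.respectTransparency.types false in
/-- Spreading out a local homomorphism of stalks when the target is locally of finite
presentation: no germ-injectivity needed. -/
lemma spread_out_of_lfp [LocallyOfFinitePresentation sY] {x : X} {y : Y}
    (e : sX x = sY y) (φ : Y.presheaf.stalk y ⟶ X.presheaf.stalk x)
    (h : sY.stalkMap y ≫ φ =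
      S.presheaf.stalkSpecializes (Inseparable.of_eq e).specializes ≫ sX.stalkMap x) :
    ∃ (U : X.Opens) (hxU : x ∈ U) (f : U.toScheme ⟶ Y),
      Spec.map φ ≫ Y.fromSpecStalk y = U.fromSpecStalkOfMem x hxU ≫ f ∧
      f ≫ sY = U.ι ≫ sX := by
  obtain ⟨_, ⟨U, hU, rfl⟩, hxU, -⟩ :=
    S.isBasis_affineOpens.exists_subset_of_mem_open (Set.mem_univ (sX x)) isOpen_univ
  have hyU : sY y ∈ U := e ▸ hxU
  obtain ⟨_, ⟨V : Y.Opens, hV, rfl⟩, hyV, iVU⟩ :=
    Y.isBasis_affineOpens.exists_subset_of_mem_open hyU (sY ⁻¹ᵁ U).2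
  have : sY.appLE U V iVU ≫ Y.presheaf.germ V y hyV ≫ φ =
      sX.app U ≫ X.presheaf.germ (sX ⁻¹ᵁ U) x hxU := by
    rw [Scheme.Hom.appLE, Category.assoc, Y.presheaf.germ_res_assoc,
      ← Scheme.Hom.germ_stalkMap_assoc, h]
    simp
  obtain ⟨W, hxW, φ', i, hW, h₁, h₂⟩ :=
    exists_lift_of_finitePresentation (R := Γ(S, U)) (A := Γ(Y, V)) (U := sX ⁻¹ᵁ U) (x := x) hxU
    (Y.presheaf.germ _ y hyV ≫ φ) (sY.appLE U V iVU) (sX.app U)
    (sY.finitePresentation_appLE hU hV _) this
  refine ⟨W, hxW, W.toSpecΓ ≫ Spec.map φ' ≫ hV.fromSpec, ?_, ?_⟩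
  · rw [W.fromSpecStalkOfMem_toSpecΓ_assoc x hxW, ← Spec.map_comp_assoc, ← h₁,
      Spec.map_comp, Category.assoc, ← IsAffineOpen.fromSpecStalk,
      IsAffineOpen.fromSpecStalk_eq_fromSpecStalk]
  · simp only [Category.assoc]
    rw [← IsAffineOpen.SpecMap_appLE_fromSpec sY hU hV iVU, ← Spec.map_comp_assoc, ← h₂,
      ← Scheme.Hom.appLE, ← hW.isoSpec_hom, IsAffineOpen.SpecMap_appLE_fromSpec sX hU hW i,
      ← Iso.eq_inv_comp, IsAffineOpen.isoSpec_inv_ι_assoc]

set_option backward.isDefEq.respectTransparency.types false in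
/-- Spreading out an `S`-morphism `Spec 𝒪_{X,x} ⟶ Y` with `Y` locally of finite presentation. -/
lemma spread_out_of_lfp' [LocallyOfFinitePresentation sY] {x : X}
    (φ : Spec (X.presheaf.stalk x) ⟶ Y)
    (h : φ ≫ sY = X.fromSpecStalk x ≫ sX) :
    ∃ (U : X.Opens) (hxU : x ∈ U) (f : U.toScheme ⟶ Y),
      φ = U.fromSpecStalkOfMem x hxU ≫ f ∧ f ≫ sY = U.ι ≫ sX := by
  have := spread_out_of_lfp sX sY ?_ (Scheme.stalkClosedPointTo φ) ?_
  · simpa only [Scheme.Spec_stalkClosedPointTo_fromSpecStalk] using this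
  · rw [← Scheme.Hom.comp_apply, h, Scheme.Hom.comp_apply, Scheme.fromSpecStalk_closedPoint]
  · apply Spec.map_injective
    rw [← cancel_mono (S.fromSpecStalk _)]
    simpa only [Spec.map_comp, Category.assoc, Scheme.SpecMap_stalkMap_fromSpecStalk,
      Scheme.Spec_stalkClosedPointTo_fromSpecStalk_assoc,
      Scheme.SpecMap_stalkSpecializes_fromSpecStalk]

end Groth.Agent.H6.SpreadLfp
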