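import Mathlib
import Groth.Agent.S14766
import Groth.Agent.H22.DVRSpec
import Groth.Agent.H73.ValSpec
import Groth.Prelude.Def_SGA1

/-!
# Universally submersive morphisms over locally Noetherian bases are S-subtrusive
-/

set_option autoImplicit false
universe u

namespace Groth.Agent.H6.SubmSubtr

open AlgebraicGeometry CategoryTheory CategoryTheory.Limits IsLocalRing

/-- A universally submersive morphism to a locally Noetherian scheme has the lifting property
for ordered pairs of points. -/
theorem isSSubtrusive_of_univSubmersive {X Y : Scheme.{u}} [IsLocallyNoetherian Y] (f : X ⟶ Y)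
    (hf : SGA1.UnivSubmersive f) : Subtr.IsSSubtrusive f := by
  intro y y' hyy'
  have hq0 : Topology.IsQuotientMap f := MorphismProperty.universally_le _ _ hf
  have hsurj : Function.Surjective f := hq0.surjective
  by_cases hne : y = y'
  · subst hne
    obtain ⟨x, rfl⟩ := hsurj y
    exact ⟨x, x, specializes_rfl, rfl, rfl⟩
  obtain ⟨A, h, hA, hcl, hgen⟩ :=
    Groth.Agent.H22.DVRSpec.exists_dvr_through_specialization (𝟙 Y) y' y hyy' hne
  rw [Category.comp_id] at hgen
  have hq : Topology.IsQuotientMap (pullback.snd f h) :=
    hf _ _ _ (IsPullback.of_hasPullback f h).flip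
  have hsub : Subtr.IsSSubtrusive (pullback.snd f h) :=
    (Groth.Agent.S14766.result A (pullback.snd f h)).mp hq
  obtain ⟨w, w', hww', hw, hw'⟩ := hsub (Groth.Agent.H73.bot_specializes_closedPoint A)
  refine ⟨pullback.fst f h w, pullback.fst f h w', hww'.map (pullback.fst f h).continuous, ?_, ?_⟩
  · rw [← Scheme.Hom.comp_apply, pullback.condition, Scheme.Hom.comp_apply, hw, hcl]
  · rw [← Scheme.Hom.comp_apply, pullback.condition, Scheme.Hom.comp_apply, hw']
    have hgenpt : Spec.map (CommRingCat.ofHom A.subtype)
        (closedPoint (Y.residueField y')) = (⟨⊥, Ideal.isPrime_bot⟩ : PrimeSpectrum A) := by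
      apply PrimeSpectrum.ext
      change Ideal.comap A.subtype (maximalIdeal (Y.residueField y')) = ⊥
      rw [IsLocalRing.maximalIdeal_eq_bot, ← RingHom.ker_eq_comap_bot,
        ← RingHom.injective_iff_ker_eq_bot]
      exact Subtype.val_injective
    rw [← hgenpt, ← Scheme.Hom.comp_apply, hgen, Scheme.fromSpecResidueField_apply]

end Groth.Agent.H6.SubmSubtr
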