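import Mathlib
import Groth.Agent.H73.ValSurj

/-!
# Valuation rings through finite chains of specializations (composite valuation rings)
-/

set_option autoImplicit false
universe u

namespace Groth.Agent.H6.ValChain

open AlgebraicGeometry CategoryTheory CategoryTheory.Limits IsLocalRing

section composite

variable {V : Type u} [CommRing V] [IsDomain V] [ValuationRing V]

/-- The composite of a valuation ring `V` with a valuation subring `W` of its residue field:
the subring of elements of `V` whose residue lies in `W`. -/
def comp (W : ValuationSubring (ResidueField V)) : Subring V :=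
  W.toSubring.comap (residue V)

variable (W : ValuationSubring (ResidueField V))

lemma mem_comp {a : V} : a ∈ comp W ↔ residue V a ∈ W := Iff.rfl

instance : ValuationRing (comp W) := by
  refine { cond' := ?_ }
  rintro ⟨a, ha⟩ ⟨b, hb⟩
  have key : ∀ (a b c : V), a ∈ comp W → b ∈ comp W → a * c = b →
      ∃ c' : comp W, (a * c' = b ∨ b * c' = a) := by
    intro a b c ha hb hc
    by_cases hcW : c ∈ comp W
    · exact ⟨⟨c, hcW⟩, Or.inl hc⟩
    · have hres : residue V c ∉ W := hcW
      have hne : residue V c ≠ 0 := fun h0 => hres (h0 ▸ W.zero_mem)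
      have hunit : IsUnit c := by
        by_contra hnu
        exact hne ((residue_eq_zero_iff c).mpr ((mem_maximalIdeal c).mpr hnu))
      obtain ⟨u, rfl⟩ := hunit
      have hinv : residue V (↑u⁻¹ : V) ∈ W := by
        have h1 : residue V (↑u⁻¹ : V) = (residue V (u : V))⁻¹ := by
          apply eq_inv_of_mul_eq_one_left
          rw [← map_mul, Units.inv_mul, map_one]
        rw [h1]
        exact (W.mem_or_inv_mem (residue V (u : V))).resolve_left hres
      refine ⟨⟨(↑u⁻¹ : V), hinv⟩, Or.inr ?_⟩
      rw [← hc, mul_assoc, Units.mul_inv, mul_one]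
  obtain ⟨c, hc | hc⟩ := ValuationRing.cond a b
  · obtain ⟨c', h | h⟩ := key a b c ha hb hc
    · exact ⟨c', Or.inl (Subtype.ext h)⟩
    · exact ⟨c', Or.inr (Subtype.ext h)⟩
  · obtain ⟨c', h | h⟩ := key b a c hb ha hc
    · exact ⟨c', Or.inr (Subtype.ext h)⟩
    · exact ⟨c', Or.inl (Subtype.ext h)⟩

/-- The ring homomorphism from the composite onto `W`. -/
noncomputable def toW : comp W →+* W :=
  ((residue V).comp (comp W).subtype).codRestrict W.toSubring (fun a => a.2)

end composite

section extend

variable {Y : Scheme.{u}}

/-- Extending a valuation-ring-valued point downwards along a specialization of the image of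
its closed point (composite valuation ring). -/
theorem exists_extend {V : Type u} [CommRing V] [IsDomain V] [ValuationRing V]
    (g : Spec (CommRingCat.of V) ⟶ Y) (y' : Y) (h : g (closedPoint V) ⤳ y') :
    ∃ (C : Subring V) (_ : ValuationRing C) (g' : Spec (CommRingCat.of C) ⟶ Y),
      Spec.map (CommRingCat.ofHom C.subtype) ≫ g' = g ∧ g' (closedPoint C) = y' := by
  let ψ : Y.presheaf.stalk y' ⟶ CommRingCat.of V :=
    Y.presheaf.stalkSpecializes h ≫ Scheme.stalkClosedPointTo g
  let φ : Y.presheaf.stalk y' →+* ResidueField V := (residue V).comp ψ.hom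
  obtain ⟨W, hW, hWloc⟩ := exists_factor_valuationRing φ
  let ψ' : Y.presheaf.stalk y' →+* comp W := ψ.hom.codRestrict (comp W) (fun r => hW r)
  refine ⟨comp W, inferInstance, Spec.map (CommRingCat.ofHom ψ') ≫ Y.fromSpecStalk y', ?_, ?_⟩
  · rw [← Spec.map_comp_assoc]
    have h1 : CommRingCat.ofHom ψ' ≫ CommRingCat.ofHom (comp W).subtype = ψ := by
      ext r
      rfl
    rw [h1, Spec.map_comp, Category.assoc, Scheme.SpecMap_stalkSpecializes_fromSpecStalk h,
      Scheme.Spec_stalkClosedPointTo_fromSpecStalk]
  · have hloc : IsLocalHom ψ' := by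
      constructor
      intro r hr
      have h2 : IsUnit (toW W (ψ' r)) := hr.map (toW W)
      exact hWloc.map_nonunit r h2
    rw [Scheme.Hom.comp_apply]
    have : Spec.map (CommRingCat.ofHom ψ') (closedPoint (comp W)) =
        closedPoint (Y.presheaf.stalk y') := comap_closedPoint ψ'
    rw [this, Y.fromSpecStalk_closedPoint]

/-- Every finite chain of specializations in a scheme is hit by the spectrum of a valuation
ring. -/
theorem exists_valuationRing_of_chain (n : ℕ) (y : Fin (n + 1) → Y)
    (hy : ∀ i j : Fin (n + 1), i ≤ j → y i ⤳ y j) :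
    ∃ (V : Type u) (_ : CommRing V) (_ : IsDomain V) (_ : ValuationRing V)
      (g : Spec (CommRingCat.of V) ⟶ Y) (p : Fin (n + 1) → Spec (CommRingCat.of V)),
      (∀ i j : Fin (n + 1), i ≤ j → p i ⤳ p j) ∧ (∀ i, g (p i) = y i) ∧
        p (Fin.last n) = closedPoint V := by
  induction n with
  | zero =>
    obtain ⟨V, _, _, _, g, hg, -⟩ :=
      Groth.Agent.H73.exists_valuationRing_of_specializes (specializes_rfl (x := y 0))
    refine ⟨V, inferInstance, inferInstance, inferInstance, g, fun _ => closedPoint V,
      fun _ _ _ => specializes_rfl, fun i => ?_, rfl⟩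
    rw [hg]
    congr 1
    exact (Fin.fin_one_eq_zero i).symm
  | succ n ih =>
    obtain ⟨V, _, _, _, g, p, hp, hgp, hlast⟩ := ih (fun i => y i.castSucc)
      (fun i j hij => hy _ _ (Fin.castSucc_le_castSucc_iff.mpr hij))
    have h : g (closedPoint V) ⤳ y (Fin.last (n + 1)) := by
      rw [← hlast, hgp]
      exact hy _ _ (Fin.le_last _)
    obtain ⟨C, _, g', hg', hcl⟩ := exists_extend g (y (Fin.last (n + 1))) h
    let q : Fin (n + 2) → Spec (CommRingCat.of C) :=
      Fin.lastCases (closedPoint C) (fun i => Spec.map (CommRingCat.ofHom C.subtype) (p i))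
    have hq_last : q (Fin.last (n + 1)) = closedPoint C := Fin.lastCases_last
    have hq_cast : ∀ i : Fin (n + 1), q i.castSucc =
        Spec.map (CommRingCat.ofHom C.subtype) (p i) := fun i => Fin.lastCases_castSucc _
    refine ⟨C, inferInstance, inferInstance, inferInstance, g', q, ?_, ?_, hq_last⟩
    · intro i j hij
      induction j using Fin.lastCases with
      | last =>
        rw [hq_last]
        exact specializes_closedPoint (R := C) (q i)
      | cast j =>
        induction i using Fin.lastCases with
        | last =>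
          exfalso
          have : Fin.last (n + 1) ≤ j.castSucc := hij
          exact absurd (Fin.castSucc_lt_last j) (not_lt.mpr this)
        | cast i =>
          rw [hq_cast, hq_cast]
          exact (hp i j (Fin.castSucc_le_castSucc_iff.mp hij)).map
            (Spec.map (CommRingCat.ofHom C.subtype)).continuous
    · intro i
      induction i using Fin.lastCases with
      | last => rw [hq_last, hcl]
      | cast i => rw [hq_cast, ← Scheme.Hom.comp_apply, hg', hgp]

end extend

/-- Chains of specializations lift along morphisms all of whose base changes have the lifting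
property for ordered pairs of points. -/
theorem chain_lift {X Y : Scheme.{u}} (f : X ⟶ Y) (hf : Subtr.UnivSSubtrusive f) (n : ℕ)
    (y : Fin (n + 1) → Y) (hy : ∀ i j : Fin (n + 1), i ≤ j → y i ⤳ y j) :
    ∃ x : Fin (n + 1) → X, (∀ i j : Fin (n + 1), i ≤ j → x i ⤳ x j) ∧ ∀ i, f (x i) = y i := by
  obtain ⟨V, _, _, _, g, p, hp, hgp, -⟩ := exists_valuationRing_of_chain n y hy
  obtain ⟨V', _, _, _, a, b, hb, hab⟩ :=
    (Groth.Agent.H73.univSSubtrusive_iff_exists_valuationRing_lift f).mp hf V g
  let s : Spec (CommRingCat.of V) → Spec (CommRingCat.of V') := Function.surjInv hb.surj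
  have hs : ∀ z, b (s z) = z := Function.surjInv_eq hb.surj
  refine ⟨fun i => a (s (p i)), ?_, ?_⟩
  · intro i j hij
    have h1 := hp i j hij
    have htot : s (p i) ⤳ s (p j) ∨ s (p j) ⤳ s (p i) := by
      have := Std.Total.total (r := (· ≤ · : Ideal V' → Ideal V' → Prop))
        (PrimeSpectrum.asIdeal (R := V') (s (p i))) (PrimeSpectrum.asIdeal (R := V') (s (p j)))
      rcases this with h | h
      · exact Or.inl ((PrimeSpectrum.le_iff_specializes (R := V') (s (p i)) (s (p j))).mp h)
      · exact Or.inr ((PrimeSpectrum.le_iff_specializes (R := V') (s (p j)) (s (p i))).mp h)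
    rcases htot with h2 | h2
    · exact h2.map a.continuous
    · have h3 : p j ⤳ p i := by
        have := h2.map b.continuous
        rwa [hs, hs] at this
      have h4 : p i = p j := (h1.antisymm h3).eq
      change a (s (p i)) ⤳ a (s (p j))
      rw [h4]
  · intro i
    change f (a (s (p i))) = y i
    rw [← Scheme.Hom.comp_apply, hab, Scheme.Hom.comp_apply, hs, hgp]

end Groth.Agent.H6.ValChain
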