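import Mathlib
import Groth.Agent.H6.ValChain
import Groth.Agent.H73.SubtrProCons
import Groth.Agent.H17.ProConsClosed
import Groth.Agent.S3398

/-!
# Locally closed retrocompact subsets descend along quasi-compact universally S-subtrusive maps
-/

set_option autoImplicit false
universe u

namespace Groth.Agent.H6.SubtrLC

open AlgebraicGeometry CategoryTheory Topology Set Set.Notation Groth.Agent.H17

section general

/-- A compact locally closed subset of a prespectral space is closed for the constructible
topology. -/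
theorem consClosed_of_isCompact_of_isLocallyClosed {W : Type*} [TopologicalSpace W]
    [PrespectralSpace W] {K : Set W} (hK : IsCompact K) (hlc : IsLocallyClosed K) :
    ConsClosed K := by
  obtain ⟨U, Z, hU, hZ, rfl⟩ := hlc
  obtain ⟨O, hOc, hOo, h1, h2⟩ :=
    PrespectralSpace.exists_isCompact_and_isOpen_between hK hU inter_subset_left
  have : U ∩ Z = O ∩ Z := by
    apply Subset.antisymm
    · exact fun x hx => ⟨h1 hx, hx.2⟩
    · exact fun x hx => ⟨h2 hx.1, hx.2⟩
  rw [this]
  exact (consClosed_of_isOpen_isCompact hOo hOc).inter (consClosed_of_isClosed hZ)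

variable {X : Scheme.{u}}

/-- A pro-constructible subset of a scheme which is stable under specialization is closed. -/
theorem isClosed_of_pro_of_stable {Z : Set X} (hZ : ProCons.IsProConstructible Z)
    (hs : StableUnderSpecialization Z) : IsClosed Z := by
  rw [← closure_subset_iff_isClosed]
  intro x hx
  obtain ⟨z, hzZ, hz⟩ := Groth.Agent.H73.SubtrProCons.exists_specializes_of_mem_closure hZ hx
  exact hs hz hzZ

/-- A locally closed retrocompact subset of a scheme is pro-constructible. -/
theorem isProConstructible_of_isLocallyClosed_of_isRetrocompact {W : Set X}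
    (h1 : IsLocallyClosed W) (h2 : IsRetrocompact W) : ProCons.IsProConstructible W := by
  have hB := goodBasis_scheme X
  apply pro_of_consClosed_restrict hB
  intro x
  obtain ⟨W₀, hW₀, hx⟩ := hB.exists_mem x
  refine ⟨W₀, hW₀, hx, ?_⟩
  have := hB.spectralSpace hW₀
  apply consClosed_of_isCompact_of_isLocallyClosed
  · have hc : IsCompact (W ∩ W₀) := h2 (hB.isCompact _ hW₀) (hB.isOpen _ hW₀)
    rw [Subtype.isCompact_iff]
    convert hc using 1
    ext z
    simp only [mem_image, mem_preimage, Subtype.exists, exists_and_right, exists_eq_right,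
      mem_inter_iff]
    exact ⟨fun ⟨h, h'⟩ => ⟨h', h⟩, fun ⟨h, h'⟩ => ⟨h', h⟩⟩
  · exact h1.preimage continuous_subtype_val

/-- In a spectral space, sets closed for the constructible topology are compact. -/
theorem isCompact_of_consClosed {W : Type*} [TopologicalSpace W] [SpectralSpace W] {K : Set W}
    (hK : ConsClosed K) : IsCompact K := by
  have h1 : @IsCompact W (constructibleTopology W) K :=
    @IsClosed.isCompact W (constructibleTopology W) K compactSpace_cons hK
  have hcont : @Continuous W W (constructibleTopology W) _ id := by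
    refine @Continuous.mk W W (constructibleTopology W) _ id ?_
    intro U hU
    exact consOpen_of_isOpen hU
  have := @IsCompact.image W W (constructibleTopology W) _ K id h1 hcont
  simpa using this

/-- Pro-constructible subsets of a scheme are retrocompact. -/
theorem isRetrocompact_of_isProConstructible {P : Set X} (hP : ProCons.IsProConstructible P) :
    IsRetrocompact P := by
  have hB := goodBasis_scheme X
  intro U hUc hUo
  have hcov : ∀ x : X, ∃ W₀, x ∈ U → (IsAffSet X W₀ ∧ x ∈ W₀ ∧ W₀ ⊆ U) := by
    intro x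
    by_cases hx : x ∈ U
    · obtain ⟨W₀, hW₀, hxW₀, hsub⟩ := hB.basis x U hUo hx
      exact ⟨W₀, fun _ => ⟨hW₀, hxW₀, hsub⟩⟩
    · exact ⟨∅, fun h => absurd h hx⟩
  choose Wf hWf using hcov
  obtain ⟨t, hts, htc⟩ := hUc.elim_nhds_subcover Wf
    (fun x hx => (hB.isOpen _ (hWf x hx).1).mem_nhds (hWf x hx).2.1)
  have heq : P ∩ U = ⋃ x ∈ t, P ∩ Wf x := by
    ext z
    simp only [mem_inter_iff, mem_iUnion, exists_prop]
    constructor
    · rintro ⟨hzP, hzU⟩
      have := htc hzU
      simp only [mem_iUnion, exists_prop] at this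
      obtain ⟨x, hxt, hzx⟩ := this
      exact ⟨x, hxt, hzP, hzx⟩
    · rintro ⟨x, hxt, hzP, hzx⟩
      exact ⟨hzP, (hWf x (hts x hxt)).2.2 hzx⟩
  rw [heq]
  apply t.isCompact_biUnion
  intro x hxt
  have hW₀ := (hWf x (hts x hxt)).1
  have := hB.spectralSpace hW₀
  have hc : IsCompact (Wf x ↓∩ P) := isCompact_of_consClosed (consClosed_restrict_of_pro hB hP hW₀)
  have := hc.image continuous_subtype_val
  convert this using 1
  ext z
  simp only [mem_inter_iff, mem_image, mem_preimage, Subtype.exists, exists_and_left, exists_prop,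
    exists_eq_right_right]

end general

section main

variable {S' S : Scheme.{u}} (f : S' ⟶ S) [QuasiCompact f]

/-- The image of a closed set under a quasi-compact morphism is closed as soon as it is stable
under specialization. -/
theorem isClosed_image_of_stable {Z : Set S'} (hZ : IsClosed Z)
    (hs : StableUnderSpecialization (f '' Z)) : IsClosed (f '' Z) :=
  isClosed_of_pro_of_stable
    (Groth.Agent.S3398.result f Z (isProConstructible_of_isClosed hZ)) hs

omit [QuasiCompact f] in
/-- Forward direction. -/
theorem preimage_lc_rc {E : Set S} (h1 : IsLocallyClosed E) (h2 : IsRetrocompact E) :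
    IsLocallyClosed (f ⁻¹' E) ∧ IsRetrocompact (f ⁻¹' E) :=
  ⟨h1.preimage f.continuous, isRetrocompact_of_isProConstructible
    (pro_preimage f (isProConstructible_of_isLocallyClosed_of_isRetrocompact h1 h2))⟩

omit [QuasiCompact f] in
/-- chains of length three lift -/
theorem chain3 (hf : Subtr.UnivSSubtrusive f) {e t t' : S} (h01 : e ⤳ t) (h12 : t ⤳ t') :
    ∃ x₀ x₁ x₂ : S', x₀ ⤳ x₁ ∧ x₁ ⤳ x₂ ∧ f x₀ = e ∧ f x₁ = t ∧ f x₂ = t' := by
  obtain ⟨x, hx, hfx⟩ := Groth.Agent.H6.ValChain.chain_lift f hf 2 ![e, t, t'] (by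
    intro i j hij
    fin_cases i <;> fin_cases j
    · exact specializes_rfl
    · exact h01
    · exact h01.trans h12
    · exact absurd hij (by decide)
    · exact specializes_rfl
    · exact h12
    · exact absurd hij (by decide)
    · exact absurd hij (by decide)
    · exact specializes_rfl)
  exact ⟨x 0, x 1, x 2, hx 0 1 (by decide), hx 1 2 (by decide), hfx 0, hfx 1, hfx 2⟩

/-- Backward direction. -/
theorem lc_rc_of_preimage (hf : Subtr.UnivSSubtrusive f) {E : Set S}
    (h1 : IsLocallyClosed (f ⁻¹' E)) (h2 : IsRetrocompact (f ⁻¹' E)) :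
    IsLocallyClosed E ∧ IsRetrocompact E := by
  have hsub : Subtr.IsSSubtrusive f := MorphismProperty.universally_le _ _ hf
  have hsurj : Function.Surjective f := by
    intro y
    obtain ⟨x, _, _, hx, _⟩ := hsub (specializes_rfl (x := y))
    exact ⟨x, hx⟩
  have himg : f '' (f ⁻¹' E) = E := image_preimage_eq E hsurj
  refine ⟨?_, ?_⟩
  · have hWpro := isProConstructible_of_isLocallyClosed_of_isRetrocompact h1 h2
    have h2a : ∀ x ∈ closure (f ⁻¹' E), ∃ w ∈ f ⁻¹' E, w ⤳ x := fun x hx =>
      Groth.Agent.H73.SubtrProCons.exists_specializes_of_mem_closure hWpro hx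
    -- `f (closure W)` is closed
    have hstab : StableUnderSpecialization (f '' closure (f ⁻¹' E)) := by
      rintro t t' htt' ⟨x, hx, rfl⟩
      obtain ⟨w, hw, hwx⟩ := h2a x hx
      obtain ⟨x₀, x₁, x₂, h01, h12, hf0, -, hf2⟩ := chain3 f hf (hwx.map f.continuous) htt'
      refine ⟨x₂, ?_, hf2⟩
      have hx₀ : x₀ ∈ f ⁻¹' E := by
        change f x₀ ∈ E
        rw [hf0]
        exact hw
      exact (h01.trans h12).mem_closed isClosed_closure (subset_closure hx₀)
    have hcl : IsClosed (f '' closure (f ⁻¹' E)) := isClosed_image_of_stable f isClosed_closure hstab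
    have hclE : closure E = f '' closure (f ⁻¹' E) := by
      apply Subset.antisymm
      · apply closure_minimal _ hcl
        intro t ht
        obtain ⟨x, rfl⟩ := hsurj t
        exact ⟨x, subset_closure ht, rfl⟩
      · have := image_closure_subset_closure_image (s := f ⁻¹' E) f.continuous
        rwa [himg] at this
    have hdiff : closure E \ E = f '' (closure (f ⁻¹' E) \ f ⁻¹' E) := by
      ext t
      constructor
      · rintro ⟨ht1, ht2⟩
        rw [hclE] at ht1
        obtain ⟨x, hx, rfl⟩ := ht1
        exact ⟨x, ⟨hx, ht2⟩, rfl⟩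
      · rintro ⟨x, ⟨hx1, hx2⟩, rfl⟩
        refine ⟨?_, hx2⟩
        rw [hclE]
        exact ⟨x, hx1, rfl⟩
    have hclosedW : IsClosed (closure (f ⁻¹' E) \ f ⁻¹' E) := by
      have := h1.isOpen_coborder
      rw [coborder] at this
      exact isOpen_compl_iff.mp this
    have hstab2 : StableUnderSpecialization (f '' (closure (f ⁻¹' E) \ f ⁻¹' E)) := by
      rw [← hdiff]
      rintro t t' htt' ⟨ht1, ht2⟩
      refine ⟨htt'.mem_closed isClosed_closure ht1, fun ht'E => ?_⟩
      rw [hclE] at ht1
      obtain ⟨x, hx, rfl⟩ := ht1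
      obtain ⟨w, hw, hwx⟩ := h2a x hx
      obtain ⟨x₀, x₁, x₂, h01, h12, hf0, hf1, hf2⟩ := chain3 f hf (hwx.map f.continuous) htt'
      have hx₀ : x₀ ∈ f ⁻¹' E := by
        change f x₀ ∈ E
        rw [hf0]
        exact hw
      have hx₂ : x₂ ∈ f ⁻¹' E := by
        change f x₂ ∈ E
        rw [hf2]
        exact ht'E
      have hx₁ : x₁ ∉ f ⁻¹' E := by
        change f x₁ ∉ E
        rw [hf1]
        exact ht2
      obtain ⟨U, Z, hU, hZ, hWeq⟩ := h1
      rw [hWeq] at hx₀ hx₂ hx₁
      exact hx₁ ⟨h12.mem_open hU hx₂.1, h01.mem_closed hZ hx₀.2⟩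
    have hfinal : IsClosed (closure E \ E) := by
      rw [hdiff]
      exact isClosed_image_of_stable f hclosedW hstab2
    rw [isLocallyClosed_iff_isOpen_coborder, coborder]
    exact hfinal.isOpen_compl
  · intro U hUc hUo
    have hc : IsCompact (f ⁻¹' U) := QuasiCompact.isCompact_preimage (f := f) U hUo hUc
    have := (h2 hc (hUo.preimage f.continuous)).image f.continuous
    rwa [image_inter_preimage, himg] at this

end main

end Groth.Agent.H6.SubtrLC
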