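import Groth.Prelude.Def_Grpd

/-!
# T-point calculus in a groupoid scheme
-/

set_option autoImplicit false
universe u

open CategoryTheory CategoryTheory.Limits AlgebraicGeometry Grpd

namespace Groth.Agent.H6.GrpdCalc

variable {S : Scheme.{u}} (G : GroupoidScheme S)

/-- composition of `T`-points: `α ∘ β` -/
noncomputable def comp {T : Scheme.{u}} (α β : T ⟶ G.R) (h : α ≫ G.s = β ≫ G.t) : T ⟶ G.R :=
  pullback.lift α β h ≫ G.c

lemma comp_congr {T : Scheme.{u}} {α α' β β' : T ⟶ G.R} (hα : α = α') (hβ : β = β')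
    (h : α ≫ G.s = β ≫ G.t) (h' : α' ≫ G.s = β' ≫ G.t) : comp G α β h = comp G α' β' h' := by
  subst hα hβ; rfl

lemma precomp {T T' : Scheme.{u}} (g : T' ⟶ T) (α β : T ⟶ G.R) (h : α ≫ G.s = β ≫ G.t) :
    g ≫ comp G α β h = comp G (g ≫ α) (g ≫ β) (by rw [Category.assoc, Category.assoc, h]) := by
  unfold comp
  rw [← Category.assoc]
  congr 1
  apply pullback.hom_ext <;> simp only [Category.assoc, pullback.lift_fst, pullback.lift_snd]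

lemma lift_comp_c {T : Scheme.{u}} (x : T ⟶ pullback G.s G.t) :
    x ≫ G.c = comp G (x ≫ pullback.fst _ _) (x ≫ pullback.snd _ _)
      (by rw [Category.assoc, Category.assoc, pullback.condition]) := by
  unfold comp
  congr 1
  apply pullback.hom_ext <;> simp only [pullback.lift_fst, pullback.lift_snd]

lemma comp_s {T : Scheme.{u}} (α β : T ⟶ G.R) (h : α ≫ G.s = β ≫ G.t) :
    comp G α β h ≫ G.s = β ≫ G.s := G.comp_s α β h

lemma comp_t {T : Scheme.{u}} (α β : T ⟶ G.R) (h : α ≫ G.s = β ≫ G.t) :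
    comp G α β h ≫ G.t = α ≫ G.t := G.comp_t α β h

lemma assoc {T : Scheme.{u}} (α β γ : T ⟶ G.R) (h₁ : α ≫ G.s = β ≫ G.t)
    (h₂ : β ≫ G.s = γ ≫ G.t) :
    comp G (comp G α β h₁) γ ((comp_s G α β h₁).trans h₂) =
      comp G α (comp G β γ h₂) (h₁.trans (comp_t G β γ h₂).symm) := G.assoc α β γ h₁ h₂

/-- `(e ∘ t(β)) ∘ β = β`, with the identity given through any `α` with the same target -/
lemma e_comp' {T : Scheme.{u}} (x β : T ⟶ G.R) (hx : x = β ≫ G.t ≫ G.e)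
    (h : x ≫ G.s = β ≫ G.t) : comp G x β h = β := by
  subst hx
  exact G.e_comp β

lemma comp_e' {T : Scheme.{u}} (α x : T ⟶ G.R) (hx : x = α ≫ G.s ≫ G.e)
    (h : α ≫ G.s = x ≫ G.t) : comp G α x h = α := by
  subst hx
  exact G.comp_e α

lemma comp_i {T : Scheme.{u}} (α : T ⟶ G.R) (h : α ≫ G.s = (α ≫ G.i) ≫ G.t) :
    comp G α (α ≫ G.i) h = α ≫ G.t ≫ G.e := G.comp_i α

lemma i_comp {T : Scheme.{u}} (α : T ⟶ G.R) (h : (α ≫ G.i) ≫ G.s = α ≫ G.t) :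
    comp G (α ≫ G.i) α h = α ≫ G.s ≫ G.e := G.i_comp α

/-- `α ∘ (α⁻¹ ∘ β) = β` when `t α = t β` -/
lemma comp_inv_comp {T : Scheme.{u}} (α β : T ⟶ G.R) (hαβ : α ≫ G.t = β ≫ G.t)
    (h₁ : (α ≫ G.i) ≫ G.s = β ≫ G.t) (h₂ : α ≫ G.s = comp G (α ≫ G.i) β h₁ ≫ G.t) :
    comp G α (comp G (α ≫ G.i) β h₁) h₂ = β := by
  have hi : α ≫ G.s = (α ≫ G.i) ≫ G.t := by rw [Category.assoc, G.i_t]
  rw [← assoc G α (α ≫ G.i) β hi h₁]
  apply e_comp'
  rw [comp_i, ← Category.assoc, hαβ, Category.assoc]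

/-- `α⁻¹ ∘ (α ∘ β) = β` when `s α = t β` -/
lemma inv_comp_comp {T : Scheme.{u}} (α β : T ⟶ G.R) (h : α ≫ G.s = β ≫ G.t)
    (h₂ : (α ≫ G.i) ≫ G.s = comp G α β h ≫ G.t) :
    comp G (α ≫ G.i) (comp G α β h) h₂ = β := by
  have hi : (α ≫ G.i) ≫ G.s = α ≫ G.t := by rw [Category.assoc, G.i_s]
  rw [← assoc G (α ≫ G.i) α β hi h]
  apply e_comp'
  rw [i_comp, ← Category.assoc, h, Category.assoc]

/-- `(α ∘ β) ∘ β⁻¹ = α` -/
lemma comp_comp_inv {T : Scheme.{u}} (α β : T ⟶ G.R) (h : α ≫ G.s = β ≫ G.t)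
    (h₂ : comp G α β h ≫ G.s = (β ≫ G.i) ≫ G.t) :
    comp G (comp G α β h) (β ≫ G.i) h₂ = α := by
  have hi : β ≫ G.s = (β ≫ G.i) ≫ G.t := by rw [Category.assoc, G.i_t]
  rw [assoc G α β (β ≫ G.i) h hi]
  apply comp_e'
  rw [comp_i, ← Category.assoc, ← h, Category.assoc]

/-- `(α ∘ β⁻¹) ∘ β = α` when `s α = s β` -/
lemma comp_inv_comp' {T : Scheme.{u}} (α β : T ⟶ G.R) (hαβ : α ≫ G.s = β ≫ G.s)
    (h₁ : α ≫ G.s = (β ≫ G.i) ≫ G.t) (h₂ : comp G α (β ≫ G.i) h₁ ≫ G.s = β ≫ G.t) :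
    comp G (comp G α (β ≫ G.i) h₁) β h₂ = α := by
  have hi : (β ≫ G.i) ≫ G.s = β ≫ G.t := by rw [Category.assoc, G.i_s]
  rw [assoc G α (β ≫ G.i) β h₁ hi]
  apply comp_e'
  rw [i_comp, ← Category.assoc, ← hαβ, Category.assoc]

end Groth.Agent.H6.GrpdCalc
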