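import Groth.Agent.H6.HomShStalk
import Groth.Agent.H79.StructStalk
import Groth.Agent.H87.DefoIso
import Groth.Agent.H5.Stalk.Basic

/-!
# Reflexive modules: sheaf level vs stalk level (helper6)

* `evalStalk_bijective_of_isCoh`
* `bijective_stalk_bidualMap_iff`: for `F` coherent on a locally Noetherian scheme, the stalk at `x`
  of `F ⟶ F^**` is bijective iff `F_x` is a reflexive `O_{X,x}`-module.
* `isReflexive_iff_forall_isReflexiveAt`.
-/

set_option autoImplicit false
set_option linter.style.haveILetI false
universe u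

namespace Groth.Agent.H6.HomSh

open AlgebraicGeometry CategoryTheory Opposite TopologicalSpace
open Groth.Agent.H8

variable {X : Scheme.{u}}

theorem evalStalk_bijective_of_isCoh [IsLocallyNoetherian X] (F G : X.Modules) (hF : Coh.IsCoh F)
    [G.IsQuasicoherent] (x : X) : Function.Bijective (RefHull.evalStalk F G x) := by
  haveI : F.IsQuasicoherent := hF.1
  haveI : (RefHull.homSh F G).IsQuasicoherent :=
    isQuasicoherent_homSh F G (finitePresentation_sections F hF)
  obtain ⟨_, ⟨U, hU : IsAffineOpen U, rfl⟩, hxU, -⟩ :=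
    X.isBasis_affineOpens.exists_subset_of_mem_open (Set.mem_univ x) isOpen_univ
  haveI := finitePresentation_sections F hF U hU
  exact evalStalk_bijective F G hU hxU

/-- the stalk of the biduality map, followed by evaluation, is `bidualAt` -/
theorem evalStalk_stalkMap_bidualMap (F : X.Modules) (x : X) (v : F.presheaf.stalk x) :
    RefHull.evalStalk (RefHull.dual F) (Coh.structureModule X) x
      (RefHull.stalkMapₗ (RefHull.bidualMap F) x v) = RefHull.bidualAt F x v := by
  obtain ⟨U, hx, s, rfl⟩ := TopCat.Presheaf.exists_germ_eq F.presheaf v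
  rw [RefHull.stalkMapₗ_germ, RefHull.evalStalk_germ]
  exact RefHull.bidualMap_app_apply F s ⟨x, hx⟩

section Algebra

variable {R : Type u} [CommRing R] {P O' D : Type u} [AddCommGroup P] [Module R P]
  [AddCommGroup O'] [Module R O'] [AddCommGroup D] [Module R D]

/-- abstract form: if `e1 : D ≃ Hom(P, O')` and `O' ≃ R`, the map `P → Hom(D, O')`,
`v ↦ (θ ↦ e1 θ v)` is bijective iff `P` is reflexive -/
theorem bijective_iff_isReflexive (c : R ≃ₗ[R] O') (e1 : D ≃ₗ[R] (P →ₗ[R] O'))
    (b : P →ₗ[R] (D →ₗ[R] O')) (hb : ∀ v θ, b v θ = e1 θ v) :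
    Function.Bijective b ↔ Module.IsReflexive R P := by
  let κ : (P →ₗ[R] O') ≃ₗ[R] Module.Dual R P := LinearEquiv.arrowCongr (LinearEquiv.refl R P) c.symm
  let E1 : D ≃ₗ[R] Module.Dual R P := e1.trans κ
  let E2 : (D →ₗ[R] O') ≃ₗ[R] Module.Dual R (Module.Dual R P) := LinearEquiv.arrowCongr E1 c.symm
  have h : ∀ v, E2 (b v) = Module.Dual.eval R P v := by
    intro v
    apply LinearMap.ext
    intro l
    rw [LinearEquiv.arrowCongr_apply, hb, Module.Dual.eval_apply]
    have : e1 (E1.symm l) = κ.symm l := by
      change e1 ((e1.trans κ).symm l) = _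
      rw [LinearEquiv.trans_symm, LinearEquiv.trans_apply, LinearEquiv.apply_symm_apply]
    rw [this]
    change c.symm ((LinearEquiv.arrowCongr (LinearEquiv.refl R P) c.symm).symm l v) = _
    rw [LinearEquiv.arrowCongr_symm_apply]
    simp
  have h2 : (Module.Dual.eval R P : P → _) = E2 ∘ b := by
    funext v
    exact (h v).symm
  constructor
  · intro hbij
    refine ⟨?_⟩
    rw [h2]
    exact E2.bijective.comp hbij
  · intro hr
    have := Module.bijective_dual_eval R P
    rw [h2] at this
    exact (Function.Bijective.of_comp_iff' E2.bijective b).mp this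

end Algebra


/-- For a coherent module on a locally Noetherian scheme, the stalk of `F ⟶ F^**` at `x` is
bijective iff `F_x` is a reflexive `O_{X,x}`-module. -/
theorem bijective_stalk_bidualMap_iff [IsLocallyNoetherian X] (F : X.Modules) (hF : Coh.IsCoh F)
    (x : X) :
    Function.Bijective (RefHull.stalkMapₗ (RefHull.bidualMap F) x) ↔ RefHull.IsReflexiveAt F x := by
  haveI := Groth.Agent.H67.StalkLoc.isQuasicoherent_structureModule X
  let e1 := LinearEquiv.ofBijective (RefHull.evalStalk F (Coh.structureModule X) x)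
    (evalStalk_bijective_of_isCoh F (Coh.structureModule X) hF x)
  have e2bij := evalStalk_bijective_of_isCoh (RefHull.dual F) (Coh.structureModule X)
    (isCoh_dual F hF) x
  have key := bijective_iff_isReflexive (Groth.Agent.H79.StructStalk.structStalkEquiv X x) e1
    (RefHull.bidualAt F x) (fun v θ => rfl)
  unfold RefHull.IsReflexiveAt
  rw [← key]
  have h2 : (RefHull.bidualAt F x : _ → _) =
      RefHull.evalStalk (RefHull.dual F) (Coh.structureModule X) x ∘
        RefHull.stalkMapₗ (RefHull.bidualMap F) x := by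
    funext v
    exact (evalStalk_stalkMap_bidualMap F x v).symm
  rw [h2]
  exact (Function.Bijective.of_comp_iff' e2bij _).symm

/-- stalk maps of an isomorphism are bijective -/
theorem bijective_stalkMapₗ_of_isIso {F G : X.Modules} (φ : F ⟶ G) [IsIso φ] (x : X) :
    Function.Bijective (RefHull.stalkMapₗ φ x) := by
  have h : IsIso ((Groth.Agent.H5.Stalk.stalkFunctor x).map φ) := inferInstance
  have hb := (ConcreteCategory.isIso_iff_bijective _).mp h
  exact hb

theorem isIso_iff_bijective_stalkMapₗ {F G : X.Modules} (φ : F ⟶ G) :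
    IsIso φ ↔ ∀ x : X, Function.Bijective (RefHull.stalkMapₗ φ x) :=
  ⟨fun _ x => bijective_stalkMapₗ_of_isIso φ x,
    Groth.Agent.H87.DefoIso.isIso_of_stalk_bijective φ⟩

/-- A coherent module on a locally Noetherian scheme is reflexive iff all its stalks are. -/
theorem isReflexive_iff_forall_isReflexiveAt [IsLocallyNoetherian X] (F : X.Modules)
    (hF : Coh.IsCoh F) : RefHull.IsReflexive F ↔ ∀ x : X, RefHull.IsReflexiveAt F x := by
  unfold RefHull.IsReflexive
  rw [isIso_iff_bijective_stalkMapₗ]
  exact forall_congr' fun x => bijective_stalk_bidualMap_iff F hF x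


/-- the locus where a morphism of coherent modules is an isomorphism on stalks is open -/
theorem isOpen_bijLocus [IsLocallyNoetherian X] {F G : X.Modules} (hF : Coh.IsCoh F)
    (hG : Coh.IsCoh G) (φ : F ⟶ G) :
    IsOpen {x : X | Function.Bijective (RefHull.stalkMapₗ φ x)} := by
  rw [isOpen_iff_forall_mem_open]
  intro x hx
  haveI : F.IsQuasicoherent := hF.1
  haveI : G.IsQuasicoherent := hG.1
  haveI : SheafOfModules.IsFiniteType (R := X.ringCatSheaf) F := hF.2
  obtain ⟨_, ⟨V, hV : IsAffineOpen V, rfl⟩, hxV, -⟩ :=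
    X.isBasis_affineOpens.exists_subset_of_mem_open (Set.mem_univ x) isOpen_univ
  haveI : Module.Finite Γ(X, V) Γ(F, V) := Groth.Agent.H44.finite_sections_of_isFiniteType F hV
  haveI : Module.FinitePresentation Γ(X, V) Γ(G, V) := finitePresentation_sections G hG V hV
  obtain ⟨g, hxg, hg⟩ := Groth.Agent.H67.StalkLoc.exists_basicOpen_bijective φ hV hxV hx
  exact ⟨X.basicOpen g, fun y hy => hg y hy, (X.basicOpen g).isOpen, hxg⟩

end Groth.Agent.H6.HomSh
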