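import Mathlib
import Groth.Agent.H1.Descent

set_option autoImplicit false
set_option linter.unusedSectionVars false

namespace Groth.Agent.H6.ImmDescentFppf

open AlgebraicGeometry CategoryTheory Limits TopologicalSpace MorphismProperty

universe u

/-- Immersions descend along fppf morphisms. -/
theorem immersion_descendsAlong_fppf :
    MorphismProperty.DescendsAlong (@IsImmersion : MorphismProperty Scheme.{u})
      (@Surjective ⊓ @Flat ⊓ @LocallyOfFinitePresentation : MorphismProperty Scheme.{u}) := by
  apply MorphismProperty.DescendsAlong.mk'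
  intro X Y Z f g _ hf hg
  have hsurj : Surjective f := hf.1.1
  have hflat : Flat f := hf.1.2
  have hlfp : LocallyOfFinitePresentation f := hf.2
  have hgi : IsImmersion (pullback.fst f g) := hg
  have hopen : IsOpenMap f := f.isOpenMap
  have hquot : Topology.IsQuotientMap f := hopen.isQuotientMap f.continuous f.surjective
  have hrange : Set.range (pullback.fst f g) = f ⁻¹' (Set.range g) :=
    Scheme.Pullback.range_fst f g
  have hcob : f ⁻¹' (coborder (Set.range g)) = coborder (Set.range (pullback.fst f g)) := by
    rw [hrange, coborder_preimage hopen f.continuous]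
  have hopenU : IsOpen (coborder (Set.range g)) := by
    rw [← hquot.isOpen_preimage, hcob]
    exact (pullback.fst f g).isLocallyClosed_range.isOpen_coborder
  let U : Z.Opens := ⟨coborder (Set.range g), hopenU⟩
  have hrU : Set.range g ⊆ Set.range U.ι := by
    simpa [U] using subset_coborder
  let gU : Y ⟶ U := IsOpenImmersion.lift U.ι g hrU
  have hgU : gU ≫ U.ι = g := IsOpenImmersion.lift_fac _ _ _
  have hr' : Set.range (pullback.fst f g) ⊆ Set.range (f ⁻¹ᵁ U).ι := by
    rintro _ ⟨w, rfl⟩
    simp only [Scheme.Opens.range_ι, SetLike.mem_coe]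
    change f (pullback.fst f g w) ∈ coborder (Set.range g)
    rw [← Scheme.Hom.comp_apply, pullback.condition, Scheme.Hom.comp_apply]
    exact subset_coborder ⟨_, rfl⟩
  let g'U : pullback f g ⟶ (f ⁻¹ᵁ U) := IsOpenImmersion.lift (f ⁻¹ᵁ U).ι (pullback.fst f g) hr'
  have hg'U : g'U ≫ (f ⁻¹ᵁ U).ι = pullback.fst f g := IsOpenImmersion.lift_fac _ _ _
  have top : IsPullback (pullback.snd f g) g'U gU (f ∣_ U) := by
    refine IsPullback.of_bot ?_ ?_ (isPullback_morphismRestrict f U)
    · rw [hg'U, hgU]
      exact (IsPullback.of_hasPullback f g).flip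
    · rw [← cancel_mono U.ι, Category.assoc, Category.assoc, hgU, morphismRestrict_ι,
        reassoc_of% hg'U, pullback.condition]
  have hQ : (@Surjective ⊓ @Flat ⊓ @LocallyOfFinitePresentation : MorphismProperty Scheme.{u})
      (f ∣_ U) := MorphismProperty.of_isPullback (isPullback_morphismRestrict f U).flip hf
  -- `g'U` is a closed immersion
  have : IsPreimmersion (g'U ≫ (f ⁻¹ᵁ U).ι) := by rw [hg'U]; infer_instance
  have hpre : IsPreimmersion g'U := .of_comp g'U (f ⁻¹ᵁ U).ι
  have hcl : IsClosed (Set.range g'U) := by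
    have : Set.range g'U = (f ⁻¹ᵁ U).ι ⁻¹' (closure (Set.range (pullback.fst f g))) := by
      ext x
      constructor
      · rintro ⟨w, rfl⟩
        apply subset_closure
        refine ⟨w, ?_⟩
        rw [← hg'U, Scheme.Hom.comp_apply]
      · intro hx
        have h1 : (f ⁻¹ᵁ U).ι x ∈ coborder (Set.range (pullback.fst f g)) := by
          rw [← hcob]
          exact x.2
        have h2 : (f ⁻¹ᵁ U).ι x ∈ Set.range (pullback.fst f g) := by
          rw [← coborder_inter_closure (s := Set.range (pullback.fst f g))]
          exact ⟨h1, hx⟩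
        obtain ⟨w, hw⟩ := h2
        refine ⟨w, ?_⟩
        apply (f ⁻¹ᵁ U).ι.injective
        rw [← hw, ← hg'U, Scheme.Hom.comp_apply]
    rw [this]
    exact isClosed_closure.preimage (f ⁻¹ᵁ U).ι.continuous
  have hci' : IsClosedImmersion g'U := .of_isPreimmersion _ hcl
  have := Groth.Agent.H1.isClosedImmersion_descendsAlong_fpqc.{u}
  have hci : IsClosedImmersion gU :=
    of_isPullback_of_descendsAlong (P := @IsClosedImmersion)
      (Q := (@Surjective ⊓ @Flat ⊓ @LocallyOfFinitePresentation : MorphismProperty Scheme.{u}))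
      top.flip hQ hci'
  change IsImmersion g
  rw [← hgU]
  infer_instance

end Groth.Agent.H6.ImmDescentFppf
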