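import Groth.Agent.H6.BiratStalk
import Groth.Agent.H20.BiratPullback

set_option autoImplicit false
universe u

open CategoryTheory CategoryTheory.Limits AlgebraicGeometry Topology

namespace Groth.Agent.H6.BiratOpen

variable {X Y : Scheme.{u}}

/-- An injective morphism which is source-locally an open immersion is an open immersion. -/
lemma isOpenImmersion_of_injective_of_local {Z Y : Scheme.{u}} (j : Z ⟶ Y)
    (hloc : ∀ z : Z, ∃ W : Z.Opens, z ∈ W ∧ IsOpenImmersion (W.ι ≫ j))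
    (hinj : Function.Injective j) : IsOpenImmersion j := by
  have hopen : IsOpenMap j := by
    refine IsOpenMap.of_nhds_le fun z ↦ ?_
    obtain ⟨W, hzW, hW⟩ := hloc z
    let w : W.toScheme := ⟨z, hzW⟩
    have h1 := (W.ι ≫ j).isOpenEmbedding.map_nhds_eq w
    have h2 : Filter.map (W.ι ≫ j) (𝓝 w) ≤ Filter.map j (𝓝 z) := by
      have : ⇑(W.ι ≫ j) = ⇑j ∘ ⇑W.ι := by ext; simp
      rw [this, ← Filter.map_map]
      have hc : Filter.Tendsto (⇑W.ι) (𝓝 w) (𝓝 (W.ι w)) :=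
        W.ι.continuous.continuousAt
      exact Filter.map_mono hc
    rw [h1] at h2
    exact h2
  have hemb : IsOpenEmbedding j := .of_continuous_injective_isOpenMap j.continuous hinj hopen
  have hst : ∀ z, IsIso (j.stalkMap z) := by
    intro z
    obtain ⟨W, hzW, hW⟩ := hloc z
    let w : W.toScheme := ⟨z, hzW⟩
    have h3 : IsIso ((W.ι ≫ j).stalkMap w) := inferInstance
    rw [Scheme.Hom.stalkMap_comp] at h3
    exact @IsIso.of_isIso_comp_right _ _ _ _ _ (j.stalkMap (W.ι w)) (W.ι.stalkMap w)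
      inferInstance h3
  exact IsOpenImmersion.of_isIso_stalkMap j hemb

/-- If `f` is locally of finite type, induces an isomorphism on stalks at `ξ`, and maps from
`Spec 𝒪_{Y, f ξ}` to `X` over `Y` spread out, then `f` is an open immersion near `ξ`. -/
lemma exists_isOpenImmersion_of_isIso_stalkMap (f : X ⟶ Y) [LocallyOfFiniteType f] (ξ : X)
    [IsIso (f.stalkMap ξ)]
    (hsp : ∀ ψ : Spec (Y.presheaf.stalk (f ξ)) ⟶ X, ψ ≫ f = Y.fromSpecStalk (f ξ) ≫ 𝟙 Y →
      ∃ (V : Y.Opens) (hyV : f ξ ∈ V) (g : V.toScheme ⟶ X),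
        ψ = V.fromSpecStalkOfMem (f ξ) hyV ≫ g ∧ g ≫ f = V.ι ≫ 𝟙 Y) :
    ∃ U : X.Opens, ξ ∈ U ∧ IsOpenImmersion (U.ι ≫ f) := by
  obtain ⟨U, V, i, hx, -, hi⟩ := BiratStalk.exists_iso_of_stalk_iso f (𝟙 Y)
    (asIso (f.stalkMap ξ)).symm
    (by simp only [Iso.symm_inv, asIso_hom, Category.comp_id,
      Scheme.SpecMap_stalkMap_fromSpecStalk])
    (fun φ h => SpreadLfp.spread_out_of_lfp' f (𝟙 Y) φ h) hsp
  refine ⟨U, hx, ?_⟩
  rw [Category.comp_id] at hi
  rw [← hi]
  infer_instance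

lemma exists_isOpenImmersion_of_isIso_stalkMap_of_lfp (f : X ⟶ Y) [LocallyOfFinitePresentation f]
    (ξ : X) [IsIso (f.stalkMap ξ)] :
    ∃ U : X.Opens, ξ ∈ U ∧ IsOpenImmersion (U.ι ≫ f) :=
  exists_isOpenImmersion_of_isIso_stalkMap f ξ
    (fun ψ h => SpreadLfp.spread_out_of_lfp' (𝟙 Y) f ψ h)

lemma exists_isOpenImmersion_of_isIso_stalkMap_of_germInjective (f : X ⟶ Y)
    [LocallyOfFiniteType f] (ξ : X) [IsIso (f.stalkMap ξ)] [Y.IsGermInjectiveAt (f ξ)] :
    ∃ U : X.Opens, ξ ∈ U ∧ IsOpenImmersion (U.ι ≫ f) :=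
  exists_isOpenImmersion_of_isIso_stalkMap f ξ
    (fun ψ h => spread_out_of_isGermInjective' (𝟙 Y) f ψ h)

section Topology

variable {T : Type*} [TopologicalSpace T]

/-- The set of generic points of irreducible components. -/
def Gen (T : Type*) [TopologicalSpace T] : Set T := {y | closure {y} ∈ irreducibleComponents T}

lemma finite_gen [T0Space T] (h : (irreducibleComponents T).Finite) : (Gen T).Finite := by
  refine Set.Finite.of_finite_image (f := fun y : T ↦ closure {y}) (h.subset ?_) ?_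
  · rintro _ ⟨y, hy, rfl⟩; exact hy
  · intro y _ y' _ (hyy' : closure {y} = closure {y'})
    have h1 : y ⤳ y' := specializes_iff_closure_subset.mpr hyy'.ge
    have h2 : y' ⤳ y := specializes_iff_closure_subset.mpr hyy'.le
    exact (h1.antisymm h2).eq

/-- The complement of the union of all irreducible components other than `closure {η}`. -/
def otherCompl (T : Type*) [TopologicalSpace T] (η : T) : Set T :=
  (⋃ η' ∈ Gen T \ {η}, closure {η'})ᶜ

lemma isOpen_otherCompl (hfin : (Gen T).Finite) (η : T) : IsOpen (otherCompl T η) := by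
  rw [otherCompl, isOpen_compl_iff]
  exact (hfin.subset Set.sdiff_subset).isClosed_biUnion fun _ _ ↦ isClosed_closure

lemma mem_otherCompl [T0Space T] {η : T} (hη : η ∈ Gen T) : η ∈ otherCompl T η := by
  simp only [otherCompl, Set.mem_compl_iff, Set.mem_iUnion, not_exists]
  rintro η' ⟨hη', hne⟩ hmem
  have : η' ⤳ η := specializes_iff_mem_closure.mpr hmem
  exact hne (Groth.Agent.H20.eq_of_specializes_of_mem_irreducibleComponents hη this)

lemma otherCompl_subset_closure [QuasiSober T] (η : T) : otherCompl T η ⊆ closure {η} := by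
  intro y hy
  obtain ⟨η₀, hη₀, hs⟩ := Groth.Agent.H20.exists_generic_specializes y
  by_cases h : η₀ = η
  · subst h; exact specializes_iff_mem_closure.mp hs
  · exfalso
    apply hy
    simp only [Set.mem_iUnion]
    exact ⟨η₀, ⟨hη₀, h⟩, specializes_iff_mem_closure.mp hs⟩

lemma eq_of_mem_otherCompl_of_mem_closure {η η' y : T} (hη' : η' ∈ Gen T)
    (hy : y ∈ otherCompl T η) (hy' : y ∈ closure {η'}) : η' = η := by
  by_contra h
  apply hy
  simp only [Set.mem_iUnion]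
  exact ⟨η', ⟨hη', h⟩, hy'⟩

lemma dense_of_gen_subset [QuasiSober T] {s : Set T} (hs : Gen T ⊆ s) : Dense s := by
  intro y
  obtain ⟨η₀, hη₀, hsp⟩ := Groth.Agent.H20.exists_generic_specializes y
  exact closure_mono (Set.singleton_subset_iff.mpr (hs hη₀)) (specializes_iff_mem_closure.mp hsp)

end Topology

/-- A reduced scheme with finitely many irreducible components is germ-injective at the generic
points of its irreducible components. -/
lemma isGermInjectiveAt_of_isReduced_of_mem_gen (Y : Scheme.{u}) [IsReduced Y]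
    (hfin : (Gen Y).Finite) {η : Y} (hη : η ∈ Gen Y) : Y.IsGermInjectiveAt η := by
  let W : Y.Opens := ⟨otherCompl Y η, isOpen_otherCompl hfin η⟩
  have hηW : η ∈ W := mem_otherCompl hη
  have hirr : IsIrreducible (W : Set Y) :=
    ⟨⟨η, hηW⟩, (isIrreducible_singleton (x := η)).closure.isPreirreducible.open_subset W.2
      (otherCompl_subset_closure η)⟩
  have : IrreducibleSpace W.toScheme := Subtype.irreducibleSpace hirr
  have : IsIntegral W.toScheme := isIntegral_of_irreducibleSpace_of_isReduced _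
  have : W.toScheme.IsGermInjectiveAt ⟨η, hηW⟩ := inferInstance
  exact inferInstanceAs (Y.IsGermInjectiveAt (W.ι ⟨η, hηW⟩))

/-- Birational morphisms are isomorphisms over dense opens (source-local version). -/
theorem exists_dense_opens_isIso (f : X ⟶ Y)
    (hXfin : (irreducibleComponents ↥X).Finite) (hYfin : (irreducibleComponents ↥Y).Finite)
    (hbij : Set.BijOn (fun x : X => f.base x) (Gen X) (Gen Y))
    (hiso : ∀ x : X, x ∈ Gen X → IsIso (f.stalkMap x))
    (hf : (LocallyOfFiniteType f ∧ IsReduced Y) ∨ LocallyOfFinitePresentation f) :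
    ∃ (U : X.Opens) (V : Y.Opens) (hUV : U ≤ f ⁻¹ᵁ V), Gen X ⊆ U ∧ Gen Y ⊆ V ∧
      IsIso (f.resLE V U hUV) := by
  classical
  have hGX := finite_gen hXfin
  have hGY := finite_gen hYfin
  -- local open immersions at generic points
  have hloc : ∀ ξ : X, ξ ∈ Gen X → ∃ U : X.Opens, ξ ∈ U ∧ IsOpenImmersion (U.ι ≫ f) := by
    intro ξ hξ
    have := hiso ξ hξ
    rcases hf with ⟨h1, h2⟩ | h
    · have := isGermInjectiveAt_of_isReduced_of_mem_gen Y hGY (hbij.mapsTo hξ)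
      exact exists_isOpenImmersion_of_isIso_stalkMap_of_germInjective f ξ
    · exact exists_isOpenImmersion_of_isIso_stalkMap_of_lfp f ξ
  choose! U₀ hξU₀ hU₀ using hloc
  -- shrink
  let U₁ : X → X.Opens := fun ξ ↦ U₀ ξ ⊓ f ⁻¹ᵁ ⟨otherCompl Y (f ξ), isOpen_otherCompl hGY _⟩
  let U : X.Opens := ⨆ ξ : Gen X, U₁ ξ
  have hξU₁ : ∀ ξ ∈ Gen X, ξ ∈ U₁ ξ := fun ξ hξ ↦
    ⟨hξU₀ ξ hξ, mem_otherCompl (hbij.mapsTo hξ)⟩
  have hGU : Gen X ⊆ U := fun ξ hξ ↦
    TopologicalSpace.Opens.mem_iSup.mpr ⟨⟨ξ, hξ⟩, hξU₁ ξ hξ⟩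
  have hj : IsOpenImmersion (U.ι ≫ f) := by
    refine isOpenImmersion_of_injective_of_local _ ?_ ?_
    · intro z
      obtain ⟨ξ, hzξ⟩ := TopologicalSpace.Opens.mem_iSup.mp z.2
      have hle : U₁ ξ ≤ U := le_iSup (fun ξ : Gen X ↦ U₁ ξ) ξ
      refine ⟨U.ι ⁻¹ᵁ U₁ ξ, hzξ, ?_⟩
      have := hU₀ ξ ξ.2
      have e : (U.ι ⁻¹ᵁ U₁ ξ).ι ≫ U.ι ≫ f =
          (U.ι.isoImage (U.ι ⁻¹ᵁ U₁ ξ)).hom ≫ X.homOfLE
            (show U.ι ''ᵁ (U.ι ⁻¹ᵁ U₁ ξ) ≤ U₀ ξ by
              rintro _ ⟨w, hw, rfl⟩; exact hw.1) ≫ (U₀ ξ).ι ≫ f := by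
        rw [Scheme.homOfLE_ι_assoc, Scheme.Hom.isoImage_hom_ι_assoc]
      rw [e]
      infer_instance
    · intro z z' hzz'
      obtain ⟨ξ, hzξ⟩ := TopologicalSpace.Opens.mem_iSup.mp z.2
      obtain ⟨ξ', hzξ'⟩ := TopologicalSpace.Opens.mem_iSup.mp z'.2
      have hfz : f z.1 = f z'.1 := by simpa using hzz'
      -- same component
      obtain ⟨η₀, hη₀, hsp⟩ := Groth.Agent.H20.exists_generic_specializes (f z.1)
      have h1 : η₀ = f ξ.1 := eq_of_mem_otherCompl_of_mem_closure hη₀ hzξ.2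
        (specializes_iff_mem_closure.mp hsp)
      have h2 : η₀ = f ξ'.1 := eq_of_mem_otherCompl_of_mem_closure hη₀ hzξ'.2
        (hfz ▸ specializes_iff_mem_closure.mp hsp)
      have hξξ' : ξ.1 = ξ'.1 := hbij.injOn ξ.2 ξ'.2 (h1.symm.trans h2)
      have := hU₀ ξ ξ.2
      have hinj := ((U₀ ξ).ι ≫ f).isOpenEmbedding.injective
      have h3 : ((U₀ ξ).ι ≫ f) ⟨z.1, hzξ.1⟩ = ((U₀ ξ).ι ≫ f) ⟨z'.1, hξξ' ▸ hzξ'.1⟩ := by
        simpa using hfz
      have h4 := congrArg Subtype.val (hinj h3)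
      exact Subtype.ext h4
  let V : Y.Opens := (U.ι ≫ f).opensRange
  have hUV : U ≤ f ⁻¹ᵁ V := fun u hu ↦ ⟨⟨u, hu⟩, by simp⟩
  refine ⟨U, V, hUV, hGU, ?_, ?_⟩
  · intro η hη
    obtain ⟨ξ, hξ, rfl⟩ := hbij.surjOn hη
    exact hUV (hGU hξ)
  · have : f.resLE V U hUV = (U.ι ≫ f).isoOpensRange.hom := by
      rw [← cancel_mono V.ι, Scheme.Hom.resLE_comp_ι, Scheme.Hom.isoOpensRange_hom_ι]
    rw [this]
    infer_instance

end Groth.Agent.H6.BiratOpen
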