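import Groth.Agent.H6.BiratOpen
import Mathlib.AlgebraicGeometry.Morphisms.QuasiCompact
import Mathlib.AlgebraicGeometry.Morphisms.Separated
import Mathlib.AlgebraicGeometry.Morphisms.ClosedImmersion
import Mathlib.RingTheory.Ideal.MinimalPrime.Localization

set_option autoImplicit false
universe u

open CategoryTheory CategoryTheory.Limits AlgebraicGeometry Topology

namespace Groth.Agent.H6.BiratQC

variable {X Y : Scheme.{u}}

/-- For a quasi-compact morphism, a point without proper generizations lying in the closure of the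
image of a closed set lies in the image. -/
lemma mem_image_of_mem_closure_image (f : X ⟶ Y) [QuasiCompact f] {Z : Set X} (hZ : IsClosed Z)
    {η : Y} (hη : ∀ η' : Y, η' ⤳ η → η' = η) (h : η ∈ closure (f '' Z)) : η ∈ f '' Z := by
  obtain ⟨_, ⟨A, hA, rfl⟩, hηA, -⟩ :=
    Y.isBasis_affineOpens.exists_subset_of_mem_open (Set.mem_univ η) isOpen_univ
  have hc : IsCompact (f ⁻¹ᵁ A : Set X) := f.isCompact_preimage hA.isCompact
  obtain ⟨B, g, hg⟩ := isCompact_iff_exists.mp hc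
  -- factor `g ≫ f` through the affine open `A`
  have hrange : Set.range (g ≫ f) ⊆ Set.range hA.fromSpec := by
    rw [hA.range_fromSpec]
    rintro _ ⟨b, rfl⟩
    have : g b ∈ (f ⁻¹ᵁ A : Set X) := hg ▸ Set.mem_range_self b
    simpa using this
  obtain ⟨φ, hφ⟩ := Spec.map_surjective (IsOpenImmersion.lift hA.fromSpec (g ≫ f) hrange)
  have hfac : Spec.map φ ≫ hA.fromSpec = g ≫ f := by
    rw [hφ, IsOpenImmersion.lift_fac]
  -- the closed set upstairs
  obtain ⟨I, hI⟩ := (PrimeSpectrum.isClosed_iff_zeroLocus_ideal (g ⁻¹' Z)).mp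
    (hZ.preimage g.continuous)
  -- the point `p` with `fromSpec p = η`
  obtain ⟨p, hp⟩ : η ∈ Set.range hA.fromSpec := by rw [hA.range_fromSpec]; exact hηA
  have hfacb : ∀ b : Spec B, hA.fromSpec (Spec.map φ b) = f (g b) := fun b ↦ by
    rw [← Scheme.Hom.comp_apply, hfac, Scheme.Hom.comp_apply]
  have himg : hA.fromSpec '' (Spec.map φ '' (g ⁻¹' Z)) = f '' Z ∩ A := by
    ext y
    constructor
    · rintro ⟨_, ⟨b, hb, rfl⟩, rfl⟩
      refine ⟨⟨g b, hb, (hfacb b).symm⟩, ?_⟩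
      rw [hfacb b]
      have : g b ∈ (f ⁻¹ᵁ A : Set X) := hg ▸ Set.mem_range_self b
      simpa using this
    · rintro ⟨⟨x, hx, rfl⟩, hxA⟩
      have : x ∈ Set.range g := by rw [hg]; exact hxA
      obtain ⟨b, rfl⟩ := this
      exact ⟨_, ⟨b, hx, rfl⟩, hfacb b⟩
  have hp0 : p ∈ closure (Spec.map φ '' (g ⁻¹' Z)) := by
    rw [hA.fromSpec.isOpenEmbedding.isInducing.closure_eq_preimage_closure_image, Set.mem_preimage,
      hp, himg, Set.inter_comm]
    exact A.2.inter_closure ⟨hηA, h⟩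
  have hp1 : (show PrimeSpectrum Γ(Y, A) from p) ∈
      closure (PrimeSpectrum.comap φ.hom '' PrimeSpectrum.zeroLocus I) := by
    rw [← hI]; exact hp0
  rw [PrimeSpectrum.closure_image_comap_zeroLocus] at hp1
  have hmin : p.asIdeal ∈ (I.comap φ.hom).minimalPrimes := by
    refine ⟨⟨p.2, hp1⟩, fun q hq hqp ↦ ?_⟩
    have hsp : (⟨q, hq.1⟩ : PrimeSpectrum _) ⤳ p :=
      (PrimeSpectrum.le_iff_specializes ⟨q, hq.1⟩ p).mp hqp
    have hsp' := hsp.map hA.fromSpec.continuous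
    rw [hp] at hsp'
    have := hη _ hsp'
    have h3 : (⟨q, hq.1⟩ : PrimeSpectrum _) = p :=
      hA.fromSpec.isOpenEmbedding.injective (this.trans hp.symm)
    rw [← h3]
  obtain ⟨q, hq, hIq, hqp⟩ := Ideal.exists_comap_eq_of_mem_minimalPrimes φ.hom p.asIdeal hmin
  have hmem : η ∈ f '' Z ∩ A := by
    rw [← himg, ← hp]
    have hqZ : (⟨q, hq⟩ : PrimeSpectrum B) ∈ PrimeSpectrum.zeroLocus (I : Set B) := hIq
    rw [← hI] at hqZ
    exact ⟨p, ⟨_, hqZ, PrimeSpectrum.ext hqp⟩, rfl⟩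
  exact hmem.1

/-- If `f` restricts to an isomorphism `U ≅ V`, and `V' ≤ V` has `f⁻¹ V' ≤ U`, then `f ∣_ V'` is
an isomorphism. -/
lemma isIso_morphismRestrict_of_isIso_resLE (f : X ⟶ Y) {U : X.Opens} {V : Y.Opens}
    (hUV : U ≤ f ⁻¹ᵁ V) [IsIso (f.resLE V U hUV)] {V' : Y.Opens} (hV' : V' ≤ V)
    (hU' : f ⁻¹ᵁ V' ≤ U) : IsIso (f ∣_ V') := by
  have h1 : IsOpenImmersion (U.ι ≫ f) := by
    rw [← Scheme.Hom.resLE_comp_ι f hUV]; infer_instance
  have h2 : IsOpenImmersion ((f ∣_ V') ≫ V'.ι) := by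
    rw [morphismRestrict_ι, ← Scheme.homOfLE_ι X hU', Category.assoc]; infer_instance
  have h3 : IsOpenImmersion (f ∣_ V') := IsOpenImmersion.of_comp _ V'.ι
  apply isIso_of_isOpenImmersion_of_opensRange_eq_top
  rw [eq_top_iff]
  rintro v -
  have hsurj : Function.Surjective (f.resLE V U hUV) :=
    (ConcreteCategory.bijective_of_isIso (f.resLE V U hUV).base).2
  obtain ⟨u, hu⟩ := hsurj ⟨v.1, hV' v.2⟩
  have hfu : f u.1 = v.1 := by
    have := congrArg Subtype.val hu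
    rw [← this]
    change f (U.ι u) = V.ι ((f.resLE V U hUV) u)
    rw [← Scheme.Hom.comp_apply, ← Scheme.Hom.comp_apply, Scheme.Hom.resLE_comp_ι]
  have hu' : u.1 ∈ f ⁻¹ᵁ V' := by
    change f u.1 ∈ V'
    rw [hfu]; exact v.2
  refine ⟨⟨u.1, hu'⟩, ?_⟩
  apply Subtype.ext
  change V'.ι ((f ∣_ V') ⟨u.1, hu'⟩) = v.1
  rw [← Scheme.Hom.comp_apply, morphismRestrict_ι, Scheme.Hom.comp_apply]
  exact hfu

/-- Separated case: if `f` is separated and restricts to an isomorphism `U ≅ V` with `U` containing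
all generic points, then `f⁻¹ V = U`. -/
lemma preimage_le_of_isSeparated (f : X ⟶ Y) [IsSeparated f] {U : X.Opens} {V : Y.Opens}
    (hUV : U ≤ f ⁻¹ᵁ V) [IsIso (f.resLE V U hUV)] (hGU : BiratOpen.Gen X ⊆ U) :
    f ⁻¹ᵁ V ≤ U := by
  let s : V.toScheme ⟶ (f ⁻¹ᵁ V).toScheme := inv (f.resLE V U hUV) ≫ X.homOfLE hUV
  have hs : s ≫ (f ∣_ V) = 𝟙 _ := by
    have : X.homOfLE hUV ≫ (f ∣_ V) = f.resLE V U hUV := rfl
    simp only [s, Category.assoc, this, IsIso.inv_hom_id]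
  have : IsClosedImmersion (s ≫ (f ∣_ V)) := by rw [hs]; infer_instance
  have hcl : IsClosedImmersion s := IsClosedImmersion.of_comp s (f ∣_ V)
  have hrange : ∀ x' : (f ⁻¹ᵁ V).toScheme, x'.1 ∈ U → x' ∈ Set.range s := by
    intro x' hx'
    refine ⟨(f.resLE V U hUV) ⟨x'.1, hx'⟩, ?_⟩
    change (inv (f.resLE V U hUV) ≫ X.homOfLE hUV) ((f.resLE V U hUV) ⟨x'.1, hx'⟩) = x'
    rw [← Scheme.Hom.comp_apply, IsIso.hom_inv_id_assoc]
    apply Subtype.ext
    change (f ⁻¹ᵁ V).ι (X.homOfLE hUV ⟨x'.1, hx'⟩) = x'.1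
    rw [← Scheme.Hom.comp_apply, Scheme.homOfLE_ι]
    rfl
  have hrange' : ∀ x' : (f ⁻¹ᵁ V).toScheme, x' ∈ Set.range s → x'.1 ∈ U := by
    rintro _ ⟨v, rfl⟩
    change (f ⁻¹ᵁ V).ι ((inv (f.resLE V U hUV) ≫ X.homOfLE hUV) v) ∈ U
    rw [← Scheme.Hom.comp_apply, Category.assoc, Scheme.homOfLE_ι, Scheme.Hom.comp_apply]
    exact (inv (f.resLE V U hUV) v).2
  intro x hx
  obtain ⟨ξ, hξ, hsp⟩ := Groth.Agent.H20.exists_generic_specializes x
  have hξU : ξ ∈ U := hGU hξ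
  have hsp' : (⟨ξ, hUV hξU⟩ : (f ⁻¹ᵁ V).toScheme) ⤳ ⟨x, hx⟩ :=
    (subtype_specializes_iff (p := (· ∈ f ⁻¹ᵁ V)) ⟨ξ, hUV hξU⟩ ⟨x, hx⟩).mpr hsp
  exact hrange' ⟨x, hx⟩ (s.isClosedEmbedding.isClosed_range.stableUnderSpecialization hsp'
    (hrange ⟨ξ, hUV hξU⟩ hξU))

/-- Birational morphisms that are quasi-compact or separated are isomorphisms over a dense open
of the target. -/
theorem exists_dense_open_isIso_morphismRestrict (f : X ⟶ Y)
    (hXfin : (irreducibleComponents ↥X).Finite) (hYfin : (irreducibleComponents ↥Y).Finite)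
    (hbij : Set.BijOn (fun x : X => f.base x) (BiratOpen.Gen X) (BiratOpen.Gen Y))
    (hiso : ∀ x : X, x ∈ BiratOpen.Gen X → IsIso (f.stalkMap x))
    (hf₁ : QuasiCompact f ∨ IsSeparated f)
    (hf₂ : (LocallyOfFiniteType f ∧ IsReduced Y) ∨ LocallyOfFinitePresentation f) :
    ∃ V : Y.Opens, BiratOpen.Gen Y ⊆ V ∧ IsIso (f ∣_ V) := by
  obtain ⟨U, V, hUV, hGU, hGV, hI⟩ :=
    BiratOpen.exists_dense_opens_isIso f hXfin hYfin hbij hiso hf₂
  rcases hf₁ with hqc | hsep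
  · -- quasi-compact case
    let C : Set Y := closure (f '' (U : Set X)ᶜ)
    let V' : Y.Opens := V ⊓ ⟨Cᶜ, isClosed_closure.isOpen_compl⟩
    have hV' : V' ≤ V := inf_le_left
    have hU' : f ⁻¹ᵁ V' ≤ U := by
      intro x hx
      by_contra hxU
      exact hx.2 (subset_closure ⟨x, hxU, rfl⟩)
    refine ⟨V', ?_, isIso_morphismRestrict_of_isIso_resLE f hUV hV' hU'⟩
    intro η hη
    refine ⟨hGV hη, fun hηC ↦ ?_⟩
    obtain ⟨x, hxU, hxη⟩ := mem_image_of_mem_closure_image f U.2.isClosed_compl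
      (fun η' h ↦ Groth.Agent.H20.eq_of_specializes_of_mem_irreducibleComponents hη h) hηC
    -- `x` maps to a generic point, so it is the generic point over it, which lies in `U`
    obtain ⟨ξ, hξ, hξη⟩ := hbij.surjOn hη
    obtain ⟨ξ₀, hξ₀, hsp⟩ := Groth.Agent.H20.exists_generic_specializes x
    have h1 : f ξ₀ ⤳ f x := hsp.map f.continuous
    have h2 : f ξ₀ = f x := by
      rw [hxη] at h1 ⊢
      exact Groth.Agent.H20.eq_of_specializes_of_mem_irreducibleComponents hη h1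
    have := hiso ξ₀ hξ₀
    have h3 : x = ξ₀ := Groth.Agent.H20.eq_of_specializes_of_isIso_stalkMap f hsp h2
    exact hxU (h3 ▸ hGU hξ₀)
  · exact ⟨V, hGV, isIso_morphismRestrict_of_isIso_resLE f hUV le_rfl
      (preimage_le_of_isSeparated f hUV hGU)⟩

end Groth.Agent.H6.BiratQC
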