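import Groth.Agent.H29.RegFree
import Groth.Agent.H34.SkHom
import Groth.Agent.H29.CM

/-!
# Reflexive modules over regular local rings of dimension at most two are free (helper6)
-/

set_option autoImplicit false
universe u

namespace Groth.Agent.H6.ReflRegular

open IsLocalRing

/-- a finite reflexive module over a Noetherian local ring has depth at least `min 2 (depth A)` -/
theorem min_two_depth_le_depth_of_isReflexive (A : Type u) [CommRing A] [IsLocalRing A]
    [IsNoetherianRing A] (M : Type u) [AddCommGroup M] [Module A M] [Module.Finite A M]
    [Module.IsReflexive A M] :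
    min 2 (LocCoh.depth A A) ≤ LocCoh.depth A M := by
  have : IsNoetherian A A := inferInstance
  have : Module.Finite A (Module.Dual A M) := inferInstance
  have h3 := Groth.Agent.H34.min_two_depth_le_depth_hom (A := A) (Module.Dual A M) A
  unfold LocCoh.depth at h3 ⊢
  rw [Groth.Agent.H34.idealDepth_congr (Module.evalEquiv A M)]
  exact h3

/-- a finite reflexive module over a regular local ring of dimension at most two is free -/
theorem free_of_isReflexive_of_dim_le_two (A : Type u) [CommRing A] [IsRegularLocalRing A]
    (hdim : ringKrullDim A ≤ 2) (M : Type u) [AddCommGroup M] [Module A M] [Module.Finite A M]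
    [Module.IsReflexive A M] : Module.Free A M := by
  by_cases hM : Subsingleton M
  · exact Module.Free.of_subsingleton A M
  rw [not_subsingleton_iff_nontrivial] at hM
  set d := (maximalIdeal A).spanFinrank with hd
  have hdA : ringKrullDim A = d := Groth.Agent.Lead.RLR.ringKrullDim_eq_spanFinrank A
  have hd2 : d ≤ 2 := by
    rw [hdA] at hdim
    exact_mod_cast hdim
  have hdepthA : LocCoh.depth A A = d := Groth.Agent.H29.RegFree.depth_eq_of_regular A d hdA
  have h1 := min_two_depth_le_depth_of_isReflexive A M
  rw [hdepthA] at h1
  have h1' : (d : ℕ∞) ≤ LocCoh.depth A M := by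
    refine le_trans ?_ h1
    rw [le_min_iff]
    exact ⟨by exact_mod_cast hd2, le_rfl⟩
  have h2 := Groth.Agent.H29.CML.depth_le_supportDim (A := A) M
  have h3 : Module.supportDim A M ≤ ringKrullDim A := Module.supportDim_le_ringKrullDim A M
  have h4 : LocCoh.depth A M ≤ (d : ℕ∞) := by
    have := h2.trans (h3.trans hdA.le)
    exact_mod_cast this
  exact Groth.Agent.H29.RegFree.free_of_depth_eq_dim d A hdA M (le_antisymm h4 h1')

end Groth.Agent.H6.ReflRegular
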