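import Groth.Agent.H15.CDivNormal
import Groth.Agent.H34.Depth
import Groth.Agent.H6.ReflRegular

/-!
# Normal Noetherian local domains of dimension at least two have depth at least two (helper6)
-/

set_option autoImplicit false
set_option linter.style.haveILetI false
universe u

namespace Groth.Agent.H6.NormalDepth

open IsLocalRing

/-- a Noetherian local domain which is not a field has depth at least one -/
theorem one_le_depth_of_isDomain (A : Type u) [CommRing A] [IsLocalRing A] [IsDomain A]
    (h : ¬ IsField A) : (1 : ℕ∞) ≤ LocCoh.depth A A := by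
  have hne : maximalIdeal A ≠ ⊥ := fun h0 => h (IsLocalRing.isField_iff_maximalIdeal_eq.mpr h0)
  obtain ⟨r, hr, hr0⟩ := Submodule.exists_mem_ne_zero_of_ne_bot hne
  exact Groth.Agent.H34.one_le_idealDepth_of_regular (maximalIdeal A) A r hr
    (IsSMulRegular.of_ne_zero hr0)

/-- Serre's condition `S₂` for normal local domains: dimension at least two implies depth at
least two. -/
theorem two_le_depth_of_normal (A : Type u) [CommRing A] [IsLocalRing A] [IsNoetherianRing A]
    [IsDomain A] [IsIntegrallyClosed A] (hdim : (2 : WithBot ℕ∞) ≤ ringKrullDim A) :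
    (2 : ℕ∞) ≤ LocCoh.depth A A := by
  have hnf : ¬ IsField A := by
    intro hf
    have h0 : ringKrullDim A = 0 := by
      letI := hf.toField
      exact ringKrullDim_eq_zero_of_field A
    rw [h0] at hdim
    exact absurd hdim (by norm_num)
  have h1 := one_le_depth_of_isDomain A hnf
  by_contra hcon
  have h2 : LocCoh.depth A A < 2 := not_le.mp hcon
  have h3 : LocCoh.depth A A = 1 := by
    apply le_antisymm _ h1
    have h2' : LocCoh.depth A A < 1 + 1 := by
      have : (1 : ℕ∞) + 1 = 2 := by norm_num
      rw [this]; exact h2
    exact Order.le_of_lt_add_one h2'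
  have hdvr := Groth.Agent.H15.CDivAlg.isDiscreteValuationRing_of_depth_eq_one h3
  have h4' : Ring.KrullDimLE 1 A := inferInstance
  have h4 : ringKrullDim A ≤ 1 := by
    rw [Ring.krullDimLE_iff] at h4'
    exact_mod_cast h4'
  have h5 : (2 : WithBot ℕ∞) ≤ 1 := hdim.trans h4
  exact absurd h5 (by norm_num)

/-- a finite reflexive module over a normal Noetherian local domain of dimension at least two has
depth at least two -/
theorem two_le_depth_of_isReflexive_of_normal (A : Type u) [CommRing A] [IsLocalRing A]
    [IsNoetherianRing A] [IsDomain A] [IsIntegrallyClosed A]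
    (hdim : (2 : WithBot ℕ∞) ≤ ringKrullDim A) (M : Type u) [AddCommGroup M] [Module A M]
    [Module.Finite A M] [Module.IsReflexive A M] : (2 : ℕ∞) ≤ LocCoh.depth A M := by
  have h1 := ReflRegular.min_two_depth_le_depth_of_isReflexive A M
  refine le_trans ?_ h1
  rw [le_min_iff]
  exact ⟨le_rfl, two_le_depth_of_normal A hdim⟩

end Groth.Agent.H6.NormalDepth
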