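import Groth.Agent.H6.PuncturedAffine
import Groth.Agent.H58.X26.DepthInf
import Groth.Agent.H58.LCDepthExt
import Groth.Agent.H58.LCGamma

set_option autoImplicit false
universe u

namespace Groth.Agent.H6.PuncturedDepth

open AlgebraicGeometry CategoryTheory Opposite TopologicalSpace
open Groth.Agent.H6.PuncturedSections Groth.Agent.H6.PuncturedDT Groth.Agent.H58

variable {R : Type u} [CommRing R] [IsNoetherianRing R]

/-- If `H^0_a(M) = H^1_a(M) = 0` then `M → Γ(U, M~)` is bijective. -/
theorem toO_bijective_of_subsingleton_H (a : Ideal R) (M : Type u) [AddCommGroup M] [Module R M]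
    (h0 : Subsingleton (LocCoh.H a 0 M)) (h1 : Subsingleton (LocCoh.H a 1 M)) :
    Function.Bijective (toO M (LocCoh.puncturedOpen R a)) := by
  have hη : Function.Bijective (LocCoh.toDT a M) := by
    constructor
    · rw [← LinearMap.ker_eq_bot, ker_toDT, eq_bot_iff]
      intro x hx
      have : (⟨x, hx⟩ : DRing.torsionSub a M) = 0 := by
        have hs : Subsingleton (DRing.torsionSub a M) :=
          (LC.H0equiv a (ModuleCat.of R M)).symm.injective.subsingleton
        exact Subsingleton.elim _ _
      exact (Submodule.mem_bot R).mpr (congrArg Subtype.val this)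
    · rw [← LinearMap.range_eq_top, ← LC.ker_ψ a M, LinearMap.ker_eq_top]
      ext x
      exact Subsingleton.elim (α := LocCoh.H a 1 M) _ _
  have : (toO M (LocCoh.puncturedOpen R a) : M → _) =
      (deligneEquiv a M) ∘ (LocCoh.toDT a M) := by
    funext m
    exact (deligneEquiv_toDT a m).symm
  rw [this]
  exact (deligneEquiv a M).bijective.comp hη

/-- If `depth_a(M) ≥ 2` (finite `M`, `aM ≠ M`) then `M → Γ(U, M~)` is bijective. -/
theorem toO_bijective_of_two_le_idealDepth (a : Ideal R) (M : Type u) [AddCommGroup M] [Module R M]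
    [Module.Finite R M] (hne : a • (⊤ : Submodule R M) ≠ ⊤)
    (hd : (2 : ℕ∞) ≤ LocCoh.idealDepth a M) :
    Function.Bijective (toO M (LocCoh.puncturedOpen R a)) := by
  apply toO_bijective_of_subsingleton_H
  · apply LC.subsingleton_H_of_lt_idealDepth a M hne 0
    exact lt_of_lt_of_le (by norm_num) hd
  · apply LC.subsingleton_H_of_lt_idealDepth a M hne 1
    exact lt_of_lt_of_le (by norm_num) hd

/-- restriction `Γ(Spec R, ⊤) → Γ(Spec R, V)` is an iso as soon as `R → Γ(Spec R, V)` is bijective -/
theorem isIso_res_of_bijective_ρ {R : Type u} [CommRing R] (V : (Spec (CommRingCat.of R)).Opens)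
    (hle : V ≤ ⊤) (h : Function.Bijective (ρ V)) :
    IsIso ((Spec (CommRingCat.of R)).presheaf.map (homOfLE hle).op) := by
  have h1 : IsIso ((Scheme.ΓSpecIso (CommRingCat.of R)).inv ≫
      (Spec (CommRingCat.of R)).presheaf.map (homOfLE hle).op) := by
    rw [ConcreteCategory.isIso_iff_bijective]
    exact h
  exact IsIso.of_isIso_comp_left (Scheme.ΓSpecIso (CommRingCat.of R)).inv _

theorem bijective_ρ_iff {R : Type u} [CommRing R] (V : (Spec (CommRingCat.of R)).Opens) :
    Function.Bijective (ρ V) ↔ Function.Bijective (toO R V) := by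
  have : (ρ V : R → _) = (secRingEquiv V) ∘ (toO R V) := rfl
  rw [this]
  exact ⟨fun h => ((secRingEquiv V).symm.bijective.comp h), fun h => (secRingEquiv V).bijective.comp h⟩

theorem preimage_puncturedSpec (A B : Type u) [CommRing A] [IsLocalRing A] [CommRing B]
    [Algebra A B] :
    Spec.map (CommRingCat.ofHom (algebraMap A B)) ⁻¹ᵁ FEt.puncturedSpec A =
      LocCoh.puncturedOpen B ((IsLocalRing.maximalIdeal A).map (algebraMap A B)) := by
  ext x
  let y : PrimeSpectrum B := x
  change PrimeSpectrum.comap (algebraMap A B) y ∈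
      ({IsLocalRing.closedPoint A}ᶜ : Set (PrimeSpectrum A)) ↔
    y ∈ (PrimeSpectrum.zeroLocus
      (((IsLocalRing.maximalIdeal A).map (algebraMap A B) : Ideal B) : Set B))ᶜ
  rw [Set.mem_compl_iff, Set.mem_compl_iff, not_iff_not, Set.mem_singleton_iff,
    PrimeSpectrum.mem_zeroLocus, SetLike.coe_subset_coe, Ideal.map_le_iff_le_comap]
  constructor
  · intro h
    rw [← PrimeSpectrum.comap_asIdeal, h]
    exact le_rfl
  · intro h
    apply PrimeSpectrum.ext
    exact le_antisymm (IsLocalRing.le_maximalIdeal
      (PrimeSpectrum.comap (algebraMap A B) y).isPrime.ne_top) h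

theorem restrict_isIso_of_depth (A B : Type u) [CommRing A] [IsNoetherianRing A] [IsLocalRing A]
    [CommRing B] [Algebra A B] [Module.Finite A B]
    (h : ∀ (m : Ideal B) (_ : m.IsMaximal),
      (2 : ℕ∞) ≤ LocCoh.depth (Localization.AtPrime m) (Localization.AtPrime m)) :
    IsIso ((Spec (CommRingCat.of B)).presheaf.map (homOfLE (le_top :
      Spec.map (CommRingCat.ofHom (algebraMap A B)) ⁻¹ᵁ FEt.puncturedSpec A ≤ ⊤)).op) := by
  have : IsNoetherianRing B := IsNoetherianRing.of_finite A B
  set I : Ideal B := (IsLocalRing.maximalIdeal A).map (algebraMap A B) with hI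
  have key : ∀ (V : (Spec (CommRingCat.of B)).Opens) (hle : V ≤ ⊤),
      V = LocCoh.puncturedOpen B I →
      IsIso ((Spec (CommRingCat.of B)).presheaf.map (homOfLE hle).op) := by
    rintro V hle rfl
    by_cases htop : I = ⊤
    · have hVtop : LocCoh.puncturedOpen B I = ⊤ := by
        rw [eq_top_iff]
        intro x _
        exact mem_puncturedOpen.mpr ⟨1, by rw [htop]; trivial, by
          rw [mem_D]; exact fun h1 => x.isPrime.ne_top ((Ideal.eq_top_iff_one _).mpr h1)⟩
      have hgen : ∀ (V : (Spec (CommRingCat.of B)).Opens) (hle : V ≤ ⊤), V = ⊤ →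
          IsIso ((Spec (CommRingCat.of B)).presheaf.map (homOfLE hle).op) := by
        rintro V hle rfl
        have : homOfLE hle = 𝟙 _ := Subsingleton.elim _ _
        rw [this, op_id, CategoryTheory.Functor.map_id]
        infer_instance
      exact hgen _ hle hVtop
    · apply isIso_res_of_bijective_ρ
      rw [bijective_ρ_iff]
      apply toO_bijective_of_two_le_idealDepth I B
      · intro h1
        apply htop
        have : I • (⊤ : Submodule B B) = I := by
          rw [smul_eq_mul, Ideal.mul_top]
        rwa [this] at h1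
      · rw [X26.idealDepth_eq_iInf_depth_localization I B]
        refine le_iInf₂ fun p hp => ?_
        have hcomap : (p.asIdeal.comap (algebraMap A B)) = IsLocalRing.maximalIdeal A := by
          apply le_antisymm
          · exact IsLocalRing.le_maximalIdeal (Ideal.comap_ne_top _ p.isPrime.ne_top)
          · rw [← Ideal.map_le_iff_le_comap]; exact hp
        have hmax : p.asIdeal.IsMaximal := by
          have : Algebra.IsIntegral A B := Algebra.IsIntegral.of_finite A B
          apply Ideal.isMaximal_of_isIntegral_of_isMaximal_comap (R := A) p.asIdeal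
          rw [hcomap]
          infer_instance
        exact h p.asIdeal hmax
  exact key _ _ (preimage_puncturedSpec A B)

end Groth.Agent.H6.PuncturedDepth
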