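import Groth.Agent.H6.RestrictStalk

/-!
# Transport of module properties along semilinear equivalences; stalks of restrictions (helper6)
-/

set_option autoImplicit false
set_option linter.style.haveILetI false
universe u

namespace Groth.Agent.H6.RestrictStalk

open AlgebraicGeometry CategoryTheory Opposite TopologicalSpace

section Algebra

variable {R S M N : Type*} [CommRing R] [CommRing S] [AddCommGroup M] [Module R M]
  [AddCommGroup N] [Module S N]

/-- reflexivity is transported along a semilinear bijection -/
theorem isReflexive_of_semilinear (σ : R ≃+* S) (e : M ≃+ N)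
    (he : ∀ (r : R) (m : M), e (r • m) = σ r • e m) [Module.IsReflexive R M] :
    Module.IsReflexive S N := by
  have he' : ∀ (s : S) (n : N), e.symm (s • n) = σ.symm s • e.symm n := by
    intro s n
    apply e.injective
    rw [he, AddEquiv.apply_symm_apply, AddEquiv.apply_symm_apply, RingEquiv.apply_symm_apply]
  let pb : Module.Dual S N → Module.Dual R M := fun φ =>
    { toFun := fun m => σ.symm (φ (e m))
      map_add' := by intro a b; simp
      map_smul' := by intro r m; simp [he] }
  let pf : Module.Dual R M → Module.Dual S N := fun ψ =>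
    { toFun := fun n => σ (ψ (e.symm n))
      map_add' := by intro a b; simp
      map_smul' := by intro s n; simp [he'] }
  have hpf : ∀ φ, pf (pb φ) = φ := by
    intro φ
    apply LinearMap.ext
    intro n
    change σ (σ.symm (φ (e (e.symm n)))) = φ n
    rw [RingEquiv.apply_symm_apply, AddEquiv.apply_symm_apply]
  have hpf_add : ∀ ψ₁ ψ₂, pf (ψ₁ + ψ₂) = pf ψ₁ + pf ψ₂ := by
    intro ψ₁ ψ₂
    apply LinearMap.ext
    intro n
    change σ ((ψ₁ + ψ₂) (e.symm n)) = σ (ψ₁ (e.symm n)) + σ (ψ₂ (e.symm n))
    rw [LinearMap.add_apply, map_add]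
  have hpf_smul : ∀ (r : R) ψ, pf (r • ψ) = σ r • pf ψ := by
    intro r ψ
    apply LinearMap.ext
    intro n
    change σ ((r • ψ) (e.symm n)) = σ r • σ (ψ (e.symm n))
    rw [LinearMap.smul_apply, smul_eq_mul, map_mul, smul_eq_mul]
  constructor
  refine ⟨?_, ?_⟩
  · rw [injective_iff_map_eq_zero]
    intro n hn
    have h1 : ∀ ψ : Module.Dual R M, ψ (e.symm n) = 0 := by
      intro ψ
      have h2 := LinearMap.congr_fun hn (pf ψ)
      have h3 : σ (ψ (e.symm n)) = 0 := h2
      exact (map_eq_zero_iff σ σ.injective).mp h3
    have h4 : e.symm n = 0 := by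
      apply (Module.bijective_dual_eval R M).1
      apply LinearMap.ext
      intro ψ
      rw [map_zero, LinearMap.zero_apply]
      exact h1 ψ
    rw [← e.apply_symm_apply n, h4, map_zero]
  · intro Φ
    let Ψ : Module.Dual R (Module.Dual R M) :=
      { toFun := fun ψ => σ.symm (Φ (pf ψ))
        map_add' := by intro a b; rw [hpf_add, map_add, map_add]
        map_smul' := by
          intro r ψ
          rw [hpf_smul, map_smul, smul_eq_mul, map_mul, RingEquiv.symm_apply_apply]
          rfl }
    obtain ⟨m, hm⟩ := (Module.bijective_dual_eval R M).2 Ψ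
    refine ⟨e m, ?_⟩
    apply LinearMap.ext
    intro φ
    have h5 := LinearMap.congr_fun hm (pb φ)
    have h6 : σ.symm (φ (e m)) = σ.symm (Φ (pf (pb φ))) := h5
    rw [hpf] at h6
    exact σ.symm.injective h6

/-- freeness is transported along a semilinear bijection -/
theorem free_of_semilinear (σ : R ≃+* S) (e : M ≃+ N)
    (he : ∀ (r : R) (m : M), e (r • m) = σ r • e m) [Module.Free R M] :
    Module.Free S N := by
  letI := RingHomInvPair.of_ringEquiv σ
  letI := RingHomInvPair.of_ringEquiv_symm σ
  let e' : M ≃ₛₗ[(σ : R →+* S)] N := { e with map_smul' := he }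
  exact Module.Free.of_equiv e'

/-- finiteness is transported along a semilinear bijection -/
theorem finite_of_semilinear (σ : R ≃+* S) (e : M ≃+ N)
    (he : ∀ (r : R) (m : M), e (r • m) = σ r • e m) [Module.Finite R M] :
    Module.Finite S N := by
  letI := RingHomInvPair.of_ringEquiv σ
  letI := RingHomInvPair.of_ringEquiv_symm σ
  let e' : M ≃ₛₗ[(σ : R →+* S)] N := { e with map_smul' := he }
  exact Module.Finite.of_surjective e'.toLinearMap e'.surjective

end Algebra

variable {X Y : Scheme.{u}} (f : X ⟶ Y) [IsOpenImmersion f] (M : Y.Modules)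

theorem stalkAddEquiv_symm_smul (x : X) (r : Y.presheaf.stalk (f x))
    (m : M.presheaf.stalk (f x)) :
    (stalkAddEquiv f M x).symm (r • m) =
      (stalkRingEquiv f x).symm r • (stalkAddEquiv f M x).symm m := by
  apply (stalkAddEquiv f M x).injective
  rw [stalkAddEquiv_smul, AddEquiv.apply_symm_apply, AddEquiv.apply_symm_apply,
    RingEquiv.apply_symm_apply]

theorem isReflexive_restrict_iff (x : X) :
    Module.IsReflexive (X.presheaf.stalk x) ((M.restrict f).presheaf.stalk x) ↔
      Module.IsReflexive (Y.presheaf.stalk (f x)) (M.presheaf.stalk (f x)) :=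
  ⟨fun _ => isReflexive_of_semilinear (stalkRingEquiv f x) (stalkAddEquiv f M x)
      (stalkAddEquiv_smul f M x),
    fun _ => isReflexive_of_semilinear (stalkRingEquiv f x).symm (stalkAddEquiv f M x).symm
      (stalkAddEquiv_symm_smul f M x)⟩

theorem free_restrict_iff (x : X) :
    Module.Free (X.presheaf.stalk x) ((M.restrict f).presheaf.stalk x) ↔
      Module.Free (Y.presheaf.stalk (f x)) (M.presheaf.stalk (f x)) :=
  ⟨fun _ => free_of_semilinear (stalkRingEquiv f x) (stalkAddEquiv f M x)
      (stalkAddEquiv_smul f M x),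
    fun _ => free_of_semilinear (stalkRingEquiv f x).symm (stalkAddEquiv f M x).symm
      (stalkAddEquiv_symm_smul f M x)⟩

theorem finite_restrict_iff (x : X) :
    Module.Finite (X.presheaf.stalk x) ((M.restrict f).presheaf.stalk x) ↔
      Module.Finite (Y.presheaf.stalk (f x)) (M.presheaf.stalk (f x)) :=
  ⟨fun _ => finite_of_semilinear (stalkRingEquiv f x) (stalkAddEquiv f M x)
      (stalkAddEquiv_smul f M x),
    fun _ => finite_of_semilinear (stalkRingEquiv f x).symm (stalkAddEquiv f M x).symm
      (stalkAddEquiv_symm_smul f M x)⟩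

end Groth.Agent.H6.RestrictStalk
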