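import Groth.Agent.H5.Stalk.Basic

/-!
# Stalks of the restriction of a module to an open subscheme (helper6)

For an open immersion `f : X ⟶ Y`, a module `M` on `Y` and `x : X`, the stalk of `M.restrict f`
at `x` is identified with the stalk of `M` at `f x`, semilinearly over the ring isomorphism
`O_{X,x} ≃ O_{Y, f x}` inverse to the stalk map of `f`.
-/

set_option autoImplicit false
universe u

namespace Groth.Agent.H6.RestrictStalk

open AlgebraicGeometry CategoryTheory Opposite TopologicalSpace

variable {X Y : Scheme.{u}} (f : X ⟶ Y) [IsOpenImmersion f]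

/-- the ring isomorphism `O_{X,x} ≃ O_{Y, f x}` inverse to the stalk map of an open immersion -/
noncomputable def stalkRingEquiv (x : X) : X.presheaf.stalk x ≃+* Y.presheaf.stalk (f x) :=
  (asIso (f.stalkMap x)).commRingCatIsoToRingEquiv.symm

lemma stalkRingEquiv_symm_apply (x : X) (r : Y.presheaf.stalk (f x)) :
    (stalkRingEquiv f x).symm r = f.stalkMap x r := rfl

lemma stalkRingEquiv_germ (x : X) (U : X.Opens) (hxU : x ∈ U) (r : Γ(X, U)) :
    stalkRingEquiv f x (X.presheaf.germ U x hxU r) =
      Y.presheaf.germ (f ''ᵁ U) (f x) ⟨x, hxU, rfl⟩ ((f.appIso U).inv r) := by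
  apply (stalkRingEquiv f x).symm.injective
  rw [RingEquiv.symm_apply_apply, stalkRingEquiv_symm_apply,
    Scheme.Hom.germ_stalkMap_apply, Scheme.Hom.appIso_inv_app_apply]
  exact (TopCat.Presheaf.germ_res_apply X.presheaf _ x _ r).symm

variable (M : Y.Modules)

/-- the additive equivalence `(M|_X)_x ≃ M_{f x}` -/
noncomputable def stalkAddEquiv (x : X) :
    (M.restrict f).presheaf.stalk x ≃+ M.presheaf.stalk (f x) :=
  ((Scheme.Modules.restrictStalkNatIso f x).app M).addCommGroupIsoToAddEquiv

lemma stalkAddEquiv_germ (x : X) (U : X.Opens) (hxU : x ∈ U) (s : Γ(M.restrict f, U)) :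
    stalkAddEquiv f M x ((M.restrict f).presheaf.germ U x hxU s) =
      M.presheaf.germ (f ''ᵁ U) (f x) ⟨x, hxU, rfl⟩ s := by
  have h := Scheme.Modules.germ_restrictStalkNatIso_hom_app f x M hxU
  exact ConcreteCategory.congr_hom h s

theorem stalkAddEquiv_smul (x : X) (r : X.presheaf.stalk x) (m : (M.restrict f).presheaf.stalk x) :
    stalkAddEquiv f M x (r • m) = stalkRingEquiv f x r • stalkAddEquiv f M x m := by
  obtain ⟨U, hxU, r', m', rfl, rfl⟩ := Groth.Agent.H5.Stalk.exists_germ_eq₂ (M.restrict f) x r m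
  rw [← Groth.Agent.H5.Stalk.germ_smul, stalkAddEquiv_germ, stalkAddEquiv_germ, stalkRingEquiv_germ,
    ← Groth.Agent.H5.Stalk.germ_smul]
  rfl

/-- the semilinear equivalence `(M|_X)_x ≃ M_{f x}` -/
noncomputable def stalkEquiv (x : X) :
    letI := RingHomInvPair.of_ringEquiv (stalkRingEquiv f x)
    letI := RingHomInvPair.of_ringEquiv_symm (stalkRingEquiv f x)
    (M.restrict f).presheaf.stalk x ≃ₛₗ[(stalkRingEquiv f x : X.presheaf.stalk x →+*
      Y.presheaf.stalk (f x))] M.presheaf.stalk (f x) :=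
  letI := RingHomInvPair.of_ringEquiv (stalkRingEquiv f x)
  letI := RingHomInvPair.of_ringEquiv_symm (stalkRingEquiv f x)
  { stalkAddEquiv f M x with
    map_smul' := stalkAddEquiv_smul f M x }

end Groth.Agent.H6.RestrictStalk
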