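import Groth.Agent.H6.Hartogs
import Groth.Agent.H58.LCDTExact2
import Groth.Agent.H8.QCohStalk
import Groth.Agent.H44.FiniteSections
import Groth.Prelude.Def_Coh

/-!
# Hartogs for coherent modules (helper6)

* `toO_bijective_of_depth`: `Spec`-level module Hartogs.
* `depth_eq_of_isLocalizedModule`, `depth_stalk_fromSpec_eq`: depth of stalks of coherent modules
  via localizations of sections.
* `bijective_res_affine_mod`, `bijective_res_mod`: `Γ(V, F) → Γ(V ∩ U, F)` bijective if
  `depth F_x ≥ 2` off `U`.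
-/

set_option autoImplicit false
set_option linter.style.haveILetI false
universe u

namespace Groth.Agent.H6.HartogsMod

open AlgebraicGeometry CategoryTheory Opposite TopologicalSpace
open Groth.Agent.H6.PuncturedSections Groth.Agent.H6.PuncturedDT Groth.Agent.H58
open Groth.Agent.H6.PuncturedDepth

section SpecLevel
variable {R : Type u} [CommRing R] [IsNoetherianRing R]

/-- If `I M = M` for a finite module `M`, all local cohomology `H^i_I(M)` vanishes. -/
theorem subsingleton_H_of_smul_top_eq_top (I : Ideal R) (M : Type u) [AddCommGroup M] [Module R M]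
    [Module.Finite R M] (h : I • (⊤ : Submodule R M) = ⊤) (i : ℕ) :
    Subsingleton (LocCoh.H I i M) := by
  apply LC.subsingleton_H_of_id_mem I i (ModuleCat.of R M)
  obtain ⟨r, hr, hrM⟩ := Submodule.exists_sub_one_mem_and_smul_eq_zero_of_fg_of_le_smul I
    (⊤ : Submodule R M) Module.Finite.fg_top (by rw [h])
  -- `r - 1 ∈ I`, `r • m = 0`; so `id = (1 - r) • id`
  have hid : (LinearMap.id : M →ₗ[R] M) = (1 - r) • LinearMap.id := by
    ext m
    rw [LinearMap.smul_apply, LinearMap.id_apply, sub_smul, one_smul,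
      hrM m Submodule.mem_top, sub_zero]
  change (LinearMap.id : M →ₗ[R] M) ∈ I • (⊤ : Submodule R (M →ₗ[R] M))
  rw [hid]
  apply Submodule.smul_mem_smul _ Submodule.mem_top
  have : 1 - r = -(r - 1) := by ring
  rw [this]
  exact I.neg_mem hr

/-- Module Hartogs on `Spec B` for the complement of `V(I)`. -/
theorem toO_bijective_punctured (I : Ideal R) (M : Type u) [AddCommGroup M] [Module R M]
    [Module.Finite R M]
    (h : ∀ p : PrimeSpectrum R, I ≤ p.asIdeal →
      (2 : ℕ∞) ≤ LocCoh.depth (Localization.AtPrime p.asIdeal)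
        (LocalizedModule p.asIdeal.primeCompl M)) :
    Function.Bijective (toO M (LocCoh.puncturedOpen R I)) := by
  by_cases htop : I • (⊤ : Submodule R M) = ⊤
  · exact toO_bijective_of_subsingleton_H I M (subsingleton_H_of_smul_top_eq_top I M htop 0)
      (subsingleton_H_of_smul_top_eq_top I M htop 1)
  · apply toO_bijective_of_two_le_idealDepth I M htop
    rw [X26.idealDepth_eq_iInf_depth_localization I M]
    exact le_iInf₂ fun p hp => h p hp

/-- Module Hartogs on `Spec B` for an arbitrary open. -/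
theorem toO_bijective_of_depth (M : Type u) [AddCommGroup M] [Module R M] [Module.Finite R M]
    (V : (Spec (CommRingCat.of R)).Opens)
    (h : ∀ p : PrimeSpectrum R, (p : (Spec (CommRingCat.of R) : Type u)) ∉ V →
      (2 : ℕ∞) ≤ LocCoh.depth (Localization.AtPrime p.asIdeal)
        (LocalizedModule p.asIdeal.primeCompl M)) :
    Function.Bijective (toO M V) := by
  let S : Set (PrimeSpectrum R) := V.1
  have hVc : IsClosed Sᶜ := V.2.isClosed_compl
  have hz : PrimeSpectrum.zeroLocus ((PrimeSpectrum.vanishingIdeal Sᶜ : Ideal R) : Set R) = Sᶜ := by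
    rw [PrimeSpectrum.zeroLocus_vanishingIdeal_eq_closure, hVc.closure_eq]
  have hV : V = LocCoh.puncturedOpen R (PrimeSpectrum.vanishingIdeal Sᶜ) := by
    apply TopologicalSpace.Opens.ext
    show S = (PrimeSpectrum.zeroLocus _)ᶜ
    rw [hz, compl_compl]
  rw [hV]
  apply toO_bijective_punctured
  intro p hp
  apply h p
  have : p ∈ PrimeSpectrum.zeroLocus ((PrimeSpectrum.vanishingIdeal Sᶜ : Ideal R) : Set R) := hp
  rw [hz] at this
  exact this

end SpecLevel

/-- Depth of a localized module may be computed in any model of the localization. -/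
theorem depth_eq_of_isLocalizedModule {B : Type u} [CommRing B] [IsNoetherianRing B]
    (p : Ideal B) [p.IsPrime]
    (S : Type u) [CommRing S] [Algebra B S] [IsLocalization.AtPrime S p] [IsLocalRing S]
    (N : Type u) [AddCommGroup N] [Module B N] [Module.Finite B N]
    (N' : Type u) [AddCommGroup N'] [Module B N'] [Module S N'] [IsScalarTower B S N']
    (f : N →ₗ[B] N') [IsLocalizedModule p.primeCompl f] :
    LocCoh.depth S N' =
      LocCoh.depth (Localization.AtPrime p) (LocalizedModule p.primeCompl N) := by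
  let e : Localization.AtPrime p ≃ₐ[B] S := IsLocalization.algEquiv p.primeCompl _ _
  letI : Algebra (Localization.AtPrime p) S := e.toAlgHom.toRingHom.toAlgebra
  letI : Module (Localization.AtPrime p) N' := Module.compHom N' e.toAlgHom.toRingHom
  haveI : IsScalarTower (Localization.AtPrime p) S N' :=
    IsScalarTower.of_algebraMap_smul (fun r x => rfl)
  haveI : IsScalarTower B (Localization.AtPrime p) N' := by
    refine IsScalarTower.of_algebraMap_smul (fun r x => ?_)
    change e (algebraMap B (Localization.AtPrime p) r) • x = r • x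
    rw [e.commutes, algebraMap_smul]
  haveI : IsScalarTower B (Localization.AtPrime p) S := by
    refine IsScalarTower.of_algebraMap_eq (fun r => ?_)
    change algebraMap B S r = e (algebraMap B (Localization.AtPrime p) r)
    rw [e.commutes]
  haveI : Module.Finite (Localization.AtPrime p) S := by
    let l : Localization.AtPrime p →ₗ[Localization.AtPrime p] S :=
      LinearMap.extendScalarsOfIsLocalization p.primeCompl (Localization.AtPrime p)
        e.toLinearEquiv.toLinearMap
    exact Module.Finite.of_surjective l e.surjective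
  haveI : Module.Finite S N' := Module.Finite.of_isLocalizedModule p.primeCompl f
  have hmap : (IsLocalRing.maximalIdeal (Localization.AtPrime p)).map
      (algebraMap (Localization.AtPrime p) S) = IsLocalRing.maximalIdeal S :=
    IsLocalRing.map_ringEquiv_maximalIdeal e.toRingEquiv
  have h2 := Groth.Agent.H72.DepthFinite.idealDepth_eq_idealDepth_map
    (A := Localization.AtPrime p) (B := S) (IsLocalRing.maximalIdeal (Localization.AtPrime p)) N'
  rw [hmap] at h2
  let l' : LocalizedModule p.primeCompl N ≃ₗ[Localization.AtPrime p] N' :=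
    LinearEquiv.extendScalarsOfIsLocalization p.primeCompl (Localization.AtPrime p)
      (IsLocalizedModule.iso p.primeCompl f)
  have h3 := Groth.Agent.H15.idealDepth_congr l'
    (IsLocalRing.maximalIdeal (Localization.AtPrime p))
  unfold LocCoh.depth
  rw [h3, h2]

theorem primeIdealOf_fromSpec {X : Scheme.{u}} {W : X.Opens} (hW : IsAffineOpen W)
    (p : PrimeSpectrum Γ(X, W)) (hx : hW.fromSpec p ∈ W) :
    hW.primeIdealOf ⟨hW.fromSpec p, hx⟩ = p := by
  apply hW.fromSpec.isOpenEmbedding.injective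
  exact hW.fromSpec_primeIdealOf ⟨hW.fromSpec p, hx⟩

/-- Depth of the stalk of a coherent module equals the depth of the localization of (any model of)
its sections over an affine open. -/
theorem depth_stalk_fromSpec_eq (X : Scheme.{u}) [IsLocallyNoetherian X] (F : X.Modules)
    [F.IsQuasicoherent] [SheafOfModules.IsFiniteType (R := X.ringCatSheaf) F]
    (W : X.Opens) (hW : IsAffineOpen W) (p : PrimeSpectrum Γ(X, W))
    (N : Type u) [AddCommGroup N] [Module Γ(X, W) N] (e : N ≃ₗ[Γ(X, W)] Γ(F, W)) :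
    LocCoh.depth (X.presheaf.stalk (hW.fromSpec p)) (F.presheaf.stalk (hW.fromSpec p)) =
      LocCoh.depth (Localization.AtPrime p.asIdeal)
        (LocalizedModule p.asIdeal.primeCompl N) := by
  haveI : IsNoetherianRing Γ(X, W) := IsLocallyNoetherian.component_noetherian ⟨W, hW⟩
  haveI : Module.Finite Γ(X, W) Γ(F, W) := Groth.Agent.H44.finite_sections_of_isFiniteType F hW
  haveI : Module.Finite Γ(X, W) N := Module.Finite.of_surjective e.symm.toLinearMap e.symm.surjective
  have hxW : hW.fromSpec p ∈ W := Hartogs.fromSpec_mem X W hW p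
  letI : Algebra Γ(X, W) (X.presheaf.stalk (hW.fromSpec p)) :=
    TopCat.Presheaf.algebra_section_stalk X.presheaf ⟨hW.fromSpec p, hxW⟩
  haveI : IsLocalization.AtPrime (X.presheaf.stalk (hW.fromSpec p)) p.asIdeal :=
    hW.isLocalization_stalk' p hxW
  letI : Module Γ(X, W) (F.presheaf.stalk (hW.fromSpec p)) := Groth.Agent.H8.stalkModule F hxW
  haveI : IsScalarTower Γ(X, W) (X.presheaf.stalk (hW.fromSpec p))
      (F.presheaf.stalk (hW.fromSpec p)) :=
    IsScalarTower.of_algebraMap_smul (fun r x => rfl)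
  haveI h1 : IsLocalizedModule p.asIdeal.primeCompl (Groth.Agent.H8.germₗ F hxW) := by
    have h := Groth.Agent.H8.isLocalizedModule_germₗ F hW hxW
    rwa [primeIdealOf_fromSpec hW p hxW] at h
  haveI h2 : IsLocalizedModule p.asIdeal.primeCompl
      ((Groth.Agent.H8.germₗ F hxW) ∘ₗ e.toLinearMap) := inferInstance
  exact depth_eq_of_isLocalizedModule p.asIdeal (X.presheaf.stalk (hW.fromSpec p))
    N (F.presheaf.stalk (hW.fromSpec p)) ((Groth.Agent.H8.germₗ F hxW) ∘ₗ e.toLinearMap)

/-- On `Spec R`, for a quasi-coherent module `G`, restriction `Γ(G, ⊤) → Γ(G, U')` is bijective as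
soon as `N → Γ(U', N~)` is, `N = Γ(G, ⊤)`. -/
theorem bijective_res_of_bijective_toO {R : CommRingCat.{u}} (G : (Spec R).Modules)
    [G.IsQuasicoherent] (U' : (Spec R).Opens)
    (hbij : Function.Bijective
      (tilde.toOpen ((modulesSpecToSheaf.obj G).presheaf.obj (.op ⊤)) U').hom) :
    Function.Bijective (G.presheaf.map (homOfLE (le_top : U' ≤ ⊤)).op) := by
  have h1 := Scheme.Modules.toOpen_fromTildeΓ_app G U'
  haveI : IsIso G.fromTildeΓ := inferInstance
  haveI : IsIso (modulesSpecToSheaf.map G.fromTildeΓ) := inferInstance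
  haveI : IsIso ((modulesSpecToSheaf.map G.fromTildeΓ).1) :=
    (inferInstance : IsIso ((TopCat.Sheaf.forget _ _).map (modulesSpecToSheaf.map G.fromTildeΓ)))
  haveI : IsIso ((modulesSpecToSheaf.map G.fromTildeΓ).1.app (.op U')) := inferInstance
  have h2 : Function.Bijective ((modulesSpecToSheaf.map G.fromTildeΓ).1.app (.op U')).hom :=
    ConcreteCategory.bijective_of_isIso _
  have h3 : Function.Bijective ((modulesSpecToSheaf.obj G).1.map (homOfLE (le_top : U' ≤ ⊤)).op).hom := by
    rw [← h1]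
    exact h2.comp hbij
  exact h3

section Affine
variable {X : Scheme.{u}} (F : X.Modules) {W : X.Opens} (hW : IsAffineOpen W)

theorem image_top_eq : hW.fromSpec ''ᵁ ⊤ = W := by simp

theorem presheaf_map_id_apply {U₁ : X.Opens} (i : U₁ ⟶ U₁) (s : Γ(F, U₁)) :
    F.presheaf.map i.op s = s := by
  rw [Subsingleton.elim i (𝟙 _), op_id, CategoryTheory.Functor.map_id]
  rfl

theorem presheaf_map_map_id {U₁ U₂ : X.Opens} (i : U₁ ⟶ U₂) (k : U₂ ⟶ U₁) (s : Γ(F, U₂)) :
    F.presheaf.map k.op (F.presheaf.map i.op s) = s := by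
  rw [Groth.Agent.H8.presheaf_map_map]
  exact presheaf_map_id_apply F _ s

/-- sections of `F.restrict hW.fromSpec` over `⊤`, as a `Γ(X, W)`-module, identify with `Γ(F, W)`. -/
noncomputable def eN : Γ(F.restrict hW.fromSpec, ⊤) ≃ₗ[Γ(X, W)] Γ(F, W) where
  toFun t := F.presheaf.map (eqToHom (image_top_eq hW).symm).op t
  invFun s := F.presheaf.map (eqToHom (image_top_eq hW)).op s
  map_add' a b := map_add _ a b
  map_smul' r t := by
    simp only [RingHom.id_apply]
    rw [Groth.Agent.H8.smul_restrict_fromSpec, Scheme.Modules.smul_apply,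
      Scheme.Modules.map_smul]
    congr 1
    rw [← ConcreteCategory.comp_apply, ← Functor.map_comp]
    have : ((homOfLE (Groth.Agent.H8.image_fromSpec_le hW ⊤)).op ≫
        (eqToHom (image_top_eq hW).symm).op) = 𝟙 _ := Subsingleton.elim _ _
    rw [this, CategoryTheory.Functor.map_id]
    rfl
  left_inv t := presheaf_map_map_id F (eqToHom (image_top_eq hW).symm) (eqToHom (image_top_eq hW))
    (show Γ(F, hW.fromSpec ''ᵁ ⊤) from t)
  right_inv s := presheaf_map_map_id F (eqToHom (image_top_eq hW)) (eqToHom (image_top_eq hW).symm) s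

theorem bijective_of_eq (F : X.Modules) {T₁ T₂ S₁ S₂ : X.Opens} (k : T₁ ⟶ T₂) (l : S₁ ⟶ S₂)
    (h1 : T₁ = S₁) (h2 : T₂ = S₂) (hb : Function.Bijective (F.presheaf.map k.op)) :
    Function.Bijective (F.presheaf.map l.op) := by
  subst h1 h2
  rwa [Subsingleton.elim l k]

/-- Hartogs for a coherent module over an affine open. -/
theorem bijective_res_affine_mod (X : Scheme.{u}) [IsLocallyNoetherian X] (F : X.Modules)
    [F.IsQuasicoherent] [SheafOfModules.IsFiniteType (R := X.ringCatSheaf) F] (U : X.Opens)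
    (hU : ∀ x : ↥X, x ∉ U → (2 : ℕ∞) ≤ LocCoh.depth (X.presheaf.stalk x) (F.presheaf.stalk x))
    (W : X.Opens) (hW : IsAffineOpen W) (W' : X.Opens) (hW' : W' = W ⊓ U) (hle : W' ≤ W) :
    Function.Bijective (F.presheaf.map (homOfLE hle).op) := by
  haveI hN : IsNoetherianRing Γ(X, W) := IsLocallyNoetherian.component_noetherian ⟨W, hW⟩
  haveI : Module.Finite Γ(X, W) Γ(F, W) := Groth.Agent.H44.finite_sections_of_isFiniteType F hW
  let G := F.restrict hW.fromSpec
  let U' : (Spec Γ(X, W)).Opens := hW.fromSpec ⁻¹ᵁ U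
  haveI : Module.Finite Γ(X, W) Γ(G, ⊤) :=
    Module.Finite.of_surjective (eN F hW).symm.toLinearMap (eN F hW).symm.surjective
  have hd : ∀ p : PrimeSpectrum Γ(X, W), (p : (Spec Γ(X, W) : Type u)) ∉ U' →
      (2 : ℕ∞) ≤ LocCoh.depth (Localization.AtPrime p.asIdeal)
        (LocalizedModule p.asIdeal.primeCompl Γ(G, ⊤)) := by
    intro p hp
    rw [← depth_stalk_fromSpec_eq X F W hW p Γ(G, ⊤) (eN F hW)]
    exact hU _ hp
  have hb1 : Function.Bijective (toO (R := Γ(X, W)) Γ(G, ⊤) U') :=
    toO_bijective_of_depth (R := Γ(X, W)) Γ(G, ⊤) U' hd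
  have hb2 : Function.Bijective (G.presheaf.map (homOfLE (le_top : U' ≤ ⊤)).op) :=
    bijective_res_of_bijective_toO G U' hb1
  have hb3 : Function.Bijective
      (F.presheaf.map (hW.fromSpec.opensFunctor.map (homOfLE (le_top : U' ≤ ⊤))).op) := hb2
  refine bijective_of_eq F _ _ ?_ (image_top_eq hW) hb3
  show hW.fromSpec ''ᵁ (hW.fromSpec ⁻¹ᵁ U) = W'
  rw [Scheme.Hom.image_preimage_eq_opensRange_inf, hW.opensRange_fromSpec, hW']

end Affine

section Glue
variable (X : Scheme.{u}) (F : X.Modules)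

/-- the underlying sheaf of abelian groups -/
noncomputable abbrev shAb : TopCat.Sheaf Ab X := ⟨F.presheaf, F.isSheaf⟩

/-- restriction of sections -/
noncomputable abbrev rF {V₁ V₂ : X.Opens} (h : V₁ ≤ V₂) : Γ(F, V₂) → Γ(F, V₁) :=
  fun s => F.presheaf.map (homOfLE h).op s

theorem rF_rF {V₁ V₂ V₃ : X.Opens} (h : V₁ ≤ V₂) (h' : V₂ ≤ V₃) (s : Γ(F, V₃)) :
    rF X F h (rF X F h' s) = rF X F (h.trans h') s := by
  unfold rF
  rw [← ConcreteCategory.comp_apply, ← F.presheaf.map_comp]
  rfl

theorem rF_ext (V : X.Opens) (s t : Γ(F, V))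
    (h : ∀ W : {W : X.Opens // IsAffineOpen W ∧ W ≤ V}, rF X F W.2.2 s = rF X F W.2.2 t) : s = t :=
  (shAb X F).eq_of_locally_eq' (fun W : {W : X.Opens // IsAffineOpen W ∧ W ≤ V} => (W : X.Opens)) V
    (fun W => homOfLE W.2.2) (Hartogs.le_iSup_affine X V) s t h

variable (U : X.Opens)
  (haff : ∀ (W : X.Opens), IsAffineOpen W →
    Function.Bijective (rF X F (inf_le_left : W ⊓ U ≤ W)))

include haff in
theorem rF_injective (V : X.Opens) : Function.Injective (rF X F (inf_le_left : V ⊓ U ≤ V)) := by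
  intro s t hst
  apply rF_ext X F V
  rintro ⟨W, hW, hWV⟩
  apply (haff W hW).1
  rw [rF_rF, rF_rF]
  have h1 : W ⊓ U ≤ V ⊓ U := inf_le_inf_right U hWV
  rw [← rF_rF X F h1 inf_le_left s, ← rF_rF X F h1 inf_le_left t, hst]

include haff in
theorem rF_surjective (V : X.Opens) : Function.Surjective (rF X F (inf_le_left : V ⊓ U ≤ V)) := by
  intro t
  have hex : ∀ W : {W : X.Opens // IsAffineOpen W ∧ W ≤ V}, ∃ s : Γ(F, W.1),
      rF X F (inf_le_left : W.1 ⊓ U ≤ W.1) s =
        rF X F (inf_le_inf_right U W.2.2 : W.1 ⊓ U ≤ V ⊓ U) t :=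
    fun W => (haff W.1 W.2.1).2 _
  choose sf hsf using hex
  have hc : TopCat.Presheaf.IsCompatible (shAb X F).1
      (fun W : {W : X.Opens // IsAffineOpen W ∧ W ≤ V} => (W : X.Opens)) sf := by
    intro W₁ W₂
    show rF X F (inf_le_left : W₁.1 ⊓ W₂.1 ≤ W₁.1) (sf W₁) =
      rF X F (inf_le_right : W₁.1 ⊓ W₂.1 ≤ W₂.1) (sf W₂)
    apply rF_injective X F U haff (W₁.1 ⊓ W₂.1)
    rw [rF_rF, rF_rF]
    have e1 : W₁.1 ⊓ W₂.1 ⊓ U ≤ W₁.1 ⊓ U := inf_le_inf_right U inf_le_left
    have e2 : W₁.1 ⊓ W₂.1 ⊓ U ≤ W₂.1 ⊓ U := inf_le_inf_right U inf_le_right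
    rw [← rF_rF X F e1 inf_le_left (sf W₁), ← rF_rF X F e2 inf_le_left (sf W₂), hsf, hsf,
      rF_rF, rF_rF]
  obtain ⟨s, hs, -⟩ := (shAb X F).existsUnique_gluing'
    (fun W : {W : X.Opens // IsAffineOpen W ∧ W ≤ V} => (W : X.Opens)) V
    (fun W => homOfLE W.2.2) (Hartogs.le_iSup_affine X V) sf hc
  refine ⟨s, ?_⟩
  refine (shAb X F).eq_of_locally_eq'
    (fun W : {W : X.Opens // IsAffineOpen W ∧ W ≤ V} => (W : X.Opens) ⊓ U) (V ⊓ U)
    (fun W => homOfLE (inf_le_inf_right U W.2.2)) ?_ _ _ ?_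
  · rintro x ⟨hxV, hxU⟩
    obtain ⟨W, hxW⟩ := Opens.mem_iSup.mp (Hartogs.le_iSup_affine X V hxV)
    exact Opens.mem_iSup.mpr ⟨W, hxW, hxU⟩
  · intro W
    show rF X F (inf_le_inf_right U W.2.2) (rF X F inf_le_left s) =
      rF X F (inf_le_inf_right U W.2.2) t
    rw [← hsf W, rF_rF, ← hs W]
    show _ = rF X F inf_le_left (rF X F W.2.2 s)
    rw [rF_rF]

end Glue

/-- Hartogs for coherent modules on locally Noetherian schemes: if `depth F_x ≥ 2` at all points
outside `U`, restriction `Γ(V, F) → Γ(V ∩ U, F)` is bijective for every open `V`. -/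
theorem bijective_res_mod (X : Scheme.{u}) [IsLocallyNoetherian X] (F : X.Modules)
    (hF : Coh.IsCoh F) (U : X.Opens)
    (hU : ∀ x : ↥X, x ∉ U → (2 : ℕ∞) ≤ LocCoh.depth (X.presheaf.stalk x) (F.presheaf.stalk x))
    (V V' : X.Opens) (hV' : V' = V ⊓ U) (hle : V' ≤ V) :
    Function.Bijective (F.presheaf.map (homOfLE hle).op) := by
  subst hV'
  haveI : F.IsQuasicoherent := hF.1
  haveI : SheafOfModules.IsFiniteType (R := X.ringCatSheaf) F := hF.2
  have haff : ∀ (W : X.Opens), IsAffineOpen W →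
      Function.Bijective (rF X F (inf_le_left : W ⊓ U ≤ W)) :=
    fun W hW => bijective_res_affine_mod X F U hU W hW (W ⊓ U) rfl inf_le_left
  exact ⟨rF_injective X F U haff V, rF_surjective X F U haff V⟩

end Groth.Agent.H6.HartogsMod
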