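import Groth.Agent.H6.HartogsMod

set_option autoImplicit false
set_option linter.style.haveILetI false
universe u

namespace Groth.Agent.H6.HartogsMod

open AlgebraicGeometry CategoryTheory Opposite TopologicalSpace
open Groth.Agent.H6.PuncturedSections Groth.Agent.H6.PuncturedDT Groth.Agent.H58
open Groth.Agent.H6.PuncturedDepth

section Converse
variable {R : Type u} [CommRing R] [IsNoetherianRing R]

/-- If `M → Γ(D(I), M~)` is bijective then `H^0_I(M) = H^1_I(M) = 0`. -/
theorem subsingleton_H_of_toO_bijective (a : Ideal R) (M : Type u) [AddCommGroup M] [Module R M]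
    (h : Function.Bijective (toO M (LocCoh.puncturedOpen R a))) :
    Subsingleton (LocCoh.H a 0 M) ∧ Subsingleton (LocCoh.H a 1 M) := by
  have hη : Function.Bijective (LocCoh.toDT a M) := by
    have : (LocCoh.toDT a M : M → _) =
        (deligneEquiv a M).symm ∘ (toO M (LocCoh.puncturedOpen R a)) := by
      funext m
      rw [Function.comp_apply, ← deligneEquiv_toDT a m, LinearEquiv.symm_apply_apply]
    rw [this]
    exact (deligneEquiv a M).symm.bijective.comp h
  constructor
  · have hs : Subsingleton (DRing.torsionSub a M) := by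
      have hk : DRing.torsionSub a M = ⊥ := by
        rw [← ker_toDT, LinearMap.ker_eq_bot]
        exact hη.1
      rw [hk]
      infer_instance
    exact (LC.H0equiv a (ModuleCat.of R M)).injective.subsingleton
  · have hr : LinearMap.range (LocCoh.toDT a M) = ⊤ := LinearMap.range_eq_top.mpr hη.2
    have hs : Subsingleton (LocCoh.DT a M ⧸ LinearMap.range (LocCoh.toDT a M)) := by
      rw [hr]
      infer_instance
    exact (LC.cokerToDTEquiv a M).symm.injective.subsingleton

/-- If `M → Γ(D(I), M~)` is bijective (finite `M`) then `depth_I(M) ≥ 2`. -/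
theorem two_le_idealDepth_of_toO_bijective (a : Ideal R) (M : Type u) [AddCommGroup M]
    [Module R M] [Module.Finite R M]
    (h : Function.Bijective (toO M (LocCoh.puncturedOpen R a))) :
    (2 : ℕ∞) ≤ LocCoh.idealDepth a M := by
  obtain ⟨h0, h1⟩ := subsingleton_H_of_toO_bijective a M h
  by_cases htop : a • (⊤ : Submodule R M) = ⊤
  · rw [Groth.Agent.H58.DepthBasic.idealDepth_eq_top_of_smul_top_eq (I := a) (M := M) htop]
    exact le_top
  · by_contra hlt
    rw [not_le] at hlt
    have hcases : LocCoh.idealDepth a M = ((0 : ℕ) : ℕ∞) ∨ LocCoh.idealDepth a M = ((1 : ℕ) : ℕ∞) := by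
      have hne_top : LocCoh.idealDepth a M ≠ ⊤ := ne_top_of_lt hlt
      obtain ⟨n, hn⟩ := ENat.ne_top_iff_exists.mp hne_top
      rw [← hn] at hlt ⊢
      have : n < 2 := by exact_mod_cast hlt
      interval_cases n
      · left; rfl
      · right; rfl
    rcases hcases with h' | h'
    · haveI := LC.nontrivial_H_of_idealDepth_eq a M htop 0 h'
      exact not_subsingleton (LocCoh.H a 0 M) h0
    · haveI := LC.nontrivial_H_of_idealDepth_eq a M htop 1 h'
      exact not_subsingleton (LocCoh.H a 1 M) h1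


/-- converse of `bijective_res_of_bijective_toO` -/
theorem bijective_toO_of_bijective_res {R : CommRingCat.{u}} (G : (Spec R).Modules)
    [G.IsQuasicoherent] (U' : (Spec R).Opens)
    (hbij : Function.Bijective (G.presheaf.map (homOfLE (le_top : U' ≤ ⊤)).op)) :
    Function.Bijective
      (tilde.toOpen ((modulesSpecToSheaf.obj G).presheaf.obj (.op ⊤)) U').hom := by
  have h1 := Scheme.Modules.toOpen_fromTildeΓ_app G U'
  haveI : IsIso G.fromTildeΓ := inferInstance
  haveI : IsIso (modulesSpecToSheaf.map G.fromTildeΓ) := inferInstance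
  haveI : IsIso ((modulesSpecToSheaf.map G.fromTildeΓ).1) :=
    (inferInstance : IsIso ((TopCat.Sheaf.forget _ _).map (modulesSpecToSheaf.map G.fromTildeΓ)))
  haveI : IsIso ((modulesSpecToSheaf.map G.fromTildeΓ).1.app (.op U')) := inferInstance
  have h2 : Function.Bijective ((modulesSpecToSheaf.map G.fromTildeΓ).1.app (.op U')).hom :=
    ConcreteCategory.bijective_of_isIso _
  have h3 : Function.Bijective
      ((modulesSpecToSheaf.obj G).1.map (homOfLE (le_top : U' ≤ ⊤)).op).hom := hbij
  rw [← h1] at h3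
  have h4 : Function.Bijective
      (((modulesSpecToSheaf.map G.fromTildeΓ).1.app (.op U')).hom ∘
        (tilde.toOpen ((modulesSpecToSheaf.obj G).presheaf.obj (.op ⊤)) U').hom) := h3
  exact (Function.Bijective.of_comp_iff' h2 _).mp h4

theorem open_eq_puncturedOpen {R : Type u} [CommRing R] (V : (Spec (CommRingCat.of R)).Opens) :
    V = LocCoh.puncturedOpen R (PrimeSpectrum.vanishingIdeal ((V.1 : Set (PrimeSpectrum R))ᶜ)) := by
  let S : Set (PrimeSpectrum R) := V.1
  have hVc : IsClosed Sᶜ := V.2.isClosed_compl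
  have hz : PrimeSpectrum.zeroLocus ((PrimeSpectrum.vanishingIdeal Sᶜ : Ideal R) : Set R) = Sᶜ := by
    rw [PrimeSpectrum.zeroLocus_vanishingIdeal_eq_closure, hVc.closure_eq]
  apply TopologicalSpace.Opens.ext
  show S = (PrimeSpectrum.zeroLocus _)ᶜ
  rw [hz, compl_compl]

/-- Converse of Hartogs over an affine open: bijectivity of `Γ(W, F) → Γ(W ∩ U, F)` forces
`depth F_x ≥ 2` at the points of `W` outside `U`. -/
theorem two_le_depth_of_bijective_res_fromSpec (X : Scheme.{u}) [IsLocallyNoetherian X]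
    (F : X.Modules) [F.IsQuasicoherent] [SheafOfModules.IsFiniteType (R := X.ringCatSheaf) F]
    (U : X.Opens) (W : X.Opens) (hW : IsAffineOpen W)
    (hb : Function.Bijective (F.presheaf.map (homOfLE (inf_le_left : W ⊓ U ≤ W)).op))
    (p : PrimeSpectrum Γ(X, W)) (hp : hW.fromSpec p ∉ U) :
    (2 : ℕ∞) ≤ LocCoh.depth (X.presheaf.stalk (hW.fromSpec p))
      (F.presheaf.stalk (hW.fromSpec p)) := by
  haveI hN : IsNoetherianRing Γ(X, W) := IsLocallyNoetherian.component_noetherian ⟨W, hW⟩
  haveI : Module.Finite Γ(X, W) Γ(F, W) := Groth.Agent.H44.finite_sections_of_isFiniteType F hW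
  let G := F.restrict hW.fromSpec
  let U' : (Spec Γ(X, W)).Opens := hW.fromSpec ⁻¹ᵁ U
  haveI : Module.Finite Γ(X, W) Γ(G, ⊤) :=
    Module.Finite.of_surjective (eN F hW).symm.toLinearMap (eN F hW).symm.surjective
  have hb3 : Function.Bijective
      (F.presheaf.map (hW.fromSpec.opensFunctor.map (homOfLE (le_top : U' ≤ ⊤))).op) := by
    refine bijective_of_eq F _ _ ?_ (image_top_eq hW).symm hb
    show W ⊓ U = hW.fromSpec ''ᵁ (hW.fromSpec ⁻¹ᵁ U)
    rw [Scheme.Hom.image_preimage_eq_opensRange_inf, hW.opensRange_fromSpec]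
  have hb2 : Function.Bijective (G.presheaf.map (homOfLE (le_top : U' ≤ ⊤)).op) := hb3
  have hb1 : Function.Bijective (toO (R := Γ(X, W)) Γ(G, ⊤) U') :=
    bijective_toO_of_bijective_res G U' hb2
  set I : Ideal Γ(X, W) :=
    PrimeSpectrum.vanishingIdeal ((U'.1 : Set (PrimeSpectrum Γ(X, W)))ᶜ) with hI
  have hU' : U' = LocCoh.puncturedOpen Γ(X, W) I := open_eq_puncturedOpen (R := Γ(X, W)) U'
  rw [hU'] at hb1
  have hd := two_le_idealDepth_of_toO_bijective I Γ(G, ⊤) hb1
  rw [X26.idealDepth_eq_iInf_depth_localization I Γ(G, ⊤)] at hd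
  rw [depth_stalk_fromSpec_eq X F W hW p Γ(G, ⊤) (eN F hW)]
  refine le_trans hd (iInf₂_le p ?_)
  -- `I ≤ p`
  intro f hf
  have hpU' : p ∈ ((U'.1 : Set (PrimeSpectrum Γ(X, W)))ᶜ) := hp
  exact (PrimeSpectrum.mem_vanishingIdeal _ _).mp hf p hpU'

theorem two_le_depth_of_bijective_res (X : Scheme.{u}) [IsLocallyNoetherian X]
    (F : X.Modules) (hF : Coh.IsCoh F) (U : X.Opens)
    (hb : ∀ V : X.Opens, Function.Bijective (F.presheaf.map (homOfLE (inf_le_left : V ⊓ U ≤ V)).op))
    (x : X) (hx : x ∉ U) :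
    (2 : ℕ∞) ≤ LocCoh.depth (X.presheaf.stalk x) (F.presheaf.stalk x) := by
  haveI : F.IsQuasicoherent := hF.1
  haveI : SheafOfModules.IsFiniteType (R := X.ringCatSheaf) F := hF.2
  obtain ⟨W, hW, hxW, -⟩ := exists_isAffineOpen_mem_and_subset (x := x) (U := ⊤) trivial
  have hx' : hW.fromSpec (hW.primeIdealOf ⟨x, hxW⟩) = x := hW.fromSpec_primeIdealOf ⟨x, hxW⟩
  have key := two_le_depth_of_bijective_res_fromSpec X F U W hW (hb W)
    (hW.primeIdealOf ⟨x, hxW⟩) (by rw [hx']; exact hx)
  rw [hx'] at key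
  exact key

end Converse

end Groth.Agent.H6.HartogsMod
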