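import Groth.Prelude.Def_FlatCA
import Mathlib.RingTheory.AdicCompletion.Basic
import Mathlib.RingTheory.Ideal.AssociatedPrime.Basic

set_option autoImplicit false
universe u

open TensorProduct

namespace Groth.Agent.H6.AdicAss

variable {R S : Type u} [CommRing R] [CommRing S] [Algebra R S] (I : Ideal R)
  (N : Type u) [AddCommGroup N] [Module S N] [Module R N] [IsScalarTower R S N]

/-- The `S`-submodule `(IS)^k N`. -/
def U (S : Type u) [CommRing S] [Algebra R S] [Module S N] [IsScalarTower R S N] (k : ℕ) :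
    Submodule S N := (I.map (algebraMap R S)) ^ k • (⊤ : Submodule S N)

lemma mem_U_iff (S : Type u) [CommRing S] [Algebra R S] [Module S N] [IsScalarTower R S N]
    (k : ℕ) (x : N) : x ∈ (I ^ k • ⊤ : Submodule R N) ↔ x ∈ U I N S k := by
  have h := Ideal.smul_restrictScalars (I ^ k) (⊤ : Submodule S N)
  rw [Submodule.restrictScalars_top, Ideal.map_pow] at h
  rw [← h]
  rfl

variable {I N}

lemma smul_mem_U {k : ℕ} {s : S} (hs : s ∈ (I.map (algebraMap R S)) ^ k) (n : N) :
    s • n ∈ U I N S k :=
  Submodule.smul_mem_smul hs Submodule.mem_top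

lemma pow_smul_mem_U {f : S} (hf : f ∈ I.map (algebraMap R S)) {i k : ℕ} (hik : k ≤ i) (n : N) :
    f ^ i • n ∈ U I N S k :=
  smul_mem_U (Ideal.pow_le_pow_right hik (Ideal.pow_mem_pow hf i)) n

lemma eq_zero_of_one_sub_smul_eq_zero [IsHausdorff I N] {f : S}
    (hf : f ∈ I.map (algebraMap R S)) {n : N} (hn : (1 - f) • n = 0) : n = 0 := by
  have h1 : f • n = n := by
    rw [sub_smul, one_smul, sub_eq_zero] at hn
    exact hn.symm
  have h2 : ∀ k : ℕ, f ^ k • n = n := by
    intro k
    induction k with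
    | zero => simp
    | succ k ih => rw [pow_succ, mul_smul, h1, ih]
  apply IsHausdorff.haus (inferInstance : IsHausdorff I N)
  intro k
  rw [SModEq.zero, mem_U_iff I N S, ← h2 k]
  exact pow_smul_mem_U hf le_rfl n

lemma exists_one_sub_smul_eq [IsAdicComplete I N] {f : S}
    (hf : f ∈ I.map (algebraMap R S)) (n : N) : ∃ x : N, (1 - f) • x = n := by
  let x : ℕ → N := fun k => ∑ i ∈ Finset.range k, f ^ i • n
  have hx : ∀ {a b : ℕ}, a ≤ b → x b - x a ∈ U I N S a := by
    intro a b hab
    have : x b - x a = ∑ i ∈ Finset.Ico a b, f ^ i • n := by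
      simp only [x]
      rw [Finset.sum_Ico_eq_sub _ hab]
    rw [this]
    refine Submodule.sum_mem _ (fun i hi => pow_smul_mem_U hf (Finset.mem_Ico.1 hi).1 n)
  obtain ⟨L, hL⟩ := IsPrecomplete.prec (inferInstance : IsPrecomplete I N) (f := x) (by
    intro a b hab
    rw [SModEq.sub_mem, mem_U_iff I N S]
    have := hx hab
    rw [← neg_sub] at this
    exact (Submodule.neg_mem_iff _).1 this)
  refine ⟨L, ?_⟩
  rw [← sub_eq_zero]
  apply IsHausdorff.haus (inferInstance : IsHausdorff I N)
  intro k
  rw [SModEq.zero, mem_U_iff I N S]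
  have h1 : (1 - f) • x k = n - f ^ k • n := by
    simp only [x]
    rw [← Finset.sum_smul, ← mul_smul, mul_comm, geom_sum_mul_neg, sub_smul, one_smul]
  have h2 : (1 - f) • L - n = (1 - f) • (L - x k) - f ^ k • n := by
    rw [smul_sub, h1]
    abel
  rw [h2]
  refine Submodule.sub_mem _ (Submodule.smul_mem _ _ ?_) (pow_smul_mem_U hf le_rfl n)
  have := hL k
  rw [SModEq.sub_mem, mem_U_iff I N S] at this
  rw [← neg_sub]
  exact (Submodule.neg_mem_iff _).2 this

/-- If `f ∈ IS` and `N` is `I`-adically complete, then `(1 - f)` acts injectively on `N ⊗[R] M`. -/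
lemma eq_zero_of_one_sub_smul_tmul_eq_zero [IsAdicComplete I N] (M : Type u) [AddCommGroup M]
    [Module R M] {f : S} (hf : f ∈ I.map (algebraMap R S)) {z : N ⊗[R] M}
    (hz : (1 - f) • z = 0) : z = 0 := by
  let T : N →ₗ[R] N := DistribSMul.toLinearMap R N (1 - f)
  have hT : Function.Bijective T :=
    ⟨fun a b hab => by
      have : (1 - f) • (a - b) = 0 := by
        rw [smul_sub]
        exact sub_eq_zero.2 hab
      exact sub_eq_zero.1 (eq_zero_of_one_sub_smul_eq_zero hf this),
     fun n => exists_one_sub_smul_eq hf n⟩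
  let e : N ≃ₗ[R] N := LinearEquiv.ofBijective T hT
  have key : ∀ w : N ⊗[R] M, (1 - f) • w = (LinearEquiv.rTensor M e) w := by
    intro w
    induction w using TensorProduct.induction_on with
    | zero => simp
    | tmul n m => rfl
    | add a b ha hb => rw [smul_add, ha, hb, map_add]
  rw [key] at hz
  exact (LinearEquiv.map_eq_zero_iff _).1 hz

end Groth.Agent.H6.AdicAss

namespace Groth.Agent.H6.AdicAss

/-- If `q = Ann(z)` is prime and `1 - f ∈ q` acts injectively, contradiction. General helper:
an associated prime (annihilator of an element) `q` of an `S`-module `P` such that some `s ∈ q`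
acts injectively on `P` cannot exist. -/
lemma not_mem_ass_of_injective_smul {S : Type u} [CommRing S] {P : Type u} [AddCommGroup P]
    [Module S P] {q : Ideal S} (hq : q ∈ FlatCA.ass S P) {s : S} (hs : s ∈ q)
    (hinj : ∀ z : P, s • z = 0 → z = 0) : False := by
  obtain ⟨hprime, z, hz⟩ := hq
  have h1 : s • z = 0 := by
    rw [hz, Submodule.mem_annihilator_span_singleton] at hs
    exact hs
  have h2 : z = 0 := hinj z h1
  apply hprime.ne_top
  rw [hz, h2, Submodule.span_zero_singleton, Submodule.annihilator_bot]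

theorem assoc_sup_ne_top_of_isAdicComplete {R S : Type u} [CommRing R] [CommRing S] [Algebra R S]
    (I : Ideal R) (N : Type u) [AddCommGroup N] [Module S N] [Module R N] [IsScalarTower R S N]
    [IsAdicComplete I N] (M : Type u) [AddCommGroup M] [Module R M]
    (q : Ideal S) [q.IsPrime] (hq : q ∈ FlatCA.ass S (N ⊗[R] M)) :
    q ⊔ I.map (algebraMap R S) ≠ ⊤ := by
  intro htop
  have h1 : (1 : S) ∈ q ⊔ I.map (algebraMap R S) := by rw [htop]; trivial
  obtain ⟨s, hs, f, hf, hsf⟩ := Submodule.mem_sup.1 h1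
  have hs' : s = 1 - f := by rw [← hsf]; ring
  refine not_mem_ass_of_injective_smul hq hs (fun z hz => ?_)
  rw [hs'] at hz
  exact eq_zero_of_one_sub_smul_tmul_eq_zero M hf hz

end Groth.Agent.H6.AdicAss
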