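import Mathlib

/-!
# Radical ideals of pure height one in factorial local rings are principal (helper6)

Commutative algebra used to show that the reduced complement of a dense affine open of a locally
factorial scheme is an effective Cartier divisor.
-/

set_option autoImplicit false
set_option linter.style.haveILetI false
universe u v

namespace Groth.Agent.H6.RadPrin

section UFD

variable {B : Type*} [CommRing B] [IsDomain B] [IsNoetherianRing B] [UniqueFactorizationMonoid B]

/-- a nonzero prime of height at most one in a factorial domain is generated by a prime element -/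
theorem exists_prime_generator (Q : Ideal B) [Q.IsPrime] (hQ0 : Q ≠ ⊥) (hQ : Q.height ≤ 1) :
    ∃ π : B, Prime π ∧ Q = Ideal.span {π} := by
  obtain ⟨π, hπQ, hπ⟩ := Ideal.IsPrime.exists_mem_prime_of_ne_bot inferInstance hQ0
  refine ⟨π, hπ, ?_⟩
  haveI hP : (Ideal.span {π}).IsPrime := (Ideal.span_singleton_prime hπ.ne_zero).mpr hπ
  have hle : Ideal.span {π} ≤ Q := (Ideal.span_singleton_le_iff_mem _).mpr hπQ
  have h1 : (1 : ℕ∞) ≤ (Ideal.span {π}).height := by
    have hbot : (⊥ : Ideal B) < Ideal.span {π} := bot_lt_iff_ne_bot.mpr (by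
      rw [Ne, Ideal.span_singleton_eq_bot]
      exact hπ.ne_zero)
    haveI : (⊥ : Ideal B).IsPrime := Ideal.isPrime_bot
    have h2 := Ideal.height_strict_mono_of_isPrime hbot
    exact Order.one_le_iff_pos.mpr (lt_of_le_of_lt bot_le h2)
  exact (Ideal.eq_of_le_of_height_le _ hle (hQ.trans h1)).symm

/-- a nonzero radical ideal of a Noetherian factorial domain all of whose minimal primes have
height at most one is principal -/
theorem exists_generator_of_isRadical (R : Ideal B) (hR : R.IsRadical) (hR0 : R ≠ ⊥)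
    (hht : ∀ Q ∈ R.minimalPrimes, Q.height ≤ 1) : ∃ b : B, b ≠ 0 ∧ R = Ideal.span {b} := by
  classical
  have hfin : R.minimalPrimes.Finite := Ideal.finite_minimalPrimes_of_isNoetherianRing B R
  have hex : ∀ Q : Ideal B, Q ∈ R.minimalPrimes → ∃ π : B, Prime π ∧ Q = Ideal.span {π} := by
    intro Q hQ
    haveI := hQ.1.1
    exact exists_prime_generator Q (fun h0 => hR0 (le_bot_iff.mp (h0 ▸ hQ.1.2))) (hht Q hQ)
  choose! π hπ hQπ using hex
  let S := hfin.toFinset
  refine ⟨∏ Q ∈ S, π Q, ?_, ?_⟩
  · rw [Finset.prod_ne_zero_iff]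
    intro Q hQ
    exact (hπ Q (hfin.mem_toFinset.mp hQ)).ne_zero
  · have hRinf : R = sInf R.minimalPrimes := by rw [Ideal.sInf_minimalPrimes, hR.radical]
    apply le_antisymm
    · intro x hx
      rw [Ideal.mem_span_singleton]
      have key : ∀ T : Finset (Ideal B), T ⊆ S → ∏ Q ∈ T, π Q ∣ x := by
        intro T
        induction T using Finset.induction_on with
        | empty => intro _; simp
        | insert Q₀ T hQ₀ ih =>
          intro hT
          have hQ₀S : Q₀ ∈ R.minimalPrimes :=
            hfin.mem_toFinset.mp (hT (Finset.mem_insert_self _ _))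
          have hTS : T ⊆ S := fun Q hQ => hT (Finset.mem_insert_of_mem hQ)
          obtain ⟨c, hc⟩ := ih hTS
          rw [Finset.prod_insert hQ₀]
          have hx₀ : π Q₀ ∣ x := by
            have h1 : x ∈ Q₀ := hQ₀S.1.2 hx
            rw [hQπ Q₀ hQ₀S, Ideal.mem_span_singleton] at h1
            exact h1
          rw [hc] at hx₀
          rcases (hπ Q₀ hQ₀S).dvd_or_dvd hx₀ with h | h
          · exfalso
            obtain ⟨Q, hQT, hdvd⟩ := (hπ Q₀ hQ₀S).exists_mem_finset_dvd h
            have hQS := hfin.mem_toFinset.mp (hTS hQT)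
            have hle : Q ≤ Q₀ := by
              rw [hQπ Q hQS, hQπ Q₀ hQ₀S, Ideal.span_singleton_le_span_singleton]
              exact hdvd
            have hge : Q₀ ≤ Q := hQ₀S.2 hQS.1 hle
            exact hQ₀ ((le_antisymm hle hge) ▸ hQT)
          · obtain ⟨d, hd⟩ := h
            exact ⟨d, by rw [hc, hd]; ring⟩
      exact key S subset_rfl
    · rw [Ideal.span_singleton_le_iff_mem, hRinf, Ideal.mem_sInf]
      intro Q hQ
      rw [hQπ Q hQ, Ideal.mem_span_singleton]
      exact Finset.dvd_prod_of_mem _ (hfin.mem_toFinset.mpr hQ)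

end UFD

/-- a nonzero radical ideal `J` of a Noetherian domain `A` whose minimal primes inside `p` have
height at most one becomes principal in a factorial localization `A_p`, with a generator in `J` -/
theorem exists_generator_map (A : Type*) [CommRing A] [IsDomain A] [IsNoetherianRing A]
    (p : Ideal A) [p.IsPrime] (B : Type*) [CommRing B] [Algebra A B] [IsLocalization.AtPrime B p]
    [IsDomain B] [UniqueFactorizationMonoid B] (J : Ideal A) (hJ : J.IsRadical) (hJ0 : J ≠ ⊥)
    (hht : ∀ q ∈ J.minimalPrimes, q ≤ p → q.height ≤ 1) :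
    ∃ f ∈ J, f ≠ 0 ∧ J.map (algebraMap A B) = Ideal.span {algebraMap A B f} := by
  haveI : IsNoetherianRing B := IsLocalization.isNoetherianRing p.primeCompl B inferInstance
  have hinj : Function.Injective (algebraMap A B) :=
    IsLocalization.injective B p.primeCompl_le_nonZeroDivisors
  have hR : (J.map (algebraMap A B)).IsRadical := by
    have h1 := IsLocalization.map_radical p.primeCompl (S := B) J
    rw [hJ.radical] at h1
    rw [Ideal.IsRadical, ← h1]
  have hR0 : J.map (algebraMap A B) ≠ ⊥ := by
    intro h0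
    obtain ⟨a, haJ, ha0⟩ := Submodule.exists_mem_ne_zero_of_ne_bot hJ0
    have h1 : algebraMap A B a ∈ J.map (algebraMap A B) := Ideal.mem_map_of_mem _ haJ
    rw [h0, Ideal.mem_bot] at h1
    exact ha0 (hinj (h1.trans (map_zero _).symm))
  have hhtB : ∀ Q ∈ (J.map (algebraMap A B)).minimalPrimes, Q.height ≤ 1 := by
    intro Q hQ
    haveI := hQ.1.1
    have h1 : Q.under A ∈ J.minimalPrimes := by
      rw [IsLocalization.minimalPrimes_map p.primeCompl B J] at hQ
      exact hQ
    have h2 : Q.under A ≤ p := by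
      intro a ha
      by_contra hap
      have hdisj := ((IsLocalization.isPrime_iff_isPrime_disjoint p.primeCompl B Q).mp
        inferInstance).2
      exact Set.disjoint_left.mp hdisj (show a ∈ (p.primeCompl : Set A) from hap) ha
    rw [← IsLocalization.height_under p.primeCompl Q]
    exact hht _ h1 h2
  obtain ⟨b, hb0, hb⟩ := exists_generator_of_isRadical _ hR hR0 hhtB
  have hbmem : b ∈ J.map (algebraMap A B) := hb ▸ Ideal.mem_span_singleton_self b
  obtain ⟨⟨j, s⟩, hjs⟩ := (IsLocalization.mem_map_algebraMap_iff p.primeCompl B).mp hbmem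
  have hs : IsUnit (algebraMap A B s.1) := IsLocalization.map_units B s
  refine ⟨j.1, j.2, ?_, ?_⟩
  · intro h0
    rw [h0, map_zero] at hjs
    rcases mul_eq_zero.mp hjs with h | h
    · exact hb0 h
    · exact hs.ne_zero h
  · rw [hb, ← hjs]
    exact (Ideal.span_singleton_mul_right_unit hs b).symm

/-- a finitely generated ideal which becomes principal at `p` with a generator `f` in it is
generated by `f` over every algebra in which a suitable `g ∉ p` is invertible -/
theorem exists_away_generator (A : Type u) [CommRing A] (p : Ideal A) [p.IsPrime]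
    (B : Type v) [CommRing B] [Algebra A B] [IsLocalization.AtPrime B p]
    (J : Ideal A) (hJfg : J.FG) (f : A) (hf : f ∈ J)
    (h : J.map (algebraMap A B) = Ideal.span {algebraMap A B f}) :
    ∃ g : A, g ∉ p ∧ ∀ (C : Type u) [CommRing C] (φ : A →+* C), IsUnit (φ g) →
      J.map φ = Ideal.span {φ f} := by
  classical
  obtain ⟨T, hT⟩ := hJfg
  have hex : ∀ a : A, a ∈ J → ∃ g : A, g ∉ p ∧ g * a ∈ Ideal.span {f} := by
    intro a ha
    have h1 : algebraMap A B a ∈ Ideal.span {algebraMap A B f} :=
      h ▸ Ideal.mem_map_of_mem _ ha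
    rw [Ideal.mem_span_singleton'] at h1
    obtain ⟨c, hc⟩ := h1
    obtain ⟨c', s, rfl⟩ := IsLocalization.exists_mk'_eq p.primeCompl c
    have h2 : algebraMap A B (c' * f) = algebraMap A B (s.1 * a) := by
      rw [map_mul, map_mul, ← hc, ← mul_assoc, mul_comm (algebraMap A B s.1),
        IsLocalization.mk'_spec]
    obtain ⟨t, ht⟩ := (IsLocalization.eq_iff_exists p.primeCompl B).mp h2
    refine ⟨t.1 * s.1, p.primeCompl.mul_mem t.2 s.2, ?_⟩
    rw [Ideal.mem_span_singleton']
    exact ⟨t.1 * c', by rw [mul_assoc, ht, mul_assoc]⟩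
  choose! γ hγp hγ using hex
  refine ⟨∏ a ∈ T, γ a, ?_, ?_⟩
  · intro hmem
    obtain ⟨a, haT, ha⟩ := (Ideal.IsPrime.prod_mem_iff).mp hmem
    have haJ : a ∈ J := hT ▸ Ideal.subset_span haT
    exact hγp a haJ ha
  · intro C _ φ hu
    apply le_antisymm
    · rw [← hT, Ideal.map_span, Ideal.span_le]
      rintro _ ⟨a, haT, rfl⟩
      have haJ : a ∈ J := hT ▸ Ideal.subset_span haT
      have h1 : (∏ a ∈ T, γ a) * a ∈ Ideal.span {f} := by
        rw [← Finset.mul_prod_erase T γ haT, mul_comm (γ a), mul_assoc]
        exact Ideal.mul_mem_left _ _ (hγ a haJ)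
      rw [Ideal.mem_span_singleton'] at h1
      obtain ⟨c, hc⟩ := h1
      have h2 : φ (∏ a ∈ T, γ a) * φ a = φ c * φ f := by
        rw [← map_mul, ← map_mul, hc]
      show φ a ∈ Ideal.span {φ f}
      rw [Ideal.mem_span_singleton']
      refine ⟨↑hu.unit⁻¹ * φ c, ?_⟩
      rw [mul_assoc, ← h2, ← mul_assoc, IsUnit.val_inv_mul, one_mul]
    · rw [Ideal.span_singleton_le_iff_mem]
      exact Ideal.mem_map_of_mem _ hf

end Groth.Agent.H6.RadPrin
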