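import Groth.Agent.H6.AffineComplPurity
import Groth.Agent.H6.RadicalPrincipal
import Groth.Agent.H25.DimGen2
import Groth.Agent.H8.QCohStalk
import Groth.Prelude.Def_BlowUp2

/-!
# The reduced complement of a dense affine open of a locally factorial scheme is an effective
Cartier divisor (helper6)
-/

set_option autoImplicit false
set_option linter.style.haveILetI false
universe u

namespace Groth.Agent.H6.AffCompl

open AlgebraicGeometry CategoryTheory Opposite TopologicalSpace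

variable {X : Scheme.{u}}

/-- sections over a nonempty open inside an integral open subscheme form a domain -/
theorem isDomain_sections_of_le_integral (W₁ : X.Opens) [IsIntegral (W₁ : Scheme.{u})]
    (V : X.Opens) (hV : V ≤ W₁) (hne : (V : Set X).Nonempty) : IsDomain Γ(X, V) := by
  obtain ⟨x, hx⟩ := hne
  haveI : Nonempty (W₁.ι ⁻¹ᵁ V) := ⟨⟨⟨x, hV hx⟩, hx⟩⟩
  haveI : IsDomain Γ((W₁ : Scheme.{u}), W₁.ι ⁻¹ᵁ V) := inferInstance
  haveI : IsIso (W₁.ι.app V) := Scheme.Hom.isIso_app W₁.ι V (by rw [Scheme.Opens.opensRange_ι]; exact hV)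
  have hinj : Function.Injective (W₁.ι.app V).hom :=
    ((ConcreteCategory.isIso_iff_bijective (W₁.ι.app V)).mp inferInstance).1
  exact hinj.isDomain (W₁.ι.app V).hom

/-- the reduced closed complement of a dense affine open of a locally Noetherian, locally
factorial scheme with affine intersections of affine opens is an effective Cartier divisor -/
theorem isEffCartierIdeal_vanishingIdeal [IsLocallyNoetherian X]
    (hfact : ∀ x : X, ∃ _ : IsDomain (X.presheaf.stalk x),
      UniqueFactorizationMonoid (X.presheaf.stalk x))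
    (hdiag : ∀ U V : X.Opens, IsAffineOpen U → IsAffineOpen V → IsAffineOpen (U ⊓ V))
    (U : X.Opens) (hU : IsAffineOpen U) (hdense : Dense (U : Set X))
    (Z : Closeds X) (hZ : (Z : Set X) = (U : Set X)ᶜ) :
    BlowUp.IsEffCartierIdeal (Scheme.IdealSheafData.vanishingIdeal Z) := by
  have hX : Pi1.IsNormalScheme X := fun x => by
    obtain ⟨h1, h2⟩ := hfact x
    exact ⟨h1, UniqueFactorizationMonoid.instIsIntegrallyClosed⟩
  intro y
  obtain ⟨hyd, hyu⟩ := hfact y
  obtain ⟨W₁, hyW₁, hW₁int⟩ := Groth.Agent.H25.DimGen2.exists_isIntegral_open X y hyd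
  obtain ⟨W₀, hW₀, hyW₀, hW₀W₁⟩ := exists_isAffineOpen_mem_and_subset (x := y) (U := W₁) hyW₁
  haveI : IsDomain Γ(X, W₀) := isDomain_sections_of_le_integral W₁ W₀ hW₀W₁ ⟨y, hyW₀⟩
  haveI : IsNoetherianRing Γ(X, W₀) := IsLocallyNoetherian.component_noetherian ⟨W₀, hW₀⟩
  set J : Ideal Γ(X, W₀) := (Scheme.IdealSheafData.vanishingIdeal Z).ideal ⟨W₀, hW₀⟩ with hJdef
  set t : Set (PrimeSpectrum Γ(X, W₀)) := {P | hW₀.fromSpec P ∈ (Z : Set X)} with ht
  have hJeq : J = PrimeSpectrum.vanishingIdeal t :=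
    Scheme.IdealSheafData.vanishingIdeal_ideal Z ⟨W₀, hW₀⟩
  have hclosed : IsClosed t := Z.isClosed.preimage hW₀.fromSpec.continuous
  have hJmem : ∀ P : PrimeSpectrum Γ(X, W₀), J ≤ P.asIdeal ↔ hW₀.fromSpec P ∉ U := by
    intro P
    have h1 : J ≤ P.asIdeal ↔ P ∈ t := by
      constructor
      · intro h
        have h2 : P ∈ PrimeSpectrum.zeroLocus (J : Set Γ(X, W₀)) :=
          (PrimeSpectrum.mem_zeroLocus P _).mpr h
        rw [hJeq, PrimeSpectrum.zeroLocus_vanishingIdeal_eq_closure, hclosed.closure_eq] at h2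
        exact h2
      · intro hP a ha
        rw [hJeq, PrimeSpectrum.mem_vanishingIdeal] at ha
        exact ha P hP
    rw [h1]
    show hW₀.fromSpec P ∈ (Z : Set X) ↔ _
    rw [hZ]
    rfl
  have hJrad : J.IsRadical := by
    rw [hJeq]
    exact PrimeSpectrum.isRadical_vanishingIdeal _
  have hJ0 : J ≠ ⊥ := by
    intro h0
    obtain ⟨x, hxW₀, hxU⟩ := hdense.inter_open_nonempty (W₀ : Set X) W₀.2 ⟨y, hyW₀⟩
    have h1 := (hJmem (hW₀.primeIdealOf ⟨x, hxW₀⟩)).mp (by rw [h0]; exact bot_le)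
    rw [hW₀.fromSpec_primeIdealOf] at h1
    exact h1 hxU
  letI := TopCat.Presheaf.algebra_section_stalk X.presheaf (⟨y, hyW₀⟩ : W₀)
  haveI := hW₀.isLocalization_stalk ⟨y, hyW₀⟩
  haveI := hyd
  haveI := hyu
  obtain ⟨f, hfJ, hf0, hfmap⟩ := Groth.Agent.H6.RadPrin.exists_generator_map Γ(X, W₀)
    (hW₀.primeIdealOf ⟨y, hyW₀⟩).asIdeal (X.presheaf.stalk y) J hJrad hJ0
    (fun q hq _ => height_le_one hX hdiag U hU W₀ hW₀ J hJmem q hq)
  obtain ⟨g, hgp, hgC⟩ := Groth.Agent.H6.RadPrin.exists_away_generator Γ(X, W₀)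
    (hW₀.primeIdealOf ⟨y, hyW₀⟩).asIdeal (X.presheaf.stalk y) J
    ((isNoetherianRing_iff_ideal_fg _).mp inferInstance J) f hfJ hfmap
  have hyg : y ∈ X.basicOpen g := (Groth.Agent.H8.notMem_primeIdealOf_iff hW₀ hyW₀ g).mp hgp
  set φ := (X.presheaf.map (homOfLE (X.basicOpen_le g)).op).hom with hφ
  have hunit : IsUnit (φ g) := RingedSpace.isUnit_res_basicOpen X.toRingedSpace g
  have hideal : (Scheme.IdealSheafData.vanishingIdeal Z).ideal (X.affineBasicOpen (U := ⟨W₀, hW₀⟩) g) =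
      Ideal.span {φ f} := by
    rw [← (Scheme.IdealSheafData.vanishingIdeal Z).map_ideal_basicOpen ⟨W₀, hW₀⟩ g]
    exact hgC Γ(X, X.basicOpen g) φ hunit
  refine ⟨X.affineBasicOpen (U := ⟨W₀, hW₀⟩) g, hyg, φ f, ?_, hideal⟩
  -- `φ f` is a nonzero element of a domain
  haveI : IsDomain Γ(X, X.basicOpen g) :=
    isDomain_sections_of_le_integral W₁ (X.basicOpen g)
      ((X.basicOpen_le g).trans hW₀W₁) ⟨y, hyg⟩
  show φ f ∈ nonZeroDivisors Γ(X, X.basicOpen g)
  apply mem_nonZeroDivisors_of_ne_zero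
  intro h0
  have h1 : X.presheaf.germ (X.basicOpen g) y hyg (φ f) = X.presheaf.germ W₀ y hyW₀ f :=
    TopCat.Presheaf.germ_res_apply X.presheaf (homOfLE (X.basicOpen_le g)) y hyg f
  rw [h0, map_zero] at h1
  have hinj : Function.Injective (algebraMap Γ(X, W₀) (X.presheaf.stalk y)) :=
    IsLocalization.injective (X.presheaf.stalk y)
      (hW₀.primeIdealOf ⟨y, hyW₀⟩).asIdeal.primeCompl_le_nonZeroDivisors
  exact hf0 (hinj (h1.symm.trans (map_zero _).symm))

end Groth.Agent.H6.AffCompl
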