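import Groth.Agent.H6.Hartogs
import Groth.Agent.H6.NormalDepth
import Groth.Prelude.Def_Pi1

/-!
# The complement of an affine open in a normal scheme with affine diagonal has codimension one
(helper6)
-/

set_option autoImplicit false
set_option linter.style.haveILetI false
universe u

namespace Groth.Agent.H6.AffCompl

open AlgebraicGeometry CategoryTheory Opposite TopologicalSpace

variable {X : Scheme.{u}}

/-- two affine opens `V ≤ W` with bijective restriction map are equal -/
theorem eq_of_bijective_res {V W : X.Opens} (hV : IsAffineOpen V) (hW : IsAffineOpen W)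
    (h : V ≤ W) (hb : Function.Bijective (X.presheaf.map (homOfLE h).op)) : V = W := by
  apply le_antisymm h
  haveI : IsIso (X.presheaf.map (homOfLE h).op) :=
    (ConcreteCategory.isIso_iff_bijective _).mpr hb
  have h1 := hW.map_fromSpec hV (homOfLE h).op
  intro x hx
  obtain ⟨P, hP⟩ : x ∈ Set.range hW.fromSpec := by
    rw [hW.range_fromSpec]
    exact hx
  haveI : IsIso (Spec.map (X.presheaf.map (homOfLE h).op)) := inferInstance
  obtain ⟨P', rfl⟩ : ∃ P', (Spec.map (X.presheaf.map (homOfLE h).op)) P' = P :=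
    ⟨(inv (Spec.map (X.presheaf.map (homOfLE h).op))) P, by
      rw [← Scheme.Hom.comp_apply, IsIso.inv_hom_id]
      rfl⟩
  have h2 : hV.fromSpec P' = x := by
    rw [← hP, ← h1, Scheme.Hom.comp_apply]
  rw [← h2]
  exact Groth.Agent.H6.Hartogs.fromSpec_mem X V hV P'


/-- specialization of primes gives specialization of points of an affine open -/
theorem fromSpec_specializes {W : X.Opens} (hW : IsAffineOpen W) {P Q : PrimeSpectrum Γ(X, W)}
    (h : P.asIdeal ≤ Q.asIdeal) : hW.fromSpec P ⤳ hW.fromSpec Q := by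
  have h1 : P ⤳ Q := (PrimeSpectrum.le_iff_specializes P Q).mp h
  exact h1.map hW.fromSpec.continuous

/-- Purity: in a locally Noetherian normal scheme in which intersections of affine opens are
affine, the minimal primes of an ideal cutting out the complement of an affine open `U` inside
an affine open `W₀` have height at most one. -/
theorem height_le_one [IsLocallyNoetherian X] (hX : Pi1.IsNormalScheme X)
    (hdiag : ∀ U V : X.Opens, IsAffineOpen U → IsAffineOpen V → IsAffineOpen (U ⊓ V))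
    (U : X.Opens) (hU : IsAffineOpen U) (W₀ : X.Opens) (hW₀ : IsAffineOpen W₀)
    (J : Ideal Γ(X, W₀))
    (hJ : ∀ P : PrimeSpectrum Γ(X, W₀), J ≤ P.asIdeal ↔ hW₀.fromSpec P ∉ U)
    (q : Ideal Γ(X, W₀)) (hq : q ∈ J.minimalPrimes) : q.height ≤ 1 := by
  classical
  haveI hN : IsNoetherianRing Γ(X, W₀) := IsLocallyNoetherian.component_noetherian ⟨W₀, hW₀⟩
  haveI hqp : q.IsPrime := hq.1.1
  by_contra hnot
  have h2 : (2 : ℕ∞) ≤ q.height := by
    rw [not_le] at hnot
    exact Order.add_one_le_of_lt hnot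
  set Q : PrimeSpectrum Γ(X, W₀) := ⟨q, hqp⟩ with hQ
  set z : X := hW₀.fromSpec Q with hz
  have hzW₀ : z ∈ W₀ := Groth.Agent.H6.Hartogs.fromSpec_mem X W₀ hW₀ Q
  have hzU : z ∉ U := (hJ Q).mp hq.1.2
  -- an element of all other minimal primes
  have hfin : J.minimalPrimes.Finite := Ideal.finite_minimalPrimes_of_isNoetherianRing _ J
  obtain ⟨g, hgq, hg⟩ : ∃ g : Γ(X, W₀), g ∉ q ∧ ∀ q' ∈ J.minimalPrimes, q' ≠ q → g ∈ q' := by
    by_contra hcon
    push Not at hcon
    have hle : (hfin.toFinset.erase q).inf id ≤ q := by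
      intro g hgmem
      by_contra hgq
      obtain ⟨q', hq', hne, hgq'⟩ := hcon g hgq
      apply hgq'
      have h3 : (hfin.toFinset.erase q).inf id ≤ q' :=
        Finset.inf_le (f := id) (Finset.mem_erase.mpr ⟨hne, hfin.mem_toFinset.mpr hq'⟩)
      exact h3 hgmem
    obtain ⟨q', hq', hq'q⟩ := (Ideal.IsPrime.inf_le' hqp).mp hle
    rw [Finset.mem_erase] at hq'
    have hq'm := hfin.mem_toFinset.mp hq'.2
    exact hq'.1 (le_antisymm hq'q (hq.2 hq'm.1 hq'q))
  set W : X.Opens := X.basicOpen g with hWdef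
  have hW : IsAffineOpen W := hW₀.basicOpen g
  have hWW₀ : W ≤ W₀ := X.basicOpen_le g
  have hmemW : ∀ P : PrimeSpectrum Γ(X, W₀), hW₀.fromSpec P ∈ W ↔ g ∉ P.asIdeal := by
    intro P
    have h3 : hW₀.fromSpec P ∈ X.basicOpen g ↔ P ∈ hW₀.fromSpec ⁻¹ᵁ X.basicOpen g := Iff.rfl
    rw [hWdef, h3, hW₀.fromSpec_preimage_basicOpen]
    exact PrimeSpectrum.mem_basicOpen g P
  have hzW : z ∈ W := (hmemW Q).mpr hgq
  -- points of `W` outside `U` are specializations of `z`
  have hspec : ∀ x : X, x ∈ W → x ∉ U → z ⤳ x := by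
    intro x hxW hxU
    have hxW₀ : x ∈ W₀ := hWW₀ hxW
    set P := hW₀.primeIdealOf ⟨x, hxW₀⟩ with hP
    have hPx : hW₀.fromSpec P = x := hW₀.fromSpec_primeIdealOf ⟨x, hxW₀⟩
    have hJP : J ≤ P.asIdeal := (hJ P).mpr (by rw [hPx]; exact hxU)
    obtain ⟨q'', hq'', hq''P⟩ := Ideal.exists_minimalPrimes_le hJP
    have hgP : g ∉ P.asIdeal := (hmemW P).mp (by rw [hPx]; exact hxW)
    have hqq : q'' = q := by
      by_contra hne
      exact hgP (hq''P (hg q'' hq'' hne))
    rw [← hPx]
    refine fromSpec_specializes hW₀ (P := Q) (Q := P) ?_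
    show q ≤ P.asIdeal
    rw [← hqq]
    exact hq''P
  -- the dimension of the local ring at `z`
  have hdimz : ringKrullDim (X.presheaf.stalk z) = q.height := by
    letI := TopCat.Presheaf.algebra_section_stalk X.presheaf (⟨z, hzW₀⟩ : W₀)
    haveI := hW₀.isLocalization_stalk ⟨z, hzW₀⟩
    have h3 : hW₀.primeIdealOf ⟨z, hzW₀⟩ = Q := by
      apply hW₀.fromSpec.isOpenEmbedding.injective
      rw [hW₀.fromSpec_primeIdealOf]
    have h4 : (hW₀.primeIdealOf ⟨z, hzW₀⟩).asIdeal = q := by rw [h3]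
    have h5 := IsLocalization.AtPrime.ringKrullDim_eq_height
      (hW₀.primeIdealOf ⟨z, hzW₀⟩).asIdeal (X.presheaf.stalk z)
    rw [h4] at h5
    exact h5
  let U₂ : X.Opens := U ⊔ ⟨(closure {z})ᶜ, isClosed_closure.isOpen_compl⟩
  have hU₂ : ∀ x : X, x ∉ U₂ →
      (2 : ℕ∞) ≤ LocCoh.depth (X.presheaf.stalk x) (X.presheaf.stalk x) := by
    intro x hx
    have hxU : x ∉ U := fun h => hx (Or.inl h)
    have hxc : x ∈ closure {z} := by
      by_contra h
      exact hx (Or.inr h)
    have hzx : z ⤳ x := specializes_iff_mem_closure.mpr hxc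
    haveI := (hX x).1
    haveI := (hX x).2
    apply Groth.Agent.H6.NormalDepth.two_le_depth_of_normal
    rw [ringKrullDim_stalk_eq_coheight]
    have h3 : Order.coheight z ≤ Order.coheight x := Order.coheight_anti (show x ≤ z from hzx)
    have h4 : ((2 : ℕ∞) : WithBot ℕ∞) ≤ (Order.coheight z : WithBot ℕ∞) := by
      rw [← ringKrullDim_stalk_eq_coheight, hdimz]
      exact_mod_cast h2
    exact h4.trans (by exact_mod_cast h3)
  have hinf : W ⊓ U = W ⊓ U₂ := by
    apply le_antisymm
    · exact inf_le_inf_left W le_sup_left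
    · rintro x ⟨hxW, hxU₂⟩
      refine ⟨hxW, ?_⟩
      by_contra hxU
      rcases hxU₂ with h | h
      · exact hxU h
      · exact h (specializes_iff_mem_closure.mp (hspec x hxW hxU))
  have hbij := Groth.Agent.H6.Hartogs.bijective_res_affine X U₂ hU₂ W hW (W ⊓ U) hinf inf_le_left
  have heq := eq_of_bijective_res (hdiag W U hW hU) hW inf_le_left hbij
  have : z ∈ W ⊓ U := by
    rw [heq]
    exact hzW
  exact hzU this.2

end Groth.Agent.H6.AffCompl
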