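import Mathlib
import Groth.Prelude.Def_FlatCA
import Groth.Agent.H6.NzdFiber

/-!
# The relative assassin of a flat module

For `N` an `S`-module flat over the Noetherian ring `R` (with `S` Noetherian) and `Q` a finite
`R`-module, every associated prime `q` of the `S`-module `N ⊗_R Q` extends to an associated prime of
the fibre module of `N` over `p = q ∩ R`.
-/

set_option autoImplicit false
set_option linter.unusedSectionVars false
universe u

open TensorProduct

namespace Groth.Agent.H6.RelAss

attribute [local instance] Algebra.TensorProduct.rightAlgebra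

variable {R S : Type u} [CommRing R] [CommRing S] [Algebra R S]

section FiberRing

variable (p : Ideal R) [p.IsPrime] (q : Ideal S)

theorem isUnit_algebraMap_fiber {r : R} (hr : r ∉ p) : IsUnit (algebraMap R (p.Fiber S) r) := by
  have h0 : algebraMap R p.ResidueField r ≠ 0 := by
    rwa [Ne, Ideal.algebraMap_residueField_eq_zero]
  have := (IsUnit.mk0 _ h0).map
    (Algebra.TensorProduct.includeLeft (R := R) (S := R) (A := p.ResidueField) (B := S))
  rwa [Algebra.TensorProduct.includeLeft_apply] at this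

theorem one_tmul_mem_fiberIdeal {s : S} (hs : s ∈ q) :
    (1 : p.ResidueField) ⊗ₜ[R] s ∈ FlatCA.fiberIdeal p q :=
  Ideal.mem_map_of_mem
    (Algebra.TensorProduct.includeRight (R := R) (A := p.ResidueField) (B := S)).toRingHom hs

theorem mem_fiberIdeal_of_smul (x : p.Fiber S) (r : R) (hr : r ∉ p) (s : S) (hs : s ∈ q)
    (h : r • x = (1 : p.ResidueField) ⊗ₜ[R] s) : x ∈ FlatCA.fiberIdeal p q := by
  obtain ⟨u, hu⟩ := isUnit_algebraMap_fiber (S := S) p hr
  have hx : x = ↑u⁻¹ * ((1 : p.ResidueField) ⊗ₜ[R] s) := by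
    rw [← h, Algebra.smul_def, ← hu, ← mul_assoc, Units.inv_mul, one_mul]
  rw [hx]
  exact Ideal.mul_mem_left _ _ (one_tmul_mem_fiberIdeal p q hs)

end FiberRing

section FiberMod

variable (N : Type u) [AddCommGroup N] [Module S N] [Module R N] [IsScalarTower R S N]

/-- The fibre module as `N ⊗ κ(p)`. -/
noncomputable def fiberModEquiv (p : Ideal R) [p.IsPrime] :
    FlatCA.fiberMod p S N ≃ₗ[S] N ⊗[R] p.ResidueField :=
  (TensorProduct.congr (Algebra.TensorProduct.commRight R S p.ResidueField).symm.toLinearEquiv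
      (LinearEquiv.refl S N)) ≪≫ₗ
    TensorProduct.comm S _ _ ≪≫ₗ
    TensorProduct.AlgebraTensorModule.cancelBaseChange R S S N p.ResidueField

/-- If `z` in the fibre module has `S`-annihilator exactly the prime `q`, then `q` extends to an
associated prime of the fibre module over the fibre ring. -/
theorem fiberIdeal_mem_associatedPrimes (p : Ideal R) [p.IsPrime] (q : Ideal S) [q.IsPrime]
    (z : FlatCA.fiberMod p S N) (hz : ∀ s : S, s • z = 0 ↔ s ∈ q) :
    FlatCA.fiberIdeal p q ∈ associatedPrimes (p.Fiber S) (FlatCA.fiberMod p S N) := by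
  have tower : IsScalarTower S (p.Fiber S) (FlatCA.fiberMod p S N) :=
    NzdFiber.isScalarTower_fiberMod N p
  have hone : ∀ s : S, ((1 : p.ResidueField) ⊗ₜ[R] s : p.Fiber S) • z = s • z := by
    intro s
    rw [← Algebra.TensorProduct.right_algebraMap_apply, algebraMap_smul]
  have key1 : ∀ x ∈ FlatCA.fiberIdeal p q, x • z = 0 := by
    intro x hx
    unfold FlatCA.fiberIdeal at hx
    rw [Ideal.map] at hx
    refine Submodule.span_induction (p := fun x _ => x • z = 0) ?_ ?_ ?_ ?_ hx
    · rintro _ ⟨s, hs, rfl⟩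
      change ((1 : p.ResidueField) ⊗ₜ[R] s : p.Fiber S) • z = 0
      rw [hone, hz]
      exact hs
    · rw [zero_smul]
    · intro x y _ _ hx hy
      rw [add_smul, hx, hy, add_zero]
    · intro a x _ hx
      rw [smul_eq_mul, mul_smul, hx, smul_zero]
  have key2 : ∀ x : p.Fiber S, x • z = 0 → x ∈ FlatCA.fiberIdeal p q := by
    intro x hx
    obtain ⟨r, hr, s, hrs⟩ := Ideal.Fiber.exists_smul_eq_one_tmul p x
    refine mem_fiberIdeal_of_smul p q x r hr s ?_ hrs
    rw [← hz, ← hone, ← hrs, Algebra.smul_def, mul_smul, hx, smul_zero]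
  have hprime : (FlatCA.fiberIdeal p q).IsPrime := by
    refine ⟨?_, ?_⟩
    · intro htop
      have h1 : (1 : p.Fiber S) • z = 0 := key1 1 (htop ▸ Submodule.mem_top)
      rw [one_smul] at h1
      have : (1 : S) ∈ q := by rw [← hz, h1, smul_zero]
      exact ‹q.IsPrime›.ne_top ((Ideal.eq_top_iff_one q).mpr this)
    · intro x y hxy
      obtain ⟨r₁, hr₁, s₁, h₁⟩ := Ideal.Fiber.exists_smul_eq_one_tmul p x
      obtain ⟨r₂, hr₂, s₂, h₂⟩ := Ideal.Fiber.exists_smul_eq_one_tmul p y
      have hmul : ((1 : p.ResidueField) ⊗ₜ[R] (s₁ * s₂) : p.Fiber S) =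
          (algebraMap R (p.Fiber S) r₁ * algebraMap R (p.Fiber S) r₂) * (x * y) := by
        have : ((1 : p.ResidueField) ⊗ₜ[R] (s₁ * s₂) : p.Fiber S) =
            ((1 : p.ResidueField) ⊗ₜ[R] s₁) * ((1 : p.ResidueField) ⊗ₜ[R] s₂) := by
          rw [Algebra.TensorProduct.tmul_mul_tmul, one_mul]
        rw [this, ← h₁, ← h₂, Algebra.smul_def, Algebra.smul_def]
        ring
      have hmem : ((1 : p.ResidueField) ⊗ₜ[R] (s₁ * s₂) : p.Fiber S) ∈ FlatCA.fiberIdeal p q := by
        rw [hmul]
        exact Ideal.mul_mem_left _ _ hxy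
      have hs : s₁ * s₂ ∈ q := by
        rw [← hz, ← hone]
        exact key1 _ hmem
      rcases ‹q.IsPrime›.mem_or_mem hs with h | h
      · exact Or.inl (mem_fiberIdeal_of_smul p q x r₁ hr₁ s₁ h h₁)
      · exact Or.inr (mem_fiberIdeal_of_smul p q y r₂ hr₂ s₂ h h₂)
  refine ⟨hprime, z, ?_⟩
  have hcolon : Submodule.colon (⊥ : Submodule (p.Fiber S) (FlatCA.fiberMod p S N)) {z} =
      FlatCA.fiberIdeal p q := by
    ext x
    rw [Submodule.mem_colon_singleton, Submodule.mem_bot]
    exact ⟨key2 x, key1 x⟩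
  rw [hcolon, hprime.radical]

end FiberMod

section Main

variable (N : Type u) [AddCommGroup N] [Module S N] [Module R N] [IsScalarTower R S N]
  [IsNoetherianRing S]

/-- An associated prime of the `S`-module `fiberMod p S N` lying over `p` extends to an associated
prime over the fibre ring. -/
theorem fiberIdeal_mem_of_mem_associatedPrimes (p : Ideal R) [p.IsPrime] (q : Ideal S)
    (hq : q ∈ associatedPrimes S (FlatCA.fiberMod p S N)) :
    ∃ (_ : q.IsPrime),
      FlatCA.fiberIdeal p q ∈ associatedPrimes (p.Fiber S) (FlatCA.fiberMod p S N) := by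
  have hq' : IsAssociatedPrime q (FlatCA.fiberMod p S N) := hq
  obtain ⟨hprime, z, hz⟩ := isAssociatedPrime_iff.mp hq'
  refine ⟨hprime, fiberIdeal_mem_associatedPrimes N p q z ?_⟩
  intro s
  rw [hz, Submodule.mem_colon_singleton, Submodule.mem_bot]

variable [Module.Flat R N]

theorem lTensor_eq {Q₁ Q₂ : Type u} [AddCommGroup Q₁] [Module R Q₁] [AddCommGroup Q₂] [Module R Q₂]
    (f : Q₁ →ₗ[R] Q₂) (x : N ⊗[R] Q₁) :
    TensorProduct.AlgebraTensorModule.lTensor S N f x = f.lTensor N x := by
  induction x using TensorProduct.induction_on with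
  | zero => simp
  | tmul n a => rfl
  | add x y hx hy => rw [map_add, map_add, hx, hy]

theorem lTensor_injective {Q₁ Q₂ : Type u} [AddCommGroup Q₁] [Module R Q₁] [AddCommGroup Q₂]
    [Module R Q₂] (f : Q₁ →ₗ[R] Q₂) (hf : Function.Injective f) :
    Function.Injective (TensorProduct.AlgebraTensorModule.lTensor S N f) := by
  have := Module.Flat.lTensor_preserves_injective_linearMap (M := N) f hf
  intro x y hxy
  apply this
  rw [← lTensor_eq (S := S), ← lTensor_eq (S := S), hxy]

/-- associated primes of `N ⊗ R/p₀`, for flat `N`, lie over `p₀` and are associated primes of the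
fibre module. -/
theorem quotient_case (p₀ : Ideal R) [p₀.IsPrime] (q : Ideal S)
    (hq : q ∈ associatedPrimes S (N ⊗[R] (R ⧸ p₀))) :
    q.under R = p₀ ∧ q ∈ associatedPrimes S (FlatCA.fiberMod p₀ S N) := by
  constructor
  · have hq' : IsAssociatedPrime q (N ⊗[R] (R ⧸ p₀)) := hq
    obtain ⟨hprime, z, hz⟩ := isAssociatedPrime_iff.mp hq'
    have hsmul : ∀ (r : R) (y : N ⊗[R] (R ⧸ p₀)),
        (LinearMap.lsmul R (R ⧸ p₀) r).lTensor N y = r • y := by
      intro r y
      induction y using TensorProduct.induction_on with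
      | zero => simp
      | tmul n a => rw [LinearMap.lTensor_tmul, LinearMap.lsmul_apply, TensorProduct.tmul_smul]
      | add x y hx hy => rw [map_add, smul_add, hx, hy]
    apply le_antisymm
    · intro r hr
      rw [Ideal.mem_comap, hz, Submodule.mem_colon_singleton, Submodule.mem_bot,
        algebraMap_smul] at hr
      by_contra hrp
      have hinj : Function.Injective (LinearMap.lsmul R (R ⧸ p₀) r) := by
        intro a b hab
        rw [LinearMap.lsmul_apply, LinearMap.lsmul_apply, Algebra.smul_def, Algebra.smul_def] at hab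
        have hne : algebraMap R (R ⧸ p₀) r ≠ 0 := by
          rwa [Ne, Ideal.Quotient.algebraMap_eq, Ideal.Quotient.eq_zero_iff_mem]
        exact mul_left_cancel₀ hne hab
      have hinj' := Module.Flat.lTensor_preserves_injective_linearMap (M := N) _ hinj
      have hz0 : z = 0 := by
        apply hinj'
        rw [hsmul, hr, map_zero]
      apply hprime.ne_top
      rw [hz, hz0]
      ext y
      simp [Submodule.mem_colon_singleton]
    · intro r hr
      rw [Ideal.mem_comap, hz, Submodule.mem_colon_singleton, Submodule.mem_bot, algebraMap_smul]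
      rw [← hsmul]
      have : LinearMap.lsmul R (R ⧸ p₀) r = 0 := by
        apply LinearMap.ext
        intro a
        rw [LinearMap.lsmul_apply, LinearMap.zero_apply, Algebra.smul_def,
          Ideal.Quotient.algebraMap_eq, Ideal.Quotient.eq_zero_iff_mem.mpr hr, zero_mul]
      rw [this, LinearMap.lTensor_zero, LinearMap.zero_apply]
  · let ι : (R ⧸ p₀) →ₗ[R] p₀.ResidueField :=
      (IsScalarTower.toAlgHom R (R ⧸ p₀) p₀.ResidueField).toLinearMap
    have hι : Function.Injective ι := p₀.injective_algebraMap_quotient_residueField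
    have h1 : IsAssociatedPrime q (N ⊗[R] p₀.ResidueField) :=
      IsAssociatedPrime.map_of_injective (f := TensorProduct.AlgebraTensorModule.lTensor S N ι) hq
        (lTensor_injective N ι hι)
    exact (LinearEquiv.isAssociatedPrime_iff (fiberModEquiv N p₀)).mpr h1

/-- **Relative assassin.** For `N` flat over `R`, every associated prime `q` of `N ⊗_R Q` (with `Q`
a finite `R`-module) extends to an associated prime of the fibre module over `q ∩ R`. -/
theorem exists_fiber_ass [IsNoetherianRing R] (Q : Type u) [AddCommGroup Q] [Module R Q]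
    (hQ : Module.Finite R Q) (q : Ideal S) (hq : q ∈ associatedPrimes S (N ⊗[R] Q)) :
    ∃ (p : Ideal R) (_ : p.IsPrime) (_ : q.IsPrime) (_ : q.LiesOver p),
      FlatCA.fiberIdeal p q ∈ associatedPrimes (p.Fiber S) (FlatCA.fiberMod p S N) := by
  revert q
  refine IsNoetherianRing.induction_on_isQuotientEquivQuotientPrime R hQ
    (motive := fun Q _ _ _ => ∀ q : Ideal S, q ∈ associatedPrimes S (N ⊗[R] Q) →
      ∃ (p : Ideal R) (_ : p.IsPrime) (_ : q.IsPrime) (_ : q.LiesOver p),
        FlatCA.fiberIdeal p q ∈ associatedPrimes (p.Fiber S) (FlatCA.fiberMod p S N)) ?_ ?_ ?_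
  · intro Q _ _ _ _ q hq
    exact absurd hq not_isAssociatedPrime_of_subsingleton
  · intro Q _ _ _ p₀ e q hq
    have hq' : q ∈ associatedPrimes S (N ⊗[R] (R ⧸ p₀.asIdeal)) :=
      (LinearEquiv.isAssociatedPrime_iff
        (TensorProduct.AlgebraTensorModule.congr (LinearEquiv.refl S N) e)).mp hq
    obtain ⟨hunder, hmem⟩ := quotient_case N p₀.asIdeal q hq'
    obtain ⟨hprime, hfib⟩ := fiberIdeal_mem_of_mem_associatedPrimes N p₀.asIdeal q hmem
    exact ⟨p₀.asIdeal, p₀.2, hprime, ⟨hunder.symm⟩, hfib⟩
  · intro Q₁ _ _ _ Q₂ _ _ _ Q₃ _ _ _ f g hf hg hfg h₁ h₃ q hq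
    have hex : Function.Exact (TensorProduct.AlgebraTensorModule.lTensor S N f)
        (TensorProduct.AlgebraTensorModule.lTensor S N g) := by
      have := lTensor_exact N hfg hg
      intro y
      rw [lTensor_eq, this y]
      constructor
      · rintro ⟨x, hx⟩
        exact ⟨x, by rw [lTensor_eq, hx]⟩
      · rintro ⟨x, hx⟩
        exact ⟨x, by rw [← lTensor_eq (S := S), hx]⟩
    rcases associatedPrimes.subset_union_of_exact (lTensor_injective N f hf) hex hq with h | h
    · exact h₁ q h
    · exact h₃ q h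

end Main

end Groth.Agent.H6.RelAss
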