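import Mathlib
import Groth.Prelude.Def_FlatCA
import Groth.Agent.H6.NzdFiber
import Groth.Agent.H6.RelAss

/-!
# Associated primes (exact annihilators, `FlatCA.ass`) of tensor products and fibre modules
-/

set_option autoImplicit false
set_option linter.unusedSectionVars false
universe u

open TensorProduct

namespace Groth.Agent.H6.AssFiber

attribute [local instance] Algebra.TensorProduct.rightAlgebra

section Basic

variable {S : Type u} [CommRing S] {M M₁ M₂ M₃ : Type u} [AddCommGroup M] [Module S M]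
  [AddCommGroup M₁] [Module S M₁] [AddCommGroup M₂] [Module S M₂] [AddCommGroup M₃] [Module S M₃]

theorem mem_ass_iff {q : Ideal S} :
    q ∈ FlatCA.ass S M ↔ q.IsPrime ∧ ∃ m : M, ∀ s : S, s ∈ q ↔ s • m = 0 := by
  constructor
  · rintro ⟨hp, m, hm⟩
    refine ⟨hp, m, fun s => ?_⟩
    rw [hm, Submodule.mem_annihilator_span_singleton]
  · rintro ⟨hp, m, hm⟩
    refine ⟨hp, m, ?_⟩
    ext s
    rw [hm, Submodule.mem_annihilator_span_singleton]

theorem ass_of_injective (f : M₁ →ₗ[S] M₂) (hf : Function.Injective f) {q : Ideal S}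
    (hq : q ∈ FlatCA.ass S M₁) : q ∈ FlatCA.ass S M₂ := by
  rw [mem_ass_iff] at hq ⊢
  obtain ⟨hp, m, hm⟩ := hq
  refine ⟨hp, f m, fun s => ?_⟩
  rw [hm, ← map_smul, map_eq_zero_iff f hf]

theorem ass_of_equiv (e : M₁ ≃ₗ[S] M₂) {q : Ideal S} :
    q ∈ FlatCA.ass S M₁ ↔ q ∈ FlatCA.ass S M₂ :=
  ⟨ass_of_injective e.toLinearMap e.injective, ass_of_injective e.symm.toLinearMap e.symm.injective⟩

theorem not_mem_ass_of_subsingleton [Subsingleton M] {q : Ideal S} : q ∉ FlatCA.ass S M := by
  intro hq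
  rw [mem_ass_iff] at hq
  obtain ⟨hp, m, hm⟩ := hq
  apply hp.ne_top
  rw [Ideal.eq_top_iff_one, hm, Subsingleton.elim m 0, smul_zero]

theorem ass_union_of_exact (f : M₁ →ₗ[S] M₂) (g : M₂ →ₗ[S] M₃) (hf : Function.Injective f)
    (hfg : Function.Exact f g) {q : Ideal S} (hq : q ∈ FlatCA.ass S M₂) :
    q ∈ FlatCA.ass S M₁ ∨ q ∈ FlatCA.ass S M₃ := by
  rw [mem_ass_iff] at hq
  obtain ⟨hp, x, hx⟩ := hq
  by_cases h : ∃ s : S, s ∉ q ∧ ∃ y : M₁, f y = s • x
  · obtain ⟨s, hs, y, hy⟩ := h
    left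
    rw [mem_ass_iff]
    refine ⟨hp, y, fun t => ?_⟩
    rw [← map_eq_zero_iff f hf, map_smul, hy, smul_smul, ← hx]
    constructor
    · intro ht
      exact Ideal.mul_mem_right _ _ ht
    · intro hts
      exact (hp.mem_or_mem hts).resolve_right hs
  · right
    rw [mem_ass_iff]
    refine ⟨hp, g x, fun t => ?_⟩
    constructor
    · intro ht
      rw [← map_smul, (hx t).mp ht, map_zero]
    · intro ht
      rw [← map_smul] at ht
      obtain ⟨y, hy⟩ := (hfg (t • x)).mp ht
      by_contra htq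
      exact h ⟨t, htq, y, hy⟩

end Basic

section Tensor

variable {R S : Type u} [CommRing R] [CommRing S] [Algebra R S]
  (N : Type u) [AddCommGroup N] [Module S N] [Module R N] [IsScalarTower R S N]

theorem lTensor_eq {Q₁ Q₂ : Type u} [AddCommGroup Q₁] [Module R Q₁] [AddCommGroup Q₂] [Module R Q₂]
    (f : Q₁ →ₗ[R] Q₂) (x : N ⊗[R] Q₁) :
    TensorProduct.AlgebraTensorModule.lTensor S N f x = f.lTensor N x := by
  induction x using TensorProduct.induction_on with
  | zero => simp
  | tmul n a => rfl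
  | add x y hx hy => rw [map_add, map_add, hx, hy]

theorem lTensor_injective [Module.Flat R N] {Q₁ Q₂ : Type u} [AddCommGroup Q₁] [Module R Q₁]
    [AddCommGroup Q₂] [Module R Q₂] (f : Q₁ →ₗ[R] Q₂) (hf : Function.Injective f) :
    Function.Injective (TensorProduct.AlgebraTensorModule.lTensor S N f) := by
  have := Module.Flat.lTensor_preserves_injective_linearMap (M := N) f hf
  intro x y hxy
  apply this
  rw [← lTensor_eq (S := S), ← lTensor_eq (S := S), hxy]

/-- `S`-scalar multiplication commutes with `lTensor`. -/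
theorem smul_lTensor {Q₁ Q₂ : Type u} [AddCommGroup Q₁] [Module R Q₁] [AddCommGroup Q₂]
    [Module R Q₂] (f : Q₁ →ₗ[R] Q₂) (s : S) (x : N ⊗[R] Q₁) :
    f.lTensor N (s • x) = s • f.lTensor N x := by
  rw [← lTensor_eq (S := S), ← lTensor_eq (S := S), map_smul]

/-- flat case: an associated prime of `N ⊗ M` is an associated prime of `N ⊗ M'` for some finitely
generated `M' ⊆ M`. -/
theorem exists_fg_of_flat [Module.Flat R N] (M : Type u) [AddCommGroup M] [Module R M]
    (q : Ideal S) (h : q ∈ FlatCA.ass S (N ⊗[R] M)) :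
    ∃ M' : Submodule R M, M'.FG ∧ q ∈ FlatCA.ass S (N ⊗[R] ↥M') := by
  rw [mem_ass_iff] at h
  obtain ⟨hp, z, hz⟩ := h
  obtain ⟨M', hfin, hsub⟩ :=
    TensorProduct.exists_finite_submodule_right_of_setFinite {z} (Set.finite_singleton z)
  obtain ⟨z', hz'⟩ := hsub (Set.mem_singleton z)
  refine ⟨M', Module.Finite.iff_fg.mp hfin, mem_ass_iff.mpr ⟨hp, z', fun s => ?_⟩⟩
  rw [hz s, ← hz', ← smul_lTensor,
    map_eq_zero_iff _ (Module.Flat.lTensor_preserves_injective_linearMap (M := N) M'.subtype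
      M'.injective_subtype)]

/-- lTensor version of `Submodule.FG.exists_rTensor_fg_inclusion_eq`, for vanishing. -/
theorem exists_fg_lTensor_inclusion_eq_zero {M : Type u} [AddCommGroup M] [Module R M]
    {P : Submodule R M} (hP : P.FG) (x : N ⊗[R] ↥P) (hx : P.subtype.lTensor N x = 0) :
    ∃ P' : Submodule R M, P'.FG ∧ ∃ h : P ≤ P', (Submodule.inclusion h).lTensor N x = 0 := by
  have hcomm : ∀ {A B : Type u} [AddCommGroup A] [Module R A] [AddCommGroup B] [Module R B]
      (f : A →ₗ[R] B) (y : N ⊗[R] A),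
      f.rTensor N (TensorProduct.comm R N A y) = TensorProduct.comm R N B (f.lTensor N y) := by
    intro A B _ _ _ _ f y
    induction y using TensorProduct.induction_on with
    | zero => simp
    | tmul n a => rfl
    | add x y hx hy => rw [map_add, map_add, map_add, map_add, hx, hy]
  have h1 : P.subtype.rTensor N (TensorProduct.comm R N P x) = P.subtype.rTensor N 0 := by
    rw [hcomm, hx, map_zero, map_zero]
  obtain ⟨P', hfg, hle, h2⟩ := hP.exists_rTensor_fg_inclusion_eq h1
  refine ⟨P', hfg, hle, ?_⟩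
  rw [hcomm, map_zero] at h2
  exact (TensorProduct.comm R N P').map_eq_zero_iff.mp h2

/-- Noetherian case: an associated prime of `N ⊗ M` is an associated prime of `N ⊗ M'` for some
finitely generated `M' ⊆ M`. -/
theorem exists_fg_of_noetherian [IsNoetherianRing S] (M : Type u) [AddCommGroup M] [Module R M]
    (q : Ideal S) (h : q ∈ FlatCA.ass S (N ⊗[R] M)) :
    ∃ M' : Submodule R M, M'.FG ∧ q ∈ FlatCA.ass S (N ⊗[R] ↥M') := by
  classical
  rw [mem_ass_iff] at h
  obtain ⟨hp, z, hz⟩ := h
  obtain ⟨M₀, hfin, hsub⟩ :=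
    TensorProduct.exists_finite_submodule_right_of_setFinite {z} (Set.finite_singleton z)
  obtain ⟨z₀, hz₀⟩ := hsub (Set.mem_singleton z)
  have hM₀ : M₀.FG := Module.Finite.iff_fg.mp hfin
  obtain ⟨t, ht⟩ := (IsNoetherian.noetherian q : q.FG)
  -- enlarge `M₀` so that all generators of `q` kill the image of `z₀`
  have key : ∀ t' : Finset S, (∀ s ∈ t', s ∈ q) →
      ∃ M' : Submodule R M, M'.FG ∧ ∃ hle : M₀ ≤ M',
        ∀ s ∈ t', s • (Submodule.inclusion hle).lTensor N z₀ = 0 := by
    intro t'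
    induction t' using Finset.induction_on with
    | empty =>
      intro _
      exact ⟨M₀, hM₀, le_rfl, fun s hs => absurd hs (Finset.notMem_empty s)⟩
    | insert a t' ha ih =>
      intro hmem
      obtain ⟨M', hfg', hle, hkill⟩ := ih (fun s hs => hmem s (Finset.mem_insert_of_mem hs))
      have haq : a ∈ q := hmem a (Finset.mem_insert_self a t')
      have h0 : M'.subtype.lTensor N (a • (Submodule.inclusion hle).lTensor N z₀) = 0 := by
        rw [smul_lTensor, ← LinearMap.comp_apply, ← LinearMap.lTensor_comp]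
        have : M'.subtype ∘ₗ Submodule.inclusion hle = M₀.subtype := rfl
        rw [this, hz₀]
        exact (hz a).mp haq
      obtain ⟨M'', hfg'', hle', h2⟩ := exists_fg_lTensor_inclusion_eq_zero N hfg' _ h0
      refine ⟨M'', hfg'', hle.trans hle', ?_⟩
      have hcomp : ∀ y : N ⊗[R] ↥M₀, (Submodule.inclusion (hle.trans hle')).lTensor N y =
          (Submodule.inclusion hle').lTensor N ((Submodule.inclusion hle).lTensor N y) := by
        intro y
        rw [← LinearMap.comp_apply, ← LinearMap.lTensor_comp]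
        rfl
      intro s hs
      rw [hcomp]
      rcases Finset.mem_insert.mp hs with rfl | hs'
      · rw [← smul_lTensor]
        exact h2
      · rw [← smul_lTensor, hkill s hs', map_zero]
  obtain ⟨M', hfg', hle, hkill⟩ := key t (fun s hs => ht ▸ Submodule.subset_span hs)
  refine ⟨M', hfg', mem_ass_iff.mpr ⟨hp, (Submodule.inclusion hle).lTensor N z₀, fun s => ?_⟩⟩
  constructor
  · intro hs
    rw [← ht] at hs
    refine Submodule.span_induction (p := fun s _ => s • (Submodule.inclusion hle).lTensor N z₀ = 0)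
      ?_ ?_ ?_ ?_ hs
    · intro a ha
      exact hkill a ha
    · rw [zero_smul]
    · intro a b _ _ ha hb
      rw [add_smul, ha, hb, add_zero]
    · intro a b _ hb
      rw [smul_eq_mul, mul_smul, hb, smul_zero]
  · intro hs
    rw [hz s, ← hz₀]
    have : M₀.subtype = M'.subtype ∘ₗ Submodule.inclusion hle := rfl
    rw [this, LinearMap.lTensor_comp, LinearMap.comp_apply, ← smul_lTensor, hs, map_zero]

end Tensor

section Fiber

variable {R S : Type u} [CommRing R] [CommRing S] [Algebra R S]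
  (N : Type u) [AddCommGroup N] [Module S N] [Module R N] [IsScalarTower R S N]
  (p : Ideal R) [p.IsPrime]

theorem one_tmul_smul (s : S) (z : FlatCA.fiberMod p S N) :
    ((1 : p.ResidueField) ⊗ₜ[R] s : p.Fiber S) • z = s • z := by
  have tower : IsScalarTower S (p.Fiber S) (FlatCA.fiberMod p S N) :=
    NzdFiber.isScalarTower_fiberMod N p
  rw [← Algebra.TensorProduct.right_algebraMap_apply, algebraMap_smul]

/-- If `z` in the fibre module has `S`-annihilator the prime `q`, its annihilator in the fibre ring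
is the prime `q (κ(p) ⊗ S)`. -/
theorem fiberIdeal_spec (q : Ideal S) [q.IsPrime] (z : FlatCA.fiberMod p S N)
    (hz : ∀ s : S, s • z = 0 ↔ s ∈ q) :
    (FlatCA.fiberIdeal p q).IsPrime ∧
      ∀ x : p.Fiber S, x • z = 0 ↔ x ∈ FlatCA.fiberIdeal p q := by
  have hone := fun s => one_tmul_smul N p s z
  have key1 : ∀ x ∈ FlatCA.fiberIdeal p q, x • z = 0 := by
    intro x hx
    unfold FlatCA.fiberIdeal at hx
    rw [Ideal.map] at hx
    refine Submodule.span_induction (p := fun x _ => x • z = 0) ?_ ?_ ?_ ?_ hx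
    · rintro _ ⟨s, hs, rfl⟩
      change ((1 : p.ResidueField) ⊗ₜ[R] s : p.Fiber S) • z = 0
      rw [hone, hz]
      exact hs
    · rw [zero_smul]
    · intro x y _ _ hx hy
      rw [add_smul, hx, hy, add_zero]
    · intro a x _ hx
      rw [smul_eq_mul, mul_smul, hx, smul_zero]
  have key2 : ∀ x : p.Fiber S, x • z = 0 → x ∈ FlatCA.fiberIdeal p q := by
    intro x hx
    obtain ⟨r, hr, s, hrs⟩ := Ideal.Fiber.exists_smul_eq_one_tmul p x
    refine RelAss.mem_fiberIdeal_of_smul p q x r hr s ?_ hrs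
    rw [← hz, ← hone, ← hrs, Algebra.smul_def, mul_smul, hx, smul_zero]
  refine ⟨⟨?_, ?_⟩, fun x => ⟨key2 x, key1 x⟩⟩
  · intro htop
    have h1 : (1 : p.Fiber S) • z = 0 := key1 1 (htop ▸ Submodule.mem_top)
    rw [one_smul] at h1
    have : (1 : S) ∈ q := by rw [← hz, h1, smul_zero]
    exact ‹q.IsPrime›.ne_top ((Ideal.eq_top_iff_one q).mpr this)
  · intro x y hxy
    obtain ⟨r₁, hr₁, s₁, h₁⟩ := Ideal.Fiber.exists_smul_eq_one_tmul p x
    obtain ⟨r₂, hr₂, s₂, h₂⟩ := Ideal.Fiber.exists_smul_eq_one_tmul p y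
    have hmul : ((1 : p.ResidueField) ⊗ₜ[R] (s₁ * s₂) : p.Fiber S) =
        (algebraMap R (p.Fiber S) r₁ * algebraMap R (p.Fiber S) r₂) * (x * y) := by
      have : ((1 : p.ResidueField) ⊗ₜ[R] (s₁ * s₂) : p.Fiber S) =
          ((1 : p.ResidueField) ⊗ₜ[R] s₁) * ((1 : p.ResidueField) ⊗ₜ[R] s₂) := by
        rw [Algebra.TensorProduct.tmul_mul_tmul, one_mul]
      rw [this, ← h₁, ← h₂, Algebra.smul_def, Algebra.smul_def]
      ring
    have hmem : ((1 : p.ResidueField) ⊗ₜ[R] (s₁ * s₂) : p.Fiber S) ∈ FlatCA.fiberIdeal p q := by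
      rw [hmul]
      exact Ideal.mul_mem_left _ _ hxy
    have hs : s₁ * s₂ ∈ q := by
      rw [← hz, ← hone]
      exact key1 _ hmem
    rcases ‹q.IsPrime›.mem_or_mem hs with h | h
    · exact Or.inl (RelAss.mem_fiberIdeal_of_smul p q x r₁ hr₁ s₁ h h₁)
    · exact Or.inr (RelAss.mem_fiberIdeal_of_smul p q y r₂ hr₂ s₂ h h₂)

/-- `q` is an associated prime of the fibre module as an `S`-module iff it is the contraction of an
associated prime over the fibre ring. -/
theorem mem_ass_fiberMod_iff (q : Ideal S) [q.IsPrime] :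
    q ∈ FlatCA.ass S (FlatCA.fiberMod p S N) ↔
      ∃ Q ∈ FlatCA.ass (p.Fiber S) (FlatCA.fiberMod p S N),
        Q.comap (Algebra.TensorProduct.includeRight (R := R) (A := p.ResidueField)
          (B := S)).toRingHom = q := by
  constructor
  · intro h
    obtain ⟨_, z, hz⟩ := mem_ass_iff.mp h
    obtain ⟨hprime, hspec⟩ := fiberIdeal_spec N p q z (fun s => (hz s).symm)
    refine ⟨FlatCA.fiberIdeal p q, mem_ass_iff.mpr ⟨hprime, z, fun x => (hspec x).symm⟩, ?_⟩
    ext s
    rw [Ideal.mem_comap]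
    change ((1 : p.ResidueField) ⊗ₜ[R] s : p.Fiber S) ∈ FlatCA.fiberIdeal p q ↔ s ∈ q
    rw [← hspec, one_tmul_smul, hz]
  · rintro ⟨Q, hQ, hQq⟩
    obtain ⟨_, z, hz⟩ := mem_ass_iff.mp hQ
    refine mem_ass_iff.mpr ⟨inferInstance, z, fun s => ?_⟩
    rw [← hQq, Ideal.mem_comap]
    change ((1 : p.ResidueField) ⊗ₜ[R] s : p.Fiber S) ∈ Q ↔ s • z = 0
    rw [hz, one_tmul_smul]

end Fiber

section Quotient

variable {R S : Type u} [CommRing R] [CommRing S] [Algebra R S]
  (N : Type u) [AddCommGroup N] [Module S N] [Module R N] [IsScalarTower R S N]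
  (p : Ideal R)

theorem smul_top_eq_restrictScalars :
    (p • ⊤ : Submodule R N) =
      ((p.map (algebraMap R S)) • (⊤ : Submodule S N)).restrictScalars R := by
  apply le_antisymm
  · intro x hx
    refine Submodule.smul_induction_on hx ?_ ?_
    · intro r hr n _
      rw [Submodule.restrictScalars_mem, ← algebraMap_smul S r n]
      exact Submodule.smul_mem_smul (Ideal.mem_map_of_mem _ hr) Submodule.mem_top
    · intro x y hx hy
      exact Submodule.add_mem _ hx hy
  · intro x hx
    rw [Submodule.restrictScalars_mem] at hx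
    refine Submodule.smul_induction_on hx ?_ ?_
    · intro a ha n _
      have key : ∀ n : N, a • n ∈ (p • ⊤ : Submodule R N) := by
        rw [Ideal.map] at ha
        refine Submodule.span_induction
          (p := fun a _ => ∀ n : N, a • n ∈ (p • ⊤ : Submodule R N)) ?_ ?_ ?_ ?_ ha
        · rintro _ ⟨r, hr, rfl⟩ n
          rw [algebraMap_smul]
          exact Submodule.smul_mem_smul hr Submodule.mem_top
        · intro n
          rw [zero_smul]
          exact Submodule.zero_mem _
        · intro a b _ _ ha hb n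
          rw [add_smul]
          exact Submodule.add_mem _ (ha n) (hb n)
        · intro s a _ ha n
          rw [smul_eq_mul, mul_comm, mul_smul]
          exact ha (s • n)
      exact key n
    · intro x y hx hy
      exact Submodule.add_mem _ hx hy

/-- `N ⊗ R/p ≃ N/pN` (as `R`-modules; it is `S`-semilinear, see `tensorQuotEquiv_smul`). -/
noncomputable def tensorQuotEquiv :
    N ⊗[R] (R ⧸ p) ≃ₗ[R] N ⧸ ((p.map (algebraMap R S)) • (⊤ : Submodule S N)) :=
  TensorProduct.tensorQuotEquivQuotSMul N p ≪≫ₗ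
    Submodule.quotEquivOfEq _ _ (smul_top_eq_restrictScalars (S := S) N p) ≪≫ₗ
    Submodule.Quotient.restrictScalarsEquiv R _

theorem tensorQuotEquiv_tmul (n : N) (r : R) :
    tensorQuotEquiv (S := S) N p (n ⊗ₜ[R] Ideal.Quotient.mk p r) =
      Submodule.Quotient.mk (r • n) := by
  simp [tensorQuotEquiv]

theorem tensorQuotEquiv_smul (s : S) (z : N ⊗[R] (R ⧸ p)) :
    tensorQuotEquiv (S := S) N p (s • z) = s • tensorQuotEquiv (S := S) N p z := by
  induction z using TensorProduct.induction_on with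
  | zero => simp
  | tmul n a =>
    obtain ⟨r, rfl⟩ := Ideal.Quotient.mk_surjective a
    rw [TensorProduct.smul_tmul', tensorQuotEquiv_tmul, tensorQuotEquiv_tmul,
      ← Submodule.Quotient.mk_smul, smul_comm]
  | add x y hx hy => rw [smul_add, map_add, map_add, smul_add, hx, hy]

theorem ass_tensorQuot_iff {q : Ideal S} :
    q ∈ FlatCA.ass S (N ⊗[R] (R ⧸ p)) ↔
      q ∈ FlatCA.ass S (N ⧸ ((p.map (algebraMap R S)) • (⊤ : Submodule S N))) := by
  rw [mem_ass_iff, mem_ass_iff]
  constructor
  · rintro ⟨hp, z, hz⟩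
    refine ⟨hp, tensorQuotEquiv (S := S) N p z, fun s => ?_⟩
    rw [hz, ← tensorQuotEquiv_smul, LinearEquiv.map_eq_zero_iff]
  · rintro ⟨hp, m, hm⟩
    refine ⟨hp, (tensorQuotEquiv (S := S) N p).symm m, fun s => ?_⟩
    rw [hm, ← (tensorQuotEquiv (S := S) N p).map_eq_zero_iff, tensorQuotEquiv_smul,
      LinearEquiv.apply_symm_apply]

end Quotient

section Main

variable {R S : Type u} [CommRing R] [CommRing S] [Algebra R S]
  (N : Type u) [AddCommGroup N] [Module S N] [Module R N] [IsScalarTower R S N]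
  [Module.Flat R N]

/-- For flat `N`, associated primes of `N ⊗ R/p₀` lie over `p₀`. -/
theorem comap_eq_of_mem_ass_tensorQuot (p₀ : Ideal R) [p₀.IsPrime] (q : Ideal S)
    (hq : q ∈ FlatCA.ass S (N ⊗[R] (R ⧸ p₀))) : q.comap (algebraMap R S) = p₀ := by
  obtain ⟨hprime, z, hz⟩ := mem_ass_iff.mp hq
  have hsmul : ∀ (r : R) (y : N ⊗[R] (R ⧸ p₀)),
      (LinearMap.lsmul R (R ⧸ p₀) r).lTensor N y = r • y := by
    intro r y
    induction y using TensorProduct.induction_on with
    | zero => simp
    | tmul n a => rw [LinearMap.lTensor_tmul, LinearMap.lsmul_apply, TensorProduct.tmul_smul]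
    | add x y hx hy => rw [map_add, smul_add, hx, hy]
  apply le_antisymm
  · intro r hr
    rw [Ideal.mem_comap, hz, algebraMap_smul] at hr
    by_contra hrp
    have hinj : Function.Injective (LinearMap.lsmul R (R ⧸ p₀) r) := by
      intro a b hab
      rw [LinearMap.lsmul_apply, LinearMap.lsmul_apply, Algebra.smul_def, Algebra.smul_def] at hab
      have hne : algebraMap R (R ⧸ p₀) r ≠ 0 := by
        rwa [Ne, Ideal.Quotient.algebraMap_eq, Ideal.Quotient.eq_zero_iff_mem]
      exact mul_left_cancel₀ hne hab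
    have hinj' := Module.Flat.lTensor_preserves_injective_linearMap (M := N) _ hinj
    have hz0 : z = 0 := by
      apply hinj'
      rw [hsmul, hr, map_zero]
    apply hprime.ne_top
    rw [Ideal.eq_top_iff_one, hz, hz0, smul_zero]
  · intro r hr
    rw [Ideal.mem_comap, hz, algebraMap_smul, ← hsmul]
    have : LinearMap.lsmul R (R ⧸ p₀) r = 0 := by
      apply LinearMap.ext
      intro a
      rw [LinearMap.lsmul_apply, LinearMap.zero_apply, Algebra.smul_def,
        Ideal.Quotient.algebraMap_eq, Ideal.Quotient.eq_zero_iff_mem.mpr hr, zero_mul]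
    rw [this, LinearMap.lTensor_zero, LinearMap.zero_apply]

/-- `B_fin ⊆ A_fin`: for `R` Noetherian, `N` flat and `M` finite, an associated prime `q` of
`N ⊗ M` over `p` is an associated prime of `N/pN`. -/
theorem mem_ass_quotient_of_mem_ass_tensor [IsNoetherianRing R] (M : Type u) [AddCommGroup M]
    [Module R M] (hM : Module.Finite R M) (p : Ideal R) [p.IsPrime] (q : Ideal S)
    (hq : q.comap (algebraMap R S) = p) (h : q ∈ FlatCA.ass S (N ⊗[R] M)) :
    q ∈ FlatCA.ass S (N ⧸ ((p.map (algebraMap R S)) • (⊤ : Submodule S N))) := by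
  revert h
  refine IsNoetherianRing.induction_on_isQuotientEquivQuotientPrime R hM
    (motive := fun M _ _ _ => q ∈ FlatCA.ass S (N ⊗[R] M) →
      q ∈ FlatCA.ass S (N ⧸ ((p.map (algebraMap R S)) • (⊤ : Submodule S N)))) ?_ ?_ ?_
  · intro M _ _ _ _ h
    exact absurd h not_mem_ass_of_subsingleton
  · intro M _ _ _ p₀ e h
    have h' : q ∈ FlatCA.ass S (N ⊗[R] (R ⧸ p₀.asIdeal)) :=
      (ass_of_equiv (TensorProduct.AlgebraTensorModule.congr (LinearEquiv.refl S N) e)).mp h
    have hp₀ : q.comap (algebraMap R S) = p₀.asIdeal :=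
      comap_eq_of_mem_ass_tensorQuot N p₀.asIdeal q h'
    have hpp : p = p₀.asIdeal := hq.symm.trans hp₀
    subst hpp
    exact (ass_tensorQuot_iff N p₀.asIdeal).mp h'
  · intro M₁ _ _ _ M₂ _ _ _ M₃ _ _ _ f g hf hg hfg h₁ h₃ h
    have hex : Function.Exact (TensorProduct.AlgebraTensorModule.lTensor S N f)
        (TensorProduct.AlgebraTensorModule.lTensor S N g) := by
      have := lTensor_exact N hfg hg
      intro y
      rw [lTensor_eq, this y]
      constructor
      · rintro ⟨x, hx⟩
        exact ⟨x, by rw [lTensor_eq, hx]⟩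
      · rintro ⟨x, hx⟩
        exact ⟨x, by rw [← lTensor_eq (S := S), hx]⟩
    rcases ass_union_of_exact _ _ (lTensor_injective N f hf) hex h with h' | h'
    · exact h₁ h'
    · exact h₃ h'

end Main

end Groth.Agent.H6.AssFiber
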