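import Mathlib
import Groth.Prelude.Def_FlatCA
import Groth.Agent.H6.AssFiber
import Groth.Agent.H6.GeomIntFibres

/-!
# `N/pN` versus the fibre module `N ⊗ κ(p)`: associated primes
-/

set_option autoImplicit false
set_option linter.unusedSectionVars false
universe u

open TensorProduct

namespace Groth.Agent.H6.AssFiber

attribute [local instance] Algebra.TensorProduct.rightAlgebra

variable {R S : Type u} [CommRing R] [CommRing S] [Algebra R S]
  (N : Type u) [AddCommGroup N] [Module S N] [Module R N] [IsScalarTower R S N]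
  (p : Ideal R) [p.IsPrime]

section Kernel

/-- the fibre module (as an honest tensor product) as `N ⊗ κ(p)` -/
noncomputable def tensorEquiv : (p.Fiber S) ⊗[S] N ≃ₗ[S] N ⊗[R] p.ResidueField :=
  (TensorProduct.congr (Algebra.TensorProduct.commRight R S p.ResidueField).symm.toLinearEquiv
      (LinearEquiv.refl S N)) ≪≫ₗ
    TensorProduct.comm S _ _ ≪≫ₗ
    TensorProduct.AlgebraTensorModule.cancelBaseChange R S S N p.ResidueField

theorem tensorEquiv_tmul (k : p.ResidueField) (s : S) (n : N) :
    tensorEquiv N p ((k ⊗ₜ[R] s : p.Fiber S) ⊗ₜ[S] n) = (s • n) ⊗ₜ[R] k := by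
  unfold tensorEquiv
  rw [LinearEquiv.trans_apply, LinearEquiv.trans_apply, TensorProduct.congr_tmul]
  rw [AlgEquiv.toLinearEquiv_apply, Algebra.TensorProduct.commRight_symm_tmul,
    LinearEquiv.refl_apply, TensorProduct.comm_tmul,
    TensorProduct.AlgebraTensorModule.cancelBaseChange_tmul]

/-- The kernel of `N → N ⊗ κ(p)`: elements `n` with `r n ∈ pN` for some `r ∉ p`. -/
theorem exists_smul_mem_of_toFiberMod_eq_zero (n : N) (h : FlatCA.toFiberMod p S N n = 0) :
    ∃ r : R, r ∉ p ∧ r • n ∈ (p • ⊤ : Submodule R N) := by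
  have h0 : (((1 : p.ResidueField) ⊗ₜ[R] (1 : S) : p.Fiber S) ⊗ₜ[S] n : (p.Fiber S) ⊗[S] N) = 0 := h
  have h1 : n ⊗ₜ[R] (1 : p.ResidueField) = 0 := by
    have := congrArg (tensorEquiv N p) h0
    rwa [tensorEquiv_tmul, one_smul, map_zero] at this
  have h2 : (1 : p.ResidueField) ⊗ₜ[R] n = 0 := by
    have := congrArg (TensorProduct.comm R N p.ResidueField) h1
    rwa [TensorProduct.comm_tmul, map_zero] at this
  let g : (R ⧸ p) →ₗ[R ⧸ p] p.ResidueField := Algebra.linearMap (R ⧸ p) p.ResidueField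
  have hloc : IsLocalizedModule (nonZeroDivisors (R ⧸ p))
      (TensorProduct.AlgebraTensorModule.rTensor R N g) := inferInstance
  have h3 : TensorProduct.AlgebraTensorModule.rTensor R N g ((1 : R ⧸ p) ⊗ₜ[R] n) = 0 := by
    rw [TensorProduct.AlgebraTensorModule.rTensor_tmul]
    have : g 1 = 1 := map_one (algebraMap (R ⧸ p) p.ResidueField)
    rw [this, h2]
  obtain ⟨⟨c, hc⟩, hcz⟩ := (IsLocalizedModule.eq_zero_iff (nonZeroDivisors (R ⧸ p))
    (TensorProduct.AlgebraTensorModule.rTensor R N g)).mp h3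
  obtain ⟨r, rfl⟩ := Ideal.Quotient.mk_surjective c
  refine ⟨r, ?_, ?_⟩
  · intro hr
    have : Ideal.Quotient.mk p r = 0 := Ideal.Quotient.eq_zero_iff_mem.mpr hr
    exact nonZeroDivisors.ne_zero hc this
  · have h4 : (Ideal.Quotient.mk p r) ⊗ₜ[R] n = (0 : (R ⧸ p) ⊗[R] N) := by
      have : (Ideal.Quotient.mk p r) • ((1 : R ⧸ p) ⊗ₜ[R] n) = (0 : (R ⧸ p) ⊗[R] N) := hcz
      rwa [TensorProduct.smul_tmul', smul_eq_mul, mul_one] at this
    have h5 := congrArg (TensorProduct.quotTensorEquivQuotSMul N p) h4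
    rw [TensorProduct.quotTensorEquivQuotSMul_mk_tmul, map_zero, Submodule.Quotient.mk_eq_zero]
      at h5
    exact h5

/-- elements outside `p` act injectively on the fibre module -/
theorem eq_zero_of_algebraMap_smul_eq_zero {r : R} (hr : r ∉ p) (z : FlatCA.fiberMod p S N)
    (h : (algebraMap R S r) • z = 0) : z = 0 := by
  have tower : IsScalarTower S (p.Fiber S) (FlatCA.fiberMod p S N) :=
    NzdFiber.isScalarTower_fiberMod N p
  obtain ⟨u, hu⟩ := RelAss.isUnit_algebraMap_fiber (S := S) p hr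
  have h1 : (algebraMap R (p.Fiber S) r) • z = 0 := by
    rw [IsScalarTower.algebraMap_apply R S (p.Fiber S), algebraMap_smul]
    exact h
  rw [← hu] at h1
  have := congrArg (fun w => (↑u⁻¹ : p.Fiber S) • w) h1
  simpa [smul_smul] using this

/-- elements of `p` kill the fibre module -/
theorem algebraMap_smul_eq_zero_of_mem {r : R} (hr : r ∈ p) (z : FlatCA.fiberMod p S N) :
    (algebraMap R S r) • z = 0 := by
  have tower : IsScalarTower S (p.Fiber S) (FlatCA.fiberMod p S N) :=
    NzdFiber.isScalarTower_fiberMod N p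
  have h0 : algebraMap S (p.Fiber S) (algebraMap R S r) = 0 := by
    rw [Algebra.TensorProduct.right_algebraMap_apply]
    exact GeomIntFibres.one_tmul_eq_zero_of_mem_map p (Ideal.mem_map_of_mem _ hr)
  rw [← algebraMap_smul (p.Fiber S) (algebraMap R S r) z, h0, zero_smul]

/-- every element of the fibre module is, up to a unit from `R ∖ p`, in the image of `N` -/
theorem exists_smul_eq_toFiberMod (z : FlatCA.fiberMod p S N) :
    ∃ r : R, r ∉ p ∧ ∃ n : N, (algebraMap R S r) • z = FlatCA.toFiberMod p S N n := by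
  change ∃ r : R, r ∉ p ∧ ∃ n : N, (algebraMap R S r) • (show (p.Fiber S) ⊗[S] N from z) =
    ((1 : p.Fiber S) ⊗ₜ[S] n)
  induction (show (p.Fiber S) ⊗[S] N from z) using TensorProduct.induction_on with
  | zero => exact ⟨1, fun h => ‹p.IsPrime›.ne_top ((Ideal.eq_top_iff_one p).mpr h), 0, by simp⟩
  | tmul f n =>
    obtain ⟨r, hr, s, hrs⟩ := Ideal.Fiber.exists_smul_eq_one_tmul p f
    refine ⟨r, hr, s • n, ?_⟩
    rw [TensorProduct.smul_tmul', algebraMap_smul, hrs, TensorProduct.tmul_smul,
      TensorProduct.smul_tmul']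
    congr 1
    rw [Algebra.smul_def, mul_one, Algebra.TensorProduct.right_algebraMap_apply]
  | add x y hx hy =>
    obtain ⟨r₁, hr₁, n₁, h₁⟩ := hx
    obtain ⟨r₂, hr₂, n₂, h₂⟩ := hy
    refine ⟨r₁ * r₂, fun h => (‹p.IsPrime›.mem_or_mem h).elim hr₁ hr₂, r₂ • n₁ + r₁ • n₂, ?_⟩
    rw [smul_add, map_mul, mul_comm (algebraMap R S r₁), mul_smul, h₁, mul_comm, mul_smul, h₂,
      TensorProduct.tmul_add, algebraMap_smul, algebraMap_smul, TensorProduct.tmul_smul,
      TensorProduct.tmul_smul]

end Kernel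

section QuotMap

/-- the map `N/pN → N ⊗ κ(p)` -/
noncomputable def quotToFiber :
    (N ⧸ ((p.map (algebraMap R S)) • (⊤ : Submodule S N))) →ₗ[S] FlatCA.fiberMod p S N :=
  Submodule.liftQ _ (FlatCA.toFiberMod p S N) (by
    have tower : IsScalarTower S (p.Fiber S) (FlatCA.fiberMod p S N) :=
      NzdFiber.isScalarTower_fiberMod N p
    rw [Submodule.smul_le]
    intro a ha n _
    rw [LinearMap.mem_ker, map_smul, ← algebraMap_smul (p.Fiber S) a,
      Algebra.TensorProduct.right_algebraMap_apply,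
      GeomIntFibres.one_tmul_eq_zero_of_mem_map p ha, zero_smul])

theorem quotToFiber_mk (n : N) :
    quotToFiber N p (Submodule.Quotient.mk n) = FlatCA.toFiberMod p S N n := rfl

/-- kernel of `N/pN → N ⊗ κ(p)` is `(R ∖ p)`-torsion -/
theorem exists_smul_eq_zero_of_quotToFiber_eq_zero
    (m : N ⧸ ((p.map (algebraMap R S)) • (⊤ : Submodule S N))) (h : quotToFiber N p m = 0) :
    ∃ r : R, r ∉ p ∧ (algebraMap R S r) • m = 0 := by
  obtain ⟨n, rfl⟩ := Submodule.Quotient.mk_surjective _ m
  rw [quotToFiber_mk] at h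
  obtain ⟨r, hr, hmem⟩ := exists_smul_mem_of_toFiberMod_eq_zero N p n h
  refine ⟨r, hr, ?_⟩
  rw [← Submodule.Quotient.mk_smul, Submodule.Quotient.mk_eq_zero, algebraMap_smul]
  have := smul_top_eq_restrictScalars (S := S) N p
  rw [this] at hmem
  exact hmem

/-- `A_fin ⊆ A`: an associated prime of `N/pN` over `p` is an associated prime of the fibre
module. -/
theorem mem_ass_fiberMod_of_mem_ass_quotient (q : Ideal S) [q.IsPrime]
    (hq : q.comap (algebraMap R S) = p)
    (h : q ∈ FlatCA.ass S (N ⧸ ((p.map (algebraMap R S)) • (⊤ : Submodule S N)))) :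
    q ∈ FlatCA.ass S (FlatCA.fiberMod p S N) := by
  obtain ⟨hprime, m, hm⟩ := mem_ass_iff.mp h
  refine mem_ass_iff.mpr ⟨hprime, quotToFiber N p m, fun s => ?_⟩
  constructor
  · intro hs
    rw [← map_smul, (hm s).mp hs, map_zero]
  · intro hs
    rw [← map_smul] at hs
    obtain ⟨r, hr, hrs⟩ := exists_smul_eq_zero_of_quotToFiber_eq_zero N p _ hs
    rw [smul_smul] at hrs
    have h1 : algebraMap R S r * s ∈ q := (hm _).mpr hrs
    have h2 : algebraMap R S r ∉ q := by
      intro hmem
      apply hr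
      rw [← hq]
      exact hmem
    exact (hprime.mem_or_mem h1).resolve_left h2

/-- `A ⊆ A_fin` for Noetherian `S`. -/
theorem mem_ass_quotient_of_mem_ass_fiberMod [IsNoetherianRing S] (q : Ideal S) [q.IsPrime]
    (hq : q.comap (algebraMap R S) = p) (h : q ∈ FlatCA.ass S (FlatCA.fiberMod p S N)) :
    q ∈ FlatCA.ass S (N ⧸ ((p.map (algebraMap R S)) • (⊤ : Submodule S N))) := by
  classical
  obtain ⟨hprime, z, hz⟩ := mem_ass_iff.mp h
  have hnotin : ∀ r : R, r ∉ p → algebraMap R S r ∉ q := by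
    intro r hr hmem
    apply hr
    rw [← hq]
    exact hmem
  obtain ⟨r₀, hr₀, n₀, hn₀⟩ := exists_smul_eq_toFiberMod N p z
  -- `m₀ = mk n₀` maps to `r₀ • z`, which has annihilator `q`
  have hz' : ∀ s : S, s ∈ q ↔ s • FlatCA.toFiberMod p S N n₀ = 0 := by
    intro s
    rw [← hn₀, smul_smul, mul_comm, ← smul_smul, hz]
    constructor
    · intro h0
      rw [h0, smul_zero]
    · intro h0
      exact eq_zero_of_algebraMap_smul_eq_zero N p hr₀ _ h0
  obtain ⟨t, ht⟩ := (IsNoetherian.noetherian q : q.FG)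
  have key : ∀ t' : Finset S, (∀ s ∈ t', s ∈ q) → ∃ r : R, r ∉ p ∧ ∀ s ∈ t',
      s • ((algebraMap R S r) •
        (Submodule.Quotient.mk n₀ : N ⧸ ((p.map (algebraMap R S)) • (⊤ : Submodule S N)))) = 0 := by
    intro t'
    induction t' using Finset.induction_on with
    | empty =>
      intro _
      exact ⟨1, fun h => ‹p.IsPrime›.ne_top ((Ideal.eq_top_iff_one p).mpr h),
        fun s hs => absurd hs (Finset.notMem_empty s)⟩
    | insert a t' ha ih =>
      intro hmem
      obtain ⟨r, hr, hkill⟩ := ih (fun s hs => hmem s (Finset.mem_insert_of_mem hs))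
      have haq : a ∈ q := hmem a (Finset.mem_insert_self a t')
      have h0 : quotToFiber N p (a • (Submodule.Quotient.mk n₀ :
          N ⧸ ((p.map (algebraMap R S)) • (⊤ : Submodule S N)))) = 0 := by
        rw [map_smul, quotToFiber_mk]
        exact (hz' a).mp haq
      obtain ⟨r', hr', hr'0⟩ := exists_smul_eq_zero_of_quotToFiber_eq_zero N p _ h0
      refine ⟨r * r', fun h => (‹p.IsPrime›.mem_or_mem h).elim hr hr', ?_⟩
      intro s hs
      rcases Finset.mem_insert.mp hs with rfl | hs'
      · rw [map_mul, mul_smul, smul_comm s (algebraMap R S r), smul_comm s (algebraMap R S r'),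
          hr'0, smul_zero]
      · rw [map_mul, mul_comm, mul_smul, smul_comm s (algebraMap R S r'), hkill s hs', smul_zero]
  obtain ⟨r, hr, hkill⟩ := key t (fun s hs => ht ▸ Submodule.subset_span hs)
  refine mem_ass_iff.mpr ⟨hprime, (algebraMap R S r) • (Submodule.Quotient.mk n₀), fun s => ?_⟩
  constructor
  · intro hs
    rw [← ht] at hs
    refine Submodule.span_induction (p := fun s _ => s • ((algebraMap R S r) •
      (Submodule.Quotient.mk n₀ : N ⧸ ((p.map (algebraMap R S)) • (⊤ : Submodule S N)))) = 0)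
      ?_ ?_ ?_ ?_ hs
    · intro a ha
      exact hkill a ha
    · rw [zero_smul]
    · intro a b _ _ ha hb
      rw [add_smul, ha, hb, add_zero]
    · intro a b _ hb
      rw [smul_eq_mul, mul_smul, hb, smul_zero]
  · intro hs
    have h1 := congrArg (quotToFiber N p) hs
    rw [map_smul, map_smul, quotToFiber_mk, map_zero, smul_smul] at h1
    have h2 : s * algebraMap R S r ∈ q := (hz' _).mpr h1
    exact (hprime.mem_or_mem h2).resolve_right (hnotin r hr)

end QuotMap

section Flat

variable [Module.Flat R N]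

/-- for flat `N`, elements outside `p` act injectively on `N/pN` -/
theorem eq_zero_of_smul_eq_zero_quotient {r : R} (hr : r ∉ p)
    (m : N ⧸ ((p.map (algebraMap R S)) • (⊤ : Submodule S N)))
    (h : (algebraMap R S r) • m = 0) : m = 0 := by
  -- transport to `N ⊗ R/p`
  let e := tensorQuotEquiv (S := S) N p
  obtain ⟨z, rfl⟩ := e.surjective m
  rw [← tensorQuotEquiv_smul, LinearEquiv.map_eq_zero_iff] at h
  have hsmul : ∀ (y : N ⊗[R] (R ⧸ p)),
      (LinearMap.lsmul R (R ⧸ p) r).lTensor N y = r • y := by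
    intro y
    induction y using TensorProduct.induction_on with
    | zero => simp
    | tmul n a => rw [LinearMap.lTensor_tmul, LinearMap.lsmul_apply, TensorProduct.tmul_smul]
    | add x y hx hy => rw [map_add, smul_add, hx, hy]
  have hinj : Function.Injective (LinearMap.lsmul R (R ⧸ p) r) := by
    intro a b hab
    rw [LinearMap.lsmul_apply, LinearMap.lsmul_apply, Algebra.smul_def, Algebra.smul_def] at hab
    have hne : algebraMap R (R ⧸ p) r ≠ 0 := by
      rwa [Ne, Ideal.Quotient.algebraMap_eq, Ideal.Quotient.eq_zero_iff_mem]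
    exact mul_left_cancel₀ hne hab
  have hinj' := Module.Flat.lTensor_preserves_injective_linearMap (M := N) _ hinj
  have e1 : r • z = algebraMap R S r • z := (algebraMap_smul S r z).symm
  have : z = 0 := by
    apply hinj'
    rw [hsmul, map_zero, e1]
    exact h
  rw [this, map_zero]

theorem quotToFiber_injective : Function.Injective (quotToFiber (S := S) N p) := by
  rw [injective_iff_map_eq_zero]
  intro m hm
  obtain ⟨r, hr, h⟩ := exists_smul_eq_zero_of_quotToFiber_eq_zero N p m hm
  exact eq_zero_of_smul_eq_zero_quotient N p hr m h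

/-- for flat `N`: `Ass(N/pN) = Ass(N ⊗ κ(p))` as `S`-modules, and these primes lie over `p`. -/
theorem ass_quotient_eq_ass_fiberMod :
    FlatCA.ass S (N ⧸ ((p.map (algebraMap R S)) • (⊤ : Submodule S N))) =
      FlatCA.ass S (FlatCA.fiberMod p S N) ∧
    ∀ q ∈ FlatCA.ass S (N ⧸ ((p.map (algebraMap R S)) • (⊤ : Submodule S N))),
      q.comap (algebraMap R S) = p := by
  have hover : ∀ q ∈ FlatCA.ass S (N ⧸ ((p.map (algebraMap R S)) • (⊤ : Submodule S N))),
      q.comap (algebraMap R S) = p := by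
    intro q hq
    exact comap_eq_of_mem_ass_tensorQuot N p q ((ass_tensorQuot_iff N p).mpr hq)
  refine ⟨?_, hover⟩
  ext q
  constructor
  · intro hq
    have hprime : q.IsPrime := (mem_ass_iff.mp hq).1
    exact mem_ass_fiberMod_of_mem_ass_quotient N p q (hover q hq) hq
  · intro hq
    obtain ⟨hprime, z, hz⟩ := mem_ass_iff.mp hq
    obtain ⟨r₀, hr₀, n₀, hn₀⟩ := exists_smul_eq_toFiberMod N p z
    refine mem_ass_iff.mpr ⟨hprime, Submodule.Quotient.mk n₀, fun s => ?_⟩
    rw [← map_eq_zero_iff _ (quotToFiber_injective N p), map_smul, quotToFiber_mk, ← hn₀,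
      smul_smul, mul_comm, ← smul_smul, hz]
    constructor
    · intro h0
      rw [h0, smul_zero]
    · intro h0
      exact eq_zero_of_algebraMap_smul_eq_zero N p hr₀ _ h0

/-- If `p = Ann(m)` for `m ∈ M` and `Q` is an associated prime of the fibre module over the fibre
ring, then the contraction of `Q` to `S` is an associated prime of `N ⊗ M`. -/
theorem comap_mem_ass_tensor (M : Type u) [AddCommGroup M] [Module R M]
    (hp : p ∈ FlatCA.ass R M) (Q : Ideal (p.Fiber S))
    (hQ : Q ∈ FlatCA.ass (p.Fiber S) (FlatCA.fiberMod p S N)) :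
    Q.comap (Algebra.TensorProduct.includeRight (R := R) (A := p.ResidueField)
      (B := S)).toRingHom ∈ FlatCA.ass S (N ⊗[R] M) := by
  have hQprime : Q.IsPrime := (mem_ass_iff.mp hQ).1
  set q := Q.comap (Algebra.TensorProduct.includeRight (R := R) (A := p.ResidueField)
      (B := S)).toRingHom with hq
  have hqprime : q.IsPrime := Ideal.comap_isPrime _ Q
  have h1 : q ∈ FlatCA.ass S (FlatCA.fiberMod p S N) :=
    (mem_ass_fiberMod_iff N p q).mpr ⟨Q, hQ, rfl⟩
  have h2 : q ∈ FlatCA.ass S (N ⧸ ((p.map (algebraMap R S)) • (⊤ : Submodule S N))) := by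
    rw [(ass_quotient_eq_ass_fiberMod N p).1]
    exact h1
  have h3 : q ∈ FlatCA.ass S (N ⊗[R] (R ⧸ p)) := (ass_tensorQuot_iff N p).mpr h2
  obtain ⟨_, m, hm⟩ := mem_ass_iff.mp hp
  -- the injection `R/p → M`, `1 ↦ m`
  let j : (R ⧸ p) →ₗ[R] M := Submodule.liftQ p (LinearMap.toSpanSingleton R M m) (by
    intro r hr
    rw [LinearMap.mem_ker, LinearMap.toSpanSingleton_apply]
    exact (hm r).mp hr)
  have hj : Function.Injective j := by
    rw [injective_iff_map_eq_zero]
    intro a ha
    obtain ⟨r, rfl⟩ := Submodule.Quotient.mk_surjective _ a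
    rw [Submodule.Quotient.mk_eq_zero]
    apply (hm r).mpr
    exact ha
  exact ass_of_injective (TensorProduct.AlgebraTensorModule.lTensor S N j)
    (lTensor_injective N j hj) h3

end Flat

end Groth.Agent.H6.AssFiber
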