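import Groth.Agent.H6.HartogsAdj
import Groth.Agent.H67.StalkLoc
import Groth.Prelude.Def_CurvBase

set_option autoImplicit false
set_option linter.style.haveILetI false
set_option linter.unusedSectionVars false
universe u

namespace Groth.Agent.H6.AssIso

open RingTheory.Sequence

/-- Local extension lemma: over a Noetherian local ring, if `depth M ≥ 2`, `ψ : M → N` is injective
and no nonzero element of `N` is killed by the maximal ideal, then any `n` with `𝔪 n ⊆ ψ(M)`
lies in `ψ(M)`. -/
theorem mem_range_of_smul_mem_range {A : Type u} [CommRing A] [IsNoetherianRing A] [IsLocalRing A]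
    {M N : Type u} [AddCommGroup M] [Module A M] [Module.Finite A M] [AddCommGroup N] [Module A N]
    (ψ : M →ₗ[A] N) (hψ : Function.Injective ψ) (hd : (2 : ℕ∞) ≤ LocCoh.depth A M)
    (hN : ∀ n : N, (∀ a ∈ IsLocalRing.maximalIdeal A, a • n = 0) → n = 0)
    (n : N) (hn : ∀ a ∈ IsLocalRing.maximalIdeal A, a • n ∈ LinearMap.range ψ) :
    n ∈ LinearMap.range ψ := by
  by_cases htop : IsLocalRing.maximalIdeal A • (⊤ : Submodule A M) = ⊤
  · -- `M = 0`
    have hbot : (⊤ : Submodule A M) = ⊥ :=
      Submodule.eq_bot_of_le_smul_of_le_jacobson_bot (IsLocalRing.maximalIdeal A) ⊤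
        Module.Finite.fg_top (by rw [htop]) (IsLocalRing.maximalIdeal_le_jacobson _)
    have hM : ∀ m : M, m = 0 := fun m => by
      have : m ∈ (⊤ : Submodule A M) := Submodule.mem_top
      rw [hbot] at this
      exact (Submodule.mem_bot A).mp this
    have : n = 0 := by
      apply hN
      intro a ha
      obtain ⟨w, hw⟩ := hn a ha
      rw [← hw, hM w, map_zero]
    rw [this]
    exact Submodule.zero_mem _
  · obtain ⟨rs, hlen, hmem, hreg⟩ :=
      Groth.Agent.H58.DepthBasic.exists_isRegular_of_le_idealDepth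
        (IsLocalRing.maximalIdeal A) M htop 2 hd
    match rs, hlen, hmem, hreg with
    | [x, y], _, hmem, hreg =>
      have hx : x ∈ IsLocalRing.maximalIdeal A := hmem x (by simp)
      have hy : y ∈ IsLocalRing.maximalIdeal A := hmem y (by simp)
      have h1 := (isWeaklyRegular_cons_iff M x [y]).mp hreg.toIsWeaklyRegular
      have hxr : IsSMulRegular M x := h1.1
      have hyr : IsSMulRegular (QuotSMulTop x M) y :=
        ((isWeaklyRegular_cons_iff (QuotSMulTop x M) y []).mp h1.2).1
      obtain ⟨u, hu⟩ := hn x hx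
      obtain ⟨v, hv⟩ := hn y hy
      have huv : y • u = x • v := by
        apply hψ
        rw [map_smul, map_smul, hu, hv, smul_smul, smul_smul, mul_comm]
      have hu0 : (Submodule.Quotient.mk u : QuotSMulTop x M) = 0 := by
        apply hyr
        show y • (Submodule.Quotient.mk u : QuotSMulTop x M) = y • 0
        rw [smul_zero, ← Submodule.Quotient.mk_smul, huv, Submodule.Quotient.mk_eq_zero]
        exact Submodule.smul_mem_pointwise_smul v x ⊤ Submodule.mem_top
      rw [Submodule.Quotient.mk_eq_zero] at hu0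
      obtain ⟨m₀, -, hm₀⟩ := (Submodule.mem_smul_pointwise_iff_exists u x ⊤).mp hu0
      refine ⟨m₀, ?_⟩
      have hd0 : n - ψ m₀ = 0 := by
        apply hN
        intro a ha
        obtain ⟨w, hw⟩ := hn a ha
        have hw' : w = a • m₀ := by
          apply hxr
          apply hψ
          show ψ (x • w) = ψ (x • a • m₀)
          rw [map_smul, hw, smul_comm x a m₀, map_smul, hm₀, hu, smul_comm]
        rw [smul_sub, ← hw, hw', map_smul, sub_self]
      exact (sub_eq_zero.mp hd0).symm


section Step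

variable {B : Type u} [CommRing B] [IsNoetherianRing B]
  {M N : Type u} [AddCommGroup M] [Module B M] [Module.Finite B M] [AddCommGroup N] [Module B N]
  (ψ : M →ₗ[B] N) (p : Ideal B) [p.IsPrime]
  (S : Type u) [CommRing S] [Algebra B S] [IsLocalization.AtPrime S p] [IsLocalRing S]
  (M' N' : Type u) [AddCommGroup M'] [Module B M'] [Module S M'] [IsScalarTower B S M']
  [AddCommGroup N'] [Module B N'] [Module S N'] [IsScalarTower B S N']
  (f : M →ₗ[B] M') [IsLocalizedModule p.primeCompl f]
  (g : N →ₗ[B] N') [IsLocalizedModule p.primeCompl g]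

omit [IsNoetherianRing B] in
/-- elements of the maximal ideal of a localization at `p` are `c / s` with `c ∈ p`. -/
theorem exists_of_mem_maximalIdeal (a : S) (ha : a ∈ IsLocalRing.maximalIdeal S) :
    ∃ c ∈ p, ∃ s : p.primeCompl, algebraMap B S s * a = algebraMap B S c := by
  obtain ⟨⟨c, s⟩, hcs⟩ := IsLocalization.surj p.primeCompl a
  refine ⟨c, ?_, s, by rw [mul_comm]; exact hcs⟩
  rw [← IsLocalization.AtPrime.to_map_mem_maximal_iff S p c, ← hcs]
  exact Ideal.mul_mem_right _ _ ha

/-- The hypothesis at the prime `p`. -/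
def Hyp : Prop :=
  Function.Bijective (IsLocalizedModule.map p.primeCompl f g ψ) ∨
    ((2 : ℕ∞) ≤ LocCoh.depth S M' ∧
      ∀ n' : N', (∀ a ∈ IsLocalRing.maximalIdeal S, a • n' = 0) → n' = 0)

include S in
theorem inj_step (h : Hyp ψ p S M' N' f g) (k : M) (hk : ψ k = 0)
    (hann : ∀ b : B, b • k = 0 ↔ b ∈ p) : False := by
  have hfk : f k ≠ 0 := by
    intro h0
    obtain ⟨s, hs⟩ := (IsLocalizedModule.eq_zero_iff p.primeCompl f).mp h0
    exact s.2 ((hann s.1).mp hs)
  have hψ' : IsLocalizedModule.map p.primeCompl f g ψ (f k) = 0 := by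
    rw [IsLocalizedModule.map_apply, hk, map_zero]
  rcases h with hb | ⟨hd, -⟩
  · exact hfk (hb.1 (by rw [hψ', map_zero]))
  · haveI : IsNoetherianRing S := IsLocalization.isNoetherianRing p.primeCompl S inferInstance
    haveI : Module.Finite S M' := Module.Finite.of_isLocalizedModule p.primeCompl f
    haveI : Nontrivial M' := ⟨⟨f k, 0, hfk⟩⟩
    have hne : IsLocalRing.maximalIdeal S • (⊤ : Submodule S M') ≠ ⊤ := by
      intro htop
      have hbot : (⊤ : Submodule S M') = ⊥ :=
        Submodule.eq_bot_of_le_smul_of_le_jacobson_bot (IsLocalRing.maximalIdeal S) ⊤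
          Module.Finite.fg_top (by rw [htop]) (IsLocalRing.maximalIdeal_le_jacobson _)
      have : f k ∈ (⊤ : Submodule S M') := Submodule.mem_top
      rw [hbot] at this
      exact hfk ((Submodule.mem_bot S).mp this)
    obtain ⟨rs, hlen, hmem, hreg⟩ :=
      Groth.Agent.H58.DepthBasic.exists_isRegular_of_le_idealDepth
        (IsLocalRing.maximalIdeal S) M' hne 1 (le_trans (by norm_num) hd)
    match rs, hlen, hmem, hreg with
    | [x], _, hmem, hreg =>
      have hx : x ∈ IsLocalRing.maximalIdeal S := hmem x (by simp)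
      have hxr : IsSMulRegular M' x :=
        ((isWeaklyRegular_cons_iff M' x []).mp hreg.toIsWeaklyRegular).1
      obtain ⟨c, hc, s, hs⟩ := exists_of_mem_maximalIdeal p S x hx
      have h1 : algebraMap B S s • (x • f k) = 0 := by
        rw [smul_smul, hs, algebraMap_smul, ← map_smul, (hann c).mpr hc, map_zero]
      have hu : IsUnit (algebraMap B S s) := IsLocalization.map_units S s
      have h2 : x • f k = 0 := hu.smul_left_cancel.mp (h1.trans (smul_zero _).symm)
      exact hfk (hxr (show x • f k = x • 0 by rw [h2, smul_zero]))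


include S in
theorem surj_step (h : Hyp ψ p S M' N' f g) (hψ : Function.Injective ψ) (n : N)
    (hcol : ∀ b : B, b • n ∈ LinearMap.range ψ ↔ b ∈ p) : False := by
  set ψ' := IsLocalizedModule.map p.primeCompl f g ψ with hψ'def
  -- `g n ∉ range ψ'`
  have hgn : g n ∉ LinearMap.range ψ' := by
    rintro ⟨m', hm'⟩
    obtain ⟨⟨m, s⟩, hms⟩ := IsLocalizedModule.surj p.primeCompl f m'
    have h1 : g (s.1 • n - ψ m) = 0 := by
      rw [map_sub, map_smul, ← hm', ← IsLocalizedModule.map_apply p.primeCompl f g ψ m, ← hms,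
        ← hψ'def]
      change s.1 • ψ' m' - ψ' (s.1 • m') = 0
      rw [map_smul, sub_self]
    obtain ⟨t, ht⟩ := (IsLocalizedModule.eq_zero_iff p.primeCompl g).mp h1
    have h2 : (t.1 * s.1) • n ∈ LinearMap.range ψ := by
      refine ⟨t.1 • m, ?_⟩
      have : t.1 • (s.1 • n - ψ m) = 0 := ht
      rw [smul_sub, sub_eq_zero] at this
      rw [map_smul, mul_smul, this]
    have h3 := (hcol _).mp h2
    rcases (‹p.IsPrime›).mem_or_mem h3 with h4 | h4
    · exact t.2 h4
    · exact s.2 h4
  rcases h with hb | ⟨hd, hN⟩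
  · exact hgn (hb.2 (g n))
  · haveI : IsNoetherianRing S := IsLocalization.isNoetherianRing p.primeCompl S inferInstance
    haveI : Module.Finite S M' := Module.Finite.of_isLocalizedModule p.primeCompl f
    let ψS : M' →ₗ[S] N' := LinearMap.extendScalarsOfIsLocalization p.primeCompl S ψ'
    have hψS : ∀ m', ψS m' = ψ' m' := fun _ => rfl
    have hinj : Function.Injective ψS :=
      IsLocalizedModule.map_injective p.primeCompl f g ψ hψ
    apply hgn
    have key := mem_range_of_smul_mem_range ψS hinj hd hN (g n) ?_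
    · obtain ⟨m', hm'⟩ := key
      exact ⟨m', hm'⟩
    · intro a ha
      obtain ⟨c, hc, s, hs⟩ := exists_of_mem_maximalIdeal p S a ha
      obtain ⟨m₁, hm₁⟩ := (hcol c).mpr hc
      have hu : IsUnit (algebraMap B S s) := IsLocalization.map_units S s
      refine ⟨((hu.unit⁻¹ : Sˣ) : S) • f m₁, ?_⟩
      rw [map_smul, hψS, IsLocalizedModule.map_apply, hm₁, map_smul]
      apply hu.smul_left_cancel.mp
      rw [smul_smul, IsUnit.mul_val_inv, one_smul, smul_smul, hs, algebraMap_smul]

end Step


section Scheme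

open AlgebraicGeometry CategoryTheory Opposite TopologicalSpace
open Groth.Agent.H8 Groth.Agent.H67.StalkLoc

variable {X : Scheme.{u}} [IsLocallyNoetherian X] {F G : X.Modules} (φ : F ⟶ G)
  [F.IsQuasicoherent] [SheafOfModules.IsFiniteType (R := X.ringCatSheaf) F] [G.IsQuasicoherent]

/-- The pointwise hypothesis of S8890. -/
def PtHyp (x : X) : Prop :=
  Function.Bijective ((TopCat.Presheaf.stalkFunctor AddCommGrpCat.{u} x).map
      (Scheme.Modules.Hom.mapPresheaf φ)) ∨
    ((2 : ℕ∞) ≤ LocCoh.depth (X.presheaf.stalk x) (F.presheaf.stalk x) ∧ ¬ Curv2.IsAssPoint G x)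

omit [IsLocallyNoetherian X] [F.IsQuasicoherent]
  [SheafOfModules.IsFiniteType (R := X.ringCatSheaf) F] [G.IsQuasicoherent] in
theorem eq_zero_of_not_isAssPoint [IsLocallyNoetherian X] (x : X) (h : ¬ Curv2.IsAssPoint G x)
    (n' : G.presheaf.stalk x)
    (hn : ∀ a ∈ IsLocalRing.maximalIdeal (X.presheaf.stalk x), a • n' = 0) : n' = 0 := by
  by_contra hne
  apply h
  unfold Curv2.IsAssPoint
  rw [isAssociatedPrime_iff]
  refine ⟨inferInstance, n', ?_⟩
  apply le_antisymm
  · intro a ha
    rw [Submodule.mem_colon_singleton]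
    exact (Submodule.mem_bot _).mpr (hn a ha)
  · have hne_top : (⊥ : Submodule (X.presheaf.stalk x) (G.presheaf.stalk x)).colon {n'} ≠ ⊤ := by
      intro htop
      have h1 : (1 : X.presheaf.stalk x) ∈
          (⊥ : Submodule (X.presheaf.stalk x) (G.presheaf.stalk x)).colon {n'} := by
        rw [htop]; trivial
      rw [Submodule.mem_colon_singleton, one_smul] at h1
      exact hne ((Submodule.mem_bot _).mp h1)
    exact IsLocalRing.le_maximalIdeal hne_top

end Scheme


section Scheme2

open AlgebraicGeometry CategoryTheory Opposite TopologicalSpace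
open Groth.Agent.H8 Groth.Agent.H67.StalkLoc

variable {X : Scheme.{u}} [IsLocallyNoetherian X] {F G : X.Modules} (φ : F ⟶ G)
  [F.IsQuasicoherent] [SheafOfModules.IsFiniteType (R := X.ringCatSheaf) F] [G.IsQuasicoherent]

/-- the hypothesis `Hyp` at the point `fromSpec p` of an affine open, in the stalk model. -/
theorem hyp_fromSpec {W : X.Opens} (hW : IsAffineOpen W) (p : PrimeSpectrum Γ(X, W))
    (hxW : hW.fromSpec p ∈ W) (h : PtHyp φ (hW.fromSpec p)) :
    letI : Algebra Γ(X, W) (X.presheaf.stalk (hW.fromSpec p)) :=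
      TopCat.Presheaf.algebra_section_stalk X.presheaf ⟨hW.fromSpec p, hxW⟩
    letI : Module Γ(X, W) (F.presheaf.stalk (hW.fromSpec p)) := stalkModule F hxW
    letI : Module Γ(X, W) (G.presheaf.stalk (hW.fromSpec p)) := stalkModule G hxW
    haveI : IsLocalizedModule p.asIdeal.primeCompl (germₗ F hxW) := by
      have h := isLocalizedModule_germₗ F hW hxW
      rwa [HartogsMod.primeIdealOf_fromSpec hW p hxW] at h
    haveI : IsLocalizedModule p.asIdeal.primeCompl (germₗ G hxW) := by
      have h := isLocalizedModule_germₗ G hW hxW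
      rwa [HartogsMod.primeIdealOf_fromSpec hW p hxW] at h
    Hyp (appₗ φ W) p.asIdeal (X.presheaf.stalk (hW.fromSpec p))
      (F.presheaf.stalk (hW.fromSpec p)) (G.presheaf.stalk (hW.fromSpec p))
      (germₗ F hxW) (germₗ G hxW) := by
  letI : Algebra Γ(X, W) (X.presheaf.stalk (hW.fromSpec p)) :=
    TopCat.Presheaf.algebra_section_stalk X.presheaf ⟨hW.fromSpec p, hxW⟩
  letI : Module Γ(X, W) (F.presheaf.stalk (hW.fromSpec p)) := stalkModule F hxW
  letI : Module Γ(X, W) (G.presheaf.stalk (hW.fromSpec p)) := stalkModule G hxW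
  haveI hF : IsLocalizedModule p.asIdeal.primeCompl (germₗ F hxW) := by
    have h := isLocalizedModule_germₗ F hW hxW
    rwa [HartogsMod.primeIdealOf_fromSpec hW p hxW] at h
  haveI hG : IsLocalizedModule p.asIdeal.primeCompl (germₗ G hxW) := by
    have h := isLocalizedModule_germₗ G hW hxW
    rwa [HartogsMod.primeIdealOf_fromSpec hW p hxW] at h
  rcases h with hb | ⟨hd, hass⟩
  · left
    have heq : IsLocalizedModule.map p.asIdeal.primeCompl (germₗ F hxW) (germₗ G hxW)
        (appₗ φ W) = stalkMapA φ hxW := by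
      symm
      apply IsLocalizedModule.linearMap_ext p.asIdeal.primeCompl (germₗ F hxW) (germₗ G hxW)
      ext m
      rw [LinearMap.comp_apply, LinearMap.comp_apply, IsLocalizedModule.map_apply]
      exact RefHull.stalkMapₗ_germ φ (hW.fromSpec p) hxW m
    rw [heq]
    exact hb
  · right
    exact ⟨hd, fun n' hn => eq_zero_of_not_isAssPoint (hW.fromSpec p) hass n' hn⟩

end Scheme2


section Scheme3

open AlgebraicGeometry CategoryTheory Opposite TopologicalSpace
open Groth.Agent.H8 Groth.Agent.H67.StalkLoc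

variable {X : Scheme.{u}} [IsLocallyNoetherian X] {F G : X.Modules} (φ : F ⟶ G)
  [F.IsQuasicoherent] [SheafOfModules.IsFiniteType (R := X.ringCatSheaf) F] [G.IsQuasicoherent]

/-- Under the pointwise hypotheses, `φ` is bijective on sections over affine opens. -/
theorem bijective_appₗ_affine (h : ∀ x : X, PtHyp φ x) {W : X.Opens} (hW : IsAffineOpen W) :
    Function.Bijective (appₗ φ W) := by
  haveI : IsNoetherianRing Γ(X, W) := IsLocallyNoetherian.component_noetherian ⟨W, hW⟩
  haveI : Module.Finite Γ(X, W) Γ(F, W) := Groth.Agent.H44.finite_sections_of_isFiniteType F hW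
  -- common set-up at a prime
  have step : ∀ (p : PrimeSpectrum Γ(X, W)),
      (∀ k : Γ(F, W), appₗ φ W k = 0 → (∀ b : Γ(X, W), b • k = 0 ↔ b ∈ p.asIdeal) → False) ∧
      (Function.Injective (appₗ φ W) → ∀ n : Γ(G, W),
        (∀ b : Γ(X, W), b • n ∈ LinearMap.range (appₗ φ W) ↔ b ∈ p.asIdeal) → False) := by
    intro p
    have hxW : hW.fromSpec p ∈ W := Hartogs.fromSpec_mem X W hW p
    letI : Algebra Γ(X, W) (X.presheaf.stalk (hW.fromSpec p)) :=
      TopCat.Presheaf.algebra_section_stalk X.presheaf ⟨hW.fromSpec p, hxW⟩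
    haveI : IsLocalization.AtPrime (X.presheaf.stalk (hW.fromSpec p)) p.asIdeal :=
      hW.isLocalization_stalk' p hxW
    letI : Module Γ(X, W) (F.presheaf.stalk (hW.fromSpec p)) := stalkModule F hxW
    letI : Module Γ(X, W) (G.presheaf.stalk (hW.fromSpec p)) := stalkModule G hxW
    haveI : IsScalarTower Γ(X, W) (X.presheaf.stalk (hW.fromSpec p))
        (F.presheaf.stalk (hW.fromSpec p)) := IsScalarTower.of_algebraMap_smul (fun r x => rfl)
    haveI : IsScalarTower Γ(X, W) (X.presheaf.stalk (hW.fromSpec p))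
        (G.presheaf.stalk (hW.fromSpec p)) := IsScalarTower.of_algebraMap_smul (fun r x => rfl)
    haveI hF : IsLocalizedModule p.asIdeal.primeCompl (germₗ F hxW) := by
      have h := isLocalizedModule_germₗ F hW hxW
      rwa [HartogsMod.primeIdealOf_fromSpec hW p hxW] at h
    haveI hG : IsLocalizedModule p.asIdeal.primeCompl (germₗ G hxW) := by
      have h := isLocalizedModule_germₗ G hW hxW
      rwa [HartogsMod.primeIdealOf_fromSpec hW p hxW] at h
    have hyp := hyp_fromSpec φ hW p hxW (h _)
    exact ⟨fun k hk hann => inj_step (appₗ φ W) p.asIdeal _ _ _ (germₗ F hxW) (germₗ G hxW)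
        hyp k hk hann,
      fun hinj n hcol => surj_step (appₗ φ W) p.asIdeal _ _ _ (germₗ F hxW) (germₗ G hxW)
        hyp hinj n hcol⟩
  have hinj : Function.Injective (appₗ φ W) := by
    rw [← LinearMap.ker_eq_bot, eq_bot_iff]
    intro k hk
    by_contra hne
    have hk0 : k ≠ 0 := fun h0 => hne ((Submodule.mem_bot _).mpr h0)
    let y : LinearMap.ker (appₗ φ W) := ⟨k, hk⟩
    have hy : y ≠ 0 := fun h0 => hk0 (congrArg Subtype.val h0)
    obtain ⟨P, hP, -⟩ := exists_le_isAssociatedPrime_of_isNoetherianRing Γ(X, W) y hy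
    rw [isAssociatedPrime_iff] at hP
    obtain ⟨hPp, z, hz⟩ := hP
    refine (step ⟨P, hPp⟩).1 z.1 z.2 ?_
    intro b
    show b • z.1 = 0 ↔ b ∈ P
    rw [hz, Submodule.mem_colon_singleton, Submodule.mem_bot]
    constructor
    · intro hb
      exact Subtype.ext hb
    · intro hb
      exact congrArg Subtype.val hb
  refine ⟨hinj, ?_⟩
  rw [← LinearMap.range_eq_top]
  by_contra hne
  haveI : Nontrivial (Γ(G, W) ⧸ LinearMap.range (appₗ φ W)) :=
    Submodule.Quotient.nontrivial_iff.mpr hne
  obtain ⟨P, hP⟩ := associatedPrimes.nonempty Γ(X, W) (Γ(G, W) ⧸ LinearMap.range (appₗ φ W))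
  rw [AssociatedPrimes.mem_iff, isAssociatedPrime_iff] at hP
  obtain ⟨hPp, z, hz⟩ := hP
  obtain ⟨n, rfl⟩ := Submodule.Quotient.mk_surjective _ z
  refine (step ⟨P, hPp⟩).2 hinj n ?_
  intro b
  show b • n ∈ LinearMap.range (appₗ φ W) ↔ b ∈ P
  rw [hz, Submodule.mem_colon_singleton, Submodule.mem_bot, ← Submodule.Quotient.mk_smul,
    Submodule.Quotient.mk_eq_zero]

end Scheme3


section Scheme4

open AlgebraicGeometry CategoryTheory Opposite TopologicalSpace
open Groth.Agent.H8 Groth.Agent.H67.StalkLoc

variable {X : Scheme.{u}} [IsLocallyNoetherian X] {F G : X.Modules} (φ : F ⟶ G)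
  [F.IsQuasicoherent] [SheafOfModules.IsFiniteType (R := X.ringCatSheaf) F] [G.IsQuasicoherent]

/-- Under the pointwise hypotheses all stalk maps are bijective. -/
theorem bijective_stalkMap (h : ∀ x : X, PtHyp φ x) (x : X) :
    Function.Bijective ((TopCat.Presheaf.stalkFunctor AddCommGrpCat.{u} x).map
      (Scheme.Modules.Hom.mapPresheaf φ)) := by
  obtain ⟨W, hW, hxW, -⟩ := exists_isAffineOpen_mem_and_subset (x := x) (U := ⊤) trivial
  letI := stalkModule F hxW
  letI := stalkModule G hxW
  haveI := isLocalizedModule_germₗ F hW hxW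
  haveI := isLocalizedModule_germₗ G hW hxW
  have hb := bijective_appₗ_affine φ h hW
  have h1 : Function.Bijective (stalkMapA φ hxW) := by
    rw [stalkMapA_eq_map φ hW hxW]
    exact ⟨IsLocalizedModule.map_injective _ _ _ _ hb.1,
      IsLocalizedModule.map_surjective _ _ _ _ hb.2⟩
  exact h1

/-- S8890. -/
theorem isIso_of_ptHyp (h : ∀ x : X, PtHyp φ x) : IsIso φ := by
  rw [Scheme.Modules.Hom.isIso_iff_isIso_app]
  intro U
  rw [ConcreteCategory.isIso_iff_bijective]
  let f : HartogsMod.shAb X F ⟶ HartogsMod.shAb X G := ⟨φ.mapPresheaf⟩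
  exact TopCat.Presheaf.app_bijective_of_stalkFunctor_map_bijective f U
    (fun x _ => bijective_stalkMap φ h x)

end Scheme4


section Integral

open AlgebraicGeometry CategoryTheory Opposite TopologicalSpace

/-- On an integral locally Noetherian scheme, a non-generic point is not an associated point of a
module with torsion-free stalks. -/
theorem not_isAssPoint_of_ne_genericPoint (X : Scheme.{u}) [IsIntegral X] [IsLocallyNoetherian X]
    (G : X.Modules)
    (htf : ∀ x : ↥X, NoZeroSMulDivisors ↑(X.presheaf.stalk x) ↑(G.presheaf.stalk x))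
    (x : X) (hx : x ≠ genericPoint ↥X) : ¬ Curv2.IsAssPoint G x := by
  intro hass
  unfold Curv2.IsAssPoint at hass
  rw [isAssociatedPrime_iff] at hass
  obtain ⟨-, y, hy⟩ := hass
  haveI := htf x
  have hbot : IsLocalRing.maximalIdeal (X.presheaf.stalk x) = ⊥ := by
    rw [eq_bot_iff]
    intro a ha
    rw [hy, Submodule.mem_colon_singleton, Submodule.mem_bot] at ha
    rcases smul_eq_zero.mp ha with h0 | h0
    · exact (Submodule.mem_bot _).mpr h0
    · exfalso
      have h1 : (1 : X.presheaf.stalk x) ∈ IsLocalRing.maximalIdeal (X.presheaf.stalk x) := by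
        rw [hy, Submodule.mem_colon_singleton, h0, smul_zero]
        exact Submodule.zero_mem _
      exact (IsLocalRing.maximalIdeal.isMaximal _).ne_top
        ((Ideal.eq_top_iff_one _).mpr h1)
  apply hx
  have hspec : genericPoint ↥X ⤳ x := (genericPoint_spec X).specializes (Set.mem_univ x)
  have hmem : genericPoint ↥X ∈ Set.range (X.fromSpecStalk x) := by
    rw [Scheme.range_fromSpecStalk]
    exact hspec
  obtain ⟨q, hq⟩ := hmem
  have hq' : q = IsLocalRing.closedPoint (X.presheaf.stalk x) := by
    apply PrimeSpectrum.ext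
    show q.asIdeal = IsLocalRing.maximalIdeal (X.presheaf.stalk x)
    rw [hbot, eq_bot_iff, ← hbot]
    exact IsLocalRing.le_maximalIdeal q.isPrime.ne_top
  rw [hq', Scheme.fromSpecStalk_closedPoint] at hq
  exact hq

end Integral

end Groth.Agent.H6.AssIso
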