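import Groth.Agent.H6.AssIso
import Mathlib.RingTheory.Ideal.AssociatedPrime.Localization

/-!
# Local version of the isomorphism criterion S8890 (helper6)

If a morphism `φ : F ⟶ G` from a coherent module to a quasi-coherent module satisfies the pointwise
hypothesis `PtHyp` at all generizations of a point `z`, then the stalk map of `φ` at `z` is
bijective.
-/

set_option autoImplicit false
set_option linter.style.haveILetI false
set_option linter.unusedSectionVars false
universe u

namespace Groth.Agent.H6.AssIso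

section StepRel

variable {B : Type u} [CommRing B] [IsNoetherianRing B]
  {M N : Type u} [AddCommGroup M] [Module B M] [Module.Finite B M] [AddCommGroup N] [Module B N]
  (ψ : M →ₗ[B] N) (p : Ideal B) [p.IsPrime]
  (S : Type u) [CommRing S] [Algebra B S] [IsLocalization.AtPrime S p] [IsLocalRing S]
  (M' N' : Type u) [AddCommGroup M'] [Module B M'] [Module S M'] [IsScalarTower B S M']
  [AddCommGroup N'] [Module B N'] [Module S N'] [IsScalarTower B S N']
  (f : M →ₗ[B] M') [IsLocalizedModule p.primeCompl f]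
  (g : N →ₗ[B] N') [IsLocalizedModule p.primeCompl g]

include S in
/-- variant of `surj_step` only assuming injectivity of the localized map -/
theorem surj_step' (h : Hyp ψ p S M' N' f g)
    (hinj : Function.Injective (IsLocalizedModule.map p.primeCompl f g ψ)) (n : N)
    (hcol : ∀ b : B, b • n ∈ LinearMap.range ψ ↔ b ∈ p) : False := by
  set ψ' := IsLocalizedModule.map p.primeCompl f g ψ with hψ'def
  have hgn : g n ∉ LinearMap.range ψ' := by
    rintro ⟨m', hm'⟩
    obtain ⟨⟨m, s⟩, hms⟩ := IsLocalizedModule.surj p.primeCompl f m'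
    have h1 : g (s.1 • n - ψ m) = 0 := by
      rw [map_sub, map_smul, ← hm', ← IsLocalizedModule.map_apply p.primeCompl f g ψ m, ← hms,
        ← hψ'def]
      change s.1 • ψ' m' - ψ' (s.1 • m') = 0
      rw [map_smul, sub_self]
    obtain ⟨t, ht⟩ := (IsLocalizedModule.eq_zero_iff p.primeCompl g).mp h1
    have h2 : (t.1 * s.1) • n ∈ LinearMap.range ψ := by
      refine ⟨t.1 • m, ?_⟩
      have : t.1 • (s.1 • n - ψ m) = 0 := ht
      rw [smul_sub, sub_eq_zero] at this
      rw [map_smul, mul_smul, this]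
    have h3 := (hcol _).mp h2
    rcases (‹p.IsPrime›).mem_or_mem h3 with h4 | h4
    · exact t.2 h4
    · exact s.2 h4
  rcases h with hb | ⟨hd, hN⟩
  · exact hgn (hb.2 (g n))
  · haveI : IsNoetherianRing S := IsLocalization.isNoetherianRing p.primeCompl S inferInstance
    haveI : Module.Finite S M' := Module.Finite.of_isLocalizedModule p.primeCompl f
    let ψS : M' →ₗ[S] N' := LinearMap.extendScalarsOfIsLocalization p.primeCompl S ψ'
    have hψS : ∀ m', ψS m' = ψ' m' := fun _ => rfl
    have hinj' : Function.Injective ψS := hinj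
    apply hgn
    have key := mem_range_of_smul_mem_range ψS hinj' hd hN (g n) ?_
    · obtain ⟨m', hm'⟩ := key
      exact ⟨m', hm'⟩
    · intro a ha
      obtain ⟨c, hc, s, hs⟩ := exists_of_mem_maximalIdeal p S a ha
      obtain ⟨m₁, hm₁⟩ := (hcol c).mpr hc
      have hu : IsUnit (algebraMap B S s) := IsLocalization.map_units S s
      refine ⟨((hu.unit⁻¹ : Sˣ) : S) • f m₁, ?_⟩
      rw [map_smul, hψS, IsLocalizedModule.map_apply, hm₁, map_smul]
      apply hu.smul_left_cancel.mp
      rw [smul_smul, IsUnit.mul_val_inv, one_smul, smul_smul, hs, algebraMap_smul]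

end StepRel

section CoreRel

variable {B : Type u} [CommRing B] [IsNoetherianRing B]

/-- an element whose annihilator is contained in the prime `p` has a multiple whose annihilator is
a prime contained in `p` -/
theorem exists_smul_ann_prime_le (p : Ideal B) [p.IsPrime] {P : Type u} [AddCommGroup P]
    [Module B P] (x : P) (hx : ∀ b : B, b • x = 0 → b ∈ p) :
    ∃ (q : Ideal B) (_ : q.IsPrime) (b : B), q ≤ p ∧ ∀ c : B, c • (b • x) = 0 ↔ c ∈ q := by
  let L : Submodule B P := Submodule.span B {x}
  haveI : Module.Finite B L := Module.Finite.span_singleton B x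
  have hann : Module.annihilator B L ≤ p := by
    intro b hb
    apply hx
    have h1 := (Module.mem_annihilator.mp hb) ⟨x, Submodule.mem_span_singleton_self x⟩
    exact congrArg Subtype.val h1
  obtain ⟨q, hq, hqp⟩ := Ideal.exists_minimalPrimes_le hann
  have hass := Module.associatedPrimes.minimalPrimes_annihilator_subset_associatedPrimes B L hq
  rw [AssociatedPrimes.mem_iff, isAssociatedPrime_iff] at hass
  obtain ⟨hqprime, y, hy⟩ := hass
  obtain ⟨b, hb⟩ := Submodule.mem_span_singleton.mp y.2
  refine ⟨q, hqprime, b, hqp, fun c => ?_⟩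
  rw [hy, Submodule.mem_colon_singleton, Submodule.mem_bot, hb]
  constructor
  · intro h
    exact Subtype.ext h
  · intro h
    exact congrArg Subtype.val h

variable {M N : Type u} [AddCommGroup M] [Module B M] [AddCommGroup N] [Module B N]
  (ψ : M →ₗ[B] N) (p : Ideal B) [p.IsPrime]

/-- relative form of the associated prime argument: conditions at the primes contained in `p`
imply that `ψ` is bijective after localizing at `p` -/
theorem core_rel
    (hI : ∀ (q : Ideal B) [q.IsPrime], q ≤ p → ∀ k : M, ψ k = 0 →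
      (∀ b : B, b • k = 0 ↔ b ∈ q) → False)
    (hS : ∀ (q : Ideal B) [q.IsPrime], q ≤ p → (∀ m : M, ψ m = 0 → ∃ t : B, t ∉ q ∧ t • m = 0) →
      ∀ n : N, (∀ b : B, b • n ∈ LinearMap.range ψ ↔ b ∈ q) → False) :
    (∀ m : M, ψ m = 0 → ∃ t : B, t ∉ p ∧ t • m = 0) ∧
      (∀ n : N, ∃ t : B, t ∉ p ∧ t • n ∈ LinearMap.range ψ) := by
  have inj : ∀ (p' : Ideal B) [p'.IsPrime], p' ≤ p → ∀ m : M, ψ m = 0 →
      ∃ t : B, t ∉ p' ∧ t • m = 0 := by
    intro p' _ hle m hm
    by_contra hcon
    push Not at hcon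
    obtain ⟨q, hq, b, hqle, hb⟩ := exists_smul_ann_prime_le p' m
      (fun t ht => by
        by_contra h
        exact hcon t h ht)
    exact hI q (hqle.trans hle) (b • m) (by rw [map_smul, hm, smul_zero]) hb
  refine ⟨inj p le_rfl, ?_⟩
  intro n
  by_contra hcon
  push Not at hcon
  obtain ⟨q, hq, b, hqle, hb⟩ := exists_smul_ann_prime_le p
    (Submodule.Quotient.mk (p := LinearMap.range ψ) n)
    (fun t ht => by
      by_contra h
      apply hcon t h
      rwa [← Submodule.Quotient.mk_smul, Submodule.Quotient.mk_eq_zero] at ht)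
  refine hS q hqle (inj q hqle) (b • n) (fun c => ?_)
  rw [← hb c, ← Submodule.Quotient.mk_smul, ← Submodule.Quotient.mk_smul,
    Submodule.Quotient.mk_eq_zero]

end CoreRel

section LocMap

variable {B : Type*} [CommRing B] (S : Submonoid B) {M N M' N' : Type*} [AddCommGroup M]
  [Module B M] [AddCommGroup N] [Module B N] [AddCommGroup M'] [Module B M'] [AddCommGroup N']
  [Module B N'] (f : M →ₗ[B] M') [IsLocalizedModule S f] (g : N →ₗ[B] N') [IsLocalizedModule S g]
  (ψ : M →ₗ[B] N)

theorem map_injective_of_forall (h : ∀ m : M, ψ m = 0 → ∃ t : B, t ∈ S ∧ t • m = 0) :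
    Function.Injective (IsLocalizedModule.map S f g ψ) := by
  rw [injective_iff_map_eq_zero]
  intro m' hm'
  obtain ⟨⟨m, s⟩, hms⟩ := IsLocalizedModule.surj S f m'
  have hms' : (s : B) • m' = f m := hms
  have h1 : g (ψ m) = 0 := by
    rw [← IsLocalizedModule.map_apply S f g ψ m, ← hms', map_smul, hm', smul_zero]
  obtain ⟨t, ht⟩ := (IsLocalizedModule.eq_zero_iff S g).mp h1
  have ht' : (t : B) • ψ m = 0 := ht
  have h2 : ψ ((t : B) • m) = 0 := by rw [map_smul]; exact ht'
  obtain ⟨t', ht'S, ht'm⟩ := h _ h2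
  have h3 : f m = 0 := by
    rw [IsLocalizedModule.eq_zero_iff S f]
    refine ⟨⟨t' * t.1, S.mul_mem ht'S t.2⟩, ?_⟩
    change (t' * t.1) • m = 0
    rw [mul_smul, ht'm]
  apply IsLocalizedModule.smul_injective f s
  change (s : B) • m' = (s : B) • (0 : M')
  rw [hms', h3, smul_zero]

theorem map_surjective_of_forall (h : ∀ n : N, ∃ t : B, t ∈ S ∧ t • n ∈ LinearMap.range ψ) :
    Function.Surjective (IsLocalizedModule.map S f g ψ) := by
  intro n'
  obtain ⟨⟨n, s⟩, hns⟩ := IsLocalizedModule.surj S g n'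
  have hns' : (s : B) • n' = g n := hns
  obtain ⟨t, ht, m, hm⟩ := h n
  have hts : t * s.1 ∈ S := S.mul_mem ht s.2
  refine ⟨IsLocalizedModule.mk' f m ⟨t * s.1, hts⟩, ?_⟩
  rw [IsLocalizedModule.map_mk', hm, IsLocalizedModule.mk'_eq_iff]
  change g (t • n) = (t * s.1) • n'
  rw [mul_smul, map_smul, hns']

end LocMap

section SchemeRel

open AlgebraicGeometry CategoryTheory Opposite TopologicalSpace
open Groth.Agent.H8 Groth.Agent.H67.StalkLoc

variable {X : Scheme.{u}} [IsLocallyNoetherian X] {F G : X.Modules} (φ : F ⟶ G)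
  [F.IsQuasicoherent] [SheafOfModules.IsFiniteType (R := X.ringCatSheaf) F] [G.IsQuasicoherent]

/-- Local form of S8890: if the pointwise hypothesis holds at all generizations of `z`, then the
stalk map of `φ` at `z` is bijective. -/
theorem bijective_stalkMapₗ_of_ptHyp_generizations (z : X) (h : ∀ y : X, y ⤳ z → PtHyp φ y) :
    Function.Bijective (RefHull.stalkMapₗ φ z) := by
  obtain ⟨W, hW, hzW, -⟩ := exists_isAffineOpen_mem_and_subset (x := z) (U := ⊤) trivial
  haveI : IsNoetherianRing Γ(X, W) := IsLocallyNoetherian.component_noetherian ⟨W, hW⟩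
  haveI : Module.Finite Γ(X, W) Γ(F, W) := Groth.Agent.H44.finite_sections_of_isFiniteType F hW
  set pz : PrimeSpectrum Γ(X, W) := hW.primeIdealOf ⟨z, hzW⟩ with hpz
  have hpz' : hW.fromSpec pz = z := hW.fromSpec_primeIdealOf ⟨z, hzW⟩
  -- set-up at a prime contained in `pz`
  have step : ∀ (p : PrimeSpectrum Γ(X, W)), p.asIdeal ≤ pz.asIdeal →
      (∀ k : Γ(F, W), appₗ φ W k = 0 → (∀ b : Γ(X, W), b • k = 0 ↔ b ∈ p.asIdeal) → False) ∧
      ((∀ m : Γ(F, W), appₗ φ W m = 0 → ∃ t : Γ(X, W), t ∉ p.asIdeal ∧ t • m = 0) →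
        ∀ n : Γ(G, W),
        (∀ b : Γ(X, W), b • n ∈ LinearMap.range (appₗ φ W) ↔ b ∈ p.asIdeal) → False) := by
    intro p hle
    have hxW : hW.fromSpec p ∈ W := Hartogs.fromSpec_mem X W hW p
    have hspec : hW.fromSpec p ⤳ z := by
      rw [← hpz']
      exact ((PrimeSpectrum.le_iff_specializes p pz).mp hle).map hW.fromSpec.continuous
    letI : Algebra Γ(X, W) (X.presheaf.stalk (hW.fromSpec p)) :=
      TopCat.Presheaf.algebra_section_stalk X.presheaf ⟨hW.fromSpec p, hxW⟩
    haveI : IsLocalization.AtPrime (X.presheaf.stalk (hW.fromSpec p)) p.asIdeal :=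
      hW.isLocalization_stalk' p hxW
    letI : Module Γ(X, W) (F.presheaf.stalk (hW.fromSpec p)) := stalkModule F hxW
    letI : Module Γ(X, W) (G.presheaf.stalk (hW.fromSpec p)) := stalkModule G hxW
    haveI : IsScalarTower Γ(X, W) (X.presheaf.stalk (hW.fromSpec p))
        (F.presheaf.stalk (hW.fromSpec p)) := IsScalarTower.of_algebraMap_smul (fun r x => rfl)
    haveI : IsScalarTower Γ(X, W) (X.presheaf.stalk (hW.fromSpec p))
        (G.presheaf.stalk (hW.fromSpec p)) := IsScalarTower.of_algebraMap_smul (fun r x => rfl)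
    haveI hF : IsLocalizedModule p.asIdeal.primeCompl (germₗ F hxW) := by
      have h := isLocalizedModule_germₗ F hW hxW
      rwa [HartogsMod.primeIdealOf_fromSpec hW p hxW] at h
    haveI hG : IsLocalizedModule p.asIdeal.primeCompl (germₗ G hxW) := by
      have h := isLocalizedModule_germₗ G hW hxW
      rwa [HartogsMod.primeIdealOf_fromSpec hW p hxW] at h
    have hyp := hyp_fromSpec φ hW p hxW (h _ hspec)
    refine ⟨fun k hk hann => inj_step (appₗ φ W) p.asIdeal _ _ _ (germₗ F hxW) (germₗ G hxW)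
        hyp k hk hann, fun hinj n hcol => ?_⟩
    refine surj_step' (appₗ φ W) p.asIdeal _ _ _ (germₗ F hxW) (germₗ G hxW) hyp ?_ n hcol
    exact map_injective_of_forall p.asIdeal.primeCompl (germₗ F hxW) (germₗ G hxW) (appₗ φ W)
      (fun m hm => hinj m hm)
  have core := core_rel (appₗ φ W) pz.asIdeal
    (fun q hq hle k hk hann => (step ⟨q, hq⟩ hle).1 k hk hann)
    (fun q hq hle hinj n hcol => (step ⟨q, hq⟩ hle).2 hinj n hcol)
  letI := stalkModule F hzW
  letI := stalkModule G hzW
  haveI := isLocalizedModule_germₗ F hW hzW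
  haveI := isLocalizedModule_germₗ G hW hzW
  have h1 : Function.Bijective (stalkMapA φ hzW) := by
    rw [stalkMapA_eq_map φ hW hzW]
    exact ⟨map_injective_of_forall pz.asIdeal.primeCompl (germₗ F hzW) (germₗ G hzW) (appₗ φ W)
        (fun m hm => core.1 m hm),
      map_surjective_of_forall pz.asIdeal.primeCompl (germₗ F hzW) (germₗ G hzW) (appₗ φ W)
        (fun n => core.2 n)⟩
  exact h1

end SchemeRel

end Groth.Agent.H6.AssIso
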