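import Groth.Agent.H6.BiratStalk
import Mathlib.AlgebraicGeometry.ResidueField

set_option autoImplicit false
universe u

open CategoryTheory CategoryTheory.Limits AlgebraicGeometry

namespace Groth.Agent.H6.BiratResidue

variable {X Y S : Scheme.{u}}

lemma isIso_residue_genericPoint (X : Scheme.{u}) [IsIntegral X] :
    IsIso (X.residue (genericPoint X)) := by
  rw [ConcreteCategory.isIso_iff_bijective]
  refine ⟨?_, X.residue_surjective _⟩
  have hF : IsField (X.presheaf.stalk (genericPoint X)) :=
    isField_stalk_of_closure_mem_irreducibleComponents X _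
      (by simp [irreducibleComponents_eq_singleton])
  rw [injective_iff_map_eq_zero]
  intro a ha
  by_contra hne
  obtain ⟨b, hab⟩ := hF.mul_inv_cancel hne
  have h1 : (X.residue (genericPoint X)).hom (a * b) = 1 := by rw [hab, map_one]
  rw [map_mul] at h1
  erw [ha] at h1
  rw [zero_mul] at h1
  exact zero_ne_one h1

@[reassoc]
lemma residue_eqToHom {s s' : S} (h : s = s') :
    S.residue s ≫ eqToHom (congrArg S.residueField h) =
      eqToHom (congrArg S.presheaf.stalk h) ≫ S.residue s' := by
  subst h; simp

/-- When the residue maps at `x` and `y` are isomorphisms (e.g. generic points of integral schemes),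
isomorphisms of stalks over `S` correspond to isomorphisms of residue fields over `S`. -/
lemma stalk_iso_iff_residue_iso (sX : X ⟶ S) (sY : Y ⟶ S) (x : X) (y : Y)
    [IsIso (X.residue x)] [IsIso (Y.residue y)] :
    (∃ (hs : sX x = sY y) (e : X.presheaf.stalk x ≅ Y.presheaf.stalk y),
      sX.stalkMap x ≫ e.hom = eqToHom (congrArg S.presheaf.stalk hs) ≫ sY.stalkMap y) ↔
    (∃ (hs : sX x = sY y) (e : X.residueField x ≅ Y.residueField y),
      sX.residueFieldMap x ≫ e.hom = eqToHom (congrArg S.residueField hs) ≫
        sY.residueFieldMap y) := by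
  constructor
  · rintro ⟨hs, e, he⟩
    refine ⟨hs, (asIso (X.residue x)).symm ≪≫ e ≪≫ asIso (Y.residue y), ?_⟩
    rw [← cancel_epi (S.residue (sX x))]
    simp only [Iso.trans_hom, Iso.symm_hom, asIso_inv, asIso_hom]
    rw [Scheme.residue_residueFieldMap_assoc, IsIso.hom_inv_id_assoc, reassoc_of% he,
      ← Scheme.residue_residueFieldMap, residue_eqToHom_assoc hs]
  · rintro ⟨hs, e, he⟩
    refine ⟨hs, asIso (X.residue x) ≪≫ e ≪≫ (asIso (Y.residue y)).symm, ?_⟩
    simp only [Iso.trans_hom, Iso.symm_hom, asIso_inv, asIso_hom]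
    rw [← Scheme.residue_residueFieldMap_assoc, reassoc_of% he, residue_eqToHom_assoc hs,
      Scheme.residue_residueFieldMap_assoc, IsIso.hom_inv_id, Category.comp_id]

end Groth.Agent.H6.BiratResidue
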