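import Groth.Agent.H6.SpreadUnique
import Mathlib.AlgebraicGeometry.Birational.Birational
import Mathlib.AlgebraicGeometry.FunctionField

set_option autoImplicit false
universe u

open CategoryTheory CategoryTheory.Limits AlgebraicGeometry

namespace Groth.Agent.H6.BiratStalk

variable {X Y S : Scheme.{u}}

lemma fromSpecStalkOfMem_homOfLE {U' U : X.Opens} (hle : U' ≤ U) {x : X} (hx : x ∈ U') :
    U'.fromSpecStalkOfMem x hx ≫ X.homOfLE hle = U.fromSpecStalkOfMem x (hle hx) := by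
  rw [← cancel_mono U.ι]; simp

/-- Uniqueness of spreading out, phrased for an open of `X`. -/
lemma spread_out_unique_opens (sY : Y ⟶ S) [LocallyOfFiniteType sY] (U : X.Opens) {x : X}
    (hx : x ∈ U) (a b : U.toScheme ⟶ Y) (hab : a ≫ sY = b ≫ sY)
    (h : U.fromSpecStalkOfMem x hx ≫ a = U.fromSpecStalkOfMem x hx ≫ b) :
    ∃ (U' : X.Opens) (hU' : U' ≤ U), x ∈ U' ∧ X.homOfLE hU' ≫ a = X.homOfLE hU' ≫ b := by
  have h' : U.toScheme.fromSpecStalk ⟨x, hx⟩ ≫ a = U.toScheme.fromSpecStalk ⟨x, hx⟩ ≫ b := by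
    simp only [Scheme.Opens.fromSpecStalkOfMem, Category.assoc] at h
    exact (cancel_epi _).mp h
  obtain ⟨W, hzW, hW⟩ := SpreadUnique.spread_out_unique_of_lft sY a b hab h'
  refine ⟨U.ι ''ᵁ W, U.ι_image_le W, ⟨⟨x, hx⟩, hzW, rfl⟩, ?_⟩
  rw [← Scheme.Opens.isoImage_ι_inv_ι, Category.assoc, Category.assoc, hW]

/-- One-sided step: the spread-out of `e.inv` followed by the spread-out of `e.hom` is the
inclusion, on a smaller neighbourhood. -/
lemma exists_retract (sX : X ⟶ S) (sY : Y ⟶ S) [LocallyOfFiniteType sX] {x : X} {y : Y}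
    (e : X.presheaf.stalk x ≅ Y.presheaf.stalk y)
    {U₁ : X.Opens} (hxU₁ : x ∈ U₁) (f : U₁.toScheme ⟶ Y)
    {V₁ : Y.Opens} (hyV₁ : y ∈ V₁) (g : V₁.toScheme ⟶ X)
    (hf : U₁.fromSpecStalkOfMem x hxU₁ ≫ f = Spec.map e.inv ≫ Y.fromSpecStalk y)
    (hg : V₁.fromSpecStalkOfMem y hyV₁ ≫ g = Spec.map e.hom ≫ X.fromSpecStalk x)
    (hfS : f ≫ sY = U₁.ι ≫ sX) (hgS : g ≫ sX = V₁.ι ≫ sY) :
    ∃ (U₃ : X.Opens) (hU₃ : U₃ ≤ U₁) (hx₃ : x ∈ U₃) (f₃ : U₃.toScheme ⟶ V₁.toScheme),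
      f₃ ≫ V₁.ι = X.homOfLE hU₃ ≫ f ∧ f₃ ≫ g = U₃.ι ∧
      U₃.fromSpecStalkOfMem x hx₃ ≫ f₃ = Spec.map e.inv ≫ V₁.fromSpecStalkOfMem y hyV₁ := by
  -- `f ⟨x, _⟩ = y`
  have hcp : U₁.fromSpecStalkOfMem x hxU₁ (IsLocalRing.closedPoint _) = ⟨x, hxU₁⟩ := by
    apply Subtype.ext
    change U₁.ι (U₁.fromSpecStalkOfMem x hxU₁ (IsLocalRing.closedPoint _)) = x
    rw [← Scheme.Hom.comp_apply, Scheme.Opens.fromSpecStalkOfMem_ι,
      Scheme.fromSpecStalk_closedPoint]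
  have hfx : f ⟨x, hxU₁⟩ = y := by
    have h1 := congr($hf (IsLocalRing.closedPoint _))
    rw [Scheme.Hom.comp_apply, Scheme.Hom.comp_apply, hcp, Spec_closedPoint,
      Scheme.fromSpecStalk_closedPoint] at h1
    exact h1
  set U₂ : X.Opens := U₁.ι ''ᵁ (f ⁻¹ᵁ V₁) with hU₂def
  have hU₂ : U₂ ≤ U₁ := U₁.ι_image_le _
  have hx₂ : x ∈ U₂ := ⟨⟨x, hxU₁⟩, (by change f ⟨x, hxU₁⟩ ∈ V₁; rw [hfx]; exact hyV₁), rfl⟩
  let f₂ : U₂.toScheme ⟶ V₁.toScheme :=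
    (U₁.ι.isoImage (f ⁻¹ᵁ V₁)).inv ≫ f.resLE V₁ (f ⁻¹ᵁ V₁) le_rfl
  have hf₂ : f₂ ≫ V₁.ι = X.homOfLE hU₂ ≫ f := by
    simp only [f₂, Category.assoc, Scheme.Hom.resLE_comp_ι]
    rw [← Category.assoc, Scheme.Opens.isoImage_ι_inv_ι]
  have hst₂ : U₂.fromSpecStalkOfMem x hx₂ ≫ f₂ =
      Spec.map e.inv ≫ V₁.fromSpecStalkOfMem y hyV₁ := by
    rw [← cancel_mono V₁.ι, Category.assoc, hf₂, ← Category.assoc, fromSpecStalkOfMem_homOfLE,
      hf, Category.assoc, Scheme.Opens.fromSpecStalkOfMem_ι]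
  have hc : (f₂ ≫ g) ≫ sX = U₂.ι ≫ sX := by
    rw [Category.assoc, hgS, reassoc_of% hf₂, hfS, Scheme.homOfLE_ι_assoc]
  have hcst : U₂.fromSpecStalkOfMem x hx₂ ≫ (f₂ ≫ g) = U₂.fromSpecStalkOfMem x hx₂ ≫ U₂.ι := by
    rw [reassoc_of% hst₂, hg, ← Spec.map_comp_assoc, e.hom_inv_id, Spec.map_id, Category.id_comp,
      Scheme.Opens.fromSpecStalkOfMem_ι]
  obtain ⟨U₃, hU₃, hx₃, h₃⟩ := spread_out_unique_opens sX U₂ hx₂ (f₂ ≫ g) U₂.ι hc hcst
  refine ⟨U₃, hU₃.trans hU₂, hx₃, X.homOfLE hU₃ ≫ f₂, ?_, ?_, ?_⟩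
  · rw [Category.assoc, hf₂, Scheme.homOfLE_homOfLE_assoc]
  · rw [Category.assoc, h₃, Scheme.homOfLE_ι]
  · rw [← Category.assoc, fromSpecStalkOfMem_homOfLE, hst₂]

/-- Assembly: from the two one-sided retractions, build an isomorphism of open neighbourhoods. -/
lemma exists_iso_of_retracts (sX : X ⟶ S) (sY : Y ⟶ S) {x : X} {y : Y}
    (e : X.presheaf.stalk x ≅ Y.presheaf.stalk y)
    {U₁ : X.Opens} (f : U₁.toScheme ⟶ Y) {V₁ : Y.Opens} (hyV₁ : y ∈ V₁) (g : V₁.toScheme ⟶ X)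
    (hgS : g ≫ sX = V₁.ι ≫ sY)
    {U₃ : X.Opens} (hU₃ : U₃ ≤ U₁) (hx₃ : x ∈ U₃) (f₃ : U₃.toScheme ⟶ V₁.toScheme)
    (hf₃ : f₃ ≫ V₁.ι = X.homOfLE hU₃ ≫ f) (hf₃g : f₃ ≫ g = U₃.ι)
    (hst : U₃.fromSpecStalkOfMem x hx₃ ≫ f₃ = Spec.map e.inv ≫ V₁.fromSpecStalkOfMem y hyV₁)
    {V₃ : Y.Opens} (hV₃ : V₃ ≤ V₁) (hy₃ : y ∈ V₃) (g₃ : V₃.toScheme ⟶ U₁.toScheme)
    (hg₃ : g₃ ≫ U₁.ι = Y.homOfLE hV₃ ≫ g) (hg₃f : g₃ ≫ f = V₃.ι) :
    ∃ (U : X.Opens) (V : Y.Opens) (i : U.toScheme ≅ V.toScheme), x ∈ U ∧ y ∈ V ∧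
      i.hom ≫ V.ι ≫ sY = U.ι ≫ sX := by
  let P := pullback f₃ (Y.homOfLE hV₃)
  let Q := pullback g₃ (X.homOfLE hU₃)
  have hPQ : pullback.snd f₃ (Y.homOfLE hV₃) ≫ g₃ =
      pullback.fst f₃ (Y.homOfLE hV₃) ≫ X.homOfLE hU₃ := by
    rw [← cancel_mono U₁.ι, Category.assoc, hg₃, ← pullback.condition_assoc, hf₃g,
      Category.assoc, Scheme.homOfLE_ι]
  have hQP : pullback.snd g₃ (X.homOfLE hU₃) ≫ f₃ =
      pullback.fst g₃ (X.homOfLE hU₃) ≫ Y.homOfLE hV₃ := by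
    rw [← cancel_mono V₁.ι, Category.assoc, hf₃, ← pullback.condition_assoc, hg₃f,
      Category.assoc, Scheme.homOfLE_ι]
  let PQ : P ≅ Q :=
    { hom := pullback.lift (pullback.snd _ _) (pullback.fst _ _) hPQ
      inv := pullback.lift (pullback.snd _ _) (pullback.fst _ _) hQP
      hom_inv_id := by
        apply pullback.hom_ext
        · rw [Category.assoc, pullback.lift_fst, pullback.lift_snd, Category.id_comp]
        · rw [Category.assoc, pullback.lift_snd, pullback.lift_fst, Category.id_comp]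
      inv_hom_id := by
        apply pullback.hom_ext
        · rw [Category.assoc, pullback.lift_fst, pullback.lift_snd, Category.id_comp]
        · rw [Category.assoc, pullback.lift_snd, pullback.lift_fst, Category.id_comp] }
  let iP : P ⟶ X := pullback.fst f₃ (Y.homOfLE hV₃) ≫ U₃.ι
  let iQ : Q ⟶ Y := pullback.fst g₃ (X.homOfLE hU₃) ≫ V₃.ι
  have : IsOpenImmersion iP := by dsimp only [iP]; infer_instance
  have : IsOpenImmersion iQ := by dsimp only [iQ]; infer_instance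
  -- the canonical point
  let ℓ : Spec (X.presheaf.stalk x) ⟶ P :=
    pullback.lift (U₃.fromSpecStalkOfMem x hx₃) (Spec.map e.inv ≫ V₃.fromSpecStalkOfMem y hy₃)
      (by rw [hst, Category.assoc, fromSpecStalkOfMem_homOfLE])
  have hℓP : ℓ ≫ iP = X.fromSpecStalk x := by
    simp only [ℓ, iP, pullback.lift_fst_assoc, Scheme.Opens.fromSpecStalkOfMem_ι]
  have hℓQ : ℓ ≫ PQ.hom ≫ iQ = Spec.map e.inv ≫ Y.fromSpecStalk y := by
    simp only [ℓ, iQ, PQ, pullback.lift_fst_assoc, pullback.lift_snd_assoc, Category.assoc,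
      Scheme.Opens.fromSpecStalkOfMem_ι]
  refine ⟨iP.opensRange, iQ.opensRange,
    iP.isoOpensRange.symm ≪≫ PQ ≪≫ iQ.isoOpensRange, ?_, ?_, ?_⟩
  · refine ⟨ℓ (IsLocalRing.closedPoint _), ?_⟩
    rw [← Scheme.Hom.comp_apply, hℓP, Scheme.fromSpecStalk_closedPoint]
  · refine ⟨PQ.hom (ℓ (IsLocalRing.closedPoint _)), ?_⟩
    rw [← Scheme.Hom.comp_apply, ← Scheme.Hom.comp_apply, hℓQ, Scheme.Hom.comp_apply,
      Spec_closedPoint, Scheme.fromSpecStalk_closedPoint]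
  · simp only [Iso.trans_hom, Iso.symm_hom, Category.assoc, Scheme.Hom.isoOpensRange_hom_ι_assoc]
    rw [← Scheme.Hom.isoOpensRange_inv_comp iP]
    simp only [Category.assoc]
    congr 1
    change pullback.lift (pullback.snd _ _) (pullback.fst _ _) hPQ ≫
      pullback.fst g₃ (X.homOfLE hU₃) ≫ V₃.ι ≫ sY = (pullback.fst f₃ (Y.homOfLE hV₃) ≫ U₃.ι) ≫ sX
    rw [pullback.lift_fst_assoc, ← Scheme.homOfLE_ι Y hV₃, Category.assoc, ← hgS,
      ← pullback.condition_assoc, reassoc_of% hf₃g, Category.assoc]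

/-- An isomorphism of local rings over `S` spreads out to an isomorphism of open neighbourhoods
over `S`, given existence of spreading out on both sides and finite type (for uniqueness). -/
theorem exists_iso_of_stalk_iso (sX : X ⟶ S) (sY : Y ⟶ S)
    [LocallyOfFiniteType sX] [LocallyOfFiniteType sY]
    {x : X} {y : Y} (e : X.presheaf.stalk x ≅ Y.presheaf.stalk y)
    (he : Spec.map e.inv ≫ Y.fromSpecStalk y ≫ sY = X.fromSpecStalk x ≫ sX)
    (hspY : ∀ φ : Spec (X.presheaf.stalk x) ⟶ Y, φ ≫ sY = X.fromSpecStalk x ≫ sX →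
      ∃ (U : X.Opens) (hxU : x ∈ U) (f : U.toScheme ⟶ Y),
        φ = U.fromSpecStalkOfMem x hxU ≫ f ∧ f ≫ sY = U.ι ≫ sX)
    (hspX : ∀ ψ : Spec (Y.presheaf.stalk y) ⟶ X, ψ ≫ sX = Y.fromSpecStalk y ≫ sY →
      ∃ (V : Y.Opens) (hyV : y ∈ V) (g : V.toScheme ⟶ X),
        ψ = V.fromSpecStalkOfMem y hyV ≫ g ∧ g ≫ sX = V.ι ≫ sY) :
    ∃ (U : X.Opens) (V : Y.Opens) (i : U.toScheme ≅ V.toScheme), x ∈ U ∧ y ∈ V ∧
      i.hom ≫ V.ι ≫ sY = U.ι ≫ sX := by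
  have he' : Spec.map e.hom ≫ X.fromSpecStalk x ≫ sX = Y.fromSpecStalk y ≫ sY := by
    rw [← he, ← Spec.map_comp_assoc, e.inv_hom_id, Spec.map_id, Category.id_comp]
  obtain ⟨U₁, hxU₁, f, hf, hfS⟩ := hspY (Spec.map e.inv ≫ Y.fromSpecStalk y)
    (by rw [Category.assoc, he])
  obtain ⟨V₁, hyV₁, g, hg, hgS⟩ := hspX (Spec.map e.hom ≫ X.fromSpecStalk x)
    (by rw [Category.assoc, he'])
  obtain ⟨U₃, hU₃, hx₃, f₃, hf₃, hf₃g, hst⟩ :=
    exists_retract sX sY e hxU₁ f hyV₁ g hf.symm hg.symm hfS hgS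
  obtain ⟨V₃, hV₃, hy₃, g₃, hg₃, hg₃f, -⟩ :=
    exists_retract sY sX e.symm hyV₁ g hxU₁ f hg.symm hf.symm hgS hfS
  exact exists_iso_of_retracts sX sY e f hyV₁ g hgS hU₃ hx₃ f₃ hf₃ hf₃g hst hV₃ hy₃ g₃ hg₃ hg₃f

lemma SpecMap_eqToHom_fromSpecStalk {s s' : S} (h : s = s') :
    Spec.map (eqToHom (congrArg S.presheaf.stalk h)) ≫ S.fromSpecStalk s = S.fromSpecStalk s' := by
  subst h; simp

/-- Translate the compatibility of a stalk isomorphism with the structure maps (phrased with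
`eqToHom` on stalks of `S`) into an equation of scheme morphisms. -/
lemma fromSpecStalk_comp_of_stalkMap_comp (sX : X ⟶ S) (sY : Y ⟶ S) {x : X} {y : Y}
    (hs : sX x = sY y) (e : X.presheaf.stalk x ≅ Y.presheaf.stalk y)
    (he : sX.stalkMap x ≫ e.hom = eqToHom (congrArg S.presheaf.stalk hs) ≫ sY.stalkMap y) :
    Spec.map e.inv ≫ Y.fromSpecStalk y ≫ sY = X.fromSpecStalk x ≫ sX := by
  have h1 : sY.stalkMap y ≫ e.inv =
      eqToHom (congrArg S.presheaf.stalk hs.symm) ≫ sX.stalkMap x := by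
    rw [← cancel_mono e.hom, Category.assoc, Category.assoc, e.inv_hom_id, Category.comp_id, he,
      eqToHom_trans_assoc, eqToHom_refl, Category.id_comp]
  rw [← Scheme.SpecMap_stalkMap_fromSpecStalk, ← Scheme.SpecMap_stalkMap_fromSpecStalk,
    ← Spec.map_comp_assoc, h1, Spec.map_comp_assoc, SpecMap_eqToHom_fromSpecStalk hs.symm]

lemma stalkCongr_hom_eq_eqToHom {s s' : S} (h : s = s') :
    (S.presheaf.stalkCongr (.of_eq h)).hom = eqToHom (congrArg S.presheaf.stalk h) := by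
  subst h; simp [TopCat.Presheaf.stalkCongr]

/-- A span `X ⟵ Z ⟶ Y` over `S` whose legs induce isomorphisms on stalks at `z` gives an
isomorphism of local rings over `S`. -/
lemma exists_stalk_iso_of_span {Z : Scheme.{u}} (a : Z ⟶ X) (b : Z ⟶ Y) (sX : X ⟶ S) (sY : Y ⟶ S)
    (hab : a ≫ sX = b ≫ sY) (z : Z) [IsIso (a.stalkMap z)] [IsIso (b.stalkMap z)]
    {x : X} {y : Y} (hx : a z = x) (hy : b z = y) :
    ∃ (hs : sX x = sY y) (e : X.presheaf.stalk x ≅ Y.presheaf.stalk y),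
      sX.stalkMap x ≫ e.hom = eqToHom (congrArg S.presheaf.stalk hs) ≫ sY.stalkMap y := by
  subst hx hy
  have hs : sX (a z) = sY (b z) := by
    rw [← Scheme.Hom.comp_apply, hab, Scheme.Hom.comp_apply]
  refine ⟨hs, asIso (a.stalkMap z) ≪≫ (asIso (b.stalkMap z)).symm, ?_⟩
  simp only [Iso.trans_hom, asIso_hom, Iso.symm_hom, asIso_inv]
  rw [← Category.assoc, IsIso.comp_inv_eq, Category.assoc, ← Scheme.Hom.stalkMap_comp,
    ← Scheme.Hom.stalkMap_comp, Scheme.Hom.stalkMap_congr_hom _ _ hab z]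
  congr 1
  exact stalkCongr_hom_eq_eqToHom hs

/-- A partial isomorphism over `S` between irreducible schemes induces an isomorphism of the local
rings at the generic points, over `S`. -/
lemma exists_stalk_iso_of_partialIso [IrreducibleSpace X] [IrreducibleSpace Y]
    (sX : X ⟶ S) (sY : Y ⟶ S) (p : X.PartialIso Y) (hp : p.IsOver sX sY) :
    ∃ (hs : sX (genericPoint X) = sY (genericPoint Y))
      (e : X.presheaf.stalk (genericPoint X) ≅ Y.presheaf.stalk (genericPoint Y)),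
      sX.stalkMap (genericPoint X) ≫ e.hom =
        eqToHom (congrArg S.presheaf.stalk hs) ≫ sY.stalkMap (genericPoint Y) := by
  have : Nonempty p.source := by
    obtain ⟨x, hx⟩ := p.dense_source.nonempty
    exact ⟨⟨x, hx⟩⟩
  have : IrreducibleSpace p.source.toScheme := p.source.ι.isOpenEmbedding.irreducibleSpace
  exact exists_stalk_iso_of_span p.source.ι (p.iso.hom ≫ p.target.ι) sX sY
    (by rw [Category.assoc]; exact Eq.symm hp) (genericPoint p.source.toScheme)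
    (genericPoint_eq_of_isOpenImmersion _) (genericPoint_eq_of_isOpenImmersion _)

/-- From an isomorphism of open neighbourhoods (over `S`) of points of irreducible schemes,
get `BirationalOver`. -/
lemma birationalOver_of_iso_opens [IrreducibleSpace X] [IrreducibleSpace Y]
    (sX : X ⟶ S) (sY : Y ⟶ S) {x : X} {y : Y} (U : X.Opens) (V : Y.Opens)
    (i : U.toScheme ≅ V.toScheme) (hx : x ∈ U) (hy : y ∈ V)
    (hi : i.hom ≫ V.ι ≫ sY = U.ι ≫ sX) : Scheme.BirationalOver sX sY :=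
  ⟨⟨U, U.2.dense ⟨x, hx⟩, V, V.2.dense ⟨y, hy⟩, i⟩, hi⟩

end Groth.Agent.H6.BiratStalk
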