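import Groth.Agent.H6.CartierIdealDiv
import Groth.Agent.H18.STL.TwistExtend
import Groth.Agent.H18.STL.RelAmpleAffine
import Groth.Agent.H18.STL.AmpleBasis
import Groth.Prelude.Def_MoreMor

/-!
# Ample modules on the complements of effective Cartier divisors give an ample family (helper6)
-/

set_option autoImplicit false
set_option linter.style.haveILetI false
universe u

namespace Groth.Agent.H6.CartAmple

open AlgebraicGeometry CategoryTheory Opposite TopologicalSpace
open Groth.Agent.H18 Groth.Agent.H18.STL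

variable {X : Scheme.{u}}

/-- the version with the complements given as loci of generation of sections -/
theorem hasAmpleFamily_of_genLocus_cover {m : ℕ} (N : Fin m → X.Modules)
    (t : ∀ i, Coh.structureModule X ⟶ N i) (hN : ∀ i, PicF.IsInvertible (N i))
    (hcov : ∀ x : X, ∃ i, x ∈ CohB1.genLocus (N i) (t i))
    (L : Fin m → X.Modules) (hL : ∀ i, PicF.IsInvertible (L i))
    (hamp : ∀ i, CohB1.IsAmple ((L i).restrict (CohB1.genLocus (N i) (t i)).ι)) :
    MoreMor.HasAmpleFamily X := by
  set G : Fin m → X.Opens := fun i => CohB1.genLocus (N i) (t i) with hG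
  -- compactness
  haveI hcpt : CompactSpace X := by
    rw [← isCompact_univ_iff]
    have h1 : (Set.univ : Set X) = ⋃ i, (G i : Set X) := by
      ext x
      simp only [Set.mem_univ, Set.mem_iUnion, SetLike.mem_coe, true_iff]
      exact hcov x
    rw [h1]
    refine isCompact_iUnion (fun i => ?_)
    haveI := (hamp i).2.1
    exact isCompact_iff_compactSpace.mpr (hamp i).2.1
  -- quasi-separatedness
  have hqsG : ∀ i, IsQuasiSeparated (G i : Set X) := by
    intro i
    have h1 : QuasiSeparatedSpace ((G i : X.Opens) : Scheme.{u}) :=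
      quasiSeparatedSpace_of_cover (hamp i).1 (hamp i).2.2
    exact (isQuasiSeparated_iff_quasiSeparatedSpace (G i : Set X) (G i).2).mpr h1
  haveI hqs : QuasiSeparatedSpace X := by
    refine Scheme.quasiSeparatedSpace_of_isOpenCover
      (fun V : {V : X.Opens // IsAffineOpen V ∧ ∃ i, V ≤ G i} => V.1) ?_ (fun V => V.2.1) ?_
    · apply IsOpenCover.mk
      rw [eq_top_iff]
      intro x _
      obtain ⟨i, hi⟩ := hcov x
      obtain ⟨V, hV, hxV, hVG⟩ := Opens.isBasis_iff_nbhd.1 X.isBasis_affineOpens
        (show x ∈ G i from hi)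
      exact Opens.mem_iSup.mpr ⟨⟨V, hV, i, hVG⟩, hxV⟩
    · rintro ⟨V, hV, i, hVi⟩ ⟨W, hW, j, hWj⟩
      have h1 : IsAffineOpen (G i ⊓ W) := isAffineOpen_genLocus_inf (hN i) (t i) hW
      have h2 : (V : Set X) ∩ (W : Set X) = (V : Set X) ∩ ((G i ⊓ W : X.Opens) : Set X) := by
        ext x
        simp only [Set.mem_inter_iff, SetLike.mem_coe, Opens.coe_inf]
        constructor
        · rintro ⟨hxV, hxW⟩
          exact ⟨hxV, hVi hxV, hxW⟩
        · rintro ⟨hxV, -, hxW⟩
          exact ⟨hxV, hxW⟩
      show IsCompact ((V : Set X) ∩ (W : Set X))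
      rw [h2]
      exact hqsG i (V : Set X) ((G i ⊓ W : X.Opens) : Set X) hVi V.2 hV.isCompact
        (fun x hx => hx.1) (G i ⊓ W).2 h1.isCompact
  refine ⟨hcpt, fun x => ?_⟩
  obtain ⟨i, hxi⟩ := hcov x
  obtain ⟨k, s', hxs', haff'⟩ := (hamp i).2.2 ⟨x, hxi⟩
  obtain ⟨s, hs⟩ := (exists_transfer_restrict_tensorPow (hL i) (G i) (k + 1)).2 s'
  have hF : PicF.IsInvertible (CohB1.tensorPow (L i) (k + 1)) := isInvertible_tensorPow (hL i) _
  obtain ⟨mm, a, ha⟩ := exists_section_of_restrict_genLocus hF (hN i) (t i) s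
  have hL' : PicF.IsInvertible (CohB1.tensorMod (CohB1.tensorMod (CohB1.tensorPow (L i) (k + 1))
      (CohB1.tensorPow (N i) mm)) (N i)) :=
    isInvertible_tensorMod (isInvertible_tensorMod hF (isInvertible_tensorPow (hN i) mm)) (hN i)
  have hpow := genLocus_powHom hL' a (n := 1) one_pos
  refine ⟨_, 1, SecTwist.powHom a 1, hL', le_rfl, ?_, ?_⟩
  · rw [hpow, ha, hs]
    exact ⟨⟨x, hxi⟩, hxs', rfl⟩
  · rw [hpow, ha, hs]
    exact haff'.image_of_isOpenImmersion (G i).ι

/-- Effective Cartier divisors with empty common support and invertible modules ample on their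
complements give an ample family. -/
theorem hasAmpleFamily_of_cartier_cover {m : ℕ} (D : Fin m → X.IdealSheafData)
    (hD : ∀ i, BlowUp.IsEffCartierIdeal (D i)) (hcap : ⋂ i, ((D i).support : Set X) = ∅)
    (L : Fin m → X.Modules) (hL : ∀ i, PicF.IsInvertible (L i))
    (hamp : ∀ i, CohB1.IsAmple ((L i).restrict (Scheme.Opens.ι (D i).support.compl))) :
    MoreMor.HasAmpleFamily X := by
  have hex := fun i => Groth.Agent.H6.CartIdeal.exists_invertible_section (D i) (hD i)
  choose N t hN hgl using hex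
  have hU : ∀ i, CohB1.genLocus (N i) (t i) = (D i).support.compl := by
    intro i
    ext x
    rw [SetLike.mem_coe, hgl i x]
    rfl
  refine hasAmpleFamily_of_genLocus_cover N t hN ?_ L hL ?_
  · intro x
    have hx : x ∉ ⋂ i, ((D i).support : Set X) := by
      rw [hcap]
      exact Set.notMem_empty x
    rw [Set.mem_iInter, not_forall] at hx
    obtain ⟨i, hi⟩ := hx
    exact ⟨i, (hgl i x).mpr hi⟩
  · intro i
    rw [hU i]
    exact hamp i

end Groth.Agent.H6.CartAmple
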