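import Groth.Agent.H54.ZeroDiv
import Groth.Agent.H54.DivIdeal
import Groth.Agent.H8.MeroLoc
import Groth.Agent.H18.STL.GenLocus
import Groth.Agent.H18.STL.Weight
import Groth.Agent.H18.STL.AmplePow
import Groth.Prelude.Def_BlowUp2

/-!
# The Cartier divisor of an effective Cartier ideal and its invertible module (helper6)

For an ideal sheaf `K` locally generated by one nonzerodivisor we construct the divisor `D` with
`IsDivOfIdeal D K`; the canonical section `1` of `O_X(D)` generates exactly off the support of `K`.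
-/

set_option autoImplicit false
set_option linter.style.haveILetI false
universe u

namespace Groth.Agent.H6.CartIdeal

open AlgebraicGeometry CategoryTheory Opposite TopologicalSpace
open Mero Groth.Agent.H8 Groth.Agent.H18 Groth.Agent.H54.DivFrac Groth.Agent.H54.DivIdeal
  Groth.Agent.H54.ZeroDiv Groth.Agent.H54.DivModInv

variable {X : Scheme.{u}}

/-- two principal generators of an ideal sheaf on affine charts define the same germ of divisor -/
theorem mk_uOf_regGerm_eq (K : X.IdealSheafData) (U U' : X.affineOpens) (f : regSub X U.1)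
    (g : regSub X U'.1) (hf : K.ideal U = Ideal.span {f.1}) (hg : K.ideal U' = Ideal.span {g.1})
    (y : X) (hy : y ∈ U.1) (hy' : y ∈ U'.1) :
    (QuotientGroup.mk (uOf (regGerm ⟨y, hy⟩ f)) : Germ X y) =
      QuotientGroup.mk (uOf (regGerm ⟨y, hy'⟩ g)) := by
  obtain ⟨a, a', haa', hya⟩ := exists_basicOpen_le_affine_inter U.2 U'.2 y ⟨hy, hy'⟩
  have hya' : y ∈ X.basicOpen a' := haa' ▸ hya
  have hW : X.affineBasicOpen a = X.affineBasicOpen a' := Subtype.ext haa'
  have h1 : K.ideal (X.affineBasicOpen a) =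
      Ideal.span {X.presheaf.map (homOfLE (X.basicOpen_le a)).op f.1} := by
    rw [← K.map_ideal_basicOpen U a, hf, Ideal.map_span, Set.image_singleton]
  have h2 : K.ideal (X.affineBasicOpen a') =
      Ideal.span {X.presheaf.map (homOfLE (X.basicOpen_le a')).op g.1} := by
    rw [← K.map_ideal_basicOpen U' a', hg, Ideal.map_span, Set.image_singleton]
  have d1 := germ_dvd_of_span_eq K _ _ hW _ _ h1 h2 y hya hya'
  have d2 := germ_dvd_of_span_eq K _ _ hW.symm _ _ h2 h1 y hya' hya
  have e1 : X.presheaf.germ (X.basicOpen a) y hya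
      (X.presheaf.map (homOfLE (X.basicOpen_le a)).op f.1) = X.presheaf.germ U.1 y hy f.1 :=
    TopCat.Presheaf.germ_res_apply X.presheaf (homOfLE (X.basicOpen_le a)) y hya f.1
  have e2 : X.presheaf.germ (X.basicOpen a') y hya'
      (X.presheaf.map (homOfLE (X.basicOpen_le a')).op g.1) = X.presheaf.germ U'.1 y hy' g.1 :=
    TopCat.Presheaf.germ_res_apply X.presheaf (homOfLE (X.basicOpen_le a')) y hya' g.1
  have d1' : X.presheaf.germ U.1 y hy f.1 ∣ X.presheaf.germ U'.1 y hy' g.1 := by
    rw [← e1, ← e2]; exact d1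
  have d2' : X.presheaf.germ U'.1 y hy' g.1 ∣ X.presheaf.germ U.1 y hy f.1 := by
    rw [← e1, ← e2]; exact d2
  exact mk_uOf_eq_of_dvd (regGerm ⟨y, hy⟩ f) (regGerm ⟨y, hy'⟩ g) d2' d1'

/-- the Cartier divisor of an effective Cartier ideal -/
theorem exists_divisor (K : X.IdealSheafData) (hK : BlowUp.IsEffCartierIdeal K) :
    ∃ D : Divisor X, IsDivOfIdeal D K := by
  choose U hxU f hf hI using hK
  have hreg : ∀ x, f x ∈ regSub X (U x).1 :=
    fun x => mem_regSub_of_mem_nonZeroDivisors (U x).2 (hf x)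
  refine ⟨⟨fun y => QuotientGroup.mk (uOf (regGerm ⟨y, hxU y⟩ ⟨f y, hreg y⟩)),
    fun x => ⟨(U x).1, hxU x, unitOfReg ⟨f x, hreg x⟩, fun y => ?_⟩⟩,
    fun x => ⟨U x, hxU x, f x, hreg x, hI x, fun y => ?_⟩⟩
  · rw [germOf_unitOfReg]
    exact mk_uOf_regGerm_eq K (U y.1) (U x) ⟨f y.1, hreg y.1⟩ ⟨f x, hreg x⟩ (hI y.1) (hI x) y.1
      (hxU y.1) y.2
  · exact mk_uOf_regGerm_eq K (U y.1) (U x) ⟨f y.1, hreg y.1⟩ ⟨f x, hreg x⟩ (hI y.1) (hI x) y.1
      (hxU y.1) y.2

/-- the divisor of an ideal is effective -/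
theorem isEffective_of_isDivOfIdeal {D : Divisor X} {K : X.IdealSheafData}
    (hD : IsDivOfIdeal D K) : IsEffective D := by
  intro x
  obtain ⟨U, hxU, f, hf, -, hDf⟩ := hD x
  exact ⟨regGerm ⟨x, hxU⟩ ⟨f, hf⟩, hDf ⟨x, hxU⟩⟩

/-- the canonical section of `O_X(D)` for the divisor `D` of an ideal `K` generates exactly off
the support of `K` -/
theorem mem_genLocus_oneSec_iff {D : Divisor X} {K : X.IdealSheafData} (hD : IsDivOfIdeal D K)
    (h1 : ∀ y : X, DivCond D y 1) (x : X) :
    x ∈ CohB1.genLocus (divMod D) (sectionHom (divMod D) (oneSec D h1)) ↔ x ∉ K.support := by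
  obtain ⟨U, hxU, f, hf, hI, hDf⟩ := hD x
  set u := unitOfReg ⟨f, hf⟩ with hu
  have hfu : ∀ y : U.1, D.1 y.1 = germOf u y := by
    intro y
    rw [hu, germOf_unitOfReg]
    exact hDf y
  obtain ⟨σ, hσval, hσ⟩ := exists_free_gen D U.1 u hfu
  have hval : SecTwist.val (sectionHom (divMod D) (oneSec D h1)) U.1 = f • σ := by
    rw [Groth.Agent.H18.STL.val_sectionHom]
    apply divMod_ext
    intro y
    have h2 : (f • σ).1 y = X.presheaf.germ U.1 y.1 y.2 f • σ.1 y := rfl
    have h3 : (mres (divMod D) (le_top : U.1 ≤ ⊤) (oneSec D h1)).1 y = 1 := rfl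
    rw [h2, h3, hσval, Algebra.smul_def, mul_comm]
    exact (inv_unitOfReg_val_mul ⟨f, hf⟩ y).symm
  have hgl := Groth.Agent.H18.STL.genLocus_inf_eq_basicOpen
    (sectionHom (divMod D) (oneSec D h1)) (e := σ) hσ f hval
  rw [Scheme.IdealSheafData.mem_support_iff_of_mem hxU, hI, Scheme.zeroLocus_span,
    Scheme.zeroLocus_singleton, Set.mem_compl_iff, not_not]
  constructor
  · intro hx
    have : x ∈ CohB1.genLocus (divMod D) (sectionHom (divMod D) (oneSec D h1)) ⊓ U.1 :=
      ⟨hx, hxU⟩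
    rw [hgl] at this
    exact this
  · intro hx
    have : x ∈ CohB1.genLocus (divMod D) (sectionHom (divMod D) (oneSec D h1)) ⊓ U.1 := by
      rw [hgl]
      exact hx
    exact this.1

/-- an effective Cartier ideal gives an invertible module with a section generating exactly off
its support -/
theorem exists_invertible_section (K : X.IdealSheafData) (hK : BlowUp.IsEffCartierIdeal K) :
    ∃ (L : X.Modules) (a : Coh.structureModule X ⟶ L), PicF.IsInvertible L ∧
      ∀ x : X, x ∈ CohB1.genLocus L a ↔ x ∉ K.support := by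
  obtain ⟨D, hD⟩ := exists_divisor K hK
  have h1 : ∀ y : X, DivCond D y 1 :=
    fun y => divCond_one_of_isEffectiveAt (isEffective_of_isDivOfIdeal hD y)
  exact ⟨divMod D, sectionHom (divMod D) (oneSec D h1), isInvertible_divMod D,
    mem_genLocus_oneSec_iff hD h1⟩

end Groth.Agent.H6.CartIdeal
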