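import Groth.Agent.H24.LocClosedPts

/-!
# Closed points of locally Noetherian schemes (helper6)

* `exists_closed_specialization`: every point of a locally Noetherian scheme specializes to a closed
  point.
* `eq_univ_of_isOpen_of_closedPoints`: an open subset containing all closed points is everything.
-/

set_option autoImplicit false
universe u

namespace Groth.Agent.H6.ClosedPts

open AlgebraicGeometry TopologicalSpace

theorem exists_closed_specialization (X : Scheme.{u}) [IsLocallyNoetherian X] (x : X) :
    ∃ z : X, x ⤳ z ∧ IsClosed ({z} : Set X) := by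
  obtain ⟨_, ⟨U, hU : IsAffineOpen U, rfl⟩, hxU, -⟩ :=
    X.isBasis_affineOpens.exists_subset_of_mem_open (Set.mem_univ x) isOpen_univ
  have : CompactSpace U := isCompact_iff_compactSpace.mp hU.isCompact
  -- a closed point of `U` in the closure of `x`
  obtain ⟨z, hz, hzcl⟩ := (isClosed_closure (s := ({⟨x, hxU⟩} : Set U))).exists_closed_singleton
    ⟨⟨x, hxU⟩, subset_closure rfl⟩
  have hxz : x ⤳ z.1 := by
    have : (⟨x, hxU⟩ : U) ⤳ z := specializes_iff_mem_closure.mpr hz
    exact this.map continuous_subtype_val
  -- `z` is locally closed in `X`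
  have hlc : IsLocallyClosed ({z.1} : Set X) := by
    have h1 : ({z.1} : Set X) = closure {z.1} ∩ U := by
      ext w
      constructor
      · rintro rfl
        exact ⟨subset_closure rfl, z.2⟩
      · rintro ⟨hw1, hw2⟩
        have h3 : z.1 ⤳ w := specializes_iff_mem_closure.mpr hw1
        have h4 : z ⤳ (⟨w, hw2⟩ : U) :=
          (Topology.IsInducing.subtypeVal.specializes_iff (x := z) (y := ⟨w, hw2⟩)).mp h3
        have h2 := specializes_iff_mem_closure.mp h4
        rw [hzcl.closure_eq] at h2
        exact congrArg Subtype.val h2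
    rw [h1]
    exact isClosed_closure.isLocallyClosed.inter U.isOpen.isLocallyClosed
  by_cases hc : IsClosed ({z.1} : Set X)
  · exact ⟨z.1, hxz, hc⟩
  · have : ∃ w ∈ closure ({z.1} : Set X), w ≠ z.1 := by
      by_contra hcon
      push Not at hcon
      apply hc
      apply isClosed_of_closure_subset
      intro w hw
      exact hcon w hw
    obtain ⟨w, hw, hne⟩ := this
    have hzw : z.1 ⤳ w := specializes_iff_mem_closure.mpr hw
    exact ⟨w, hxz.trans hzw,
      Groth.Agent.H24.isClosed_singleton_of_specializes X z.1 w hlc hzw hne⟩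

theorem eq_univ_of_isOpen_of_closedPoints (X : Scheme.{u}) [IsLocallyNoetherian X] (Z : Set X)
    (hZ : IsOpen Z) (h : ∀ z : X, IsClosed ({z} : Set X) → z ∈ Z) : Z = Set.univ := by
  rw [Set.eq_univ_iff_forall]
  intro x
  obtain ⟨z, hxz, hz⟩ := exists_closed_specialization X x
  exact hxz.mem_open hZ (h z hz)

end Groth.Agent.H6.ClosedPts
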