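import Mathlib.Order.ModularLattice
import Mathlib.Order.LatticeIntervals
import Mathlib.Order.Cover
import Mathlib.Order.OrderIsoNat
import Mathlib.Order.Fin.Basic

set_option autoImplicit false

namespace Groth.Agent.H6.SubLat

open Set

section lattice

variable {α : Type*} [Lattice α] [IsModularLattice α]

/-- If `k ⋖ b` and `Iic k` is well-founded for `<` (resp. `>`) then so is `Iic b`. -/
lemma wellFoundedLT_Iic_of_covBy {k b : α} (hkb : k ⋖ b) [WellFoundedLT (Iic k)] :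
    WellFoundedLT (Iic b) := by
  have hfin : Finite (Icc k b) := by
    rw [hkb.Icc_eq]
    exact Set.finite_coe_iff.2 (Set.toFinite _)
  exact wellFounded_lt_exact_sequence (α := Iic b) (β := Iic k) (γ := Icc k b)
    (⟨k, hkb.le⟩ : Iic b)
    (fun x => ⟨x.1, x.2.trans hkb.le⟩) (fun a => ⟨a.1 ⊓ k, inf_le_right⟩)
    (fun x => ⟨x.1, x.2.2⟩) (fun a => ⟨a.1 ⊔ k, le_sup_right, sup_le a.2 hkb.le⟩)
    (GaloisConnection.toGaloisCoinsertion
      (fun x a => ⟨fun h => show x.1 ≤ a.1 ⊓ k from le_inf (show x.1 ≤ a.1 from h) x.2,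
        fun h => show x.1 ≤ a.1 from le_trans (show x.1 ≤ a.1 ⊓ k from h) inf_le_left⟩)
      (fun x => show x.1 ⊓ k ≤ x.1 from inf_le_left))
    (GaloisConnection.toGaloisInsertion
      (fun a x => ⟨fun h => show a.1 ≤ x.1 from le_trans le_sup_left (show a.1 ⊔ k ≤ x.1 from h),
        fun h => show a.1 ⊔ k ≤ x.1 from sup_le (show a.1 ≤ x.1 from h) x.2.1⟩)
      (fun x => show x.1 ≤ x.1 ⊔ k from le_sup_left))
    (fun a => rfl) (fun a => rfl)

lemma wellFoundedGT_Iic_of_covBy {k b : α} (hkb : k ⋖ b) [WellFoundedGT (Iic k)] :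
    WellFoundedGT (Iic b) := by
  have hfin : Finite (Icc k b) := by
    rw [hkb.Icc_eq]
    exact Set.finite_coe_iff.2 (Set.toFinite _)
  exact wellFounded_gt_exact_sequence (α := Iic b) (β := Iic k) (γ := Icc k b)
    (⟨k, hkb.le⟩ : Iic b)
    (fun x => ⟨x.1, x.2.trans hkb.le⟩) (fun a => ⟨a.1 ⊓ k, inf_le_right⟩)
    (fun x => ⟨x.1, x.2.2⟩) (fun a => ⟨a.1 ⊔ k, le_sup_right, sup_le a.2 hkb.le⟩)
    (GaloisConnection.toGaloisCoinsertion
      (fun x a => ⟨fun h => show x.1 ≤ a.1 ⊓ k from le_inf (show x.1 ≤ a.1 from h) x.2,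
        fun h => show x.1 ≤ a.1 from le_trans (show x.1 ≤ a.1 ⊓ k from h) inf_le_left⟩)
      (fun x => show x.1 ⊓ k ≤ x.1 from inf_le_left))
    (GaloisConnection.toGaloisInsertion
      (fun a x => ⟨fun h => show a.1 ≤ x.1 from le_trans le_sup_left (show a.1 ⊔ k ≤ x.1 from h),
        fun h => show a.1 ⊔ k ≤ x.1 from sup_le (show a.1 ≤ x.1 from h) x.2.1⟩)
      (fun x => show x.1 ≤ x.1 ⊔ k from le_sup_left))
    (fun a => rfl) (fun a => rfl)

variable [BoundedOrder α]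

theorem wellFounded_of_covBy_chain (n : ℕ) (F : Fin (n + 1) → α) (h0 : F 0 = ⊥)
    (hn : F (Fin.last n) = ⊤) (hcov : ∀ i : Fin n, F (Fin.castSucc i) ⋖ F (Fin.succ i)) :
    WellFoundedLT α ∧ WellFoundedGT α := by
  have key : ∀ i : Fin (n + 1), WellFoundedLT (Iic (F i)) ∧ WellFoundedGT (Iic (F i)) := by
    intro i
    induction i using Fin.induction with
    | zero =>
      rw [h0]
      have : Subsingleton (Iic (⊥ : α)) :=
        ⟨fun x y => Subtype.ext ((le_bot_iff.1 x.2).trans (le_bot_iff.1 y.2).symm)⟩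
      exact ⟨inferInstance, inferInstance⟩
    | succ i ih =>
      obtain ⟨h1, h2⟩ := ih
      exact ⟨wellFoundedLT_Iic_of_covBy (hcov i), wellFoundedGT_Iic_of_covBy (hcov i)⟩
  obtain ⟨h1, h2⟩ := key (Fin.last n)
  rw [hn] at h1 h2
  have hsm : StrictMono (fun a : α => (⟨a, le_top⟩ : Iic (⊤ : α))) := fun a b hab => hab
  exact ⟨hsm.wellFoundedLT, hsm.wellFoundedGT⟩

end lattice

end Groth.Agent.H6.SubLat
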