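import Groth.Prelude.Def_FlatCA
import Mathlib.RingTheory.Ideal.AssociatedPrime.Basic
import Mathlib.Algebra.DirectSum.Module
import Mathlib.RingTheory.Nakayama
import Mathlib.RingTheory.LocalRing.MaximalIdeal.Basic
import Mathlib.RingTheory.OrzechProperty
import Groth.Agent.H6.AdicAss

set_option autoImplicit false
set_option linter.unusedSectionVars false
universe u

open TensorProduct IsLocalRing

namespace Groth.Agent.H6.DirectSumAss

variable {R : Type u} [CommRing R] {N : Type u} [AddCommGroup N] [Module R N]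
  {ι : Type u} (F : ι → Submodule R N) (M : Type u) [AddCommGroup M] [Module R M]

lemma range_rTensor_mono {P Q : Submodule R N} (h : P ≤ Q) :
    LinearMap.range (LinearMap.rTensor M P.subtype) ≤
      LinearMap.range (LinearMap.rTensor M Q.subtype) := by
  have : P.subtype = Q.subtype ∘ₗ Submodule.inclusion h := by
    ext x; rfl
  rw [this, LinearMap.rTensor_comp]
  exact LinearMap.range_comp_le_range _ _

lemma exists_finset_mem_range (hF : iSup F = ⊤) (z : N ⊗[R] M) :
    ∃ s : Finset ι, z ∈ LinearMap.range (LinearMap.rTensor M (⨆ i ∈ s, F i).subtype) := by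
  classical
  induction z using TensorProduct.induction_on with
  | zero => exact ⟨∅, Submodule.zero_mem _⟩
  | tmul n m =>
    have hn : n ∈ ⨆ i, F i := by rw [hF]; trivial
    obtain ⟨s, hs⟩ := (Submodule.mem_iSup_iff_exists_finset).1 hn
    exact ⟨s, ⟨(⟨n, hs⟩ : (⨆ i ∈ s, F i : Submodule R N)) ⊗ₜ m, rfl⟩⟩
  | add a b ha hb =>
    obtain ⟨s, hs⟩ := ha
    obtain ⟨t, ht⟩ := hb
    refine ⟨s ∪ t, Submodule.add_mem _ ?_ ?_⟩
    · refine range_rTensor_mono M (biSup_mono fun i hi => ?_) hs
      exact Finset.mem_union_left t hi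
    · refine range_rTensor_mono M (biSup_mono fun i hi => ?_) ht
      exact Finset.mem_union_right s hi

section core

variable {R S : Type u} [CommRing R] [IsLocalRing R] [CommRing S] [Algebra R S]
  {N : Type u} [AddCommGroup N] [Module S N] [Module R N] [IsScalarTower R S N]
  (M : Type u) [AddCommGroup M] [Module R M]

lemma smul_mem_smul_top {f : S} (hf : f ∈ (maximalIdeal R).map (algebraMap R S)) (n : N) :
    f • n ∈ (maximalIdeal R • ⊤ : Submodule R N) := by
  have h := Ideal.smul_restrictScalars (maximalIdeal R) (⊤ : Submodule S N)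
  rw [Submodule.restrictScalars_top] at h
  rw [← h, Submodule.restrictScalars_mem]
  exact Submodule.smul_mem_smul hf Submodule.mem_top

/-- The compressed endomorphism `pr ∘ (g • ·) ∘ incl` of a direct summand. -/
noncomputable def compress {N₁ N₂ : Submodule R N} (h : IsCompl N₁ N₂) (g : S) : N₁ →ₗ[R] N₁ where
  toFun x := Submodule.projectionOnto N₁ N₂ h (g • (x : N))
  map_add' x y := by
    rw [Submodule.coe_add, smul_add, map_add]
  map_smul' r x := by
    rw [Submodule.coe_smul, smul_comm, map_smul, RingHom.id_apply]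

lemma compress_apply {N₁ N₂ : Submodule R N} (h : IsCompl N₁ N₂) (g : S) (x : N₁) :
    compress h g x = Submodule.projectionOnto N₁ N₂ h (g • (x : N)) := rfl

lemma compress_one_sub_bijective {N₁ N₂ : Submodule R N} (h : IsCompl N₁ N₂)
    [Module.Finite R N₁] {f : S} (hf : f ∈ (maximalIdeal R).map (algebraMap R S)) :
    Function.Bijective (compress h (1 - f)) := by
  have hsurj : Function.Surjective (compress h (1 - f)) := by
    rw [← LinearMap.range_eq_top, eq_top_iff]
    refine Submodule.le_of_le_smul_of_le_jacobson_bot (I := maximalIdeal R)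
      (Module.Finite.fg_top) ?_ ?_
    · rw [IsLocalRing.jacobson_eq_maximalIdeal ⊥ bot_ne_top]
    · intro x _
      have h1 : x = compress h (1 - f) x + compress h f x := by
        rw [compress_apply, compress_apply, ← map_add, ← add_smul, sub_add_cancel, one_smul,
          Submodule.projectionOnto_apply_left]
      rw [h1]
      refine Submodule.add_mem_sup (LinearMap.mem_range_self _ x) ?_
      rw [compress_apply]
      have h2 := smul_mem_smul_top hf (x : N)
      have h3 : (maximalIdeal R • ⊤ : Submodule R N).map (Submodule.projectionOnto N₁ N₂ h)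
          ≤ maximalIdeal R • ⊤ := by
        rw [Submodule.map_smul'']
        exact Submodule.smul_mono le_rfl le_top
      exact h3 (Submodule.mem_map_of_mem h2)
  exact ⟨OrzechProperty.injective_of_surjective_endomorphism _ hsurj, hsurj⟩

lemma eq_zero_of_one_sub_smul_rTensor {N₁ N₂ : Submodule R N} (h : IsCompl N₁ N₂)
    [Module.Finite R N₁] {f : S} (hf : f ∈ (maximalIdeal R).map (algebraMap R S))
    (z₁ : N₁ ⊗[R] M) (hz : (1 - f) • (LinearMap.rTensor M N₁.subtype z₁) = 0) : z₁ = 0 := by
  let e : N₁ ≃ₗ[R] N₁ := LinearEquiv.ofBijective _ (compress_one_sub_bijective h hf)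
  have key : ∀ w : N₁ ⊗[R] M, LinearMap.rTensor M (Submodule.projectionOnto N₁ N₂ h)
      ((1 - f) • (LinearMap.rTensor M N₁.subtype w)) = LinearEquiv.rTensor M e w := by
    intro w
    induction w using TensorProduct.induction_on with
    | zero => simp
    | tmul n m => rfl
    | add a b ha hb => rw [map_add, smul_add, map_add, ha, hb, map_add]
  have := key z₁
  rw [hz, map_zero] at this
  exact (LinearEquiv.map_eq_zero_iff _).1 this.symm

end core

theorem assoc_sup_maximal_ne_top_of_directSum_finite {R S : Type u} [CommRing R] [IsLocalRing R]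
    [CommRing S] [Algebra R S]
    (N : Type u) [AddCommGroup N] [Module S N] [Module R N] [IsScalarTower R S N]
    (ι : Type u) [DecidableEq ι] (F : ι → Submodule R N) (hF : DirectSum.IsInternal F)
    (hfin : ∀ i, Module.Finite R (F i))
    (M : Type u) [AddCommGroup M] [Module R M]
    (q : Ideal S) [q.IsPrime] (hq : q ∈ FlatCA.ass S (N ⊗[R] M)) :
    q ⊔ (maximalIdeal R).map (algebraMap R S) ≠ ⊤ := by
  classical
  intro htop
  have h1 : (1 : S) ∈ q ⊔ (maximalIdeal R).map (algebraMap R S) := by rw [htop]; trivial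
  obtain ⟨s, hs, f, hf, hsf⟩ := Submodule.mem_sup.1 h1
  have hs' : s = 1 - f := by rw [← hsf]; ring
  refine AdicAss.not_mem_ass_of_injective_smul hq hs (fun z hz => ?_)
  rw [hs'] at hz
  obtain ⟨t, z₁, rfl⟩ := exists_finset_mem_range F M hF.submodule_iSup_eq_top z
  have hdisj : Disjoint (⨆ i ∈ t, F i) (⨆ i ∈ ((↑t : Set ι)ᶜ), F i) :=
    hF.submodule_iSupIndep.disjoint_biSup_biSup' (s := (↑t : Set ι)) (t := (↑t : Set ι)ᶜ)
      disjoint_compl_right t.finite_toSet
  have hcodisj : Codisjoint (⨆ i ∈ t, F i) (⨆ i ∈ ((↑t : Set ι)ᶜ), F i) := by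
    rw [codisjoint_iff]
    have := iSup_split F (· ∈ t)
    rw [hF.submodule_iSup_eq_top] at this
    exact this.symm
  have hfinite : Module.Finite R (⨆ i ∈ t, F i : Submodule R N) := by
    rw [Module.Finite.iff_fg]
    exact Submodule.fg_biSup t F (fun i _ => Module.Finite.iff_fg.1 (hfin i))
  rw [eq_zero_of_one_sub_smul_rTensor M ⟨hdisj, hcodisj⟩ hf z₁ hz, map_zero]

end Groth.Agent.H6.DirectSumAss
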