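import Mathlib
import Groth.Agent.H1.Descent
import Groth.Agent.H6.SubtrLC

/-!
# Quasi-compact universally bicontinuous morphisms descend along fpqc morphisms
-/

set_option autoImplicit false
universe u

namespace Groth.Agent.H6.EmbDescent

open AlgebraicGeometry CategoryTheory CategoryTheory.Limits MorphismProperty Groth.Agent.H17

variable {A B : Scheme.{u}}

/-- A quasi-compact morphism which is injective and reflects specializations is a topological
embedding. -/
theorem isEmbedding_of_reflects (h : A ⟶ B) [QuasiCompact h] (hinj : Function.Injective h)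
    (hrefl : ∀ a₁ a₀ : A, h a₁ ⤳ h a₀ → a₁ ⤳ a₀) : Topology.IsEmbedding h := by
  refine ⟨⟨le_antisymm (continuous_iff_le_induced.mp h.continuous) ?_⟩, hinj⟩
  intro U hU
  rw [isOpen_induced_iff]
  have hZ : IsClosed (Uᶜ) := hU.isClosed_compl
  refine ⟨(closure (h '' Uᶜ))ᶜ, isClosed_closure.isOpen_compl, ?_⟩
  ext a
  simp only [Set.mem_preimage, Set.mem_compl_iff]
  constructor
  · intro ha
    by_contra haU
    exact ha (subset_closure ⟨a, haU, rfl⟩)
  · intro haU hcl
    have hpro : ProCons.IsProConstructible (h '' Uᶜ) :=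
      Groth.Agent.S3398.result h _ (isProConstructible_of_isClosed hZ)
    obtain ⟨_, ⟨z, hz, rfl⟩, hsp⟩ :=
      Groth.Agent.H73.SubtrProCons.exists_specializes_of_mem_closure hpro hcl
    exact (hrefl z a hsp).mem_closed hZ hz haU

/-- Descent of injectivity and reflection of specializations along a flat surjective base change
whose pulled-back morphism is a topological embedding. -/
theorem injective_and_reflects_of_isPullback {X' T X'' T' : Scheme.{u}} {f' : X' ⟶ T}
    {p₂ : T' ⟶ T} {q₁ : X'' ⟶ X'} {q₂ : X'' ⟶ T'} (sq : IsPullback q₂ q₁ p₂ f')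
    [Flat p₂] [Surjective p₂] (hq : Topology.IsEmbedding q₂) :
    Function.Injective f' ∧ ∀ a₁ a₀ : X', f' a₁ ⤳ f' a₀ → a₁ ⤳ a₀ := by
  have hpt : ∀ (x : X') (τ : T'), f' x = p₂ τ → ∃ ξ : X'', q₁ ξ = x ∧ q₂ ξ = τ := by
    intro x τ hxτ
    obtain ⟨z, hz1, hz2⟩ := Scheme.Pullback.exists_preimage_pullback (f := f') (g := p₂) x τ hxτ
    refine ⟨sq.flip.isoPullback.inv z, ?_, ?_⟩
    · rw [← hz1, ← Scheme.Hom.comp_apply, sq.flip.isoPullback_inv_fst]
    · rw [← hz2, ← Scheme.Hom.comp_apply, sq.flip.isoPullback_inv_snd]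
  constructor
  · intro x x' hxx'
    obtain ⟨τ, hτ⟩ := p₂.surjective (f' x)
    obtain ⟨ξ, hξ1, hξ2⟩ := hpt x τ hτ.symm
    obtain ⟨ξ', hξ'1, hξ'2⟩ := hpt x' τ (hxx' ▸ hτ.symm)
    have : ξ = ξ' := hq.injective (hξ2.trans hξ'2.symm)
    rw [← hξ1, ← hξ'1, this]
  · intro a₁ a₀ hsp
    obtain ⟨τ₀, hτ₀⟩ := p₂.surjective (f' a₀)
    have hgen : GeneralizingMap p₂ := Flat.generalizingMap p₂
    obtain ⟨τ₁, hτ₁₀, hτ₁⟩ := hgen (hτ₀ ▸ hsp : f' a₁ ⤳ p₂ τ₀)
    obtain ⟨ξ₀, hξ₀1, hξ₀2⟩ := hpt a₀ τ₀ hτ₀.symm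
    obtain ⟨ξ₁, hξ₁1, hξ₁2⟩ := hpt a₁ τ₁ hτ₁.symm
    have h1 : q₂ ξ₁ ⤳ q₂ ξ₀ := by rw [hξ₁2, hξ₀2]; exact hτ₁₀
    have h2 : ξ₁ ⤳ ξ₀ := hq.isInducing.specializes_iff.mp h1
    have h3 := h2.map q₁.continuous
    rwa [hξ₁1, hξ₀1] at h3

theorem descends :
    MorphismProperty.DescendsAlong
      (MorphismProperty.universally (topologically (fun f => Topology.IsEmbedding f)) ⊓
        @QuasiCompact : MorphismProperty Scheme.{u})
      (@Surjective ⊓ @Flat ⊓ @QuasiCompact : MorphismProperty Scheme.{u}) := by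
  apply MorphismProperty.DescendsAlong.mk'
  intro Z' Y Z c g _ hc hg'
  have hflat : Flat c := hc.1.2
  have hsurj : Surjective c := hc.1.1
  have hqc : QuasiCompact g := by
    have := Groth.Agent.H1.quasiCompact_descendsAlong_fpqc.{u}
    exact of_pullback_fst_of_descendsAlong (P := @QuasiCompact)
      (Q := (@Surjective ⊓ @Flat ⊓ @QuasiCompact : MorphismProperty Scheme.{u})) (f := c) hc hg'.2
  refine ⟨?_, hqc⟩
  intro X' T i₁ t f' h
  -- `f'` is the base change of `g` along `t`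
  have hqc' : QuasiCompact f' := MorphismProperty.of_isPullback (P := @QuasiCompact) h.flip hqc
  let p₁ := pullback.fst c t
  let p₂ := pullback.snd c t
  let q₁ := pullback.fst f' p₂
  let q₂ := pullback.snd f' p₂
  have s2 : IsPullback q₂ q₁ p₂ f' := (IsPullback.of_hasPullback f' p₂).flip
  have big : IsPullback q₂ (q₁ ≫ i₁) (p₂ ≫ t) g := s2.paste_vert h
  have hcond : p₁ ≫ c = p₂ ≫ t := pullback.condition
  let u : pullback f' p₂ ⟶ pullback c g := pullback.lift (q₂ ≫ p₁) (q₁ ≫ i₁) (by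
    rw [Category.assoc, hcond, Category.assoc]
    exact big.w)
  have hu1 : u ≫ pullback.fst c g = q₂ ≫ p₁ := pullback.lift_fst _ _ _
  have hu2 : u ≫ pullback.snd c g = q₁ ≫ i₁ := pullback.lift_snd _ _ _
  have left : IsPullback q₂ u p₁ (pullback.fst c g) := by
    refine IsPullback.of_bot ?_ hu1.symm (IsPullback.of_hasPullback c g)
    rw [hu2, hcond]
    exact big
  have hq₂ : Topology.IsEmbedding q₂ := hg'.1 u p₁ q₂ left
  obtain ⟨hinj, hrefl⟩ := injective_and_reflects_of_isPullback s2 hq₂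
  exact isEmbedding_of_reflects f' hinj hrefl

end Groth.Agent.H6.EmbDescent
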