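import Groth.Agent.H6.AffineComplCartier
import Groth.Agent.H6.CartierIdealDiv
import Groth.Agent.H89.DenseAffine
import Groth.Prelude.Def_MoreMor

/-!
# Locally factorial Noetherian schemes with affine diagonal are divisorial (helper6)
-/

set_option autoImplicit false
set_option linter.style.haveILetI false
universe u

namespace Groth.Agent.H6.FactAmple

open AlgebraicGeometry CategoryTheory Opposite TopologicalSpace

/-- a Noetherian scheme with factorial local rings in which intersections of affine opens are
affine has an ample family of invertible modules -/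
theorem hasAmpleFamily_of_factorial (X : Scheme.{u}) [IsNoetherian X]
    (hfact : ∀ x : X, ∃ _ : IsDomain (X.presheaf.stalk x),
      UniqueFactorizationMonoid (X.presheaf.stalk x))
    (hdiag : ∀ U V : X.Opens, IsAffineOpen U → IsAffineOpen V → IsAffineOpen (U ⊓ V)) :
    MoreMor.HasAmpleFamily X := by
  refine ⟨inferInstance, fun x => ?_⟩
  obtain ⟨U, hU, hxU, hdense⟩ := Groth.Agent.H89.DenseAffine.exists_dense_affine X x
  let Z : Closeds X := ⟨(U : Set X)ᶜ, U.2.isClosed_compl⟩
  have hK := Groth.Agent.H6.AffCompl.isEffCartierIdeal_vanishingIdeal hfact hdiag U hU hdense Z rfl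
  obtain ⟨L, a, hL, hgl⟩ := Groth.Agent.H6.CartIdeal.exists_invertible_section _ hK
  have hsupp : ∀ y : X, y ∈ (Scheme.IdealSheafData.vanishingIdeal Z).support ↔ y ∉ U := by
    intro y
    rw [← SetLike.mem_coe, Scheme.IdealSheafData.coe_support_vanishingIdeal]
    rfl
  have hglU : CohB1.genLocus L a = U := by
    ext y
    rw [SetLike.mem_coe, hgl y, hsupp, not_not]
    rfl
  have hpow := Groth.Agent.H18.STL.genLocus_powHom hL a (n := 1) one_pos
  refine ⟨L, 1, SecTwist.powHom a 1, hL, le_rfl, ?_, ?_⟩
  · rw [hpow, hglU]
    exact hxU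
  · rw [hpow, hglU]
    exact hU

end Groth.Agent.H6.FactAmple
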