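import Groth.Agent.H6.HartogsMod

/-!
# Relative Hartogs for coherent modules (helper6)

`bijective_res_mod_rel`: `Γ(V, F) → Γ(V ∩ U, F)` is bijective as soon as `depth F_x ≥ 2` at the
points of `V` outside `U` (no hypothesis at points outside `V`).
-/

set_option autoImplicit false
set_option linter.style.haveILetI false
universe u

namespace Groth.Agent.H6.HartogsMod

open AlgebraicGeometry CategoryTheory Opposite TopologicalSpace
open Groth.Agent.H6.PuncturedSections Groth.Agent.H6.PuncturedDT Groth.Agent.H58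
open Groth.Agent.H6.PuncturedDepth

/-- Hartogs for a coherent module over an affine open, with the depth hypothesis only at the
points of that affine open. -/
theorem bijective_res_affine_mod_rel (X : Scheme.{u}) [IsLocallyNoetherian X] (F : X.Modules)
    [F.IsQuasicoherent] [SheafOfModules.IsFiniteType (R := X.ringCatSheaf) F] (U : X.Opens)
    (W : X.Opens) (hW : IsAffineOpen W)
    (hU : ∀ x : ↥X, x ∈ W → x ∉ U →
      (2 : ℕ∞) ≤ LocCoh.depth (X.presheaf.stalk x) (F.presheaf.stalk x))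
    (W' : X.Opens) (hW' : W' = W ⊓ U) (hle : W' ≤ W) :
    Function.Bijective (F.presheaf.map (homOfLE hle).op) := by
  haveI hN : IsNoetherianRing Γ(X, W) := IsLocallyNoetherian.component_noetherian ⟨W, hW⟩
  haveI : Module.Finite Γ(X, W) Γ(F, W) := Groth.Agent.H44.finite_sections_of_isFiniteType F hW
  let G := F.restrict hW.fromSpec
  let U' : (Spec Γ(X, W)).Opens := hW.fromSpec ⁻¹ᵁ U
  haveI : Module.Finite Γ(X, W) Γ(G, ⊤) :=
    Module.Finite.of_surjective (eN F hW).symm.toLinearMap (eN F hW).symm.surjective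
  have hd : ∀ p : PrimeSpectrum Γ(X, W), (p : (Spec Γ(X, W) : Type u)) ∉ U' →
      (2 : ℕ∞) ≤ LocCoh.depth (Localization.AtPrime p.asIdeal)
        (LocalizedModule p.asIdeal.primeCompl Γ(G, ⊤)) := by
    intro p hp
    rw [← depth_stalk_fromSpec_eq X F W hW p Γ(G, ⊤) (eN F hW)]
    exact hU _ (Hartogs.fromSpec_mem X W hW p) hp
  have hb1 : Function.Bijective (toO (R := Γ(X, W)) Γ(G, ⊤) U') :=
    toO_bijective_of_depth (R := Γ(X, W)) Γ(G, ⊤) U' hd
  have hb2 : Function.Bijective (G.presheaf.map (homOfLE (le_top : U' ≤ ⊤)).op) :=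
    bijective_res_of_bijective_toO G U' hb1
  have hb3 : Function.Bijective
      (F.presheaf.map (hW.fromSpec.opensFunctor.map (homOfLE (le_top : U' ≤ ⊤))).op) := hb2
  refine bijective_of_eq F _ _ ?_ (image_top_eq hW) hb3
  show hW.fromSpec ''ᵁ (hW.fromSpec ⁻¹ᵁ U) = W'
  rw [Scheme.Hom.image_preimage_eq_opensRange_inf, hW.opensRange_fromSpec, hW']

section Glue
variable (X : Scheme.{u}) (F : X.Modules) (U V₀ : X.Opens)
  (haff : ∀ (W : X.Opens), IsAffineOpen W → W ≤ V₀ →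
    Function.Bijective (rF X F (inf_le_left : W ⊓ U ≤ W)))

include haff in
theorem rF_injective_rel (V : X.Opens) (hV : V ≤ V₀) :
    Function.Injective (rF X F (inf_le_left : V ⊓ U ≤ V)) := by
  intro s t hst
  apply rF_ext X F V
  rintro ⟨W, hW, hWV⟩
  apply (haff W hW (hWV.trans hV)).1
  rw [rF_rF, rF_rF]
  have h1 : W ⊓ U ≤ V ⊓ U := inf_le_inf_right U hWV
  rw [← rF_rF X F h1 inf_le_left s, ← rF_rF X F h1 inf_le_left t, hst]

include haff in
theorem rF_surjective_rel (V : X.Opens) (hV : V ≤ V₀) :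
    Function.Surjective (rF X F (inf_le_left : V ⊓ U ≤ V)) := by
  intro t
  have hex : ∀ W : {W : X.Opens // IsAffineOpen W ∧ W ≤ V}, ∃ s : Γ(F, W.1),
      rF X F (inf_le_left : W.1 ⊓ U ≤ W.1) s =
        rF X F (inf_le_inf_right U W.2.2 : W.1 ⊓ U ≤ V ⊓ U) t :=
    fun W => (haff W.1 W.2.1 (W.2.2.trans hV)).2 _
  choose sf hsf using hex
  have hc : TopCat.Presheaf.IsCompatible (shAb X F).1
      (fun W : {W : X.Opens // IsAffineOpen W ∧ W ≤ V} => (W : X.Opens)) sf := by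
    intro W₁ W₂
    show rF X F (inf_le_left : W₁.1 ⊓ W₂.1 ≤ W₁.1) (sf W₁) =
      rF X F (inf_le_right : W₁.1 ⊓ W₂.1 ≤ W₂.1) (sf W₂)
    apply rF_injective_rel X F U V₀ haff (W₁.1 ⊓ W₂.1) (inf_le_left.trans (W₁.2.2.trans hV))
    rw [rF_rF, rF_rF]
    have e1 : W₁.1 ⊓ W₂.1 ⊓ U ≤ W₁.1 ⊓ U := inf_le_inf_right U inf_le_left
    have e2 : W₁.1 ⊓ W₂.1 ⊓ U ≤ W₂.1 ⊓ U := inf_le_inf_right U inf_le_right
    rw [← rF_rF X F e1 inf_le_left (sf W₁), ← rF_rF X F e2 inf_le_left (sf W₂), hsf, hsf,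
      rF_rF, rF_rF]
  obtain ⟨s, hs, -⟩ := (shAb X F).existsUnique_gluing'
    (fun W : {W : X.Opens // IsAffineOpen W ∧ W ≤ V} => (W : X.Opens)) V
    (fun W => homOfLE W.2.2) (Hartogs.le_iSup_affine X V) sf hc
  refine ⟨s, ?_⟩
  refine (shAb X F).eq_of_locally_eq'
    (fun W : {W : X.Opens // IsAffineOpen W ∧ W ≤ V} => (W : X.Opens) ⊓ U) (V ⊓ U)
    (fun W => homOfLE (inf_le_inf_right U W.2.2)) ?_ _ _ ?_
  · rintro x ⟨hxV, hxU⟩
    obtain ⟨W, hxW⟩ := Opens.mem_iSup.mp (Hartogs.le_iSup_affine X V hxV)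
    exact Opens.mem_iSup.mpr ⟨W, hxW, hxU⟩
  · intro W
    show rF X F (inf_le_inf_right U W.2.2) (rF X F inf_le_left s) =
      rF X F (inf_le_inf_right U W.2.2) t
    rw [← hsf W, rF_rF, ← hs W]
    show _ = rF X F inf_le_left (rF X F W.2.2 s)
    rw [rF_rF]

end Glue

/-- Relative Hartogs for coherent modules on locally Noetherian schemes: if `depth F_x ≥ 2` at all
points of `V` outside `U`, restriction `Γ(V, F) → Γ(V ∩ U, F)` is bijective. -/
theorem bijective_res_mod_rel (X : Scheme.{u}) [IsLocallyNoetherian X] (F : X.Modules)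
    (hF : Coh.IsCoh F) (U V : X.Opens)
    (hU : ∀ x : ↥X, x ∈ V → x ∉ U →
      (2 : ℕ∞) ≤ LocCoh.depth (X.presheaf.stalk x) (F.presheaf.stalk x))
    (V' : X.Opens) (hV' : V' = V ⊓ U) (hle : V' ≤ V) :
    Function.Bijective (F.presheaf.map (homOfLE hle).op) := by
  subst hV'
  haveI : F.IsQuasicoherent := hF.1
  haveI : SheafOfModules.IsFiniteType (R := X.ringCatSheaf) F := hF.2
  have haff : ∀ (W : X.Opens), IsAffineOpen W → W ≤ V →
      Function.Bijective (rF X F (inf_le_left : W ⊓ U ≤ W)) :=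
    fun W hW hWV => bijective_res_affine_mod_rel X F U W hW
      (fun x hx hxU => hU x (hWV hx) hxU) (W ⊓ U) rfl inf_le_left
  exact ⟨rF_injective_rel X F U V haff V le_rfl, rF_surjective_rel X F U V haff V le_rfl⟩

end Groth.Agent.H6.HartogsMod
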