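import Groth.Agent.H6.RefGenericExt
import Groth.Agent.H6.HartogsModRel

/-!
# Extending generic data to sections of reflexive modules over an open (helper6)
-/

set_option autoImplicit false
set_option linter.style.haveILetI false
universe u

namespace Groth.Agent.H6.RefGenericExt

open AlgebraicGeometry CategoryTheory Opposite TopologicalSpace IsLocalRing
open Groth.Agent.H6.HomSh

variable (X : Scheme.{u}) [IsIntegral X] [IsLocallyNoetherian X]

/-- On a normal integral locally Noetherian scheme, an element of the generic stalk of a coherent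
reflexive module lying in the stalks at all points of codimension one of an open `V` is the germ
of a section over `V`. -/
theorem exists_section_of_generic_on (hX : Pi1.IsNormalScheme X) (E : X.Modules)
    (hE : Coh.IsCoh E)
    (hrefl : ∀ x : X, Module.IsReflexive (X.presheaf.stalk x) (E.presheaf.stalk x))
    (V : X.Opens) (hηV : genericPoint X ∈ V)
    (e : E.presheaf.stalk (genericPoint X))
    (h : ∀ x : X, x ∈ V → ringKrullDim (X.presheaf.stalk x) = 1 →
      e ∈ Set.range (E.presheaf.stalkSpecializes (genericPoint_specializes x)).hom) :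
    ∃ s : Γ(E, V), E.presheaf.germ V (genericPoint X) hηV s = e := by
  haveI : E.IsQuasicoherent := hE.1
  have htf : ∀ x : X, Module.IsTorsionFree (X.presheaf.stalk x) (E.presheaf.stalk x) := by
    intro x
    haveI := hrefl x
    infer_instance
  have hP : ∀ p : {x : X // x ∈ V ∧ e ∈ Set.range
      (E.presheaf.stalkSpecializes (genericPoint_specializes x)).hom},
      ∃ (W : X.Opens) (hx : p.1 ∈ W) (_ : W ≤ V) (t : Γ(E, W)),
        E.presheaf.germ W (genericPoint X) ((genericPoint_specializes p.1).mem_open W.2 hx) t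
          = e := by
    rintro ⟨x, hxV, d, hd⟩
    obtain ⟨W, hW, t, rfl⟩ := TopCat.Presheaf.exists_germ_eq E.presheaf d
    refine ⟨W ⊓ V, ⟨hW, hxV⟩, inf_le_right, E.presheaf.map (homOfLE inf_le_left).op t, ?_⟩
    rw [TopCat.Presheaf.germ_stalkSpecializes_apply] at hd
    rw [TopCat.Presheaf.germ_res_apply]
    exact hd
  choose W hxW hWV t ht using hP
  have hηW : ∀ p, genericPoint X ∈ W p :=
    fun p => (genericPoint_specializes p.1).mem_open (W p).2 (hxW p)
  have hc : TopCat.Presheaf.IsCompatible (shAb E).1 W t := by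
    intro p q
    have hη : genericPoint X ∈ W p ⊓ W q := ⟨hηW p, hηW q⟩
    rw [← sub_eq_zero]
    apply RefOneCodim.eq_zero_of_germ_genericPoint_eq_zero E htf hη
    rw [map_sub, TopCat.Presheaf.germ_res_apply, TopCat.Presheaf.germ_res_apply, ht, ht, sub_self]
  obtain ⟨s, hs, -⟩ := (shAb E).existsUnique_gluing' W (iSup W) (fun p => Opens.leSupr W p)
    le_rfl t hc
  have hWV' : iSup W ≤ V := iSup_le hWV
  -- the generic point is one of the points
  have hη0 : e ∈ Set.range
      (E.presheaf.stalkSpecializes (genericPoint_specializes (genericPoint X))).hom := by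
    refine ⟨e, ?_⟩
    rw [TopCat.Presheaf.stalkSpecializes_refl]
    rfl
  have hdepth : ∀ x : X, x ∈ V → x ∉ iSup W →
      (2 : ℕ∞) ≤ LocCoh.depth (X.presheaf.stalk x) (E.presheaf.stalk x) := by
    intro x hxV hx
    have hxP : e ∉ Set.range (E.presheaf.stalkSpecializes (genericPoint_specializes x)).hom := by
      intro hmem
      exact hx (Opens.mem_iSup.mpr ⟨⟨x, hxV, hmem⟩, hxW ⟨x, hxV, hmem⟩⟩)
    have h1 : ringKrullDim (X.presheaf.stalk x) ≠ 1 := fun h1 => hxP (h x hxV h1)
    have h0 : ringKrullDim (X.presheaf.stalk x) ≠ 0 := by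
      intro h0
      have := RefOneCodim.eq_genericPoint_of_ringKrullDim_eq_zero x h0
      subst this
      exact hxP hη0
    haveI := (hX x).1
    haveI := (hX x).2
    haveI : Module.Finite (X.presheaf.stalk x) (E.presheaf.stalk x) :=
      finite_stalk_of_isCoh E hE x
    haveI := hrefl x
    exact NormalDepth.two_le_depth_of_isReflexive_of_normal _
      (two_le_ringKrullDim_of_ne _ h0 h1) _
  have hb := HartogsMod.bijective_res_mod_rel X E hE (iSup W) V hdepth (iSup W)
    (by rw [inf_eq_right.mpr hWV']) hWV'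
  obtain ⟨s', hs'⟩ := hb.2 s
  refine ⟨s', ?_⟩
  have hηU : genericPoint X ∈ iSup W :=
    Opens.mem_iSup.mpr ⟨⟨genericPoint X, hηV, hη0⟩, hηW ⟨genericPoint X, hηV, hη0⟩⟩
  rw [← TopCat.Presheaf.germ_res_apply E.presheaf (homOfLE hWV')
    (genericPoint X) hηU s', hs']
  rw [← TopCat.Presheaf.germ_res_apply E.presheaf (Opens.leSupr W ⟨genericPoint X, hηV, hη0⟩)
    (genericPoint X) (hηW ⟨genericPoint X, hηV, hη0⟩) s]
  have := hs ⟨genericPoint X, hηV, hη0⟩
  rw [this]
  exact ht ⟨genericPoint X, hηV, hη0⟩

end Groth.Agent.H6.RefGenericExt
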