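import Groth.Agent.H5.Stalk.Adjunction
import Groth.Prelude.Def_RefHull

/-!
# Colimits of sequences of modules on a scheme, checked on stalks (helper6)
-/

set_option autoImplicit false
set_option linter.style.haveILetI false
universe u

namespace Groth.Agent.H6.SeqColim

open AlgebraicGeometry CategoryTheory CategoryTheory.Limits Opposite TopologicalSpace
open Groth.Agent.H5.Stalk

variable {X : Scheme.{u}}

theorem stalkFunctor_map_hom_apply (x : X) {A B : X.Modules} (φ : A ⟶ B)
    (m : A.presheaf.stalk x) :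
    ((stalkFunctor x).map φ).hom m = RefHull.stalkMapₗ φ x m := rfl

theorem stalkMapₗ_comp_apply (x : X) {A B C : X.Modules} (φ : A ⟶ B) (ψ : B ⟶ C)
    (m : A.presheaf.stalk x) :
    RefHull.stalkMapₗ (φ ≫ ψ) x m = RefHull.stalkMapₗ ψ x (RefHull.stalkMapₗ φ x m) := by
  rw [← stalkFunctor_map_hom_apply, ← stalkFunctor_map_hom_apply, ← stalkFunctor_map_hom_apply,
    CategoryTheory.Functor.map_comp]
  rfl

/-- a morphism of modules that is bijective on all stalks is an isomorphism -/
theorem isIso_of_bijective_stalkMapₗ {A B : X.Modules} (φ : A ⟶ B)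
    (h : ∀ x : X, Function.Bijective (RefHull.stalkMapₗ φ x)) : IsIso φ := by
  rw [Scheme.Modules.Hom.isIso_iff_isIso_app]
  intro V
  rw [ConcreteCategory.isIso_iff_bijective]
  let A' : TopCat.Sheaf Ab X := ⟨A.presheaf, A.isSheaf⟩
  let B' : TopCat.Sheaf Ab X := ⟨B.presheaf, B.isSheaf⟩
  let f : A' ⟶ B' := ⟨φ.mapPresheaf⟩
  exact TopCat.Presheaf.app_bijective_of_stalkFunctor_map_bijective f V (fun x _ => h x)

/-- the legs of a colimit cocone of a sequence of modules over a ring are jointly surjective -/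
theorem exists_rep_of_isColimit {R : Type u} [Ring R] {G : ℕ ⥤ ModuleCat.{u} R} (c : Cocone G)
    (hc : IsColimit c) (z : c.pt) : ∃ (n : ℕ) (m : G.obj n), (c.ι.app n).hom m = z := by
  let rg : ℕ → Submodule R c.pt := fun n =>
    LinearMap.range ((c.ι.app n).hom : G.obj n →ₗ[R] c.pt)
  let N : Submodule R c.pt := ⨆ n, rg n
  have hN : N = ⊤ := by
    let q : c.pt ⟶ ModuleCat.of R (c.pt ⧸ N) := ModuleCat.ofHom N.mkQ
    have hq : q = 0 := by
      apply hc.hom_ext
      intro n
      rw [comp_zero]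
      ext m
      change N.mkQ ((c.ι.app n).hom m) = 0
      rw [Submodule.mkQ_apply, Submodule.Quotient.mk_eq_zero]
      exact Submodule.mem_iSup_of_mem (p := rg) n ⟨m, rfl⟩
    rw [← Submodule.ker_mkQ N]
    have h1 : N.mkQ = 0 := by
      have := congrArg ModuleCat.Hom.hom hq
      exact this
    rw [h1, LinearMap.ker_zero]
  have hz : z ∈ N := by
    rw [hN]
    trivial
  have hdir : Directed (· ≤ ·) rg := by
    apply Monotone.directed_le
    apply monotone_nat_of_le_succ
    rintro n _ ⟨m, rfl⟩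
    refine ⟨(G.map (homOfLE (Nat.le_succ n))).hom m, ?_⟩
    have := c.w (homOfLE (Nat.le_succ n))
    exact congrArg (fun f => f.hom m) this
  obtain ⟨n, m, hm⟩ := (Submodule.mem_iSup_of_directed _ hdir).mp hz
  exact ⟨n, m, hm⟩

/-- A cocone of a sequence of modules on a scheme is a colimit cocone as soon as it is so on
stalks. -/
theorem isColimit_of_stalks {G : ℕ ⥤ X.Modules} (c : Cocone G)
    (hinj : ∀ (x : X) (n : ℕ) (m : (G.obj n).presheaf.stalk x),
      RefHull.stalkMapₗ (c.ι.app n) x m = 0 →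
        ∃ (k : ℕ) (hk : n ≤ k), RefHull.stalkMapₗ (G.map (homOfLE hk)) x m = 0)
    (hsurj : ∀ (x : X) (p : c.pt.presheaf.stalk x),
      ∃ (n : ℕ) (m : (G.obj n).presheaf.stalk x), RefHull.stalkMapₗ (c.ι.app n) x m = p) :
    Nonempty (IsColimit c) := by
  suffices h : IsIso (colimit.desc G c) by
    haveI : IsIso ((colimit.isColimit G).desc c) := h
    exact ⟨IsColimit.ofPointIso (colimit.isColimit G)⟩
  apply isIso_of_bijective_stalkMapₗ
  intro x
  haveI : PreservesColimitsOfSize.{0, 0} (stalkFunctor x) :=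
    (stalkSkyAdjunction x).leftAdjoint_preservesColimits
  have hcx : IsColimit ((stalkFunctor x).mapCocone (colimit.cocone G)) :=
    isColimitOfPreserves (stalkFunctor x) (colimit.isColimit G)
  have hfac : ∀ (n : ℕ) (m : (G.obj n).presheaf.stalk x),
      RefHull.stalkMapₗ (colimit.desc G c) x (RefHull.stalkMapₗ (colimit.ι G n) x m) =
        RefHull.stalkMapₗ (c.ι.app n) x m := by
    intro n m
    rw [← stalkMapₗ_comp_apply, colimit.ι_desc]
  constructor
  · rw [injective_iff_map_eq_zero]
    intro z hz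
    obtain ⟨n, m, hm⟩ := exists_rep_of_isColimit _ hcx z
    have hm' : RefHull.stalkMapₗ (colimit.ι G n) x m = z := hm
    rw [← hm', hfac] at hz
    obtain ⟨k, hk, hk0⟩ := hinj x n m hz
    rw [← hm', ← colimit.w G (homOfLE hk), stalkMapₗ_comp_apply, hk0, map_zero]
  · intro p
    obtain ⟨n, m, hm⟩ := hsurj x p
    exact ⟨RefHull.stalkMapₗ (colimit.ι G n) x m, (hfac n m).trans hm⟩

end Groth.Agent.H6.SeqColim
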