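import Groth.Agent.H6.RefPowCocone
import Groth.Agent.H6.SeqColimStalk
import Groth.Agent.H6.RefGenericExtOpen

/-!
# `j_* O_U` is the colimit of the reflexive powers of a rank one reflexive module (helper6)
-/

set_option autoImplicit false
set_option linter.style.haveILetI false
universe u

namespace Groth.Agent.H6.RefPowS

open AlgebraicGeometry CategoryTheory CategoryTheory.Limits Opposite TopologicalSpace
open Groth.Agent.H79.StructStalk (structStalkEquiv oneSec)

variable {X : Scheme.{u}} [IsLocallyNoetherian X] {F : X.Modules}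

theorem isReflexive_stalk_refPow [IsIntegral X] (hF : Coh.IsCoh F)
    (hrefl : ∀ x : X, Module.IsReflexive (X.presheaf.stalk x) (F.presheaf.stalk x)) (n : ℕ)
    (x : X) :
    Module.IsReflexive (X.presheaf.stalk x) ((RefPow.refPow F n).presheaf.stalk x) := by
  match n with
  | 0 => exact Module.equiv (structStalkEquiv X x)
  | 1 => exact hrefl x
  | k + 2 =>
    exact ReflNormal.isReflexive_stalk_ddual X _
      (Ref1.isCoh_tensorMod _ _ (isCoh_refPow hF (k + 1)) hF) x

theorem isTorsionFree_stalk_refPow [IsIntegral X] (hF : Coh.IsCoh F)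
    (hrefl : ∀ x : X, Module.IsReflexive (X.presheaf.stalk x) (F.presheaf.stalk x)) (n : ℕ)
    (x : X) :
    Module.IsTorsionFree (X.presheaf.stalk x) ((RefPow.refPow F n).presheaf.stalk x) := by
  haveI := isReflexive_stalk_refPow hF hrefl n x
  infer_instance

/-- the defining property of the legs on sections -/
theorem leg_spec (hF : Coh.IsCoh F) (s : Coh.structureModule X ⟶ F) (U : X.Opens)
    (hU : (U : Set X) = RefPow.isoLocus s) (n : ℕ) (V : X.Opens)
    (t : Γ(RefPow.refPow F n, V)) :
    (RefPow.sPow s n).app (U.ι ''ᵁ (U.ι ⁻¹ᵁ V)) ((leg hF s U hU n).app V t) =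
      (RefPow.refPow F n).presheaf.map (homOfLE (U.ι.image_preimage_le V)).op t := by
  haveI := isIso_restrict_sPow hF s U hU n
  have h2 : ∀ y : Γ((Scheme.Modules.restrictFunctor U.ι).obj (RefPow.refPow F n), U.ι ⁻¹ᵁ V),
      ((Scheme.Modules.restrictFunctor U.ι).map (RefPow.sPow s n)).app (U.ι ⁻¹ᵁ V)
        ((inv ((Scheme.Modules.restrictFunctor U.ι).map (RefPow.sPow s n))).app (U.ι ⁻¹ᵁ V) y)
          = y := by
    intro y
    have h3 := IsIso.inv_hom_id ((Scheme.Modules.restrictFunctor U.ι).map (RefPow.sPow s n))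
    have h4 := congrArg (fun f => f.app (U.ι ⁻¹ᵁ V) y) h3
    simp only [Scheme.Modules.Hom.comp_app, Scheme.Modules.Hom.id_app] at h4
    exact h4
  exact h2 _

/-- `s^n` is injective on sections over opens inside `U` -/
theorem sPow_app_injective (hF : Coh.IsCoh F) (s : Coh.structureModule X ⟶ F) (U : X.Opens)
    (hU : (U : Set X) = RefPow.isoLocus s) (n : ℕ) (V : X.Opens) :
    Function.Injective ((RefPow.sPow s n).app (U.ι ''ᵁ (U.ι ⁻¹ᵁ V))) := by
  haveI := isIso_restrict_sPow hF s U hU n
  have h2 : ∀ y : Γ((Scheme.Modules.restrictFunctor U.ι).obj (Coh.structureModule X), U.ι ⁻¹ᵁ V),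
      (inv ((Scheme.Modules.restrictFunctor U.ι).map (RefPow.sPow s n))).app (U.ι ⁻¹ᵁ V)
        (((Scheme.Modules.restrictFunctor U.ι).map (RefPow.sPow s n)).app (U.ι ⁻¹ᵁ V) y)
          = y := by
    intro y
    have h3 := IsIso.hom_inv_id ((Scheme.Modules.restrictFunctor U.ι).map (RefPow.sPow s n))
    have h4 := congrArg (fun f => f.app (U.ι ⁻¹ᵁ V) y) h3
    simp only [Scheme.Modules.Hom.comp_app, Scheme.Modules.Hom.id_app] at h4
    exact h4
  intro y y' hyy'
  have h5 := h2 y
  have h6 := h2 y'
  have h7 : ((Scheme.Modules.restrictFunctor U.ι).map (RefPow.sPow s n)).app (U.ι ⁻¹ᵁ V) y =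
      ((Scheme.Modules.restrictFunctor U.ι).map (RefPow.sPow s n)).app (U.ι ⁻¹ᵁ V) y' := hyy'
  rw [h7] at h5
  exact h5.symm.trans h6

omit [IsLocallyNoetherian X] in
theorem mem_image_preimage {U V : X.Opens} {x : X} (hxU : x ∈ U) (hxV : x ∈ V) :
    x ∈ U.ι ''ᵁ (U.ι ⁻¹ᵁ V) := by
  rw [Scheme.Hom.image_preimage_eq_opensRange_inf, Scheme.Opens.opensRange_ι]
  exact ⟨hxU, hxV⟩

omit [IsLocallyNoetherian X] in
theorem app_naturality {A B : X.Modules} (φ : A ⟶ B) {V W : X.Opens} (i : W ⟶ V) (t : Γ(A, V)) :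
    B.presheaf.map i.op (φ.app V t) = φ.app W (A.presheaf.map i.op t) := by
  have := φ.mapPresheaf.naturality i.op
  exact congr($(this) t).symm

/-- the legs are injective on stalks when `U` is nonempty -/
theorem leg_stalk_injective [IsIntegral X] (hF : Coh.IsCoh F)
    (hrefl : ∀ x : X, Module.IsReflexive (X.presheaf.stalk x) (F.presheaf.stalk x))
    (s : Coh.structureModule X ⟶ F) (U : X.Opens)
    (hU : (U : Set X) = RefPow.isoLocus s) (hηU : genericPoint X ∈ U) (n : ℕ) (x : X)
    (m : (RefPow.refPow F n).presheaf.stalk x)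
    (hm : RefHull.stalkMapₗ (leg hF s U hU n) x m = 0) : m = 0 := by
  haveI : (RefPow.refPow F n).IsQuasicoherent := (isCoh_refPow hF n).1
  obtain ⟨V, hxV, t, rfl⟩ := TopCat.Presheaf.exists_germ_eq (RefPow.refPow F n).presheaf m
  rw [RefHull.stalkMapₗ_germ] at hm
  obtain ⟨W, hxW, i₁, i₂, hW⟩ := TopCat.Presheaf.germ_eq (P U).presheaf x hxV hxV
    ((leg hF s U hU n).app V t) 0 (by rw [hm, map_zero])
  have h0 : (leg hF s U hU n).app W ((RefPow.refPow F n).presheaf.map i₁.op t) = 0 := by
    rw [← app_naturality, hW, map_zero]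
  have h0' : (leg hF s U hU n).app W ((RefPow.refPow F n).presheaf.map i₁.op t) =
      (0 : Γ(Coh.structureModule X, U.ι ''ᵁ (U.ι ⁻¹ᵁ W))) := h0
  have h1 : (0 : Γ(RefPow.refPow F n, U.ι ''ᵁ (U.ι ⁻¹ᵁ W))) =
      (RefPow.refPow F n).presheaf.map (homOfLE (U.ι.image_preimage_le W)).op
        ((RefPow.refPow F n).presheaf.map i₁.op t) :=
    ((map_zero _).symm.trans (congrArg (fun y =>
      (RefPow.sPow s n).app (U.ι ''ᵁ (U.ι ⁻¹ᵁ W)) y) h0').symm).trans
        (leg_spec hF s U hU n W _)
  have hηW : genericPoint X ∈ W := WeilSheaf.genericPoint_mem_of_mem hxW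
  have hηWU : genericPoint X ∈ U.ι ''ᵁ (U.ι ⁻¹ᵁ W) := mem_image_preimage hηU hηW
  have h2 : (RefPow.refPow F n).presheaf.germ W (genericPoint X) hηW
      ((RefPow.refPow F n).presheaf.map i₁.op t) = 0 := by
    rw [← TopCat.Presheaf.germ_res_apply (RefPow.refPow F n).presheaf
      (homOfLE (U.ι.image_preimage_le W)) (genericPoint X) hηWU, ← h1, map_zero]
  have h3 := RefOneCodim.eq_zero_of_germ_genericPoint_eq_zero (RefPow.refPow F n)
    (isTorsionFree_stalk_refPow hF hrefl n) hηW _ h2
  rw [← TopCat.Presheaf.germ_res_apply _ i₁ x hxW t, h3, map_zero]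

/-- positivity of the order of a non-unit of a discrete valuation local ring -/
theorem one_le_ord_algebraMap [IsIntegral X] (z : X) (hcz : Order.coheight z = 1)
    [IsDiscreteValuationRing (X.presheaf.stalk z)] (c : X.presheaf.stalk z) (hc : ¬ IsUnit c)
    (hne : algebraMap (X.presheaf.stalk z) X.functionField c ≠ 0) :
    1 ≤ Scheme.ord (algebraMap (X.presheaf.stalk z) X.functionField c) z := by
  have h0 := WeilSheaf.ord_algebraMap_nonneg z c hne
  by_contra hlt
  have h1 : Scheme.ord (algebraMap (X.presheaf.stalk z) X.functionField c) z = 0 := by omega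
  obtain ⟨u, hu⟩ := Groth.Agent.H15.CDivB.mem_stalkUnits_of_ord_eq_zero z hcz (Units.mk0 _ hne) h1
  have h3 : algebraMap (X.presheaf.stalk z) X.functionField (u : X.presheaf.stalk z) =
      algebraMap (X.presheaf.stalk z) X.functionField c := congrArg Units.val hu
  have h4 := Groth.Agent.H15.CDivB.algebraMap_injective z h3
  exact hc (h4 ▸ u.isUnit)

omit [IsLocallyNoetherian X] in
theorem stalkSpecializes_eq_algebraMap [IsIntegral X] (z : X) (c : X.presheaf.stalk z) :
    (X.presheaf.stalkSpecializes (genericPoint_specializes z)).hom c =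
      (algebraMap (X.presheaf.stalk z) X.functionField c : X.functionField) := by
  simp only [RingHom.algebraMap_toAlgebra]

omit [IsLocallyNoetherian X] in
theorem stalkSpecializes_sPowGerm (s : Coh.structureModule X ⟶ F) (n : ℕ) {z y : X} (h : y ⤳ z) :
    ((RefPow.refPow F n).presheaf.stalkSpecializes h).hom (RefPow.sPowGerm s n z) =
      RefPow.sPowGerm s n y := by
  unfold RefPow.sPowGerm
  rw [TopCat.Presheaf.germ_stalkSpecializes_apply]

/-- at a point of codimension one where `s` does not generate, `a s^n` extends for `n` large -/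
theorem mem_range_of_ord [IsIntegral X] (hX : Pi1.IsNormalScheme X) (hF : RefHull.IsRef1 F)
    (s : Coh.structureModule X ⟶ F) (z : X) (hz : Order.coheight z = 1)
    (hzs : ¬ Function.Bijective (RefHull.stalkMapₗ s z)) (n : ℕ)
    (aK : X.presheaf.stalk (genericPoint X))
    (hord : (aK : X.functionField) = 0 ∨ 0 ≤ Scheme.ord (aK : X.functionField) z + n) :
    aK • RefPow.sPowGerm s n (genericPoint X) ∈ Set.range
      ((RefPow.refPow F n).presheaf.stalkSpecializes (genericPoint_specializes z)).hom := by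
  haveI := Ref1.isDVR_of_coheight_one hX z hz
  obtain ⟨u, hu⟩ := Ref1.exists_gen_stalk_of_coheight_one hX F hF z hz
  obtain ⟨c, hc⟩ := hu.2 (F.presheaf.germ ⊤ z trivial (SecTwist.val s ⊤))
  have hc' : F.presheaf.germ ⊤ z trivial (SecTwist.val s ⊤) = c • u := hc.symm
  have hcu : ¬ IsUnit c := by
    intro hcu
    apply hzs
    apply bijective_stalkMapₗ_of_gen
    rw [hc']
    have h1 : (fun a : X.presheaf.stalk z => a • c • u) =
        (fun a : X.presheaf.stalk z => a • u) ∘ (fun a : X.presheaf.stalk z => a * c) := by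
      funext a
      exact (mul_smul a c u).symm
    rw [h1]
    refine hu.comp ?_
    obtain ⟨c', rfl⟩ := hcu
    exact ⟨fun a b hab => by simpa using hab, fun b => ⟨b * ↑c'⁻¹, by simp⟩⟩
  obtain ⟨un, hun, hs⟩ := pow_data hF.1 s z u hu c hc' n
  have hsp : RefPow.sPowGerm s n (genericPoint X) =
      ((X.presheaf.stalkSpecializes (genericPoint_specializes z)).hom c) ^ n •
        ((RefPow.refPow F n).presheaf.stalkSpecializes (genericPoint_specializes z)).hom un := by
    rw [← stalkSpecializes_sPowGerm s n (genericPoint_specializes z), hs,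
      Groth.Agent.H54.SecOrd.stalkSpecializes_smul, map_pow]
  set cK : X.presheaf.stalk (genericPoint X) :=
    (X.presheaf.stalkSpecializes (genericPoint_specializes z)).hom c with hcK
  have hcK' : (cK : X.functionField) = algebraMap (X.presheaf.stalk z) X.functionField c :=
    stalkSpecializes_eq_algebraMap z c
  rw [hsp, ← mul_smul]
  by_cases h0 : aK * cK ^ n = 0
  · rw [h0, zero_smul]
    exact ⟨0, map_zero _⟩
  · have haK : (aK : X.functionField) ≠ 0 := fun h => h0 (by rw [h]; exact zero_mul _)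
    have hb0 : ((aK : X.functionField) * (cK : X.functionField) ^ n) ≠ 0 := h0
    have hbord : 0 ≤ Scheme.ord ((aK : X.functionField) * (cK : X.functionField) ^ n) z := by
      by_cases hn : n = 0
      · subst hn
        rw [pow_zero, mul_one]
        have h1 := hord.resolve_left haK
        simpa using h1
      · have hcK0 : (cK : X.functionField) ≠ 0 := by
          intro h
          apply hb0
          rw [h, zero_pow hn, mul_zero]
        rw [Scheme.ord_mul haK (pow_ne_zero n hcK0), WeilSheaf.ord_pow _ hcK0]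
        have h1 := hord.resolve_left haK
        have h2 : 1 ≤ Scheme.ord (cK : X.functionField) z := by
          rw [hcK'] at hcK0 ⊢
          exact one_le_ord_algebraMap z hz c hcu hcK0
        have h3 : (0 : ℤ) ≤ n := Int.natCast_nonneg n
        nlinarith
    obtain ⟨o, ho⟩ := Groth.Agent.H15.CDivB.mem_R_of_ord_nonneg z hz _ hb0 hbord
    refine ⟨o • un, ?_⟩
    rw [Groth.Agent.H54.SecOrd.stalkSpecializes_smul]
    congr 1

omit [IsLocallyNoetherian X] in
/-- the germ of a section of the structure module -/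
theorem germ_structureModule (W : X.Opens) (x : X) (hx : x ∈ W) (a : Γ(X, W)) :
    (Coh.structureModule X).presheaf.germ W x hx (show Γ(Coh.structureModule X, W) from a) =
      X.presheaf.germ W x hx a • Ref1.oneGerm X x :=
  (Groth.Agent.H79.StructStalk.toSpan_germ X x W hx a).symm

omit [IsLocallyNoetherian X] in
/-- the germ of `a s^n` -/
theorem germ_sPow_app (s : Coh.structureModule X ⟶ F) (n : ℕ) (W : X.Opens) (x : X) (hx : x ∈ W)
    (a : Γ(X, W)) :
    (RefPow.refPow F n).presheaf.germ W x hx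
      ((RefPow.sPow s n).app W (show Γ(Coh.structureModule X, W) from a)) =
      X.presheaf.germ W x hx a • RefPow.sPowGerm s n x := by
  rw [← RefHull.stalkMapₗ_germ, germ_structureModule, stalkMapₗ_smul_oneGerm]

/-- sections of `j_* O_U` over a quasi-compact open are of the form `t / s^n` -/
theorem exists_leg_eq [IsIntegral X] (hX : Pi1.IsNormalScheme X) (hF : RefHull.IsRef1 F)
    (s : Coh.structureModule X ⟶ F) (U : X.Opens) (hU : (U : Set X) = RefPow.isoLocus s)
    (hηU : genericPoint X ∈ U) (V : X.Opens) (hV : IsCompact (V : Set X))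
    (hηV : genericPoint X ∈ V) (a : Γ(P U, V)) :
    ∃ (n : ℕ) (t : Γ(RefPow.refPow F n, V)), (leg hF.1 s U hU n).app V t = a := by
  classical
  have hrefl := Ref1.isReflexive_stalks F hF
  have hηW : genericPoint X ∈ U.ι ''ᵁ (U.ι ⁻¹ᵁ V) := mem_image_preimage hηU hηV
  let a' : Γ(X, U.ι ''ᵁ (U.ι ⁻¹ᵁ V)) := a
  set aK : X.presheaf.stalk (genericPoint X) :=
    X.presheaf.germ (U.ι ''ᵁ (U.ι ⁻¹ᵁ V)) (genericPoint X) hηW a' with haK
  let d : X → ℤ := fun z => if Order.coheight z = 1 ∧ z ∉ U then 1 else 0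
  have hd : LocallyFiniteSupport d := Ref1.locallyFiniteSupport_of_forall_mem d U hηU (by
    intro x hx
    by_contra hc
    exact hx (if_neg hc))
  have hfin := hd.finite_inter_support_of_isCompact hV
  let B : Finset X := hfin.toFinset
  let n : ℕ := ∑ z ∈ B, (Scheme.ord (aK : X.functionField) z).natAbs
  have hrange : ∀ z : X, z ∈ V → ringKrullDim (X.presheaf.stalk z) = 1 →
      aK • RefPow.sPowGerm s n (genericPoint X) ∈ Set.range
        ((RefPow.refPow F n).presheaf.stalkSpecializes (genericPoint_specializes z)).hom := by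
    intro z hzV hdim
    have hz : Order.coheight z = 1 := by
      rw [ringKrullDim_stalk_eq_coheight] at hdim
      exact_mod_cast hdim
    by_cases hzU : z ∈ U
    · have hzW : z ∈ U.ι ''ᵁ (U.ι ⁻¹ᵁ V) := mem_image_preimage hzU hzV
      refine ⟨(RefPow.refPow F n).presheaf.germ (U.ι ''ᵁ (U.ι ⁻¹ᵁ V)) z hzW
        ((RefPow.sPow s n).app (U.ι ''ᵁ (U.ι ⁻¹ᵁ V)) a'), ?_⟩
      rw [TopCat.Presheaf.germ_stalkSpecializes_apply]
      exact germ_sPow_app s n _ (genericPoint X) hηW a'
    · apply mem_range_of_ord hX hF s z hz (by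
        intro hb
        apply hzU
        have h1 : z ∈ RefPow.isoLocus s := hb
        rw [← hU] at h1
        exact h1) n aK
      right
      have hzB : z ∈ B := hfin.mem_toFinset.mpr ⟨hzV, by
        change d z ≠ 0
        simp only [d]
        rw [if_pos ⟨hz, hzU⟩]
        exact one_ne_zero⟩
      have h1 : (Scheme.ord (aK : X.functionField) z).natAbs ≤ n :=
        Finset.single_le_sum (f := fun z => (Scheme.ord (aK : X.functionField) z).natAbs)
          (fun _ _ => Nat.zero_le _) hzB
      omega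
  obtain ⟨t, ht⟩ := RefGenericExt.exists_section_of_generic_on X hX (RefPow.refPow F n)
    (isCoh_refPow hF.1 n) (isReflexive_stalk_refPow hF.1 hrefl n) V hηV _ hrange
  refine ⟨n, t, ?_⟩
  apply sPow_app_injective hF.1 s U hU n V
  refine (leg_spec hF.1 s U hU n V t).trans ?_
  haveI : (RefPow.refPow F n).IsQuasicoherent := (isCoh_refPow hF.1 n).1
  rw [← sub_eq_zero]
  apply RefOneCodim.eq_zero_of_germ_genericPoint_eq_zero (RefPow.refPow F n)
    (isTorsionFree_stalk_refPow hF.1 hrefl n) hηW
  rw [map_sub, TopCat.Presheaf.germ_res_apply, ht, sub_eq_zero]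
  exact (germ_sPow_app s n _ (genericPoint X) hηW a').symm

end Groth.Agent.H6.RefPowS
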