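import Groth.Agent.H6.LocFactorialCDiv
import Groth.Agent.H6.RefPowColim
import Groth.Agent.H99.LocFactorial
import Groth.Agent.H18.STL.QuasiAffine

/-!
# Principal prime divisors, factoriality and the Picard group (helper6)
-/

set_option autoImplicit false
set_option linter.style.haveILetI false
universe u

namespace Groth.Agent.H6.FactPic

open AlgebraicGeometry CategoryTheory CategoryTheory.Limits Opposite TopologicalSpace
open Groth.Agent.H6.LocFact

variable {X : Scheme.{u}} [IsIntegral X] [IsLocallyNoetherian X]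

/-- condition (1): prime divisors are cut out by global sections -/
def GlobalEquations (X : Scheme.{u}) : Prop :=
  ∀ ζ : X, Order.coheight ζ = 1 → ∃ g : Γ(X, ⊤),
    (∀ (x : X) (h : ζ ⤳ x),
      (IsLocalRing.maximalIdeal (X.presheaf.stalk ζ)).comap (X.presheaf.stalkSpecializes h).hom =
        Ideal.span {X.presheaf.germ ⊤ x trivial g}) ∧
    ∀ x : X, ¬ ζ ⤳ x → IsUnit (X.presheaf.germ ⊤ x trivial g)

/-- condition (2) without normality: prime cycles of codimension one are principal -/
def PrincipalPrimes (X : Scheme.{u}) [IsIntegral X] [IsLocallyNoetherian X] : Prop :=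
  ∀ x₀ : X, Order.coheight x₀ = 1 → ∃ f : X.functionField, f ≠ 0 ∧
    Scheme.ord f x₀ = 1 ∧ ∀ x : X, x ≠ x₀ → Order.coheight x = 1 → Scheme.ord f x = 0

/-- under (1) the local rings are factorial -/
theorem ufm_of_globalEquations (h1 : GlobalEquations X) (x : X) :
    UniqueFactorizationMonoid (X.presheaf.stalk x) := by
  have key := (Groth.Agent.H99.LocFactorial.main X (fun y _ => inferInstance)).mp ?_ x
  · obtain ⟨_, h⟩ := key
    exact h
  · intro ζ hdim y h
    have hζ : Order.coheight ζ = 1 := by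
      rw [ringKrullDim_stalk_eq_coheight] at hdim
      exact_mod_cast hdim
    obtain ⟨g, hg1, -⟩ := h1 ζ hζ
    refine ⟨X.presheaf.germ ⊤ y trivial g, ?_, hg1 y h⟩
    rw [mem_nonZeroDivisors_iff_ne_zero]
    intro h0
    -- then `g = 0`, so the maximal ideal of `O_ζ` is zero, contradicting dimension one
    have hg0 : g = 0 := by
      apply germ_injective_of_isIntegral X y (show y ∈ (⊤ : X.Opens) from trivial)
      rw [h0, map_zero]
    have h2 := hg1 ζ specializes_rfl
    rw [hg0, map_zero, Ideal.span_singleton_zero] at h2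
    have h3 : IsLocalRing.maximalIdeal (X.presheaf.stalk ζ) = ⊥ := by
      rw [eq_bot_iff]
      intro a ha
      have h4 : a ∈ (IsLocalRing.maximalIdeal (X.presheaf.stalk ζ)).comap
          (X.presheaf.stalkSpecializes (specializes_rfl : ζ ⤳ ζ)).hom := by
        rw [Ideal.mem_comap]
        have h5 : (X.presheaf.stalkSpecializes (specializes_rfl : ζ ⤳ ζ)).hom a = a := by
          rw [TopCat.Presheaf.stalkSpecializes_refl]
          rfl
        rw [h5]
        exact ha
      rw [h2] at h4
      exact h4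
    have h6 : IsField (X.presheaf.stalk ζ) := IsLocalRing.isField_iff_maximalIdeal_eq.mpr h3
    have h7 := ringKrullDim_eq_zero_of_isField h6
    rw [hdim] at h7
    exact one_ne_zero h7

omit [IsLocallyNoetherian X] in
/-- factorial local rings are normal -/
theorem isNormalScheme_of_ufm (h : ∀ x : X, UniqueFactorizationMonoid (X.presheaf.stalk x)) :
    Pi1.IsNormalScheme X := fun x => by
  haveI := h x
  exact ⟨inferInstance, UniqueFactorizationMonoid.instIsIntegrallyClosed⟩

/-- (1) ⇒ (2) -/
theorem principalPrimes_of_globalEquations (h1 : GlobalEquations X) : PrincipalPrimes X := by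
  have hX : Pi1.IsNormalScheme X := isNormalScheme_of_ufm (ufm_of_globalEquations h1)
  intro ζ hζ
  obtain ⟨g, hg1, hg2⟩ := h1 ζ hζ
  haveI := Ref1.isDVR_of_coheight_one hX ζ hζ
  have hη : genericPoint X ∈ (⊤ : X.Opens) := trivial
  refine ⟨X.presheaf.germ ⊤ (genericPoint X) hη g, ?_, ?_, ?_⟩
  · -- `g ≠ 0` since it generates the maximal ideal of the discrete valuation ring `O_ζ`
    intro h0
    have hg0 : g = 0 := by
      apply germ_injective_of_isIntegral X (genericPoint X) hη
      rw [map_zero]
      exact h0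
    have h2 := hg1 ζ specializes_rfl
    rw [hg0, map_zero, Ideal.span_singleton_zero] at h2
    have h3 : IsLocalRing.maximalIdeal (X.presheaf.stalk ζ) = ⊥ := by
      rw [eq_bot_iff]
      intro a ha
      have h4 : a ∈ (IsLocalRing.maximalIdeal (X.presheaf.stalk ζ)).comap
          (X.presheaf.stalkSpecializes (specializes_rfl : ζ ⤳ ζ)).hom := by
        rw [Ideal.mem_comap]
        have h5 : (X.presheaf.stalkSpecializes (specializes_rfl : ζ ⤳ ζ)).hom a = a := by
          rw [TopCat.Presheaf.stalkSpecializes_refl]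
          rfl
        rw [h5]
        exact ha
      rw [h2] at h4
      exact h4
    exact IsDiscreteValuationRing.not_a_field (X.presheaf.stalk ζ) h3
  · -- the germ of `g` at `ζ` is a uniformizer
    have h2 := hg1 ζ specializes_rfl
    have h3 : IsLocalRing.maximalIdeal (X.presheaf.stalk ζ) =
        Ideal.span {X.presheaf.germ ⊤ ζ trivial g} := by
      rw [← h2]
      ext a
      rw [Ideal.mem_comap]
      have h5 : (X.presheaf.stalkSpecializes (specializes_rfl : ζ ⤳ ζ)).hom a = a := by
        rw [TopCat.Presheaf.stalkSpecializes_refl]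
        rfl
      rw [h5]
    have hirr : Irreducible (X.presheaf.germ ⊤ ζ trivial g) :=
      (IsDiscreteValuationRing.irreducible_iff_uniformizer _).mpr h3
    have hne : algebraMap (X.presheaf.stalk ζ) X.functionField (X.presheaf.germ ⊤ ζ trivial g) ≠
        0 := by
      rw [Ne, map_eq_zero_iff _ (Groth.Agent.H15.CDivB.algebraMap_injective ζ)]
      exact hirr.ne_zero
    rw [← WeilSheaf.algebraMap_germ ζ (show ζ ∈ (⊤ : X.Opens) from trivial) g,
      Scheme.ord_eq_iff hζ hne]
    have : Ring.KrullDimLE 1 (X.presheaf.stalk ζ) := krullDimLE_of_coheight_le hζ.le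
    change Ring.ordFrac (X.presheaf.stalk ζ) _ = _
    rw [Ring.ordFrac_irreducible hirr]
    rfl
  · intro x hxζ hx
    have hns : ¬ ζ ⤳ x := fun hsp =>
      hxζ (WeilSheaf.eq_of_specializes_of_coheight_one hsp hζ hx).symm
    have hu := hg2 x hns
    rw [← WeilSheaf.algebraMap_germ x (show x ∈ (⊤ : X.Opens) from trivial) g]
    exact Groth.Agent.H54.OrdAtOrd.ord_algebraMap_of_isUnit x _ hu

/-- (2) ⇒ (1) -/
theorem globalEquations_of_principalPrimes (hX : Pi1.IsNormalScheme X) (h2 : PrincipalPrimes X) :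
    GlobalEquations X := by
  intro ζ hζ
  obtain ⟨f, hf0, hfζ, hfx⟩ := h2 ζ hζ
  haveI := Ref1.isDVR_of_coheight_one hX ζ hζ
  have hη : genericPoint X ∈ (⊤ : X.Opens) := trivial
  obtain ⟨g, hg⟩ := WeilSheaf.exists_section_of_ord_nonneg hX ⊤ hη f (by
    intro z _ hz _
    right
    by_cases hzζ : z = ζ
    · rw [hzζ, hfζ]
      exact zero_le_one
    · rw [hfx z hzζ hz])
  have hgx : ∀ x : X, algebraMap (X.presheaf.stalk x) X.functionField
      (X.presheaf.germ ⊤ x trivial g) = f := by
    intro x
    rw [WeilSheaf.algebraMap_germ x (show x ∈ (⊤ : X.Opens) from trivial) g]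
    exact hg
  have hgx0 : ∀ x : X, X.presheaf.germ ⊤ x trivial g ≠ 0 := by
    intro x h0
    apply hf0
    rw [← hgx x, h0, map_zero]
  refine ⟨g, ?_, ?_⟩
  · intro x h
    ext b
    rw [Ideal.mem_comap, Ideal.mem_span_singleton, IsLocalRing.mem_maximalIdeal, mem_nonunits_iff]
    by_cases hb : b = 0
    · subst hb
      rw [map_zero]
      exact ⟨fun _ => dvd_zero _, fun _ => not_isUnit_zero⟩
    have hbK : algebraMap (X.presheaf.stalk x) X.functionField b ≠ 0 := by
      rwa [Ne, map_eq_zero_iff _ (Groth.Agent.H15.CDivB.algebraMap_injective x)]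
    rw [dvd_iff hX x ζ h _ (hgx0 x) (by rw [hgx x]; exact hfζ) (by
      intro y hy hcy hyζ
      rw [hgx x]
      exact hfx y hyζ hcy) b hb, ← algebraMap_spec h b]
    constructor
    · intro hnu
      exact RefPowS.one_le_ord_algebraMap ζ hζ _ hnu (by rwa [algebraMap_spec h b])
    · intro hle hu
      have h3 := Groth.Agent.H54.OrdAtOrd.ord_algebraMap_of_isUnit ζ _ hu
      omega
  · intro x hns
    apply isUnit_of_forall_ord_eq_zero hX x _ (hgx0 x)
    intro y hy hcy
    rw [hgx x]
    apply hfx y _ hcy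
    rintro rfl
    exact hns hy

omit [IsIntegral X] [IsLocallyNoetherian X] in
/-- invertible modules are coherent -/
theorem isCoh_of_isInvertible {L : X.Modules} (hL : PicF.IsInvertible L) : Coh.IsCoh L := by
  haveI : L.IsQuasicoherent := Groth.Agent.H18.STL.isQuasicoherent_of_isInvertible hL
  refine ⟨inferInstance, ?_⟩
  refine Groth.Agent.H71.QCoh.isFiniteType_of_finite_sections_cover L
    (fun V : {V : X.affineOpens // ∃ σ : Γ(L, V.1), Groth.Agent.H8.IsFreeGen L V.1 σ} => V.1.1)
    ?_ (fun V => V.1.2) ?_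
  · apply TopologicalSpace.IsOpenCover.mk
    rw [eq_top_iff]
    intro x _
    obtain ⟨V₀, hxV₀, σ, hσ⟩ := Groth.Agent.H8.exists_isFreeGen_of_isInvertible hL x
    obtain ⟨V, hV, hxV, hVV₀⟩ := exists_isAffineOpen_mem_and_subset (x := x) (U := V₀) hxV₀
    exact TopologicalSpace.Opens.mem_iSup.mpr ⟨⟨⟨V, hV⟩, _, hσ.res hVV₀⟩, hxV⟩
  · rintro ⟨V, σ, hσ⟩
    have h1 := hσ V.1 le_rfl
    have h2 : L.presheaf.map (homOfLE (le_refl V.1)).op σ = σ := by
      change L.presheaf.map (𝟙 _) σ = σ
      rw [L.presheaf.map_id]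
      rfl
    rw [h2] at h1
    refine Module.Finite.of_surjective (LinearMap.toSpanSingleton Γ(X, V.1) Γ(L, V.1) σ) ?_
    intro m
    obtain ⟨r, hr⟩ := h1.2 m
    exact ⟨r, hr⟩

/-- invertible modules on an integral locally Noetherian scheme are rank one reflexive -/
theorem isRef1_of_isInvertible {L : X.Modules} (hL : PicF.IsInvertible L) : RefHull.IsRef1 L := by
  have hgen : ∀ x : X, ∃ v : L.presheaf.stalk x,
      Function.Bijective (fun a : X.presheaf.stalk x => a • v) := by
    intro x
    obtain ⟨V, hxV, σ, hσ⟩ := Groth.Agent.H8.exists_isFreeGen_of_isInvertible hL x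
    exact ⟨_, hσ.germ_bijective hxV⟩
  obtain ⟨q, hq⟩ := hgen (genericPoint X)
  refine Ref1.isRef1_of_stalks L (isCoh_of_isInvertible hL) (fun x => ?_) q hq
  obtain ⟨v, hv⟩ := hgen x
  exact Module.equiv (LinearEquiv.ofBijective (LinearMap.toSpanSingleton _ _ v) hv)

/-- the order of a finite product -/
theorem ord_prod {ι : Type*} (S : Finset ι) (g : ι → X.functionField) (hg : ∀ i ∈ S, g i ≠ 0)
    (x : X) : Scheme.ord (∏ i ∈ S, g i) x = ∑ i ∈ S, Scheme.ord (g i) x := by
  classical
  induction S using Finset.induction_on with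
  | empty => simp [Ref1.ord_one]
  | insert a S ha ih =>
    rw [Finset.prod_insert ha, Finset.sum_insert ha,
      Scheme.ord_mul (hg a (Finset.mem_insert_self a S))
        (Finset.prod_ne_zero_iff.mpr (fun i hi => hg i (Finset.mem_insert_of_mem hi))),
      ih (fun i hi => hg i (Finset.mem_insert_of_mem hi))]

/-- under (2), every finitely supported Weil divisor is principal -/
theorem exists_fun_of_principalPrimes (h2 : PrincipalPrimes X) (D : X → ℤ)
    (_hD : ∀ x : X, Order.coheight x ≠ 1 → D x = 0) (hfin : (Function.support D).Finite) :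
    ∃ f : X.functionField, f ≠ 0 ∧ ∀ x : X, Order.coheight x = 1 → Scheme.ord f x = D x := by
  classical
  choose fz hfz0 hfz1 hfzx using h2
  let Fz : X → X.functionField := fun z => if hz : Order.coheight z = 1 then fz z hz else 1
  have hFz0 : ∀ z, Fz z ≠ 0 := by
    intro z
    by_cases hz : Order.coheight z = 1
    · simp only [Fz, dif_pos hz]
      exact hfz0 z hz
    · simp only [Fz, dif_neg hz]
      exact one_ne_zero
  have hFzord : ∀ z x : X, Order.coheight x = 1 →
      Scheme.ord (Fz z) x = if x = z then 1 else 0 := by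
    intro z x hx
    by_cases hz : Order.coheight z = 1
    · simp only [Fz, dif_pos hz]
      by_cases hxz : x = z
      · rw [if_pos hxz, hxz]
        exact hfz1 z hz
      · rw [if_neg hxz]
        exact hfzx z hz x hxz hx
    · simp only [Fz, dif_neg hz]
      rw [Ref1.ord_one, if_neg]
      rintro rfl
      exact hz hx
  refine ⟨∏ z ∈ hfin.toFinset, Fz z ^ D z, ?_, fun x hx => ?_⟩
  · exact Finset.prod_ne_zero_iff.mpr (fun z _ => zpow_ne_zero _ (hFz0 z))
  · rw [ord_prod _ _ (fun z _ => zpow_ne_zero _ (hFz0 z))]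
    have h3 : ∀ z ∈ hfin.toFinset, Scheme.ord (Fz z ^ D z) x = if x = z then D z else 0 := by
      intro z _
      rw [WeilSheaf.ord_zpow _ (hFz0 z), hFzord z x hx]
      split_ifs <;> simp
    rw [Finset.sum_congr rfl h3, Finset.sum_ite_eq]
    split_ifs with hmem
    · rfl
    · rw [Set.Finite.mem_toFinset, Function.mem_support, not_not] at hmem
      exact hmem.symm

/-- (2) ⇒ the local rings are factorial -/
theorem ufm_of_principalPrimes (hX : Pi1.IsNormalScheme X) (h2 : PrincipalPrimes X) (x : X) :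
    UniqueFactorizationMonoid (X.presheaf.stalk x) := by
  apply ufm_of_exists_prime_fun hX x
  intro z hzx hz
  obtain ⟨f, hf0, hfz, hfy⟩ := h2 z hz
  obtain ⟨a, ha⟩ := mem_R_of_forall_ord_nonneg hX x f hf0 (by
    intro y hy hcy
    by_cases hyz : y = z
    · rw [hyz, hfz]
      exact zero_le_one
    · rw [hfy y hyz hcy])
  have ha' : algebraMap (X.presheaf.stalk x) X.functionField a = f := ha
  refine ⟨a, ?_, ?_, ?_⟩
  · rintro rfl
    rw [map_zero] at ha'
    exact hf0 ha'.symm
  · rw [ha', hfz]
  · intro y hy hcy hyz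
    rw [ha', hfy y hyz hcy]

/-- (2) ⇒ invertible modules are trivial, on a Noetherian scheme -/
theorem trivial_of_principalPrimes [CompactSpace X] (hX : Pi1.IsNormalScheme X)
    (h2 : PrincipalPrimes X) (L : X.Modules) (hL : PicF.IsInvertible L) :
    Nonempty (L ≅ Coh.structureModule X) := by
  have hL1 := isRef1_of_isInvertible hL
  obtain ⟨s', hs'⟩ := Ref1.exists_gen_genericPoint L hL1
  have hs'0 : s' ≠ 0 := Ref1.ne_zero_of_bijective_smul s' hs'
  have hs : (Submodule.Quotient.mk s' : Cyc.secFibre L (genericPoint X)) ≠ 0 := by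
    intro h0
    apply hs'0
    exact (Groth.Agent.H54.SecOrd.mk_eq_mk_iff L s' 0).mp h0
  obtain ⟨D, hD0, hD1⟩ := Ref1.exists_cycle L hL1 _ hs
  have hfin : (Function.support (D : X → ℤ)).Finite := by
    have := D.locallyFiniteSupport.finite_inter_support_of_isCompact
      (isCompact_univ (X := X))
    rwa [Set.univ_inter] at this
  obtain ⟨f, hf0, hf⟩ := exists_fun_of_principalPrimes h2 (D : X → ℤ) hD0 hfin
  obtain ⟨t', ht'0, ht'⟩ := Ref1.hasDiv_structureModule (X := X)
  have ht : (Submodule.Quotient.mk t' : Cyc.secFibre (Coh.structureModule X) (genericPoint X)) ≠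
      0 := by
    intro h0
    apply ht'0
    exact (Groth.Agent.H54.SecOrd.mk_eq_mk_iff (Coh.structureModule X) t' 0).mp h0
  rw [Ref1.iso_iff hX L (Coh.structureModule X) hL1 Ref1.isRef1_structureModule _ hs _ ht]
  refine ⟨f, hf0, fun x hx => ?_⟩
  rw [ht' x hx, hf x hx, ← hD1 x hx]
  simp

/-- (3) ⇒ (2) -/
theorem principalPrimes_of_ufm (h3 : ∀ x : X, UniqueFactorizationMonoid (X.presheaf.stalk x))
    (h3' : ∀ L : X.Modules, PicF.IsInvertible L → Nonempty (L ≅ Coh.structureModule X)) :
    PrincipalPrimes X := by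
  classical
  have hX := isNormalScheme_of_ufm h3
  intro x₀ hx₀
  obtain ⟨L, hL, s, hs, hdiv⟩ := allDivisors_of_ufm hX h3 (fun y => if y = x₀ then 1 else 0) (by
    intro y hy
    rw [if_neg]
    rintro rfl
    exact hy hx₀) (by
    intro y
    refine ⟨⊤, trivial, (Set.finite_singleton x₀).subset ?_⟩
    rintro w ⟨-, hw⟩
    by_contra hwz
    exact hw (if_neg hwz))
  have hL1 := isRef1_of_isInvertible hL
  obtain ⟨t', ht'0, ht'⟩ := Ref1.hasDiv_structureModule (X := X)
  have ht : (Submodule.Quotient.mk t' : Cyc.secFibre (Coh.structureModule X) (genericPoint X)) ≠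
      0 := by
    intro h0
    apply ht'0
    exact (Groth.Agent.H54.SecOrd.mk_eq_mk_iff (Coh.structureModule X) t' 0).mp h0
  obtain ⟨f, hf0, hf⟩ := (Ref1.iso_iff hX L (Coh.structureModule X) hL1
    Ref1.isRef1_structureModule s hs _ ht).mp (h3' L hL)
  refine ⟨f, hf0, ?_, fun x hxne hx => ?_⟩
  · have h4 := hf x₀ hx₀
    rw [hdiv x₀ hx₀, ht' x₀ hx₀, if_pos rfl] at h4
    simpa using h4.symm
  · have h4 := hf x hx
    rw [hdiv x hx, ht' x hx, if_neg hxne] at h4
    simpa using h4.symm

end Groth.Agent.H6.FactPic
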