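import Groth.Agent.H6.FactorialPicFree

/-!
# (4) ⇒ (2): triviality of the Picard groups of all opens makes prime divisors principal (helper6)
-/

set_option autoImplicit false
set_option linter.style.haveILetI false
universe u

namespace Groth.Agent.H6.FactPic

open AlgebraicGeometry CategoryTheory CategoryTheory.Limits Opposite TopologicalSpace
open Groth.Agent.H6.LocFact

variable {X : Scheme.{u}} [IsIntegral X] [IsLocallyNoetherian X]

/-- (4) ⇒ (2) -/
theorem principalPrimes_of_trivial_opens (hX : Pi1.IsNormalScheme X)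
    (h4 : ∀ (U : X.Opens) (L : (U : Scheme.{u}).Modules),
      PicF.IsInvertible L → Nonempty (L ≅ Coh.structureModule (U : Scheme.{u}))) :
    PrincipalPrimes X := by
  classical
  intro z hz
  let D : AlgebraicCycle X ℤ :=
    { toFun := fun y => if y = z then 1 else 0
      supportWithinDomain' := fun _ _ => Set.mem_univ _
      supportLocallyFiniteWithinDomain' := by
        intro w _
        refine ⟨Set.univ, Filter.univ_mem, ?_⟩
        refine (Set.finite_singleton z).subset ?_
        rintro y ⟨-, hy⟩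
        rw [Function.mem_support] at hy
        by_contra hne
        exact hy (if_neg hne) }
  have hDz : D z = 1 := if_pos rfl
  have hDy : ∀ y : X, y ≠ z → D y = 0 := fun y hy => if_neg hy
  obtain ⟨F, hF, s, hs, hD⟩ := WeilSheaf.exists_ref1 hX D
  haveI : F.IsQuasicoherent := hF.1.1
  -- the open locus where `F` is locally trivial
  let S : Set X.Opens := {W | Nonempty (F.restrict W.ι ≅ Coh.structureModule (W : Scheme.{u}))}
  let U : X.Opens := sSup S
  have hmemU : ∀ x : X, (∃ v : F.presheaf.stalk x,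
      Function.Bijective (fun a : X.presheaf.stalk x => a • v)) → x ∈ U := by
    rintro x ⟨v, hv⟩
    obtain ⟨V, hV, hxV, -⟩ := exists_isAffineOpen_mem_and_subset (x := x) (U := ⊤) trivial
    haveI := HomSh.finitePresentation_sections F hF.1 V hV
    obtain ⟨W, hxW, hW⟩ := RefOneInvertible.exists_nhds_iso_structureModule F hV hxV
      ⟨LinearEquiv.ofBijective (LinearMap.toSpanSingleton _ _ v) hv⟩
    exact Opens.mem_sSup.mpr ⟨W, hW, hxW⟩
  have hgenU : ∀ x ∈ U, ∃ v : F.presheaf.stalk x,
      Function.Bijective (fun a : X.presheaf.stalk x => a • v) := by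
    intro x hx
    obtain ⟨W, ⟨e⟩, hxW⟩ := Opens.mem_sSup.mp hx
    obtain ⟨σ, hσ⟩ := Groth.Agent.H8.exists_isFreeGen_of_iso F W e
    exact ⟨_, hσ.germ_bijective hxW⟩
  have hηU : genericPoint X ∈ U := hmemU _ (Ref1.exists_gen_genericPoint F hF)
  have hcodim : ∀ y : X, Order.coheight y = 1 → y ∈ U := fun y hy =>
    hmemU y (Ref1.exists_gen_stalk_of_coheight_one hX F hF y hy)
  obtain ⟨e⟩ := h4 U _ (isInvertible_restrict_of_gen F hF.1 U hgenU)
  obtain ⟨σ, hσ⟩ := Groth.Agent.H8.exists_isFreeGen_of_iso F U e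
  obtain ⟨s', rfl⟩ := Submodule.Quotient.mk_surjective _ s
  have hs' : s' ≠ 0 := by
    rintro rfl
    exact hs (Submodule.Quotient.mk_zero _)
  obtain ⟨c, hc0, hc⟩ := exists_fun_of_isFreeGen F U hηU σ hσ s' hs'
  refine ⟨c, hc0, ?_, fun y hyz hy => ?_⟩
  · rw [← hc z (hcodim z hz) hz, ← hD z hz, hDz]
  · rw [← hc y (hcodim y hy) hy, ← hD y hy, hDy y hyz]

end Groth.Agent.H6.FactPic
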