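import Groth.Agent.H6.FactorialPicOpen
import Groth.Agent.H18.Counit.EpiCrit

/-!
# Triviality of invertible modules on all opens forces prime divisors to be principal (helper6)
-/

set_option autoImplicit false
set_option linter.style.haveILetI false
universe u

namespace Groth.Agent.H6.FactPic

open AlgebraicGeometry CategoryTheory CategoryTheory.Limits Opposite TopologicalSpace
open Groth.Agent.H6.LocFact

variable {X : Scheme.{u}} [IsIntegral X] [IsLocallyNoetherian X]

/-- the divisor of a rational section of a module with a free generator `σ` over `V` is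
principal on `V` -/
theorem exists_fun_of_isFreeGen (L : X.Modules) (V : X.Opens) (hηV : genericPoint X ∈ V)
    (σ : Γ(L, V)) (hσ : Groth.Agent.H8.IsFreeGen L V σ)
    (s' : L.presheaf.stalk (genericPoint X)) (hs' : s' ≠ 0) :
    ∃ c : X.functionField, c ≠ 0 ∧
      ∀ y : X, y ∈ V → Order.coheight y = 1 →
        Cyc.secOrdAt L (genericPoint X) y (genericPoint_specializes y)
          (Submodule.Quotient.mk s') = Scheme.ord c y := by
  have hgen := hσ.germ_bijective hηV
  obtain ⟨c, hc⟩ := hgen.2 s'
  have hc' : s' = c • L.presheaf.germ V (genericPoint X) hηV σ := hc.symm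
  have hc0 : c ≠ 0 := by
    rintro rfl
    rw [zero_smul] at hc'
    exact hs' hc'
  refine ⟨c, hc0, fun y hyV hy => ?_⟩
  have hsp : ((L.presheaf.stalkSpecializes (genericPoint_specializes y)))
      (L.presheaf.germ V y hyV σ) = L.presheaf.germ V (genericPoint X) hηV σ :=
    TopCat.Presheaf.germ_stalkSpecializes_apply L.presheaf hyV (genericPoint_specializes y) σ
  refine Groth.Agent.H54.OrdAtOrd.secOrdAt_eq_ord L y hy (genericPoint_specializes y)
    (L.presheaf.germ V y hyV σ) (hσ.germ_bijective hyV) ?_ c hc0 _ ?_
  · rw [hsp]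
    exact hgen.1
  · rw [hsp, hc']

omit [IsIntegral X] in
/-- the restriction of a coherent module to an open `U` at whose points the stalks are free of
rank one is invertible -/
theorem isInvertible_restrict_of_gen (F : X.Modules) (hF : Coh.IsCoh F) (U : X.Opens)
    (hgen : ∀ x ∈ U, ∃ v : F.presheaf.stalk x,
      Function.Bijective (fun a : X.presheaf.stalk x => a • v)) :
    PicF.IsInvertible (F.restrict U.ι) := by
  haveI : F.IsQuasicoherent := hF.1
  haveI : SheafOfModules.IsFiniteType (R := X.ringCatSheaf) F := hF.2
  haveI : (F.restrict U.ι).IsQuasicoherent := Scheme.Modules.isQuasicoherent_restrictFunctor U.ι F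
  have hM : Coh.IsCoh (F.restrict U.ι) :=
    ⟨inferInstance, Groth.Agent.H18.CounitCrit.isFiniteType_restrict_opens U F⟩
  intro y
  obtain ⟨v, hv⟩ := hgen (U.ι y) y.2
  let e := RestrictStalk.stalkAddEquiv U.ι F y
  let ρ := RestrictStalk.stalkRingEquiv U.ι y
  have hv' : Function.Bijective
      (fun r : (U : Scheme.{u}).presheaf.stalk y => r • e.symm v) := by
    have h1 : (fun r : (U : Scheme.{u}).presheaf.stalk y => r • e.symm v) =
        e.symm ∘ (fun a : X.presheaf.stalk (U.ι y) => a • v) ∘ ρ := by
      funext r
      simp only [Function.comp_apply]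
      apply e.injective
      rw [AddEquiv.apply_symm_apply, RestrictStalk.stalkAddEquiv_smul,
        AddEquiv.apply_symm_apply]
    rw [h1]
    exact e.symm.bijective.comp (hv.comp ρ.bijective)
  obtain ⟨V, hV, hyV, -⟩ := exists_isAffineOpen_mem_and_subset (x := y) (U := ⊤) trivial
  haveI := HomSh.finitePresentation_sections (F.restrict U.ι) hM V hV
  exact RefOneInvertible.exists_nhds_iso_structureModule (F.restrict U.ι) hV hyV
    ⟨LinearEquiv.ofBijective (LinearMap.toSpanSingleton _ _ (e.symm v)) hv'⟩

end Groth.Agent.H6.FactPic
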