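import Groth.Agent.H6.FactorialPic
import Groth.Agent.H6.RestrictStalk2

/-!
# Principal prime divisors on open subschemes (helper6)
-/

set_option autoImplicit false
set_option linter.style.haveILetI false
universe u

namespace Groth.Agent.H6.FactPic

open AlgebraicGeometry CategoryTheory CategoryTheory.Limits Opposite TopologicalSpace
open Groth.Agent.H6.LocFact

variable {X : Scheme.{u}} [IsIntegral X] [IsLocallyNoetherian X] (U : X.Opens) [Nonempty U]

/-- the comparison `K(X) → K(U)` of function fields -/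
noncomputable def toOpen : X.functionField →+* (U : Scheme.{u}).functionField :=
  (U.ι.stalkMap (genericPoint (U : Scheme.{u}))).hom.comp
    (X.presheaf.stalkSpecializes
      (Specializes.of_eq (genericPoint_eq_of_isOpenImmersion U.ι))).hom

omit [IsLocallyNoetherian X] in
/-- compatibility of `toOpen` with the stalk maps -/
theorem toOpen_algebraMap (y : (U : Scheme.{u})) (a : X.presheaf.stalk (U.ι y)) :
    toOpen U (algebraMap (X.presheaf.stalk (U.ι y)) X.functionField a) =
      algebraMap ((U : Scheme.{u}).presheaf.stalk y) (U : Scheme.{u}).functionField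
        ((U.ι.stalkMap y).hom a) := by
  have h1 : algebraMap (X.presheaf.stalk (U.ι y)) X.functionField a =
      (X.presheaf.stalkSpecializes (genericPoint_specializes (U.ι y))).hom a := rfl
  have h2 : ∀ b : (U : Scheme.{u}).presheaf.stalk y,
      algebraMap ((U : Scheme.{u}).presheaf.stalk y) (U : Scheme.{u}).functionField b =
      ((U : Scheme.{u}).presheaf.stalkSpecializes (genericPoint_specializes y)).hom b :=
    fun _ => rfl
  rw [h1, h2]
  unfold toOpen
  rw [RingHom.comp_apply]
  have h3 : (X.presheaf.stalkSpecializes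
      (Specializes.of_eq (genericPoint_eq_of_isOpenImmersion U.ι))).hom
      ((X.presheaf.stalkSpecializes (genericPoint_specializes (U.ι y))).hom a) =
      (X.presheaf.stalkSpecializes
        (U.ι.base.hom.map_specializes (genericPoint_specializes y))).hom a := by
    have h4 := TopCat.Presheaf.stalkSpecializes_comp X.presheaf
      (Specializes.of_eq (genericPoint_eq_of_isOpenImmersion U.ι))
      (genericPoint_specializes (U.ι y))
    exact congr($(h4) a)
  rw [h3]
  exact U.ι.stalkSpecializes_stalkMap_apply _ _ (genericPoint_specializes y) a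

omit [IsIntegral X] [IsLocallyNoetherian X] [Nonempty U] in
/-- open subschemes of normal schemes are normal -/
theorem isNormalScheme_opens (hX : Pi1.IsNormalScheme X) :
    Pi1.IsNormalScheme (U : Scheme.{u}) := by
  intro y
  haveI := (hX (U.ι y)).1
  haveI := (hX (U.ι y)).2
  exact ⟨(RestrictStalk.stalkRingEquiv U.ι y).toMulEquiv.isDomain (X.presheaf.stalk (U.ι y)),
    IsIntegrallyClosed.of_equiv (RestrictStalk.stalkRingEquiv U.ι y).symm⟩

/-- transport of order zero to an open subscheme -/
theorem ord_toOpen_eq_zero (hX : Pi1.IsNormalScheme X) (y : (U : Scheme.{u}))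
    (hy : Order.coheight y = 1) (f : X.functionField) (hf : f ≠ 0)
    (h : Scheme.ord f (U.ι y) = 0) : Scheme.ord (toOpen U f) y = 0 := by
  have hιy : Order.coheight (U.ι y) = 1 := by
    rw [coheight_eq_of_isOpenImmersion]
    exact hy
  haveI := Ref1.isDVR_of_coheight_one hX (U.ι y) hιy
  obtain ⟨u, hu⟩ := Groth.Agent.H15.CDivB.mem_stalkUnits_of_ord_eq_zero (U.ι y) hιy
    (Units.mk0 f hf) h
  have hu' : algebraMap (X.presheaf.stalk (U.ι y)) X.functionField (u : X.presheaf.stalk (U.ι y)) =
      f := congrArg Units.val hu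
  rw [← hu', toOpen_algebraMap]
  exact Groth.Agent.H54.OrdAtOrd.ord_algebraMap_of_isUnit y _ (u.isUnit.map _)

/-- transport of order one to an open subscheme -/
theorem ord_toOpen_eq_one (hX : Pi1.IsNormalScheme X) (y : (U : Scheme.{u}))
    (hy : Order.coheight y = 1) (f : X.functionField) (hf : f ≠ 0)
    (h : Scheme.ord f (U.ι y) = 1) : Scheme.ord (toOpen U f) y = 1 := by
  have hιy : Order.coheight (U.ι y) = 1 := by
    rw [coheight_eq_of_isOpenImmersion]
    exact hy
  haveI := Ref1.isDVR_of_coheight_one hX (U.ι y) hιy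
  haveI := Ref1.isDVR_of_coheight_one (isNormalScheme_opens U hX) y hy
  obtain ⟨ϖ, hϖ⟩ := IsDiscreteValuationRing.exists_irreducible (X.presheaf.stalk (U.ι y))
  have hpne : algebraMap (X.presheaf.stalk (U.ι y)) X.functionField ϖ ≠ 0 := by
    rw [Ne, map_eq_zero_iff _ (Groth.Agent.H15.CDivB.algebraMap_injective (U.ι y))]
    exact hϖ.ne_zero
  have hpord : Scheme.ord (algebraMap (X.presheaf.stalk (U.ι y)) X.functionField ϖ) (U.ι y) =
      1 := by
    rw [Scheme.ord_eq_iff hιy hpne]
    have : Ring.KrullDimLE 1 (X.presheaf.stalk (U.ι y)) := krullDimLE_of_coheight_le hιy.le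
    change Ring.ordFrac (X.presheaf.stalk (U.ι y)) _ = _
    rw [Ring.ordFrac_irreducible hϖ]
    rfl
  set p := algebraMap (X.presheaf.stalk (U.ι y)) X.functionField ϖ with hp
  have hq0 : f * p⁻¹ ≠ 0 := mul_ne_zero hf (inv_ne_zero hpne)
  have hqord : Scheme.ord (f * p⁻¹) (U.ι y) = 0 := by
    rw [Scheme.ord_mul hf (inv_ne_zero hpne), Ref1.ord_inv _ _ hpne, h, hpord]
    rfl
  obtain ⟨u, hu⟩ := Groth.Agent.H15.CDivB.mem_stalkUnits_of_ord_eq_zero (U.ι y) hιy
    (Units.mk0 _ hq0) hqord
  have hu' : algebraMap (X.presheaf.stalk (U.ι y)) X.functionField (u : X.presheaf.stalk (U.ι y)) =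
      f * p⁻¹ := congrArg Units.val hu
  have hf' : f = algebraMap (X.presheaf.stalk (U.ι y)) X.functionField
      ((u : X.presheaf.stalk (U.ι y)) * ϖ) := by
    rw [map_mul, hu', ← hp, mul_assoc, inv_mul_cancel₀ hpne, mul_one]
  have hirr : Irreducible ((u : X.presheaf.stalk (U.ι y)) * ϖ) :=
    (irreducible_units_mul u).mpr hϖ
  have hirr' : Irreducible ((U.ι.stalkMap y).hom ((u : X.presheaf.stalk (U.ι y)) * ϖ)) :=
    (MulEquiv.irreducible_iff (RestrictStalk.stalkRingEquiv U.ι y).symm.toMulEquiv).mpr hirr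
  rw [hf', toOpen_algebraMap]
  have hne : algebraMap ((U : Scheme.{u}).presheaf.stalk y) (U : Scheme.{u}).functionField
      ((U.ι.stalkMap y).hom ((u : X.presheaf.stalk (U.ι y)) * ϖ)) ≠ 0 := by
    rw [Ne, map_eq_zero_iff _ (Groth.Agent.H15.CDivB.algebraMap_injective y)]
    exact hirr'.ne_zero
  rw [Scheme.ord_eq_iff hy hne]
  have : Ring.KrullDimLE 1 ((U : Scheme.{u}).presheaf.stalk y) :=
    krullDimLE_of_coheight_le hy.le
  change Ring.ordFrac ((U : Scheme.{u}).presheaf.stalk y) _ = _
  rw [Ring.ordFrac_irreducible hirr']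
  rfl

/-- (2) passes to nonempty open subschemes -/
theorem principalPrimes_opens (hX : Pi1.IsNormalScheme X) (h2 : PrincipalPrimes X) :
    PrincipalPrimes (U : Scheme.{u}) := by
  intro y₀ hy₀
  have hιy₀ : Order.coheight (U.ι y₀) = 1 := by
    rw [coheight_eq_of_isOpenImmersion]
    exact hy₀
  obtain ⟨f, hf0, hf1, hfx⟩ := h2 (U.ι y₀) hιy₀
  refine ⟨toOpen U f, ?_, ord_toOpen_eq_one U hX y₀ hy₀ f hf0 hf1, fun y hyne hy => ?_⟩
  · rwa [Ne, map_eq_zero_iff _ (toOpen U).injective]
  · apply ord_toOpen_eq_zero U hX y hy f hf0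
    apply hfx (U.ι y) _ (by rw [coheight_eq_of_isOpenImmersion]; exact hy)
    intro heq
    exact hyne (U.ι.isOpenEmbedding.injective heq)

omit [IsIntegral X] [IsLocallyNoetherian X] [Nonempty U] in
/-- on an empty scheme all modules are isomorphic -/
theorem nonempty_iso_of_isEmpty {Y : Scheme.{u}} [IsEmpty Y] (A B : Y.Modules) :
    Nonempty (A ≅ B) := by
  have hsub : ∀ (G : Y.Modules) (V : Y.Opens), Subsingleton Γ(G, V) := by
    intro G V
    refine ⟨fun a b => HomSh.section_ext G a b ?_⟩
    intro y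
    exact (IsEmpty.false y.1).elim
  have hiso : IsIso (0 : A ⟶ B) := by
    rw [Scheme.Modules.Hom.isIso_iff_isIso_app]
    intro V
    rw [ConcreteCategory.isIso_iff_bijective]
    haveI := hsub A V
    haveI := hsub B V
    exact ⟨fun a b _ => Subsingleton.elim a b, fun b => ⟨0, Subsingleton.elim _ _⟩⟩
  exact ⟨asIso (0 : A ⟶ B)⟩

omit [Nonempty U] in
/-- (2) ⇒ (4) -/
theorem trivial_opens_of_principalPrimes [CompactSpace X] (hX : Pi1.IsNormalScheme X)
    (h2 : PrincipalPrimes X) (L : (U : Scheme.{u}).Modules) (hL : PicF.IsInvertible L) :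
    Nonempty (L ≅ Coh.structureModule (U : Scheme.{u})) := by
  by_cases hne : Nonempty U
  · haveI := hne
    haveI : IsNoetherian X := {}
    haveI : CompactSpace (U : Scheme.{u}) :=
      isCompact_iff_compactSpace.mp (TopologicalSpace.NoetherianSpace.isCompact (U : Set X))
    exact trivial_of_principalPrimes (isNormalScheme_opens U hX) (principalPrimes_opens U hX h2)
      L hL
  · haveI : IsEmpty (U : Scheme.{u}) := not_nonempty_iff.mp hne
    exact nonempty_iso_of_isEmpty L _

end Groth.Agent.H6.FactPic
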