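import Groth.Prelude.Def_FlatCA
import Mathlib.RingTheory.Ideal.AssociatedPrime.Finiteness
import Mathlib.RingTheory.FiniteStability

set_option autoImplicit false
universe u

open TensorProduct

namespace Groth.Agent.H6.FiberAss

section

variable {R S : Type u} [CommRing R] [CommRing S] [Algebra R S]
  (N : Type u) [AddCommGroup N] [Module S N] [Module R N] [IsScalarTower R S N]
  (p : Ideal R) [p.IsPrime]

theorem isNoetherianRing_fiber [Algebra.FiniteType R S] : IsNoetherianRing (p.Fiber S) := by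
  have : Algebra.FiniteType p.ResidueField (p.Fiber S) := inferInstance
  exact Algebra.FiniteType.isNoetherianRing p.ResidueField (p.Fiber S)

section
attribute [local instance] Algebra.TensorProduct.rightAlgebra

omit [Module R N] [IsScalarTower R S N] in
theorem finite_fiberMod [Module.Finite S N] :
    Module.Finite (p.Fiber S) (FlatCA.fiberMod p S N) := by
  unfold FlatCA.fiberMod
  exact Module.Finite.base_change S (p.Fiber S) N

end

omit [Module R N] [IsScalarTower R S N] in
theorem finite_assoc_fiberMod [Algebra.FiniteType R S] [Module.Finite S N] :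
    (associatedPrimes (p.Fiber S) (FlatCA.fiberMod p S N)).Finite := by
  have := isNoetherianRing_fiber (S := S) p
  have := finite_fiberMod (S := S) N p
  exact associatedPrimes.finite _ _

/-- an element of the fibre ring not in the extension of `q` is, up to a unit, `1 ⊗ g` with `g ∉ q` -/
theorem exists_nonmem_of_not_le (q : Ideal S) (r : Ideal (p.Fiber S))
    (hr : ¬ r ≤ FlatCA.fiberIdeal p q) :
    ∃ g : S, g ∉ q ∧ (1 : p.ResidueField) ⊗ₜ[R] g ∈ r := by
  obtain ⟨x, hxr, hxq⟩ := Set.not_subset.mp hr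
  obtain ⟨a, ha, s, e⟩ := Ideal.Fiber.exists_smul_eq_one_tmul p x
  refine ⟨s, ?_, ?_⟩
  · intro hs
    apply hxq
    have h1 : (1 : p.ResidueField) ⊗ₜ[R] s ∈ FlatCA.fiberIdeal p q :=
      Ideal.mem_map_of_mem _ hs
    rw [← e] at h1
    have hne : algebraMap R p.ResidueField a ≠ 0 := by
      rwa [Ne, Ideal.algebraMap_residueField_eq_zero]
    have hx : x = ((algebraMap R p.ResidueField a)⁻¹ ⊗ₜ[R] (1 : S)) * (a • x) := by
      rw [Algebra.smul_def, ← mul_assoc, Algebra.TensorProduct.algebraMap_apply,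
        Algebra.TensorProduct.tmul_mul_tmul, inv_mul_cancel₀ hne, mul_one,
        ← Algebra.TensorProduct.one_def, one_mul]
    have := Ideal.mul_mem_left (FlatCA.fiberIdeal p q)
      ((algebraMap R p.ResidueField a)⁻¹ ⊗ₜ[R] (1 : S)) h1
    rw [← hx] at this
    exact this
  · rw [← e]
    exact Submodule.smul_of_tower_mem r a hxr

omit [Module R N] [IsScalarTower R S N] in
theorem exists_nonmem_mem_assoc_fiber_not_le [Algebra.FiniteType R S] [Module.Finite S N]
    (q : Ideal S) [q.IsPrime] :
    ∃ g : S, g ∉ q ∧ ∀ r ∈ associatedPrimes (p.Fiber S) (FlatCA.fiberMod p S N),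
      ¬ r ≤ FlatCA.fiberIdeal p q → (1 : p.ResidueField) ⊗ₜ[R] g ∈ r := by
  classical
  have hfin := finite_assoc_fiberMod (S := S) N p
  let G : Ideal (p.Fiber S) → S := fun r =>
    if h : ¬ r ≤ FlatCA.fiberIdeal p q then (exists_nonmem_of_not_le p q r h).choose else 1
  have hG1 : ∀ r, G r ∉ q := by
    intro r
    by_cases h : ¬ r ≤ FlatCA.fiberIdeal p q
    · simp only [G, dif_pos h]
      exact (exists_nonmem_of_not_le p q r h).choose_spec.1
    · simp only [G, dif_neg h]
      exact fun h1 => (Ideal.IsPrime.ne_top inferInstance) ((Ideal.eq_top_iff_one q).mpr h1)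
  have hG2 : ∀ r, ¬ r ≤ FlatCA.fiberIdeal p q → (1 : p.ResidueField) ⊗ₜ[R] G r ∈ r := by
    intro r h
    simp only [G, dif_pos h]
    exact (exists_nonmem_of_not_le p q r h).choose_spec.2
  refine ⟨∏ r ∈ hfin.toFinset, G r, ?_, ?_⟩
  · intro h
    obtain ⟨r, _, hr⟩ := Ideal.IsPrime.prod_mem_iff.mp h
    exact hG1 r hr
  · intro r hr hle
    have hmem : r ∈ hfin.toFinset := hfin.mem_toFinset.mpr hr
    obtain ⟨c, hc⟩ := Finset.dvd_prod_of_mem G hmem
    rw [hc]
    have : (1 : p.ResidueField) ⊗ₜ[R] (G r * c) =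
        ((1 : p.ResidueField) ⊗ₜ[R] G r) * ((1 : p.ResidueField) ⊗ₜ[R] c) := by
      rw [Algebra.TensorProduct.tmul_mul_tmul, one_mul]
    rw [this]
    exact Ideal.mul_mem_right _ _ (hG2 r hle)

end

end Groth.Agent.H6.FiberAss
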