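import Mathlib.CategoryTheory.Abelian.Refinements
import Mathlib.CategoryTheory.Subobject.Limits
import Mathlib.CategoryTheory.Subobject.Lattice
import Mathlib.CategoryTheory.Abelian.Basic

/-!
# Subobject membership "up to refinements" in an abelian category
-/

set_option autoImplicit false
universe v u

open CategoryTheory CategoryTheory.Limits

namespace Groth.Agent.H6

variable {C : Type u} [Category.{v} C] [Abelian C]

/-- If `π` is epi and `π ≫ z` factors through the subobject `P` then so does `z`. -/
lemma Subobject.factors_of_epi_comp {G T T' : C} (P : Subobject G) (π : T' ⟶ T) [Epi π] (z : T ⟶ G)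
    (h : P.Factors (π ≫ z)) : P.Factors z := by
  have hker : IsLimit (KernelFork.ofι P.arrow (cokernel.condition P.arrow)) :=
    Abelian.monoIsKernelOfCokernel _ (colimit.isColimit _)
  have hz : z ≫ cokernel.π P.arrow = 0 := by
    rw [← cancel_epi π, comp_zero, ← Category.assoc, ← P.factorThru_arrow (π ≫ z) h,
      Category.assoc, cokernel.condition, comp_zero]
  have hfac : hker.lift (KernelFork.ofι z hz) ≫ P.arrow = z :=
    hker.fac (KernelFork.ofι z hz) WalkingParallelPair.zero
  rw [← hfac]
  exact Subobject.factors_comp_arrow _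

/-- A morphism factors through the image of `h` iff it lifts through `h` up to refinements. -/
lemma imageSubobject_factors_iff {F G T : C} (h : F ⟶ G) (z : T ⟶ G) :
    (imageSubobject h).Factors z ↔
      ∃ (T' : C) (π : T' ⟶ T) (_ : Epi π) (x : T' ⟶ F), π ≫ z = x ≫ h := by
  constructor
  · intro hz
    obtain ⟨T', π, hπ, x, hx⟩ := surjective_up_to_refinements_of_epi (factorThruImageSubobject h)
      ((imageSubobject h).factorThru z hz)
    refine ⟨T', π, hπ, x, ?_⟩
    have := congrArg (fun t => t ≫ (imageSubobject h).arrow) hx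
    simpa using this
  · rintro ⟨T', π, hπ, x, hx⟩
    apply Subobject.factors_of_epi_comp _ π
    rw [hx]
    exact imageSubobject_factors_comp_self h x

omit [Abelian C] in
lemma Subobject.le_iff_forall_factors {G : C} (P Q : Subobject G) :
    P ≤ Q ↔ ∀ ⦃T : C⦄ (z : T ⟶ G), P.Factors z → Q.Factors z := by
  constructor
  · intro h T z hz
    exact Subobject.factors_of_le z h hz
  · intro h
    exact Subobject.le_of_factors (h _ (Subobject.factors_self P))

lemma Subobject.eq_iff_forall_factors {G : C} (P Q : Subobject G) :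
    P = Q ↔ ∀ ⦃T : C⦄ (z : T ⟶ G), P.Factors z ↔ Q.Factors z := by
  constructor
  · rintro rfl T z
    exact Iff.rfl
  · intro h
    apply le_antisymm
    · rw [Subobject.le_iff_forall_factors]; exact fun T z => (h z).1
    · rw [Subobject.le_iff_forall_factors]; exact fun T z => (h z).2

/-- The "strictness" identity of subobjects, in terms of refinements.
Here `m` is a monomorphism, `k ≫ m = t ≫ h`. -/
lemma image_comp_eq_image_inf_mk_iff {F F' G M : C} (h : F ⟶ G) (m : M ⟶ G) [Mono m]
    (k : F' ⟶ M) (t : F' ⟶ F) (w : k ≫ m = t ≫ h) :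
    imageSubobject (k ≫ m) = imageSubobject h ⊓ Subobject.mk m ↔
      ∀ ⦃T : C⦄ (x : T ⟶ F) (y : T ⟶ M), x ≫ h = y ≫ m →
        ∃ (T' : C) (π : T' ⟶ T) (_ : Epi π) (x' : T' ⟶ F'), π ≫ y = x' ≫ k := by
  rw [Subobject.eq_iff_forall_factors]
  constructor
  · intro H T x y hxy
    have h1 : (imageSubobject h ⊓ Subobject.mk m).Factors (y ≫ m) := by
      rw [Subobject.inf_factors]
      refine ⟨?_, ?_⟩
      · rw [← hxy]; exact imageSubobject_factors_comp_self h x
      · exact (Subobject.mk_factors_iff _ _).2 ⟨y, rfl⟩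
    obtain ⟨T', π, hπ, x', hx'⟩ := (imageSubobject_factors_iff _ _).1 ((H _).2 h1)
    refine ⟨T', π, hπ, x', ?_⟩
    rw [← cancel_mono m, Category.assoc, hx', Category.assoc]
  · intro H T z
    constructor
    · intro hz
      obtain ⟨T', π, hπ, x', hx'⟩ := (imageSubobject_factors_iff _ _).1 hz
      rw [Subobject.inf_factors]
      refine ⟨?_, ?_⟩
      · rw [imageSubobject_factors_iff]
        exact ⟨T', π, hπ, x' ≫ t, by rw [hx', w, Category.assoc]⟩
      · apply Subobject.factors_of_epi_comp _ π
        rw [hx', ← Category.assoc]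
        exact (Subobject.mk_factors_iff _ _).2 ⟨x' ≫ k, rfl⟩
    · intro hz
      rw [Subobject.inf_factors] at hz
      obtain ⟨hz1, hz2⟩ := hz
      obtain ⟨T', π, hπ, x, hx⟩ := (imageSubobject_factors_iff _ _).1 hz1
      obtain ⟨y, hy⟩ : ∃ y : T ⟶ M, y ≫ m = z := (Subobject.mk_factors_iff _ _).1 hz2
      obtain ⟨T'', π', hπ', x', hx'⟩ := H x (π ≫ y) (by rw [← hx, ← hy, Category.assoc])
      rw [imageSubobject_factors_iff]
      refine ⟨T'', π' ≫ π, epi_comp _ _, x', ?_⟩
      rw [← hy, Category.assoc, ← Category.assoc π y m, ← Category.assoc π' _ m, hx',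
        Category.assoc]

end Groth.Agent.H6
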