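import Groth.Prelude.Def_FilD
import Groth.Agent.H6.Refine

/-!
# Basic API for finite filtered objects (`FilD.FilF`)
-/

set_option autoImplicit false
set_option linter.unusedSectionVars false
universe v u

open CategoryTheory CategoryTheory.Limits Opposite

namespace Groth.Agent.H6.FilDLib

open FilD

variable {A : Type u} [Category.{v} A] [Abelian A]

/-- The `p`-th filtration level. -/
abbrev lev (X : FilF A) (p : ℤ) : A := X.obj.obj (op p)

/-- The transition monomorphism `F^q ⟶ F^p` for `p ≤ q`. -/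
abbrev tr (X : FilF A) {p q : ℤ} (h : p ≤ q) : lev X q ⟶ lev X p := X.obj.map (homOfLE h).op

instance (X : FilF A) {p q : ℤ} (h : p ≤ q) : Mono (tr X h) := X.property.1 _

/-- Components of a morphism. -/
abbrev app {X Y : FilF A} (φ : X ⟶ Y) (p : ℤ) : lev X p ⟶ lev Y p := φ.hom.app (op p)

@[reassoc]
lemma tr_app {X Y : FilF A} (φ : X ⟶ Y) {p q : ℤ} (h : p ≤ q) :
    tr X h ≫ app φ p = app φ q ≫ tr Y h := φ.hom.naturality _

@[reassoc]
lemma tr_tr (X : FilF A) {p q r : ℤ} (h : p ≤ q) (h' : q ≤ r) :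
    tr X h' ≫ tr X h = tr X (h.trans h') := by
  dsimp only [tr]
  rw [← Functor.map_comp]
  rfl

lemma tr_refl (X : FilF A) (p : ℤ) : tr X (le_refl p) = 𝟙 _ := by
  dsimp only [tr]
  exact X.obj.map_id _

lemma app_comp {X Y Z : FilF A} (φ : X ⟶ Y) (ψ : Y ⟶ Z) (p : ℤ) :
    app (φ ≫ ψ) p = app φ p ≫ app ψ p := rfl

lemma app_id (X : FilF A) (p : ℤ) : app (𝟙 X) p = 𝟙 _ := rfl

/-- The step `F^{p+1} ⟶ F^p`. -/
abbrev step (X : FilF A) (p : ℤ) : lev X (p + 1) ⟶ lev X p :=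
  tr X (Int.le_add_one le_rfl : p ≤ p + 1)

lemma map_stepHom (X : FilF A) (p : ℤ) : X.obj.map (stepHom p) = step X p := rfl

/-- The projection onto the graded piece. -/
noncomputable abbrev grπ (X : FilF A) (p : ℤ) : lev X p ⟶ (grF A p).obj X :=
  cokernel.π (X.obj.map (stepHom p))

instance (X : FilF A) (p : ℤ) : Epi (grπ X p) := coequalizer.π_epi

@[reassoc]
lemma step_grπ (X : FilF A) (p : ℤ) : step X p ≫ grπ X p = 0 :=
  cokernel.condition _

@[reassoc]
lemma grπ_map {X Y : FilF A} (φ : X ⟶ Y) (p : ℤ) :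
    grπ X p ≫ (grF A p).map φ = app φ p ≫ grπ Y p := by
  dsimp [grπ, gr, grF]
  simp

lemma exists_lift_of_comp_grπ_eq_zero (X : FilF A) (p : ℤ) {T : A} (z : T ⟶ lev X p)
    (hz : z ≫ grπ X p = 0) : ∃ z' : T ⟶ lev X (p + 1), z' ≫ step X p = z := by
  have hker : IsLimit (KernelFork.ofι (step X p) (step_grπ X p)) :=
    Abelian.monoIsKernelOfCokernel _ (colimit.isColimit _)
  exact ⟨hker.lift (KernelFork.ofι z hz), hker.fac (KernelFork.ofι z hz) WalkingParallelPair.zero⟩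

/-- Strictness in terms of refinements. -/
lemma isStrict_iff {X Y : FilF A} (φ : X ⟶ Y) :
    IsStrict φ ↔ ∀ (p q : ℤ) (h : p ≤ q) ⦃T : A⦄ (x : T ⟶ lev X p) (y : T ⟶ lev Y q),
      x ≫ app φ p = y ≫ tr Y h →
        ∃ (T' : A) (π : T' ⟶ T) (_ : Epi π) (x' : T' ⟶ lev X q), π ≫ y = x' ≫ app φ q := by
  unfold IsStrict
  refine forall_congr' fun p => forall_congr' fun q => forall_congr' fun h => ?_
  exact image_comp_eq_image_inf_mk_iff (app φ p) (tr Y h) (app φ q) (tr X h) (tr_app φ h).symm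

end Groth.Agent.H6.FilDLib

namespace Groth.Agent.H6.FilDLib

open FilD

variable {A : Type u} [Category.{v} A] [Abelian A]

/-- Descending induction on `ℤ`. -/
lemma int_desc_induction {P : ℤ → Prop} (b : ℤ) (h0 : ∀ p, b ≤ p → P p)
    (hs : ∀ p, P (p + 1) → P p) : ∀ p, P p := by
  have key : ∀ (n : ℕ) (p : ℤ), b ≤ p + n → P p := by
    intro n
    induction n with
    | zero => intro p hp; exact h0 p (by simpa using hp)
    | succ k ih =>
      intro p hp
      apply hs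
      apply ih
      push_cast at hp
      omega
  intro p
  exact key (b - p).toNat p (by omega)

lemma exists_zero_bound (X : FilF A) : ∃ b : ℤ, ∀ p, b ≤ p → IsZero (lev X p) := X.property.2.1

@[reassoc]
lemma app_f_g (S : ShortComplex (FilF A)) (p : ℤ) : app S.f p ≫ app S.g p = 0 := by
  rw [← app_comp, S.zero]
  rfl

/-- Reduction step: an element of `Y^p` whose image in `gr^p Z` vanishes is, up to refinement
and modulo the image of `X^p`, in `Y^{p+1}`. -/
lemma chase_step (S : ShortComplex (FilF A)) (p : ℤ) (hS : (S.map (grF A p)).Exact)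
    {T : A} (y : T ⟶ lev S.X₂ p) (hy : y ≫ app S.g p ≫ grπ S.X₃ p = 0) :
    ∃ (T' : A) (π : T' ⟶ T) (_ : Epi π) (x : T' ⟶ lev S.X₁ p) (y' : T' ⟶ lev S.X₂ (p + 1)),
      π ≫ y = x ≫ app S.f p + y' ≫ step S.X₂ p := by
  have h1 : (y ≫ grπ S.X₂ p) ≫ (S.map (grF A p)).g = 0 := by
    rw [Category.assoc]
    change y ≫ grπ S.X₂ p ≫ (grF A p).map S.g = 0
    rw [grπ_map]
    exact hy
  obtain ⟨T1, π1, hπ1, xbar, hx1⟩ : ∃ (T1 : A) (π1 : T1 ⟶ T) (_ : Epi π1)
      (xbar : T1 ⟶ (grF A p).obj S.X₁), π1 ≫ y ≫ grπ S.X₂ p = xbar ≫ (grF A p).map S.f :=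
    hS.exact_up_to_refinements _ h1
  obtain ⟨T2, π2, hπ2, x, hx2⟩ := surjective_up_to_refinements_of_epi (grπ S.X₁ p) xbar
  have h3 : (π2 ≫ π1 ≫ y - x ≫ app S.f p) ≫ grπ S.X₂ p = 0 := by
    rw [Preadditive.sub_comp, Category.assoc, Category.assoc, hx1, ← Category.assoc π2, hx2,
      Category.assoc, Category.assoc, grπ_map, sub_self]
  obtain ⟨y', hy'⟩ := exists_lift_of_comp_grπ_eq_zero S.X₂ p _ h3
  refine ⟨T2, π2 ≫ π1, epi_comp _ _, x, y', ?_⟩
  rw [hy', Category.assoc]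
  abel

lemma levelwise_exact_refinements (S : ShortComplex (FilF A))
    (hS : ∀ p : ℤ, (S.map (grF A p)).Exact) :
    ∀ (p : ℤ) ⦃T : A⦄ (y : T ⟶ lev S.X₂ p), y ≫ app S.g p = 0 →
      ∃ (T' : A) (π : T' ⟶ T) (_ : Epi π) (x : T' ⟶ lev S.X₁ p), π ≫ y = x ≫ app S.f p := by
  obtain ⟨b, hb⟩ := exists_zero_bound S.X₂
  refine int_desc_induction (P := fun p => ∀ ⦃T : A⦄ (y : T ⟶ lev S.X₂ p), y ≫ app S.g p = 0 →
      ∃ (T' : A) (π : T' ⟶ T) (_ : Epi π) (x : T' ⟶ lev S.X₁ p), π ≫ y = x ≫ app S.f p) b ?_ ?_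
  · intro p hp T y _
    refine ⟨T, 𝟙 T, inferInstance, 0, ?_⟩
    rw [zero_comp]
    exact (hb p hp).eq_of_tgt _ _
  · intro p ih T y hy
    obtain ⟨T2, π2, hπ2, x, y', h2⟩ := chase_step S p (hS p) y (by rw [reassoc_of% hy, zero_comp])
    have h4 : y' ≫ app S.g (p + 1) = 0 := by
      rw [← cancel_mono (step S.X₃ p), zero_comp, Category.assoc, ← tr_app, ← Category.assoc]
      have : y' ≫ step S.X₂ p = π2 ≫ y - x ≫ app S.f p := by rw [h2]; abel
      rw [this, Preadditive.sub_comp, Category.assoc, hy, comp_zero, Category.assoc, app_f_g,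
        comp_zero, sub_self]
    obtain ⟨T3, π3, hπ3, x', h5⟩ := ih y' h4
    refine ⟨T3, π3 ≫ π2, epi_comp _ _, π3 ≫ x + x' ≫ step S.X₁ p, ?_⟩
    rw [Category.assoc, h2, Preadditive.comp_add, Preadditive.add_comp, ← Category.assoc π3 y',
      h5, Category.assoc, Category.assoc, Category.assoc, tr_app]

lemma isStrict_f_of_gr_exact (S : ShortComplex (FilF A))
    (hS : ∀ p : ℤ, (S.map (grF A p)).Exact) : IsStrict S.f := by
  rw [isStrict_iff]
  intro p q h T x y hxy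
  apply levelwise_exact_refinements S hS q y
  rw [← cancel_mono (tr S.X₃ h), zero_comp, Category.assoc, ← tr_app, ← Category.assoc, ← hxy,
    Category.assoc, app_f_g, comp_zero]

lemma isStrict_g_of_gr_exact (S : ShortComplex (FilF A))
    (hS : ∀ p : ℤ, (S.map (grF A p)).Exact) : IsStrict S.g := by
  rw [isStrict_iff]
  have key : ∀ (n : ℕ) (p q : ℤ) (h : p ≤ q), q = p + n → ∀ ⦃T : A⦄ (y : T ⟶ lev S.X₂ p)
      (z : T ⟶ lev S.X₃ q), y ≫ app S.g p = z ≫ tr S.X₃ h →
        ∃ (T' : A) (π : T' ⟶ T) (_ : Epi π) (y' : T' ⟶ lev S.X₂ q), π ≫ z = y' ≫ app S.g q := by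
    intro n
    induction n with
    | zero =>
      intro p q h hq T y z hyz
      obtain rfl : q = p := by simpa using hq
      refine ⟨T, 𝟙 T, inferInstance, y, ?_⟩
      rw [Category.id_comp, hyz, tr_refl, Category.comp_id]
    | succ k ih =>
      intro p q h hq T y z hyz
      have hpq : p + 1 ≤ q := by push_cast at hq; omega
      have hz : z ≫ tr S.X₃ h = (z ≫ tr S.X₃ hpq) ≫ step S.X₃ p := by
        rw [Category.assoc, tr_tr]
      obtain ⟨T2, π2, hπ2, x, y', h2⟩ := chase_step S p (hS p) y (by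
        rw [← Category.assoc, hyz, hz, Category.assoc, step_grπ, comp_zero])
      have h4 : y' ≫ app S.g (p + 1) = (π2 ≫ z) ≫ tr S.X₃ hpq := by
        rw [← cancel_mono (step S.X₃ p), Category.assoc, ← tr_app, ← Category.assoc]
        have : y' ≫ step S.X₂ p = π2 ≫ y - x ≫ app S.f p := by rw [h2]; abel
        rw [this, Preadditive.sub_comp, Category.assoc, hyz, Category.assoc x, app_f_g,
          comp_zero, sub_zero, hz, Category.assoc, Category.assoc, Category.assoc]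
      obtain ⟨T3, π3, hπ3, y'', h5⟩ := ih (p + 1) q hpq (by push_cast at hq; omega) y' (π2 ≫ z) h4
      exact ⟨T3, π3 ≫ π2, epi_comp _ _, y'', by rw [Category.assoc, h5]⟩
  intro p q h T y z hyz
  exact key (q - p).toNat p q h (by omega) y z hyz

end Groth.Agent.H6.FilDLib
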