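import Groth.Agent.H6.FilDBasic
import Mathlib.CategoryTheory.Preadditive.Biproducts
import Mathlib.CategoryTheory.Preadditive.FunctorCategory
import Mathlib.CategoryTheory.Limits.Constructions.FiniteProductsOfBinaryProducts
import Mathlib.CategoryTheory.Limits.Shapes.ZeroMorphisms

/-!
# Binary biproducts of finite filtered objects
-/

set_option autoImplicit false
set_option linter.unusedSectionVars false
universe v u

open CategoryTheory CategoryTheory.Limits Opposite

namespace Groth.Agent.H6.FilDLib

open FilD

variable {A : Type u} [Category.{v} A] [Abelian A]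

lemma biprod_total_app (F G : ℤᵒᵖ ⥤ A) (p : ℤᵒᵖ) :
    (biprod.fst : F ⊞ G ⟶ F).app p ≫ (biprod.inl : F ⟶ F ⊞ G).app p +
      (biprod.snd : F ⊞ G ⟶ G).app p ≫ (biprod.inr : G ⟶ F ⊞ G).app p = 𝟙 _ := by
  rw [← NatTrans.comp_app, ← NatTrans.comp_app, ← NatTrans.app_add, biprod.total]
  rfl

lemma isFinFil_biprod {F G : ℤᵒᵖ ⥤ A} (hF : IsFinFil A F) (hG : IsFinFil A G) :
    IsFinFil A (F ⊞ G) := by
  have hmono : ∀ ⦃p q : ℤᵒᵖ⦄ (f : p ⟶ q), Mono ((F ⊞ G).map f) := by
    intro p q f
    have := hF.1 f
    have := hG.1 f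
    apply Preadditive.mono_of_cancel_zero
    intro T z hz
    have h1 : z ≫ (biprod.fst : F ⊞ G ⟶ F).app p = 0 := by
      rw [← cancel_mono (F.map f), zero_comp, Category.assoc,
        ← (biprod.fst : F ⊞ G ⟶ F).naturality f, ← Category.assoc, hz, zero_comp]
    have h2 : z ≫ (biprod.snd : F ⊞ G ⟶ G).app p = 0 := by
      rw [← cancel_mono (G.map f), zero_comp, Category.assoc,
        ← (biprod.snd : F ⊞ G ⟶ G).naturality f, ← Category.assoc, hz, zero_comp]
    have := congrArg (fun t => z ≫ t) (biprod_total_app F G p)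
    simp only [Preadditive.comp_add, Category.comp_id] at this
    rw [← this, ← Category.assoc, h1, ← Category.assoc, h2, zero_comp, zero_comp, add_zero]
  refine ⟨hmono, ?_, ?_⟩
  · obtain ⟨b1, hb1⟩ := hF.2.1
    obtain ⟨b2, hb2⟩ := hG.2.1
    refine ⟨max b1 b2, fun p hp => ?_⟩
    rw [IsZero.iff_id_eq_zero, ← biprod_total_app F G (op p),
      (hb1 p ((le_max_left _ _).trans hp)).eq_of_tgt ((biprod.fst : F ⊞ G ⟶ F).app (op p)) 0,
      (hb2 p ((le_max_right _ _).trans hp)).eq_of_tgt ((biprod.snd : F ⊞ G ⟶ G).app (op p)) 0,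
      zero_comp, zero_comp, add_zero]
  · obtain ⟨a1, ha1⟩ := hF.2.2
    obtain ⟨a2, ha2⟩ := hG.2.2
    refine ⟨min a1 a2, ?_⟩
    intro p q f hp
    have : IsIso (F.map f) := ha1 f (hp.trans (min_le_left _ _))
    have : IsIso (G.map f) := ha2 f (hp.trans (min_le_right _ _))
    have := hmono f
    have : Epi ((F ⊞ G).map f) := by
      apply Preadditive.epi_of_cancel_zero
      intro T z hz
      have h1 : (biprod.inl : F ⟶ F ⊞ G).app q ≫ z = 0 := by
        rw [← cancel_epi (F.map f), comp_zero, ← Category.assoc,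
          (biprod.inl : F ⟶ F ⊞ G).naturality f, Category.assoc, hz, comp_zero]
      have h2 : (biprod.inr : G ⟶ F ⊞ G).app q ≫ z = 0 := by
        rw [← cancel_epi (G.map f), comp_zero, ← Category.assoc,
          (biprod.inr : G ⟶ F ⊞ G).naturality f, Category.assoc, hz, comp_zero]
      have := congrArg (fun t => t ≫ z) (biprod_total_app F G q)
      simp only [Preadditive.add_comp, Category.id_comp, Category.assoc] at this
      rw [← this, h1, h2, comp_zero, comp_zero, add_zero]
    exact isIso_of_mono_of_epi _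

/-- The biproduct of two finite filtered objects. -/
noncomputable def biprodObj (X Y : FilF A) : FilF A :=
  ⟨X.obj ⊞ Y.obj, isFinFil_biprod X.property Y.property⟩

/-- The binary bicone in `FilF A`. -/
noncomputable def binaryBicone (X Y : FilF A) : BinaryBicone X Y where
  pt := biprodObj X Y
  fst := ObjectProperty.homMk biprod.fst
  snd := ObjectProperty.homMk biprod.snd
  inl := ObjectProperty.homMk biprod.inl
  inr := ObjectProperty.homMk biprod.inr
  inl_fst := by apply ObjectProperty.hom_ext; exact biprod.inl_fst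
  inl_snd := by apply ObjectProperty.hom_ext; exact biprod.inl_snd
  inr_fst := by apply ObjectProperty.hom_ext; exact biprod.inr_fst
  inr_snd := by apply ObjectProperty.hom_ext; exact biprod.inr_snd

instance : HasBinaryBiproducts (FilF A) where
  has_binary_biproduct X Y := HasBinaryBiproduct.mk
    { bicone := binaryBicone X Y
      isBilimit := isBinaryBilimitOfTotal _ (by
        apply ObjectProperty.hom_ext
        exact biprod.total) }

instance : HasZeroObject (FilF A) := inferInstance

instance : HasFiniteProducts (FilF A) := hasFiniteProducts_of_has_binary_and_terminal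

instance : HasFiniteBiproducts (FilF A) :=
  HasFiniteBiproducts.of_hasFiniteProducts

end Groth.Agent.H6.FilDLib
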