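import Groth.Agent.H6.FilDShift

/-!
# Cokernels of strict morphisms of finite filtered objects
-/

set_option autoImplicit false
set_option linter.unusedSectionVars false
universe v u

open CategoryTheory CategoryTheory.Limits Opposite

namespace Groth.Agent.H6.FilDLib

open FilD

variable {A : Type u} [Category.{v} A] [Abelian A]

/-- Levelwise, the cokernel of a natural transformation is a cokernel. -/
noncomputable def cokernelAppIsColimit {F G : ℤᵒᵖ ⥤ A} (α : F ⟶ G) (p : ℤ) :
    IsColimit (CokernelCofork.ofπ ((cokernel.π α).app (op p))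
      (by rw [← NatTrans.comp_app, cokernel.condition]; rfl) : CokernelCofork (α.app (op p))) :=
  CokernelCofork.mapIsColimit _ (cokernelIsCokernel α) ((evaluation ℤᵒᵖ A).obj (op p))

lemma app_comp_cokernel_π_app {F G : ℤᵒᵖ ⥤ A} (α : F ⟶ G) (q : ℤᵒᵖ) :
    α.app q ≫ (cokernel.π α).app q = 0 := by
  rw [← NatTrans.comp_app, cokernel.condition]; rfl

instance epi_cokernel_π_app {F G : ℤᵒᵖ ⥤ A} (α : F ⟶ G) (q : ℤᵒᵖ) :
    Epi ((cokernel.π α).app q) :=
  epi_of_isColimit_cofork (cokernelAppIsColimit α q.unop)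

lemma cokernel_π_app_eq_zero_iff {F G : ℤᵒᵖ ⥤ A} (α : F ⟶ G) (p : ℤ) {T : A}
    (y : T ⟶ G.obj (op p)) :
    y ≫ (cokernel.π α).app (op p) = 0 ↔
      ∃ (T' : A) (π : T' ⟶ T) (_ : Epi π) (x : T' ⟶ F.obj (op p)), π ≫ y = x ≫ α.app (op p) :=
  CokernelCofork.IsColimit.comp_π_eq_zero_iff_up_to_refinements (cokernelAppIsColimit α p) y

/-- The cokernel of a strict morphism of finite filtered objects is finite filtered. -/
lemma isFinFil_cokernel {X Y : FilF A} (u : X ⟶ Y) (hu : IsStrict u) :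
    IsFinFil A (cokernel u.hom) := by
  rw [isStrict_iff] at hu
  have hmono : ∀ ⦃q p : ℤᵒᵖ⦄ (f : q ⟶ p), Mono ((cokernel u.hom).map f) := by
    intro q p f
    have hle : p.unop ≤ q.unop := leOfHom f.unop
    have hf : f = (homOfLE hle).op := Subsingleton.elim _ _
    apply Preadditive.mono_of_cancel_zero
    intro T z hz
    obtain ⟨T1, π1, hπ1, y, hy⟩ :=
      surjective_up_to_refinements_of_epi ((cokernel.π u.hom).app q) z
    have h1 : (y ≫ Y.obj.map f) ≫ (cokernel.π u.hom).app p = 0 := by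
      rw [Category.assoc, (cokernel.π u.hom).naturality f, ← Category.assoc, ← hy, Category.assoc,
        hz, comp_zero]
    obtain ⟨T2, π2, hπ2, x, hx⟩ := (cokernel_π_app_eq_zero_iff u.hom p.unop _).1 h1
    have hx' : x ≫ app u p.unop = (π2 ≫ y) ≫ tr Y hle := by
      rw [Category.assoc, ← hx, hf]
    obtain ⟨T3, π3, hπ3, x', hx''⟩ := hu p.unop q.unop hle x (π2 ≫ y) hx'
    have h2 : (π3 ≫ π2 ≫ π1) ≫ z = 0 := by
      rw [Category.assoc, Category.assoc, hy, ← Category.assoc π2, ← Category.assoc π3, hx'',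
        Category.assoc]
      erw [app_comp_cokernel_π_app u.hom q]
      rw [comp_zero]
    rw [← cancel_epi (π3 ≫ π2 ≫ π1), h2, comp_zero]
  refine ⟨hmono, ?_, ?_⟩
  · obtain ⟨b, hb⟩ := Y.property.2.1
    refine ⟨b, fun p hp => ?_⟩
    rw [IsZero.iff_id_eq_zero, ← cancel_epi ((cokernel.π u.hom).app (op p)), comp_zero,
      Category.comp_id]
    exact (hb p hp).eq_of_src _ _
  · obtain ⟨a, ha⟩ := Y.property.2.2
    refine ⟨a, ?_⟩
    intro q p f hq
    have : IsIso (Y.obj.map f) := ha f hq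
    have := hmono f
    have : Epi ((cokernel.π u.hom).app q ≫ (cokernel u.hom).map f) := by
      rw [← (cokernel.π u.hom).naturality f]
      infer_instance
    have : Epi ((cokernel u.hom).map f) := epi_of_epi ((cokernel.π u.hom).app q) _
    exact isIso_of_mono_of_epi _

/-- The cokernel object of a strict morphism. -/
noncomputable def cokerObj {X Y : FilF A} (u : X ⟶ Y) (hu : IsStrict u) : FilF A :=
  ⟨cokernel u.hom, isFinFil_cokernel u hu⟩

/-- The projection to the cokernel object. -/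
noncomputable def cokerProj {X Y : FilF A} (u : X ⟶ Y) (hu : IsStrict u) : Y ⟶ cokerObj u hu :=
  ObjectProperty.homMk (cokernel.π u.hom)

@[reassoc]
lemma comp_cokerProj {X Y : FilF A} (u : X ⟶ Y) (hu : IsStrict u) : u ≫ cokerProj u hu = 0 := by
  apply ObjectProperty.hom_ext
  exact cokernel.condition u.hom

instance epi_app_cokerProj {X Y : FilF A} (u : X ⟶ Y) (hu : IsStrict u) (p : ℤ) :
    Epi (app (cokerProj u hu) p) :=
  epi_cokernel_π_app u.hom (op p)

lemma app_cokerProj_eq_zero_iff {X Y : FilF A} (u : X ⟶ Y) (hu : IsStrict u) (p : ℤ) {T : A}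
    (y : T ⟶ lev Y p) :
    y ≫ app (cokerProj u hu) p = 0 ↔
      ∃ (T' : A) (π : T' ⟶ T) (_ : Epi π) (x : T' ⟶ lev X p), π ≫ y = x ≫ app u p :=
  cokernel_π_app_eq_zero_iff u.hom p y

/-- For a strict monomorphism, the graded pieces are monomorphisms. -/
lemma mono_gr_of_mono_of_isStrict {X Y : FilF A} (u : X ⟶ Y) [Mono u] (hu : IsStrict u) (p : ℤ) :
    Mono ((grF A p).map u) := by
  rw [isStrict_iff] at hu
  have := mono_app_of_mono u p
  apply Preadditive.mono_of_cancel_zero
  intro T z hz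
  obtain ⟨T1, π1, hπ1, x, hx⟩ := surjective_up_to_refinements_of_epi (grπ X p) z
  have h1 : (x ≫ app u p) ≫ grπ Y p = 0 := by
    rw [Category.assoc, ← grπ_map, ← Category.assoc, ← hx, Category.assoc, hz, comp_zero]
  obtain ⟨y', hy'⟩ := exists_lift_of_comp_grπ_eq_zero Y p _ h1
  obtain ⟨T2, π2, hπ2, x', hx'⟩ := hu p (p + 1) _ x y' hy'.symm
  have h2 : π2 ≫ x = x' ≫ step X p := by
    rw [← cancel_mono (app u p), Category.assoc, ← hy', ← Category.assoc, hx', Category.assoc,
      Category.assoc, tr_app]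
  rw [← cancel_epi (π2 ≫ π1), comp_zero, Category.assoc, hx, ← Category.assoc, h2, Category.assoc,
    step_grπ, comp_zero]

/-- Exactness of `gr X ⟶ gr Y ⟶ gr (Y/X)` for a strict morphism. -/
lemma gr_exact_cokerProj {X Y : FilF A} (u : X ⟶ Y) (hu : IsStrict u) (p : ℤ) :
    ((ShortComplex.mk u (cokerProj u hu) (comp_cokerProj u hu)).map (grF A p)).Exact := by
  rw [ShortComplex.exact_iff_exact_up_to_refinements]
  intro T ybar hybar
  change T ⟶ (grF A p).obj Y at ybar
  change ybar ≫ (grF A p).map (cokerProj u hu) = 0 at hybar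
  obtain ⟨T1, π1, hπ1, y, hy⟩ := surjective_up_to_refinements_of_epi (grπ Y p) ybar
  have h1 : (y ≫ app (cokerProj u hu) p) ≫ grπ (cokerObj u hu) p = 0 := by
    rw [Category.assoc, ← grπ_map, ← Category.assoc, ← hy, Category.assoc, hybar, comp_zero]
  obtain ⟨c, hc⟩ := exists_lift_of_comp_grπ_eq_zero (cokerObj u hu) p _ h1
  obtain ⟨T2, π2, hπ2, y', hy'⟩ :=
    surjective_up_to_refinements_of_epi (app (cokerProj u hu) (p + 1)) c
  have h2 : (π2 ≫ y - y' ≫ step Y p) ≫ app (cokerProj u hu) p = 0 := by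
    rw [Preadditive.sub_comp, Category.assoc, ← hc, ← Category.assoc π2, hy', Category.assoc,
      Category.assoc, tr_app, sub_self]
  obtain ⟨T3, π3, hπ3, x, hx⟩ := (app_cokerProj_eq_zero_iff u hu p _).1 h2
  refine ⟨T3, π3 ≫ π2 ≫ π1, epi_comp _ _, x ≫ grπ X p, ?_⟩
  change (π3 ≫ π2 ≫ π1) ≫ ybar = (x ≫ grπ X p) ≫ (grF A p).map u
  rw [Category.assoc, Category.assoc, hy, Category.assoc x, grπ_map, ← Category.assoc x, ← hx,
    Preadditive.comp_sub, Preadditive.sub_comp, Category.assoc, Category.assoc, Category.assoc,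
    Category.assoc, step_grπ, comp_zero, comp_zero, sub_zero]

instance epi_gr_cokerProj {X Y : FilF A} (u : X ⟶ Y) (hu : IsStrict u) (p : ℤ) :
    Epi ((grF A p).map (cokerProj u hu)) := by
  have : Epi (grπ Y p ≫ (grF A p).map (cokerProj u hu)) := by
    rw [grπ_map]
    infer_instance
  exact epi_of_epi (grπ Y p) _

end Groth.Agent.H6.FilDLib
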