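import Groth.Agent.H6.FilDKer
import Mathlib.CategoryTheory.Preadditive.Injective.Basic
import Mathlib.Algebra.Homology.ShortComplex.Exact
import Mathlib.Algebra.Homology.ShortComplex.ShortExact

/-!
# Filtered injective objects: extension along strict monomorphisms
-/

set_option autoImplicit false
set_option linter.unusedSectionVars false
universe v u

open CategoryTheory CategoryTheory.Limits Opposite

namespace Groth.Agent.H6.FilDLib

open FilD

variable {A : Type u} [Category.{v} A] [Abelian A]

section general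

variable {C : Type u} [Category.{v} C] [Abelian C]

/-- An extension of injective objects is injective. -/
lemma injective_of_shortExact (S : ShortComplex C) (hS : S.ShortExact)
    (h1 : Injective S.X₁) (h3 : Injective S.X₃) : Injective S.X₂ := by
  have := hS.mono_f
  have := hS.epi_g
  let r : S.X₂ ⟶ S.X₁ := Injective.factorThru (𝟙 S.X₁) S.f
  have hr : S.f ≫ r = 𝟙 _ := Injective.comp_factorThru _ _
  let spl := ShortComplex.Splitting.ofExactOfRetraction S hS.exact r hr inferInstance
  exact Injective.of_iso spl.isoBinaryBiproduct.symm inferInstance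

/-- Extension of a morphism defined on two pieces to an injective object. -/
lemma exists_extension_of_injective {X Y' Y I : C} [Injective I] (u : X ⟶ Y) (t : Y' ⟶ Y)
    (g : X ⟶ I) (h : Y' ⟶ I)
    (compat : ∀ ⦃T : C⦄ (x : T ⟶ X) (y : T ⟶ Y'), x ≫ u = y ≫ t → x ≫ g = y ≫ h) :
    ∃ G : Y ⟶ I, u ≫ G = g ∧ t ≫ G = h := by
  let f : X ⊞ Y' ⟶ Y := biprod.desc u t
  let m : X ⊞ Y' ⟶ I := biprod.desc g h
  have hk : kernel.ι f ≫ m = 0 := by
    have h0 : kernel.ι f ≫ f = 0 := kernel.condition f
    have h1 : (kernel.ι f ≫ biprod.fst) ≫ u = (-(kernel.ι f ≫ biprod.snd)) ≫ t := by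
      have : kernel.ι f ≫ f = (kernel.ι f ≫ biprod.fst) ≫ u + (kernel.ι f ≫ biprod.snd) ≫ t := by
        rw [Category.assoc, Category.assoc, ← Preadditive.comp_add]
        congr 1
        apply biprod.hom_ext' <;> simp [f]
      rw [this] at h0
      rw [Preadditive.neg_comp]
      exact eq_neg_of_add_eq_zero_left h0
    have h2 := compat _ _ h1
    have : kernel.ι f ≫ m = (kernel.ι f ≫ biprod.fst) ≫ g + (kernel.ι f ≫ biprod.snd) ≫ h := by
      rw [Category.assoc, Category.assoc, ← Preadditive.comp_add]
      congr 1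
      apply biprod.hom_ext' <;> simp [m]
    rw [this, h2, Preadditive.neg_comp, neg_add_cancel]
  -- `m` factors through the image of `f`
  let e : X ⊞ Y' ⟶ Abelian.image f := Abelian.factorThruImage f
  have he : e ≫ Abelian.image.ι f = f := Abelian.image.fac f
  have hke : kernel.ι e ≫ m = 0 := by
    have : kernel.ι e ≫ f = 0 := by
      have h' : kernel.ι e ≫ f = kernel.ι e ≫ e ≫ Abelian.image.ι f := by rw [he]
      rw [h', ← Category.assoc, kernel.condition, zero_comp]
    rw [← kernel.lift_ι f (kernel.ι e) this, Category.assoc, hk, comp_zero]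
  let m' : Abelian.image f ⟶ I := Abelian.epiDesc e m hke
  have hm' : e ≫ m' = m := Abelian.comp_epiDesc e m hke
  let G : Y ⟶ I := Injective.factorThru m' (Abelian.image.ι f)
  have hG : Abelian.image.ι f ≫ G = m' := Injective.comp_factorThru _ _
  have hfG : f ≫ G = m := by rw [← he, Category.assoc, hG, hm']
  refine ⟨G, ?_, ?_⟩
  · have := congrArg (fun z => biprod.inl ≫ z) hfG
    simpa [f, m] using this
  · have := congrArg (fun z => biprod.inr ≫ z) hfG
    simpa [f, m] using this

end general

/-- The kernel of a morphism of finite filtered objects is finite filtered. -/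
lemma isFinFil_kernel {X Y : FilF A} (u : X ⟶ Y) : IsFinFil A (kernel u.hom) := by
  have hmono : ∀ p : ℤ, Mono ((kernel.ι u.hom).app (op p)) := fun p =>
    mono_of_isLimit_fork (kernelAppIsLimit u.hom p)
  have hmono' : ∀ q : ℤᵒᵖ, Mono ((kernel.ι u.hom).app q) := fun q => hmono q.unop
  refine ⟨?_, ?_, ?_⟩
  · intro p q f
    have := hmono' p
    have : Mono (X.obj.map f) := X.property.1 f
    have : Mono ((kernel u.hom).map f ≫ (kernel.ι u.hom).app q) := by
      rw [(kernel.ι u.hom).naturality f]
      infer_instance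
    exact mono_of_mono _ ((kernel.ι u.hom).app q)
  · obtain ⟨b, hb⟩ := X.property.2.1
    refine ⟨b, fun p hp => ?_⟩
    have := hmono p
    exact IsZero.of_mono ((kernel.ι u.hom).app (op p)) (hb p hp)
  · obtain ⟨a1, ha1⟩ := X.property.2.2
    obtain ⟨a2, ha2⟩ := Y.property.2.2
    refine ⟨min a1 a2, ?_⟩
    intro p q f hp
    have : IsIso (X.obj.map f) := ha1 f (hp.trans (min_le_left _ _))
    have : Mono (Y.obj.map f) := Y.property.1 f
    have := hmono' p
    have := hmono' q
    -- construct a section
    have h1 : ((kernel.ι u.hom).app q ≫ inv (X.obj.map f)) ≫ u.hom.app p = 0 := by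
      rw [← cancel_mono (Y.obj.map f), zero_comp, Category.assoc, Category.assoc,
        ← u.hom.naturality f, IsIso.inv_hom_id_assoc]
      exact kernel_ι_app_comp u.hom q.unop
    obtain ⟨k, hk⟩ := exists_kernel_lift u.hom p.unop _ h1
    have hsec : k ≫ (kernel u.hom).map f = 𝟙 _ := by
      rw [← cancel_mono ((kernel.ι u.hom).app q), Category.assoc, (kernel.ι u.hom).naturality f,
        ← Category.assoc]
      erw [hk]
      rw [Category.assoc, IsIso.inv_hom_id, Category.comp_id, Category.id_comp]
    have : Mono ((kernel u.hom).map f) := by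
      have : Mono ((kernel u.hom).map f ≫ (kernel.ι u.hom).app q) := by
        rw [(kernel.ι u.hom).naturality f]
        infer_instance
      exact mono_of_mono _ ((kernel.ι u.hom).app q)
    have : Epi ((kernel u.hom).map f) := epi_of_epi_fac hsec
    exact isIso_of_mono_of_epi _

/-- A monomorphism of finite filtered objects is a levelwise monomorphism. -/
lemma mono_app_of_mono {X Y : FilF A} (u : X ⟶ Y) [Mono u] (p : ℤ) : Mono (app u p) := by
  let K : FilF A := ⟨kernel u.hom, isFinFil_kernel u⟩
  let ι : K ⟶ X := ObjectProperty.homMk (kernel.ι u.hom)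
  have h0 : ι ≫ u = (0 : K ⟶ X) ≫ u := by
    apply ObjectProperty.hom_ext
    change kernel.ι u.hom ≫ u.hom = ((0 : K ⟶ X) ≫ u).hom
    rw [kernel.condition, zero_comp]
    rfl
  have h1 : ι = 0 := (cancel_mono u).1 h0
  have h2 : (kernel.ι u.hom).app (op p) = 0 := by
    have : ι.hom = 0 := by rw [h1]; rfl
    change ι.hom.app (op p) = 0
    rw [this]; rfl
  apply Preadditive.mono_of_cancel_zero
  intro T x hx
  obtain ⟨k, hk⟩ := exists_kernel_lift u.hom p x hx
  rw [← hk, h2, comp_zero]

/-- The short exact sequence `0 ⟶ F^{p+1} ⟶ F^p ⟶ gr^p ⟶ 0`. -/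
lemma shortExact_step_grπ (X : FilF A) (p : ℤ) :
    (ShortComplex.mk (step X p) (grπ X p) (step_grπ X p)).ShortExact := by
  refine ShortComplex.ShortExact.mk' ?_ inferInstance inferInstance
  exact ShortComplex.exact_of_g_is_cokernel _ (cokernelIsCokernel _)

/-- All levels of a filtered injective object are injective. -/
lemma injective_lev {I : FilF A} (hI : IsFilteredInjective I) : ∀ p : ℤ, Injective (lev I p) := by
  obtain ⟨b, hb⟩ := exists_zero_bound I
  refine int_desc_induction (P := fun p => Injective (lev I p)) b ?_ ?_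
  · intro p hp
    exact (hb p hp).injective
  · intro p ih
    exact injective_of_shortExact _ (shortExact_step_grπ I p) ih (hI p)

end Groth.Agent.H6.FilDLib

namespace Groth.Agent.H6.FilDLib

open FilD

variable {A : Type u} [Category.{v} A] [Abelian A]

/-- Level step of the extension: `u` strict, the kernel of `u` is killed by `g`. -/
lemma exists_extension_level' {X Y I : FilF A} (u : X ⟶ Y) (hu : IsStrict u)
    (hI : IsFilteredInjective I) (g : X ⟶ I)
    (hker : ∀ (p : ℤ) ⦃T : A⦄ (x : T ⟶ lev X p), x ≫ app u p = 0 → x ≫ app g p = 0)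
    {p q : ℤ} (h : p ≤ q) (Gq : lev Y q ⟶ lev I q)
    (hGq : app u q ≫ Gq = app g q) :
    ∃ Gp : lev Y p ⟶ lev I p, app u p ≫ Gp = app g p ∧ tr Y h ≫ Gp = Gq ≫ tr I h := by
  have := injective_lev hI p
  rw [isStrict_iff] at hu
  apply exists_extension_of_injective
  intro T x y hxy
  obtain ⟨T', π, hπ, x', hx'⟩ := hu p q h x y hxy
  have h1 : (π ≫ x - x' ≫ tr X h) ≫ app u p = 0 := by
    rw [Preadditive.sub_comp, Category.assoc, hxy, ← Category.assoc, hx', Category.assoc,
      Category.assoc, tr_app, sub_self]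
  have h2 := hker p _ h1
  rw [Preadditive.sub_comp, sub_eq_zero, Category.assoc, Category.assoc] at h2
  rw [← cancel_epi π, h2, tr_app g h, ← Category.assoc π,
    hx', Category.assoc, ← Category.assoc (app u q), hGq]

/-- Morphisms into a filtered injective object extend along strict morphisms, provided they
kill the kernel. -/
theorem exists_extension' {X Y I : FilF A} (u : X ⟶ Y) (hu : IsStrict u)
    (hI : IsFilteredInjective I) (g : X ⟶ I)
    (hker : ∀ (p : ℤ) ⦃T : A⦄ (x : T ⟶ lev X p), x ≫ app u p = 0 → x ≫ app g p = 0) :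
    ∃ G : Y ⟶ I, u ≫ G = g := by
  classical
  obtain ⟨b, hb⟩ := exists_zero_bound I
  let M : ℤ → Type v := fun k => {G : lev Y k ⟶ lev I k // app u k ≫ G = app g k}
  let zero : M b := ⟨0, (hb b le_rfl).eq_of_tgt _ _⟩
  let succ : ∀ k : ℤ, b ≤ k → M k → M (k + 1) := fun k hk _ =>
    ⟨0, (hb (k + 1) (by omega)).eq_of_tgt _ _⟩
  have hstep : ∀ (k : ℤ) (s : M k), ∃ Gp : lev Y (k - 1) ⟶ lev I (k - 1),
      app u (k - 1) ≫ Gp = app g (k - 1) ∧
        tr Y (by omega : k - 1 ≤ k) ≫ Gp = s.1 ≫ tr I (by omega : k - 1 ≤ k) :=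
    fun k s => exists_extension_level' u hu hI g hker _ s.1 s.2
  let pred : ∀ k : ℤ, k ≤ b → M k → M (k - 1) := fun k _ s =>
    ⟨(hstep k s).choose, (hstep k s).choose_spec.1⟩
  let sol : ∀ k : ℤ, M k := fun k => Int.inductionOn' k b zero succ pred
  have hsol : ∀ k : ℤ, tr Y (by omega : k - 1 ≤ k) ≫ (sol (k - 1)).1 =
      (sol k).1 ≫ tr I (by omega : k - 1 ≤ k) := by
    intro k
    by_cases hk : k ≤ b
    · have : sol (k - 1) = pred k hk (sol k) := Int.inductionOn'_sub_one hk
      rw [this]
      exact (hstep k (sol k)).choose_spec.2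
    · exact (hb (k - 1) (by omega)).eq_of_tgt _ _
  have hnat : ∀ (n : ℕ) (p q : ℤ) (h : p ≤ q), q = p + n →
      tr Y h ≫ (sol p).1 = (sol q).1 ≫ tr I h := by
    intro n
    induction n with
    | zero =>
      intro p q h hq
      obtain rfl : q = p := by simpa using hq
      rw [tr_refl, tr_refl, Category.id_comp, Category.comp_id]
    | succ k ih =>
      intro p q h hq
      have h1 : p ≤ q - 1 := by push_cast at hq; omega
      have h2 : q - 1 ≤ q := by omega
      rw [← tr_tr Y h1 h2, ← tr_tr I h1 h2, Category.assoc, ih p (q - 1) h1 (by push_cast at hq; omega),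
        ← Category.assoc, hsol q, Category.assoc]
  let Gnat : Y.obj ⟶ I.obj :=
    { app := fun q => (sol q.unop).1
      naturality := by
        intro q q' f
        have hle : q'.unop ≤ q.unop := leOfHom f.unop
        have hf : f = (homOfLE hle).op := Subsingleton.elim _ _
        rw [hf]
        exact hnat (q.unop - q'.unop).toNat q'.unop q.unop hle (by omega) }
  refine ⟨ObjectProperty.homMk Gnat, ?_⟩
  apply ObjectProperty.hom_ext
  ext q
  exact (sol q.unop).2

/-- Morphisms into a filtered injective object extend along strict monomorphisms. -/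
theorem exists_extension {X Y I : FilF A} (u : X ⟶ Y) [Mono u] (hu : IsStrict u)
    (hI : IsFilteredInjective I) (g : X ⟶ I) : ∃ G : Y ⟶ I, u ≫ G = g := by
  apply exists_extension' u hu hI g
  intro p T x hx
  have := mono_app_of_mono u p
  have hx0 : x = 0 := by rw [← cancel_mono (app u p), hx, zero_comp]
  rw [hx0, zero_comp]

/-- Lemma E: if `X ⟶ Y ⟶ Z` is a complex of finite filtered objects with exact graded pieces,
a morphism `ψ : Y ⟶ I` to a filtered injective object killing `X` factors through `Y ⟶ Z`. -/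
theorem exists_factor_of_gr_exact (S : ShortComplex (FilF A))
    (hS : ∀ p : ℤ, (S.map (grF A p)).Exact) {I : FilF A} (hI : IsFilteredInjective I)
    (ψ : S.X₂ ⟶ I) (hψ : S.f ≫ ψ = 0) : ∃ χ : S.X₃ ⟶ I, S.g ≫ χ = ψ := by
  apply exists_extension' S.g (isStrict_g_of_gr_exact S hS) hI ψ
  intro p T x hx
  obtain ⟨T', π, hπ, x1, h1⟩ := levelwise_exact_refinements S hS p x hx
  rw [← cancel_epi π, comp_zero, ← Category.assoc, h1, Category.assoc, ← app_comp, hψ]
  exact comp_zero

end Groth.Agent.H6.FilDLib
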