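import Groth.Agent.H6.FilDBasic
import Mathlib.CategoryTheory.Limits.Preserves.Shapes.Kernels
import Mathlib.CategoryTheory.Limits.FunctorCategory.Basic

/-!
# Strictness and the graded pieces of the kernel
-/

set_option autoImplicit false
set_option linter.unusedSectionVars false
universe v u

open CategoryTheory CategoryTheory.Limits Opposite

namespace Groth.Agent.H6.FilDLib

open FilD

variable {A : Type u} [Category.{v} A] [Abelian A]

/-- The projection to the graded piece, for general functors. -/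
noncomputable abbrev grπ' (F : ℤᵒᵖ ⥤ A) (p : ℤ) : F.obj (op p) ⟶ (gr A p).obj F :=
  cokernel.π (F.map (stepHom p))

instance (F : ℤᵒᵖ ⥤ A) (p : ℤ) : Epi (grπ' F p) := coequalizer.π_epi

@[reassoc]
lemma grπ'_map {F G : ℤᵒᵖ ⥤ A} (α : F ⟶ G) (p : ℤ) :
    grπ' F p ≫ (gr A p).map α = α.app (op p) ≫ grπ' G p := by
  dsimp [grπ', gr]
  simp

/-- Levelwise, the kernel of a natural transformation is a kernel. -/
noncomputable def kernelAppIsLimit {F G : ℤᵒᵖ ⥤ A} (α : F ⟶ G) (p : ℤ) :
    IsLimit (KernelFork.ofι ((kernel.ι α).app (op p))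
      (by rw [← NatTrans.comp_app, kernel.condition]; rfl) : KernelFork (α.app (op p))) :=
  KernelFork.mapIsLimit _ (kernelIsKernel α) ((evaluation ℤᵒᵖ A).obj (op p))

lemma kernel_ι_app_comp {F G : ℤᵒᵖ ⥤ A} (α : F ⟶ G) (p : ℤ) :
    (kernel.ι α).app (op p) ≫ α.app (op p) = 0 := by
  rw [← NatTrans.comp_app, kernel.condition]; rfl

lemma exists_kernel_lift {F G : ℤᵒᵖ ⥤ A} (α : F ⟶ G) (p : ℤ) {T : A} (x : T ⟶ F.obj (op p))
    (hx : x ≫ α.app (op p) = 0) :
    ∃ k : T ⟶ (kernel α).obj (op p), k ≫ (kernel.ι α).app (op p) = x :=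
  ⟨(kernelAppIsLimit α p).lift (KernelFork.ofι x hx),
    (kernelAppIsLimit α p).fac (KernelFork.ofι x hx) WalkingParallelPair.zero⟩

theorem isStrict_iff_gr_kernel_exact {X Y : FilF A} (φ : X ⟶ Y) :
    IsStrict φ ↔
      ∀ p : ℤ, ((ShortComplex.mk (kernel.ι φ.hom) φ.hom (kernel.condition φ.hom)).map
        (gr A p)).Exact := by
  constructor
  · intro hφ p
    rw [isStrict_iff] at hφ
    rw [ShortComplex.exact_iff_exact_up_to_refinements]
    intro T xbar hxbar
    change T ⟶ (grF A p).obj X at xbar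
    change xbar ≫ (grF A p).map φ = 0 at hxbar
    obtain ⟨T1, π1, hπ1, x, hx⟩ := surjective_up_to_refinements_of_epi (grπ X p) xbar
    have h1 : (x ≫ app φ p) ≫ grπ Y p = 0 := by
      rw [Category.assoc, ← grπ_map, ← Category.assoc, ← hx, Category.assoc, hxbar, comp_zero]
    obtain ⟨y', hy'⟩ := exists_lift_of_comp_grπ_eq_zero Y p _ h1
    obtain ⟨T2, π2, hπ2, x', hx'⟩ := hφ p (p + 1) _ x y' hy'.symm
    have h2 : (π2 ≫ x - x' ≫ step X p) ≫ app φ p = 0 := by
      rw [Preadditive.sub_comp, Category.assoc, ← hy', ← Category.assoc π2, hx', Category.assoc,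
        Category.assoc, tr_app, sub_self]
    obtain ⟨k, hk⟩ := exists_kernel_lift φ.hom p _ h2
    refine ⟨T2, π2 ≫ π1, epi_comp _ _, k ≫ grπ' (kernel φ.hom) p, ?_⟩
    change (π2 ≫ π1) ≫ xbar = (k ≫ grπ' (kernel φ.hom) p) ≫ (gr A p).map (kernel.ι φ.hom)
    rw [Category.assoc, Category.assoc, grπ'_map, ← Category.assoc k, hk, hx,
      Preadditive.sub_comp, Category.assoc, Category.assoc]
    change π2 ≫ x ≫ grπ X p = π2 ≫ x ≫ grπ X p - x' ≫ step X p ≫ grπ X p
    rw [step_grπ, comp_zero, sub_zero]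
  · intro hex
    rw [isStrict_iff]
    have key : ∀ (n : ℕ) (p q : ℤ) (h : p ≤ q), q = p + n → ∀ ⦃T : A⦄ (x : T ⟶ lev X p)
        (y : T ⟶ lev Y q), x ≫ app φ p = y ≫ tr Y h →
          ∃ (T' : A) (π : T' ⟶ T) (_ : Epi π) (x' : T' ⟶ lev X q), π ≫ y = x' ≫ app φ q := by
      intro n
      induction n with
      | zero =>
        intro p q h hq T x y hxy
        obtain rfl : q = p := by simpa using hq
        refine ⟨T, 𝟙 T, inferInstance, x, ?_⟩
        rw [Category.id_comp, hxy, tr_refl, Category.comp_id]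
      | succ k ih =>
        intro p q h hq T x y hxy
        have hpq : p + 1 ≤ q := by push_cast at hq; omega
        have hy : y ≫ tr Y h = (y ≫ tr Y hpq) ≫ step Y p := by
          rw [Category.assoc, tr_tr]
        have h1 : (x ≫ grπ X p) ≫ ((ShortComplex.mk (kernel.ι φ.hom) φ.hom
            (kernel.condition φ.hom)).map (gr A p)).g = 0 := by
          change (x ≫ grπ X p) ≫ (grF A p).map φ = 0
          rw [Category.assoc, grπ_map, ← Category.assoc, hxy, hy, Category.assoc, step_grπ,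
            comp_zero]
        obtain ⟨T1, π1, hπ1, kbar, hk1⟩ : ∃ (T1 : A) (π1 : T1 ⟶ T) (_ : Epi π1)
            (kbar : T1 ⟶ (gr A p).obj (kernel φ.hom)),
            π1 ≫ x ≫ grπ X p = kbar ≫ (gr A p).map (kernel.ι φ.hom) :=
          (hex p).exact_up_to_refinements _ h1
        obtain ⟨T2, π2, hπ2, k, hk2⟩ :=
          surjective_up_to_refinements_of_epi (grπ' (kernel φ.hom) p) kbar
        have h3 : (π2 ≫ π1 ≫ x - k ≫ (kernel.ι φ.hom).app (op p)) ≫ grπ X p = 0 := by
          rw [Preadditive.sub_comp, Category.assoc, Category.assoc, hk1, ← Category.assoc π2, hk2,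
            Category.assoc, Category.assoc, grπ'_map, sub_self]
        obtain ⟨x'', hx''⟩ := exists_lift_of_comp_grπ_eq_zero X p _ h3
        have h4 : x'' ≫ app φ (p + 1) = (π2 ≫ π1 ≫ y) ≫ tr Y hpq := by
          rw [← cancel_mono (step Y p), Category.assoc, ← tr_app, ← Category.assoc, hx'',
            Preadditive.sub_comp, Category.assoc, Category.assoc, hxy, Category.assoc k,
            kernel_ι_app_comp, comp_zero, sub_zero, hy, Category.assoc, Category.assoc,
            Category.assoc, Category.assoc]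
        obtain ⟨T3, π3, hπ3, x', h5⟩ :=
          ih (p + 1) q hpq (by push_cast at hq; omega) x'' (π2 ≫ π1 ≫ y) h4
        exact ⟨T3, π3 ≫ π2 ≫ π1, epi_comp _ _, x', by rw [Category.assoc, Category.assoc, h5]⟩
    intro p q h T x y hxy
    exact key (q - p).toNat p q h (by omega) x y hxy

end Groth.Agent.H6.FilDLib
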