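import Groth.Agent.H6.FilDInj
import Mathlib.Algebra.Homology.Homotopy
import Mathlib.Algebra.Homology.Embedding.CochainComplex

/-!
# Maps from filtered acyclic complexes to bounded below filtered injective complexes
-/

set_option autoImplicit false
set_option linter.unusedSectionVars false
universe v u

open CategoryTheory CategoryTheory.Limits Opposite

namespace Groth.Agent.H6.FilDLib

open FilD

variable {A : Type u} [Category.{v} A] [Abelian A]

lemma gr_exact_of_filteredAcyclic (K : CochainComplex (FilF A) ℤ) (hK : IsFilteredAcyclic K)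
    (k : ℤ) (p : ℤ) :
    ((ShortComplex.mk (K.d k (k + 1)) (K.d (k + 1) (k + 1 + 1)) (K.d_comp_d _ _ _)).map
      (grF A p)).Exact := by
  have h := hK p (k + 1)
  rw [HomologicalComplex.exactAt_iff' _ k (k + 1) (k + 1 + 1) (by simp) (by simp)] at h
  exact h

theorem nullHomotopic_of_filteredAcyclic (K I : CochainComplex (FilF A) ℤ)
    (hK : IsFilteredAcyclic K) (a : ℤ) [I.IsStrictlyGE a]
    (hI : ∀ n, IsFilteredInjective (I.X n)) (φ : K ⟶ I) : Nonempty (Homotopy φ 0) := by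
  classical
  have hz : ∀ n : ℤ, n < a → IsZero (I.X n) := fun n hn => I.isZero_of_isStrictlyGE a n hn
  let M : ℤ → Type _ := fun k => {H : K.X (k + 1) ⟶ I.X k //
    K.d k (k + 1) ≫ H ≫ I.d k (k + 1) = φ.f k ≫ I.d k (k + 1)}
  let zero : M (a - 1) := ⟨0, by
    rw [(hz (a - 1) (by omega)).eq_of_tgt (φ.f (a - 1)) 0]; simp⟩
  let pred : ∀ k : ℤ, k ≤ a - 1 → M k → M (k - 1) := fun k hk _ => ⟨0, by
    rw [(hz (k - 1) (by omega)).eq_of_tgt (φ.f (k - 1)) 0]; simp⟩
  have hstep : ∀ (k : ℤ) (s : M k), ∃ χ : K.X (k + 1 + 1) ⟶ I.X (k + 1),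
      K.d (k + 1) (k + 1 + 1) ≫ χ = φ.f (k + 1) - s.1 ≫ I.d k (k + 1) := by
    intro k s
    refine exists_factor_of_gr_exact
      (ShortComplex.mk (K.d k (k + 1)) (K.d (k + 1) (k + 1 + 1)) (K.d_comp_d _ _ _))
      (gr_exact_of_filteredAcyclic K hK k) (hI (k + 1)) (φ.f (k + 1) - s.1 ≫ I.d k (k + 1)) ?_
    change K.d k (k + 1) ≫ (φ.f (k + 1) - s.1 ≫ I.d k (k + 1)) = 0
    rw [Preadditive.comp_sub, s.2, φ.comm k (k + 1), sub_self]
  let succ : ∀ k : ℤ, a - 1 ≤ k → M k → M (k + 1) := fun k _ s =>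
    ⟨(hstep k s).choose, by
      rw [← Category.assoc, (hstep k s).choose_spec, Preadditive.sub_comp, Category.assoc,
        I.d_comp_d, comp_zero, sub_zero]⟩
  let sol : ∀ k : ℤ, M k := fun k => Int.inductionOn' k (a - 1) zero succ pred
  have hsol : ∀ k : ℤ, K.d (k + 1) (k + 1 + 1) ≫ (sol (k + 1)).1 =
      φ.f (k + 1) - (sol k).1 ≫ I.d k (k + 1) := by
    intro k
    by_cases hk : a - 1 ≤ k
    · have : sol (k + 1) = succ k hk (sol k) := Int.inductionOn'_add_one hk
      rw [this]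
      exact (hstep k (sol k)).choose_spec
    · exact (hz (k + 1) (by omega)).eq_of_tgt _ _
  let hom : ∀ i j, K.X i ⟶ I.X j := fun i j =>
    if h : j + 1 = i then eqToHom (by rw [h]) ≫ (sol j).1 else 0
  have hom_succ : ∀ k : ℤ, hom (k + 1) k = (sol k).1 := by
    intro k
    simp only [hom, dif_pos rfl, eqToHom_refl, Category.id_comp]
  refine ⟨{ hom := hom, zero := ?_, comm := ?_ }⟩
  · intro i j hij
    have : ¬ (j + 1 = i) := hij
    simp only [hom, dif_neg this]
  · intro i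
    obtain ⟨k, rfl⟩ : ∃ k, i = k + 1 := ⟨i - 1, by omega⟩
    rw [dNext_eq hom (show (ComplexShape.up ℤ).Rel (k + 1) (k + 1 + 1) from rfl),
      prevD_eq hom (show (ComplexShape.up ℤ).Rel k (k + 1) from rfl), hom_succ, hom_succ, hsol]
    simp

end Groth.Agent.H6.FilDLib
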