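import Groth.Agent.H6.FilDShift
import Groth.Agent.H6.FilDHtpy
import Mathlib.Algebra.Homology.Single
import Mathlib.Algebra.Homology.QuasiIso
import Mathlib.Algebra.Homology.HomotopyCategory.SingleFunctors

/-!
# Consequences of being a filtered resolution `Z[0] ⟶ J`
-/

set_option autoImplicit false
set_option linter.unusedSectionVars false
universe v u

open CategoryTheory CategoryTheory.Limits Opposite

namespace Groth.Agent.H6.FilDLib

open FilD

variable {A : Type u} [Category.{v} A] [Abelian A]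

section general

variable {C : Type u} [Category.{v} C] [Abelian C]

/-- If `f : K ⟶ L` is a quasi-isomorphism in degree `0`, `K` has zero differentials around
degree `0` and `L` vanishes in degree `-1`, then `f.f 0` is the kernel of `L.d 0 1`. -/
lemma mono_and_exact_of_quasiIsoAt_zero {K L : CochainComplex C ℤ} (f : K ⟶ L)
    (h : QuasiIsoAt f 0) (hK1 : K.d 0 1 = 0) (hK0 : K.d (-1) 0 = 0) (hL : IsZero (L.X (-1))) :
    Mono (f.f 0) ∧
      (ShortComplex.mk (f.f 0) (L.d 0 1) (by rw [f.comm 0 1, hK1, zero_comp])).Exact := by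
  rw [quasiIsoAt_iff' _ (-1) 0 1 (by simp) (by simp), ShortComplex.quasiIso_iff] at h
  have hm := (ShortComplex.mono_homologyMap_iff_up_to_refinements
    ((HomologicalComplex.shortComplexFunctor' C (ComplexShape.up ℤ) (-1) 0 1).map f)).1
      inferInstance
  have he := (ShortComplex.epi_homologyMap_iff_up_to_refinements
    ((HomologicalComplex.shortComplexFunctor' C (ComplexShape.up ℤ) (-1) 0 1).map f)).1
      inferInstance
  constructor
  · apply Preadditive.mono_of_cancel_zero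
    intro T x hx
    obtain ⟨T', π, hπ, x₁, h1⟩ : ∃ (T' : C) (π : T' ⟶ T) (_ : Epi π) (x₁ : T' ⟶ K.X (-1)),
        π ≫ x = x₁ ≫ K.d (-1) 0 :=
      hm x (show x ≫ K.d 0 1 = 0 by rw [hK1, comp_zero]) (0 : T ⟶ L.X (-1))
        (show x ≫ f.f 0 = 0 ≫ L.d (-1) 0 by rw [zero_comp, hx])
    rw [hK0, comp_zero] at h1
    rw [← cancel_epi π, h1, comp_zero]
  · rw [ShortComplex.exact_iff_exact_up_to_refinements]
    intro T y hy
    obtain ⟨T', π, hπ, x₂, _, y₁, h1⟩ : ∃ (T' : C) (π : T' ⟶ T) (_ : Epi π) (x₂ : T' ⟶ K.X 0)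
        (_ : x₂ ≫ K.d 0 1 = 0) (y₁ : T' ⟶ L.X (-1)), π ≫ y = x₂ ≫ f.f 0 + y₁ ≫ L.d (-1) 0 :=
      he y hy
    have h2 : y₁ ≫ L.d (-1) 0 = 0 := by rw [hL.eq_of_tgt y₁ 0]; exact zero_comp
    rw [h2, add_zero] at h1
    exact ⟨T', π, hπ, x₂, h1⟩

end general

/-- The iso `Z[0]^0 ≅ Z`. -/
noncomputable def single0Iso (Z : FilF A) :
    ((CochainComplex.singleFunctor (FilF A) 0).obj Z).X 0 ≅ Z :=
  HomologicalComplex.singleObjXSelf (ComplexShape.up ℤ) 0 Z

/-- The degree `0` component of a morphism `Z[0] ⟶ J`. -/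
noncomputable def single0Comp {Z : FilF A} {J : CochainComplex (FilF A) ℤ}
    (c : (CochainComplex.singleFunctor (FilF A) 0).obj Z ⟶ J) : Z ⟶ J.X 0 :=
  (single0Iso Z).inv ≫ c.f 0

lemma single_d_eq_zero (Z : FilF A) (i j : ℤ) :
    ((CochainComplex.singleFunctor (FilF A) 0).obj Z).d i j = 0 := rfl

lemma single0Comp_d {Z : FilF A} {J : CochainComplex (FilF A) ℤ}
    (c : (CochainComplex.singleFunctor (FilF A) 0).obj Z ⟶ J) :
    single0Comp c ≫ J.d 0 1 = 0 := by
  change ((single0Iso Z).inv ≫ c.f 0) ≫ J.d 0 1 = 0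
  rw [Category.assoc, c.comm 0 1, single_d_eq_zero, zero_comp, comp_zero]

lemma isZero_grF_obj {Z : FilF A} (hZ : IsZero Z) (p : ℤ) : IsZero ((grF A p).obj Z) :=
  Functor.map_isZero _ hZ

/-- Exactness of the graded pieces in positive degrees for a filtered resolution. -/
lemma gr_exact_of_resolution {Z : FilF A} {J : CochainComplex (FilF A) ℤ}
    (c : (CochainComplex.singleFunctor (FilF A) 0).obj Z ⟶ J) (hc : IsFilteredQuasiIso c)
    (n : ℤ) (hn : 0 ≤ n) (p : ℤ) :
    ((ShortComplex.mk (J.d n (n + 1)) (J.d (n + 1) (n + 1 + 1)) (J.d_comp_d _ _ _)).map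
      (grF A p)).Exact := by
  have hq : QuasiIsoAt ((grCx p).map c) (n + 1) := (hc p).quasiIsoAt (n + 1)
  have hz : IsZero (((CochainComplex.singleFunctor (FilF A) 0).obj Z).X (n + 1)) :=
    HomologicalComplex.isZero_single_obj_X _ _ _ _ (by omega)
  have hK : ((grCx p).obj ((CochainComplex.singleFunctor (FilF A) 0).obj Z)).ExactAt (n + 1) :=
    HomologicalComplex.ExactAt.of_isZero (isZero_grF_obj hz p)
  have h := (quasiIsoAt_iff_exactAt _ _ hK).1 hq
  rw [HomologicalComplex.exactAt_iff' _ n (n + 1) (n + 1 + 1) (by simp) (by simp)] at h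
  exact h

section degreeZero

variable {Z : FilF A} {J : CochainComplex (FilF A) ℤ} [J.IsStrictlyGE 0]
  (c : (CochainComplex.singleFunctor (FilF A) 0).obj Z ⟶ J) (hc : IsFilteredQuasiIso c)

include hc

lemma mono_and_exact_gr_f_zero (p : ℤ) :
    Mono ((grF A p).map (c.f 0)) ∧
      (ShortComplex.mk ((grF A p).map (c.f 0)) ((grF A p).map (J.d 0 1))
        (by rw [← Functor.map_comp, c.comm 0 1, single_d_eq_zero, zero_comp,
          Functor.map_zero])).Exact := by
  have hq : QuasiIsoAt ((grCx p).map c) 0 := (hc p).quasiIsoAt 0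
  exact mono_and_exact_of_quasiIsoAt_zero ((grCx p).map c) hq
    (show (grF A p).map (((CochainComplex.singleFunctor (FilF A) 0).obj Z).d 0 1) = 0 by
      rw [single_d_eq_zero, Functor.map_zero])
    (show (grF A p).map (((CochainComplex.singleFunctor (FilF A) 0).obj Z).d (-1) 0) = 0 by
      rw [single_d_eq_zero, Functor.map_zero])
    (isZero_grF_obj (J.isZero_of_isStrictlyGE 0 (-1) (by omega)) p)

lemma mono_gr_single0Comp (p : ℤ) : Mono ((grF A p).map (single0Comp c)) := by
  have := (mono_and_exact_gr_f_zero c hc p).1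
  change Mono ((grF A p).map ((single0Iso Z).inv ≫ c.f 0))
  rw [Functor.map_comp]
  exact mono_comp _ _

lemma gr_exact_single0Comp (p : ℤ) :
    ((ShortComplex.mk (single0Comp c) (J.d 0 1) (single0Comp_d c)).map (grF A p)).Exact := by
  have he := (mono_and_exact_gr_f_zero c hc p).2
  rw [ShortComplex.exact_iff_exact_up_to_refinements] at he ⊢
  intro T y hy
  obtain ⟨T', π, hπ, x₂, h1⟩ : ∃ (T' : A) (π : T' ⟶ T) (_ : Epi π)
      (x₂ : T' ⟶ (grF A p).obj (((CochainComplex.singleFunctor (FilF A) 0).obj Z).X 0)),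
      π ≫ y = x₂ ≫ (grF A p).map (c.f 0) := he y hy
  refine ⟨T', π, hπ, x₂ ≫ (grF A p).map (single0Iso Z).hom, ?_⟩
  change π ≫ y = (x₂ ≫ _) ≫ (grF A p).map (single0Comp c)
  change π ≫ y = (x₂ ≫ _) ≫ (grF A p).map ((single0Iso Z).inv ≫ c.f 0)
  rw [h1, Category.assoc, ← Functor.map_comp, Iso.hom_inv_id_assoc]

lemma mono_and_isStrict_single0Comp : Mono (single0Comp c) ∧ IsStrict (single0Comp c) :=
  mono_and_isStrict_of_gr_mono _ (mono_gr_single0Comp c hc)

end degreeZero

end Groth.Agent.H6.FilDLib
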