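import Groth.Agent.H6.CutCx
import Groth.Agent.H6.CutQis
import Groth.Agent.H6.FilDCoker
import Groth.Agent.H6.FilDRes
import Groth.Agent.H6.FilDKer
import Groth.Agent.H6.FilDInj

/-!
# Truncating filtered complexes: filtered quasi-isomorphisms to/from bounded complexes
-/

set_option autoImplicit false
set_option linter.unusedSectionVars false
universe v u

open CategoryTheory CategoryTheory.Limits Opposite

namespace Groth.Agent.H6.FilDLib

open FilD

variable {A : Type u} [Category.{v} A] [Abelian A]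

/-- Exactness of the graded pieces from vanishing of the homology of the graded complex. -/
lemma gr_exact_of_isZero_homology (K : CochainComplex (FilF A) ℤ) (i j k : ℤ) (hij : i + 1 = j)
    (hjk : j + 1 = k) (p : ℤ) (h : IsZero (((grCx p).obj K).homology j)) :
    ((ShortComplex.mk (K.d i j) (K.d j k) (K.d_comp_d _ _ _)).map (grF A p)).Exact := by
  rw [← HomologicalComplex.exactAt_iff_isZero_homology] at h
  rw [HomologicalComplex.exactAt_iff' _ i j k (by simp; omega) (by simp; omega)] at h
  exact h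

theorem exists_filteredQuasiIso_to_boundedBelow (K : CochainComplex (FilF A) ℤ) (a : ℤ)
    (hK : ∀ (p n : ℤ), n < a → IsZero (((grCx p).obj K).homology n)) :
    ∃ (L : CochainComplex (FilF A) ℤ) (φ : K ⟶ L), L.IsStrictlyGE a ∧ IsFilteredQuasiIso φ := by
  have hu : IsStrict (K.d (a - 1) a) :=
    isStrict_g_of_gr_exact
      (ShortComplex.mk (K.d (a - 2) (a - 1)) (K.d (a - 1) a) (K.d_comp_d _ _ _))
      (fun p => gr_exact_of_isZero_homology K (a - 2) (a - 1) a (by omega) (by omega) p
        (hK p (a - 1) (by omega)))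
  let Ca := cokerObj (K.d (a - 1) a) hu
  let π : K.X a ⟶ Ca := cokerProj (K.d (a - 1) a) hu
  have hd : (K.d (a - 1) a).hom ≫ (K.d a (a + 1)).hom = 0 := by
    change (K.d (a - 1) a ≫ K.d a (a + 1)).hom = 0
    rw [K.d_comp_d]
    rfl
  let δ : Ca ⟶ K.X (a + 1) :=
    ObjectProperty.homMk (cokernel.desc (K.d (a - 1) a).hom (K.d a (a + 1)).hom hd)
  have hπδ : π ≫ δ = K.d a (a + 1) := by
    apply ObjectProperty.hom_ext
    exact cokernel.π_desc _ _ _
  have hdπ : ∀ m, K.d m a ≫ π = 0 := by
    intro m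
    by_cases h : m + 1 = a
    · obtain rfl : m = a - 1 := by omega
      exact comp_cokerProj _ hu
    · rw [K.shape m a (by simpa using h), zero_comp]
  have hπ : Epi π := by
    have : Epi ((IsFinFil A).ι.map π) := (inferInstance : Epi (cokernel.π (K.d (a - 1) a).hom))
    exact (IsFinFil A).ι.epi_of_epi_map this
  refine ⟨CutGE.cx π δ hπδ hdπ, CutGE.proj π δ hπδ hdπ, CutGE.isStrictlyGE_cx π δ hπδ hdπ,
    fun p => ?_⟩
  apply quasiIso_of_cutGE _ (a - 1) a (by omega)
  · intro n hn
    rw [HomologicalComplex.exactAt_iff_isZero_homology]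
    exact hK p n hn
  · intro n hn
    exact isZero_grF_obj (CutGE.isZero_cx_X π δ hπδ hdπ n hn) p
  · intro n hn
    have := CutGE.isIso_proj_f π δ hπδ hdπ n hn
    change IsIso ((grF A p).map ((CutGE.proj π δ hπδ hdπ).f n))
    infer_instance
  · change Epi ((grF A p).map ((CutGE.proj π δ hπδ hdπ).f a))
    rw [CutGE.proj_f_self', Functor.map_comp]
    have : Epi ((grF A p).map π) := epi_gr_cokerProj _ hu p
    infer_instance
  · intro T y hy
    change T ⟶ (grF A p).obj (K.X a) at y
    change y ≫ (grF A p).map ((CutGE.proj π δ hπδ hdπ).f a) = 0 at hy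
    rw [CutGE.proj_f_self', Functor.map_comp, ← Category.assoc] at hy
    have hy' : y ≫ (grF A p).map π = 0 := by
      rw [← cancel_mono ((grF A p).map (CutGE.cxIsoSelf π δ hπδ hdπ).inv), hy, zero_comp]
    exact (gr_exact_cokerProj (K.d (a - 1) a) hu p).exact_up_to_refinements y hy'

/-- The kernel object of a morphism of finite filtered objects. -/
noncomputable def kerObj {X Y : FilF A} (u : X ⟶ Y) : FilF A := ⟨kernel u.hom, isFinFil_kernel u⟩

/-- The inclusion of the kernel object. -/
noncomputable def kerι {X Y : FilF A} (u : X ⟶ Y) : kerObj u ⟶ X :=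
  ObjectProperty.homMk (kernel.ι u.hom)

@[reassoc]
lemma kerι_comp {X Y : FilF A} (u : X ⟶ Y) : kerι u ≫ u = 0 := by
  apply ObjectProperty.hom_ext
  exact kernel.condition u.hom

instance mono_kerι {X Y : FilF A} (u : X ⟶ Y) : Mono (kerι u) := by
  have : Mono ((IsFinFil A).ι.map (kerι u)) := (inferInstance : Mono (kernel.ι u.hom))
  exact (IsFinFil A).ι.mono_of_mono_map this

lemma app_kerι_comp {X Y : FilF A} (u : X ⟶ Y) (p : ℤ) : app (kerι u) p ≫ app u p = 0 := by
  rw [← app_comp, kerι_comp]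
  rfl

lemma isStrict_kerι {X Y : FilF A} (u : X ⟶ Y) : IsStrict (kerι u) := by
  rw [isStrict_iff]
  intro p q h T x y hxy
  have hy : y ≫ app u q = 0 := by
    rw [← cancel_mono (tr Y h), zero_comp, Category.assoc, ← tr_app, ← Category.assoc, ← hxy,
      Category.assoc, app_kerι_comp, comp_zero]
  obtain ⟨k, hk⟩ := exists_kernel_lift u.hom q y hy
  exact ⟨T, 𝟙 T, inferInstance, k, by rw [Category.id_comp]; exact hk.symm⟩

theorem exists_filteredQuasiIso_from_boundedAbove (K : CochainComplex (FilF A) ℤ) (b : ℤ)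
    (hK : ∀ (p n : ℤ), b < n → IsZero (((grCx p).obj K).homology n)) :
    ∃ (M : CochainComplex (FilF A) ℤ) (φ : M ⟶ K), M.IsStrictlyLE b ∧ IsFilteredQuasiIso φ := by
  have hv : IsStrict (K.d b (b + 1)) :=
    isStrict_f_of_gr_exact
      (ShortComplex.mk (K.d b (b + 1)) (K.d (b + 1) (b + 2)) (K.d_comp_d _ _ _))
      (fun p => gr_exact_of_isZero_homology K b (b + 1) (b + 2) (by omega) (by omega) p
        (hK p (b + 1) (by omega)))
  let Zb := kerObj (K.d b (b + 1))
  let ι : Zb ⟶ K.X b := kerι (K.d b (b + 1))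
  have hd : ∀ m, (K.d m b).hom ≫ (K.d b (b + 1)).hom = 0 := by
    intro m
    change (K.d m b ≫ K.d b (b + 1)).hom = 0
    rw [K.d_comp_d]
    rfl
  let δ : ∀ m, K.X m ⟶ Zb := fun m =>
    ObjectProperty.homMk (kernel.lift (K.d b (b + 1)).hom (K.d m b).hom (hd m))
  have hδι : ∀ m, δ m ≫ ι = K.d m b := by
    intro m
    apply ObjectProperty.hom_ext
    exact kernel.lift_ι _ _ _
  have hιd : ∀ m, ι ≫ K.d b m = 0 := by
    intro m
    by_cases h : b + 1 = m
    · subst h
      exact kerι_comp _
    · rw [K.shape b m (by simpa using h), comp_zero]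
  have hι : Mono ι := mono_kerι _
  refine ⟨CutLE.cx ι δ hδι hιd, CutLE.incl ι δ hδι hιd, CutLE.isStrictlyLE_cx ι δ hδι hιd,
    fun p => ?_⟩
  apply quasiIso_of_cutLE _ b (b + 1) rfl
  · intro n hn
    rw [HomologicalComplex.exactAt_iff_isZero_homology]
    exact hK p n hn
  · intro n hn
    exact isZero_grF_obj (CutLE.isZero_cx_X ι δ hδι hιd n hn) p
  · intro n hn
    have := CutLE.isIso_incl_f ι δ hδι hιd n hn
    change IsIso ((grF A p).map ((CutLE.incl ι δ hδι hιd).f n))
    infer_instance
  · change Mono ((grF A p).map ((CutLE.incl ι δ hδι hιd).f b))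
    rw [CutLE.incl_f_self', Functor.map_comp]
    have : Mono ((grF A p).map ι) := mono_gr_of_mono_of_isStrict _ (isStrict_kerι _) p
    infer_instance
  · intro T y hy
    change T ⟶ (grF A p).obj (K.X b) at y
    change y ≫ (grF A p).map (K.d b (b + 1)) = 0 at hy
    obtain ⟨T', π, hπ, x, hx⟩ :=
      (((isStrict_iff_gr_kernel_exact (K.d b (b + 1))).1 hv) p).exact_up_to_refinements y hy
    change T' ⟶ (grF A p).obj Zb at x
    change π ≫ y = x ≫ (grF A p).map ι at hx
    have key : π ≫ y = (x ≫ (grF A p).map (CutLE.cxIsoSelf ι δ hδι hιd).inv) ≫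
        (grF A p).map ((CutLE.incl ι δ hδι hιd).f b) := by
      rw [CutLE.incl_f_self', Functor.map_comp, Category.assoc, ← Functor.map_comp_assoc,
        Iso.inv_hom_id, CategoryTheory.Functor.map_id, Category.id_comp, hx]
    exact ⟨T', π, hπ, _, key⟩

end Groth.Agent.H6.FilDLib
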