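import Groth.Agent.H6.FilDRes

/-!
# The horseshoe lemma for filtered injective resolutions
-/

set_option autoImplicit false
set_option linter.unusedSectionVars false
universe v u

open CategoryTheory CategoryTheory.Limits Opposite

namespace Groth.Agent.H6.FilDLib

open FilD

variable {A : Type u} [Category.{v} A] [Abelian A]

section levelwise

variable (S : ShortComplex (FilF A))
  (hS : ∀ p : ℤ, (S.map ((IsFinFil A).ι ⋙ (evaluation ℤᵒᵖ A).obj (op p))).ShortExact)

include hS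

lemma mono_app_f_of_levelwise (p : ℤ) : Mono (app S.f p) := (hS p).mono_f

lemma epi_app_g_of_levelwise (p : ℤ) : Epi (app S.g p) := (hS p).epi_g

lemma exact_refinements_of_levelwise (p : ℤ) ⦃T : A⦄ (y : T ⟶ lev S.X₂ p)
    (hy : y ≫ app S.g p = 0) :
    ∃ (T' : A) (π : T' ⟶ T) (_ : Epi π) (x : T' ⟶ lev S.X₁ p), π ≫ y = x ≫ app S.f p :=
  (hS p).exact.exact_up_to_refinements y hy

lemma mono_f_of_levelwise : Mono S.f := by
  have : ∀ q : ℤᵒᵖ, Mono (S.f.hom.app q) := fun q => mono_app_f_of_levelwise S hS q.unop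
  have hm' : Mono S.f.hom := NatTrans.mono_of_mono_app _
  exact (IsFinFil A).ι.mono_of_mono_map hm'

lemma epi_g_of_levelwise : Epi S.g := by
  have : ∀ q : ℤᵒᵖ, Epi (S.g.hom.app q) := fun q => epi_app_g_of_levelwise S hS q.unop
  have hm' : Epi S.g.hom := NatTrans.epi_of_epi_app _
  exact (IsFinFil A).ι.epi_of_epi_map hm'

lemma isStrict_f_of_levelwise : IsStrict S.f := by
  rw [isStrict_iff]
  intro p q h T x y hxy
  apply exact_refinements_of_levelwise S hS q y
  have := (inferInstance : Mono (tr S.X₃ h))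
  rw [← cancel_mono (tr S.X₃ h), zero_comp, Category.assoc, ← tr_app, ← Category.assoc, ← hxy,
    Category.assoc, app_f_g, comp_zero]

lemma isStrict_g_of_levelwise : IsStrict S.g := by
  rw [isStrict_iff]
  intro p q h T y z _
  have := epi_app_g_of_levelwise S hS q
  exact surjective_up_to_refinements_of_epi (app S.g q) z

end levelwise

theorem horseshoe (S : ShortComplex (FilF A))
    (hS : ∀ p : ℤ, (S.map ((IsFinFil A).ι ⋙ (evaluation ℤᵒᵖ A).obj (op p))).ShortExact)
    (I : CochainComplex (FilF A) ℤ) (hI : ∀ n, IsFilteredInjective (I.X n))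
    (a : (CochainComplex.singleFunctor (FilF A) 0).obj S.X₁ ⟶ I)
    (J : CochainComplex (FilF A) ℤ) [J.IsStrictlyGE 0]
    (c : (CochainComplex.singleFunctor (FilF A) 0).obj S.X₃ ⟶ J) (hc : IsFilteredQuasiIso c) :
    ∃ (M : CochainComplex (FilF A) ℤ) (α : I ⟶ M) (β : M ⟶ J)
      (b : (CochainComplex.singleFunctor (FilF A) 0).obj S.X₂ ⟶ M),
      (∀ n, ∃ (r : M.X n ⟶ I.X n) (s : J.X n ⟶ M.X n), α.f n ≫ r = 𝟙 _ ∧ s ≫ β.f n = 𝟙 _ ∧
        α.f n ≫ β.f n = 0 ∧ r ≫ α.f n + β.f n ≫ s = 𝟙 _) ∧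
      a ≫ α = (CochainComplex.singleFunctor (FilF A) 0).map S.f ≫ b ∧
      b ≫ β = (CochainComplex.singleFunctor (FilF A) 0).map S.g ≫ c := by
  classical
  have hmonof := mono_f_of_levelwise S hS
  have hepig := epi_g_of_levelwise S hS
  -- Step 1: extend `a0` to `X₂`
  let a0 : S.X₁ ⟶ I.X 0 := single0Comp a
  have ha0 : a0 ≫ I.d 0 (0 + 1) = 0 := single0Comp_d a
  obtain ⟨yt, hyt⟩ := exists_extension S.f (isStrict_f_of_levelwise S hS) (hI 0) a0
  -- Step 2: the induced map `ζ : X₃ ⟶ I^1`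
  obtain ⟨ζ, hζ⟩ : ∃ ζ : S.X₃ ⟶ I.X (0 + 1), S.g ≫ ζ = yt ≫ I.d 0 (0 + 1) := by
    apply exists_extension' S.g (isStrict_g_of_levelwise S hS) (hI (0 + 1))
    intro p T x hx
    obtain ⟨T', π, hπ, x', hx'⟩ := exact_refinements_of_levelwise S hS p x hx
    rw [← cancel_epi π, comp_zero, ← Category.assoc, hx', Category.assoc, ← app_comp,
      ← Category.assoc, hyt, ha0]
    exact comp_zero
  have hζd : ζ ≫ I.d (0 + 1) (0 + 1 + 1) = 0 := by
    rw [← cancel_epi S.g, comp_zero, ← Category.assoc, hζ, Category.assoc, I.d_comp_d, comp_zero]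
  -- Step 3: `τ 0`
  let c0 : S.X₃ ⟶ J.X 0 := single0Comp c
  have hc0 := mono_and_isStrict_single0Comp c hc
  have := hc0.1
  obtain ⟨τ0, hτ0⟩ := exists_extension c0 hc0.2 (hI (0 + 1)) (-ζ)
  -- Step 4: recursion
  let Inv : ∀ k : ℤ, (J.X k ⟶ I.X (k + 1)) → Prop := fun k t =>
    ∀ (p : ℤ) ⦃T : A⦄ (x : T ⟶ lev (J.X k) p), x ≫ app (J.d k (k + 1)) p = 0 →
      x ≫ app (t ≫ I.d (k + 1) (k + 1 + 1)) p = 0
  let Mt : ℤ → Type _ := fun k => {t : J.X k ⟶ I.X (k + 1) // Inv k t}
  have inv0 : Inv 0 τ0 := by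
    intro p T x hx
    obtain ⟨T', π, hπ, x', hx'⟩ := levelwise_exact_refinements
      (ShortComplex.mk c0 (J.d 0 1) (single0Comp_d c)) (gr_exact_single0Comp c hc) p x hx
    change π ≫ x = x' ≫ app c0 p at hx'
    rw [← cancel_epi π, comp_zero, ← Category.assoc, hx', Category.assoc, ← app_comp,
      ← Category.assoc, hτ0, Preadditive.neg_comp, hζd, neg_zero]
    exact comp_zero
  let zero : Mt 0 := ⟨τ0, inv0⟩
  let pred : ∀ k : ℤ, k ≤ 0 → Mt k → Mt (k - 1) := fun k _ _ => ⟨0, by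
    intro p T x _
    rw [zero_comp]
    exact comp_zero⟩
  have hstep : ∀ (k : ℤ) (hk : 0 ≤ k) (s : Mt k), ∃ t' : J.X (k + 1) ⟶ I.X (k + 1 + 1),
      J.d k (k + 1) ≫ t' = -(s.1 ≫ I.d (k + 1) (k + 1 + 1)) ∧ Inv (k + 1) t' := by
    intro k hk s
    have hex := gr_exact_of_resolution c hc k hk
    obtain ⟨t', ht'⟩ := exists_extension' (J.d k (k + 1))
      (isStrict_f_of_gr_exact (ShortComplex.mk (J.d k (k + 1)) (J.d (k + 1) (k + 1 + 1))
        (J.d_comp_d _ _ _)) hex) (hI (k + 1 + 1)) (-(s.1 ≫ I.d (k + 1) (k + 1 + 1))) (by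
        intro p T x hx
        have := s.2 p x hx
        change x ≫ (-(s.1 ≫ I.d (k + 1) (k + 1 + 1))).hom.app (op p) = 0
        have h2 : (-(s.1 ≫ I.d (k + 1) (k + 1 + 1))).hom.app (op p) =
            -(app (s.1 ≫ I.d (k + 1) (k + 1 + 1)) p) := rfl
        rw [h2, Preadditive.comp_neg, this, neg_zero])
    refine ⟨t', ht', ?_⟩
    intro p T x hx
    obtain ⟨T', π, hπ, x', hx'⟩ := levelwise_exact_refinements
      (ShortComplex.mk (J.d k (k + 1)) (J.d (k + 1) (k + 1 + 1)) (J.d_comp_d _ _ _)) hex p x hx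
    change π ≫ x = x' ≫ app (J.d k (k + 1)) p at hx'
    rw [← cancel_epi π, comp_zero, ← Category.assoc, hx', Category.assoc, ← app_comp,
      ← Category.assoc, ht', Preadditive.neg_comp, Category.assoc, I.d_comp_d, comp_zero, neg_zero]
    exact comp_zero
  let succ : ∀ k : ℤ, 0 ≤ k → Mt k → Mt (k + 1) := fun k hk s =>
    ⟨(hstep k hk s).choose, (hstep k hk s).choose_spec.2⟩
  let sol : ∀ k : ℤ, Mt k := fun k => Int.inductionOn' k 0 zero succ pred
  have hsol0 : (sol 0).1 = τ0 := by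
    have : sol 0 = zero := Int.inductionOn'_self
    rw [this]
  have hrel : ∀ k : ℤ, J.d k (k + 1) ≫ (sol (k + 1)).1 =
      -((sol k).1 ≫ I.d (k + 1) (k + 1 + 1)) := by
    intro k
    by_cases hk : 0 ≤ k
    · have : sol (k + 1) = succ k hk (sol k) := Int.inductionOn'_add_one hk
      rw [this]
      exact (hstep k hk (sol k)).choose_spec.1
    · exact (J.isZero_of_isStrictlyGE 0 k (by omega)).eq_of_src _ _
  -- Step 5: the complex `M`
  let dM : ∀ n : ℤ, (I.X n ⊞ J.X n) ⟶ (I.X (n + 1) ⊞ J.X (n + 1)) := fun n =>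
    biprod.desc (I.d n (n + 1) ≫ biprod.inl)
      ((sol n).1 ≫ biprod.inl + J.d n (n + 1) ≫ biprod.inr)
  have sq : ∀ n, dM n ≫ dM (n + 1) = 0 := by
    intro n
    apply biprod.hom_ext'
    · simp only [dM, biprod.inl_desc_assoc, Category.assoc, biprod.inl_desc, comp_zero,
        HomologicalComplex.d_comp_d_assoc, zero_comp]
    · simp only [dM, biprod.inr_desc_assoc, Preadditive.add_comp, Category.assoc, biprod.inl_desc,
        biprod.inr_desc, Preadditive.comp_add, comp_zero]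
      rw [← Category.assoc (J.d n (n + 1)), hrel n, ← Category.assoc (J.d n (n + 1)),
        J.d_comp_d, zero_comp, add_zero, Preadditive.neg_comp, Category.assoc, add_neg_cancel]
  let M : CochainComplex (FilF A) ℤ := CochainComplex.of (fun n => I.X n ⊞ J.X n) dM sq
  have hMd : ∀ n : ℤ, M.d n (n + 1) = dM n := fun n =>
    CochainComplex.of_d (fun n => I.X n ⊞ J.X n) dM n
  let α : I ⟶ M := CochainComplex.ofHom (fun n => biprod.inl) (by
    intro n
    rw [hMd]
    simp only [dM, biprod.inl_desc])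
  let β : M ⟶ J := CochainComplex.ofHom (fun n => biprod.snd) (by
    intro n
    rw [hMd]
    apply biprod.hom_ext'
    · simp [dM]
    · simp [dM])
  -- Step 7: the map `b`
  let b0 : S.X₂ ⟶ M.X 0 := biprod.lift yt (S.g ≫ c0)
  have hb0 : b0 ≫ M.d 0 (0 + 1) = 0 := by
    rw [hMd]
    simp only [b0, dM, biprod.lift_desc, Preadditive.comp_add, Category.assoc, hsol0]
    have e1 : c0 ≫ J.d 0 (0 + 1) = 0 := single0Comp_d c
    have e1' : S.g ≫ c0 ≫ J.d 0 (0 + 1) ≫ biprod.inr = (0 : S.X₂ ⟶ I.X (0 + 1) ⊞ J.X (0 + 1)) := by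
      rw [← Category.assoc c0, e1, zero_comp, comp_zero]
    have e2' : S.g ≫ c0 ≫ τ0 ≫ biprod.inl =
        -(yt ≫ I.d 0 (0 + 1) ≫ (biprod.inl : _ ⟶ I.X (0 + 1) ⊞ J.X (0 + 1))) := by
      rw [← Category.assoc c0, hτ0, Preadditive.neg_comp, Preadditive.comp_neg, ← Category.assoc,
        hζ, Category.assoc]
    rw [e1', e2', add_zero, add_neg_cancel]
  let b : (CochainComplex.singleFunctor (FilF A) 0).obj S.X₂ ⟶ M :=
    HomologicalComplex.mkHomFromSingle b0 (by
      intro k hk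
      obtain rfl : 0 + 1 = k := hk
      exact hb0)
  have hbf : b.f 0 = (single0Iso S.X₂).hom ≫ b0 := HomologicalComplex.mkHomFromSingle_f _ _
  refine ⟨M, α, β, b, ?_, ?_, ?_⟩
  · intro n
    refine ⟨biprod.fst, biprod.inr, ?_, ?_, ?_, ?_⟩
    · exact biprod.inl_fst
    · exact biprod.inr_snd
    · exact biprod.inl_snd
    · exact biprod.total
  · apply HomologicalComplex.from_single_hom_ext
    change a.f 0 ≫ biprod.inl = ((CochainComplex.singleFunctor (FilF A) 0).map S.f).f 0 ≫ b.f 0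
    have h1 : ((CochainComplex.singleFunctor (FilF A) 0).map S.f).f 0 =
        (single0Iso S.X₁).hom ≫ S.f ≫ (single0Iso S.X₂).inv :=
      HomologicalComplex.single_map_f_self _ _ _
    rw [h1, hbf, Category.assoc, Category.assoc, Iso.inv_hom_id_assoc]
    have h2 : S.f ≫ b0 = a0 ≫ biprod.inl := by
      apply biprod.hom_ext
      · simp only [b0, Category.assoc, biprod.lift_fst, biprod.inl_fst, Category.comp_id, hyt]
      · simp only [b0, Category.assoc, biprod.lift_snd, biprod.inl_snd, comp_zero]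
        rw [← Category.assoc, S.zero, zero_comp]
    rw [h2]
    change _ = (single0Iso S.X₁).hom ≫ ((single0Iso S.X₁).inv ≫ a.f 0) ≫ biprod.inl
    rw [Category.assoc, Iso.hom_inv_id_assoc]
  · apply HomologicalComplex.from_single_hom_ext
    change b.f 0 ≫ biprod.snd = ((CochainComplex.singleFunctor (FilF A) 0).map S.g).f 0 ≫ c.f 0
    have h1 : ((CochainComplex.singleFunctor (FilF A) 0).map S.g).f 0 =
        (single0Iso S.X₂).hom ≫ S.g ≫ (single0Iso S.X₃).inv :=
      HomologicalComplex.single_map_f_self _ _ _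
    rw [h1, hbf, Category.assoc, Category.assoc]
    simp only [b0, biprod.lift_snd, Category.assoc]
    rfl

end Groth.Agent.H6.FilDLib
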