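import Groth.Agent.H6.FilDHtpy
import Groth.Agent.H6.FilDBiprod
import Mathlib.Algebra.Homology.HomotopyCategory.Pretriangulated
import Mathlib.Algebra.Homology.HomotopyCategory.Acyclic
import Mathlib.Algebra.Homology.Localization

/-!
# Filtered quasi-isomorphisms induce bijections on maps into bounded below filtered injectives
-/

set_option autoImplicit false
set_option linter.unusedSectionVars false
universe v u

open CategoryTheory CategoryTheory.Limits Opposite CategoryTheory.Pretriangulated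

namespace Groth.Agent.H6.FilDLib

open FilD

section general

variable {C : Type u} [Category.{v} C] [Abelian C]

/-- The mapping cone of a quasi-isomorphism is acyclic. -/
lemma acyclic_mappingCone_of_quasiIso {K L : CochainComplex C ℤ} (φ : K ⟶ L) (hφ : QuasiIso φ) :
    (CochainComplex.mappingCone φ).Acyclic := by
  have h1 : HomotopyCategory.quasiIso C _
      ((HomotopyCategory.quotient C (ComplexShape.up ℤ)).map φ) := by
    rw [HomotopyCategory.quotient_map_mem_quasiIso_iff, HomologicalComplex.mem_quasiIso_iff]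
    exact hφ
  rw [HomotopyCategory.quasiIso_eq_trW_subcategoryAcyclic] at h1
  have h2 := (HomotopyCategory.subcategoryAcyclic C).trW_iff_of_distinguished _
    (HomotopyCategory.mappingCone_triangleh_distinguished φ)
  exact (HomotopyCategory.quotient_obj_mem_subcategoryAcyclic_iff_acyclic _).1 (h2.1 h1)

end general

variable {A : Type u} [Category.{v} A] [Abelian A]

/-- The mapping cone of a filtered quasi-isomorphism is filtered acyclic. -/
lemma isFilteredAcyclic_mappingCone {K L : CochainComplex (FilF A) ℤ} (α : K ⟶ L)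
    (hα : IsFilteredQuasiIso α) : IsFilteredAcyclic (CochainComplex.mappingCone α) := by
  intro p n
  have h := acyclic_mappingCone_of_quasiIso ((grCx p).map α) (hα p) n
  exact h.of_iso (CochainComplex.mappingCone.mapHomologicalComplexIso α (grF A p)).symm

/-- Morphisms in the homotopy category from a filtered acyclic complex to a bounded below
complex of filtered injectives vanish. -/
lemma homotopyCategory_hom_eq_zero (C J : CochainComplex (FilF A) ℤ) (hC : IsFilteredAcyclic C)
    (a : ℤ) [J.IsStrictlyGE a] (hJ : ∀ n, IsFilteredInjective (J.X n))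
    (ψ : (HomotopyCategory.quotient (FilF A) (ComplexShape.up ℤ)).obj C ⟶
      (HomotopyCategory.quotient (FilF A) (ComplexShape.up ℤ)).obj J) : ψ = 0 := by
  obtain ⟨ψ', rfl⟩ := (HomotopyCategory.quotient (FilF A) (ComplexShape.up ℤ)).map_surjective ψ
  rw [HomotopyCategory.eq_of_homotopy ψ' 0
    (nullHomotopic_of_filteredAcyclic C J hC a hJ ψ').some, Functor.map_zero]

theorem precomp_bijective_of_filteredQuasiIso (I : CochainComplex (FilF A) ℤ)
    (a : ℤ) [I.IsStrictlyGE a] (hI : ∀ n, IsFilteredInjective (I.X n))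
    {K L : CochainComplex (FilF A) ℤ} (α : K ⟶ L) (hα : IsFilteredQuasiIso α) :
    Function.Bijective (fun β : (HomotopyCategory.quotient (FilF A) (ComplexShape.up ℤ)).obj L ⟶
        (HomotopyCategory.quotient (FilF A) (ComplexShape.up ℤ)).obj I =>
      (HomotopyCategory.quotient (FilF A) (ComplexShape.up ℤ)).map α ≫ β) := by
  let Q := HomotopyCategory.quotient (FilF A) (ComplexShape.up ℤ)
  let T := CochainComplex.mappingCone.triangleh α
  have hT : T ∈ distTriang _ := HomotopyCategory.mappingCone_triangleh_distinguished α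
  have hC := isFilteredAcyclic_mappingCone α hα
  constructor
  · intro β1 β2 h
    have h0 : Q.map α ≫ (β1 - β2) = 0 := by
      rw [Preadditive.comp_sub, sub_eq_zero]; exact h
    obtain ⟨g, hg⟩ : ∃ g : Q.obj (CochainComplex.mappingCone α) ⟶ Q.obj I,
        β1 - β2 = Q.map (CochainComplex.mappingCone.inr α) ≫ g :=
      Triangle.yoneda_exact₂ T hT (β1 - β2) h0
    have : g = 0 := homotopyCategory_hom_eq_zero _ I hC a hI g
    rw [this, comp_zero, sub_eq_zero] at hg
    exact hg
  · intro γ
    -- the shifted complex `I⟦1⟧`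
    have : (I⟦(1 : ℤ)⟧).IsStrictlyGE (a - 1) := I.isStrictlyGE_shift a 1 (a - 1) (by omega)
    have hI1 : ∀ n, IsFilteredInjective ((I⟦(1 : ℤ)⟧).X n) := fun n => hI (n + 1)
    let e : Q.obj (I⟦(1 : ℤ)⟧) ≅ (Q.obj I)⟦(1 : ℤ)⟧ := (Q.commShiftIso (1 : ℤ)).app I
    have h0 : T.mor₃ ≫ γ⟦(1 : ℤ)⟧' = 0 := by
      have : (T.mor₃ ≫ γ⟦(1 : ℤ)⟧') ≫ e.inv = 0 :=
        homotopyCategory_hom_eq_zero _ (I⟦(1 : ℤ)⟧) hC (a - 1) hI1 _
      rw [← cancel_mono e.inv, this, zero_comp]
    obtain ⟨g, hg⟩ : ∃ g : (Q.obj L)⟦(1 : ℤ)⟧ ⟶ (Q.obj I)⟦(1 : ℤ)⟧,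
        γ⟦(1 : ℤ)⟧' = (-(Q.map α)⟦(1 : ℤ)⟧') ≫ g :=
      Triangle.yoneda_exact₂ T.rotate.rotate
        (rot_of_distTriang _ (rot_of_distTriang _ hT)) (γ⟦(1 : ℤ)⟧') h0
    let g' : Q.obj L ⟶ Q.obj I := (shiftFunctor _ (1 : ℤ)).preimage g
    refine ⟨-g', ?_⟩
    apply (shiftFunctor _ (1 : ℤ)).map_injective
    change (Q.map α ≫ (-g'))⟦(1 : ℤ)⟧' = γ⟦(1 : ℤ)⟧'
    rw [hg, Functor.map_comp, Functor.map_neg, Functor.map_preimage, Preadditive.neg_comp,
      Preadditive.comp_neg]

end Groth.Agent.H6.FilDLib
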