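import Groth.Agent.H6.FilDLocal
import Mathlib.Algebra.Homology.Single
import Mathlib.Algebra.Homology.HomotopyCategory.SingleFunctors

/-!
# Morphisms between filtered injective resolutions
-/

set_option autoImplicit false
set_option linter.unusedSectionVars false
universe v u

open CategoryTheory CategoryTheory.Limits Opposite

namespace Groth.Agent.H6.FilDLib

open FilD

variable {A : Type u} [Category.{v} A] [Abelian A]

/-- Homotopic maps from a single complex in degree `0` to a complex vanishing in negative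
degrees are equal. -/
lemma eq_of_homotopy_single {C : Type*} [Category C] [Preadditive C] [HasZeroObject C]
    (X : C) (J : CochainComplex C ℤ) [J.IsStrictlyGE 0]
    (φ ψ : (CochainComplex.singleFunctor C 0).obj X ⟶ J) (h : Homotopy φ ψ) : φ = ψ := by
  ext i
  have hc := h.comm i
  have h1 : dNext i h.hom = 0 := by
    rw [dNext_eq h.hom (show (ComplexShape.up ℤ).Rel i (i + 1) from rfl)]
    have : ((CochainComplex.singleFunctor C 0).obj X).d i (i + 1) = 0 := rfl
    rw [this, zero_comp]
  have h2 : prevD i h.hom = 0 := by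
    rw [prevD_eq h.hom (show (ComplexShape.up ℤ).Rel (i - 1) i by simp)]
    by_cases hi : i = 0
    · subst hi
      rw [(J.isZero_of_isStrictlyGE 0 (0 - 1) (by omega)).eq_of_tgt (h.hom 0 (0 - 1)) 0, zero_comp]
    · have hz : IsZero (((CochainComplex.singleFunctor C 0).obj X).X i) :=
        HomologicalComplex.isZero_single_obj_X _ _ _ _ hi
      rw [hz.eq_of_src (h.hom i (i - 1)) 0, zero_comp]
  rw [hc, h1, h2, zero_add, zero_add]

theorem exists_map_of_resolutions {X Y : FilF A} (f : X ⟶ Y)
    (I : CochainComplex (FilF A) ℤ)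
    (a : (CochainComplex.singleFunctor (FilF A) 0).obj X ⟶ I) (ha : IsFilteredQuasiIso a)
    (J : CochainComplex (FilF A) ℤ) [J.IsStrictlyGE 0] (hJ : ∀ n, IsFilteredInjective (J.X n))
    (b : (CochainComplex.singleFunctor (FilF A) 0).obj Y ⟶ J) :
    ∃ φ : I ⟶ J, a ≫ φ = (CochainComplex.singleFunctor (FilF A) 0).map f ≫ b := by
  let Q := HomotopyCategory.quotient (FilF A) (ComplexShape.up ℤ)
  obtain ⟨β, hβ⟩ := (precomp_bijective_of_filteredQuasiIso J 0 hJ a ha).2
    (Q.map ((CochainComplex.singleFunctor (FilF A) 0).map f ≫ b))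
  obtain ⟨φ, rfl⟩ := Q.map_surjective β
  refine ⟨φ, ?_⟩
  apply eq_of_homotopy_single
  apply HomotopyCategory.homotopyOfEq
  rw [Functor.map_comp]
  exact hβ

end Groth.Agent.H6.FilDLib
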