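import Groth.Agent.H6.FilDCoker
import Groth.Agent.H6.FilDRes

/-!
# Filtered injective resolutions of a single finite filtered object
-/

set_option autoImplicit false
set_option linter.unusedSectionVars false
universe v u

open CategoryTheory CategoryTheory.Limits Opposite

namespace Groth.Agent.H6.FilDLib

open FilD

section general

variable {C : Type u} [Category.{v} C] [Abelian C]

/-- Converse of `mono_and_exact_of_quasiIsoAt_zero`. -/
lemma quasiIsoAt_zero_of_mono_of_exact {K L : CochainComplex C ℤ} (f : K ⟶ L)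
    (hK1 : K.d 0 1 = 0) (hL : IsZero (L.X (-1))) (hm : Mono (f.f 0))
    (hex : (ShortComplex.mk (f.f 0) (L.d 0 1) (by rw [f.comm 0 1, hK1, zero_comp])).Exact) :
    QuasiIsoAt f 0 := by
  rw [quasiIsoAt_iff' _ (-1) 0 1 (by simp) (by simp), ShortComplex.quasiIso_iff]
  have h1 : Mono (ShortComplex.homologyMap
      ((HomologicalComplex.shortComplexFunctor' C (ComplexShape.up ℤ) (-1) 0 1).map f)) := by
    rw [ShortComplex.mono_homologyMap_iff_up_to_refinements]
    intro T x₂ _ y₁ h
    change T ⟶ K.X 0 at x₂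
    change T ⟶ L.X (-1) at y₁
    change x₂ ≫ f.f 0 = y₁ ≫ L.d (-1) 0 at h
    rw [hL.eq_of_tgt y₁ 0, zero_comp] at h
    have hx : x₂ = 0 := by rw [← cancel_mono (f.f 0), h, zero_comp]
    refine ⟨T, 𝟙 T, inferInstance, (0 : T ⟶ K.X (-1)), ?_⟩
    change 𝟙 T ≫ x₂ = (0 : T ⟶ K.X (-1)) ≫ K.d (-1) 0
    rw [hx, comp_zero, zero_comp]
  have h2 : Epi (ShortComplex.homologyMap
      ((HomologicalComplex.shortComplexFunctor' C (ComplexShape.up ℤ) (-1) 0 1).map f)) := by
    rw [ShortComplex.epi_homologyMap_iff_up_to_refinements]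
    intro T y₂ hy₂
    obtain ⟨T', π, hπ, x₂, hx₂⟩ : ∃ (T' : C) (π : T' ⟶ T) (_ : Epi π) (x₂ : T' ⟶ K.X 0),
        π ≫ y₂ = x₂ ≫ f.f 0 := hex.exact_up_to_refinements y₂ hy₂
    have hx₂' : x₂ ≫ K.d 0 1 = 0 := by rw [hK1]; exact comp_zero
    refine ⟨T', π, hπ, x₂, hx₂', (0 : T' ⟶ L.X (-1)), ?_⟩
    change π ≫ y₂ = x₂ ≫ f.f 0 + (0 : T' ⟶ L.X (-1)) ≫ L.d (-1) 0
    rw [zero_comp, add_zero]
    exact hx₂
  exact isIso_of_mono_of_epi _

end general

variable {A : Type u} [Category.{v} A] [Abelian A] [EnoughInjectives A]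

lemma exists_emb (Z : FilF A) : ∃ (I : FilF A) (u : Z ⟶ I),
    IsFilteredInjective I ∧ Mono u ∧ IsStrict u ∧ (IsZero Z → IsZero I) := by
  classical
  by_cases hZ : IsZero Z
  · refine ⟨Z, 𝟙 Z, ?_, inferInstance, ?_, fun h => h⟩
    · intro p
      exact (isZero_grF_obj hZ p).injective
    · exact (mono_and_isStrict_of_gr_mono (𝟙 Z) (fun q => by
        rw [CategoryTheory.Functor.map_id]; infer_instance)).2
  · obtain ⟨I, u, h1, h2, h3⟩ := exists_strictMono_into_filteredInjective Z
    exact ⟨I, u, h1, h2, h3, fun h => (hZ h).elim⟩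

/-- A chosen filtered injective object containing `Z`. -/
noncomputable def inj (Z : FilF A) : FilF A := (exists_emb Z).choose

/-- The chosen strict monomorphism `Z ⟶ inj Z`. -/
noncomputable def emb (Z : FilF A) : Z ⟶ inj Z := (exists_emb Z).choose_spec.choose

lemma inj_filteredInjective (Z : FilF A) : IsFilteredInjective (inj Z) :=
  (exists_emb Z).choose_spec.choose_spec.1

instance emb_mono (Z : FilF A) : Mono (emb Z) := (exists_emb Z).choose_spec.choose_spec.2.1

lemma emb_isStrict (Z : FilF A) : IsStrict (emb Z) := (exists_emb Z).choose_spec.choose_spec.2.2.1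

lemma inj_isZero (Z : FilF A) (h : IsZero Z) : IsZero (inj Z) :=
  (exists_emb Z).choose_spec.choose_spec.2.2.2 h

/-- The next cosyzygy. -/
noncomputable def cosyzNext (Z : FilF A) : FilF A := cokerObj (emb Z) (emb_isStrict Z)

/-- The projection `inj Z ⟶ cosyzNext Z`. -/
noncomputable def cosyzProj (Z : FilF A) : inj Z ⟶ cosyzNext Z := cokerProj (emb Z) (emb_isStrict Z)

@[reassoc]
lemma emb_cosyzProj (Z : FilF A) : emb Z ≫ cosyzProj Z = 0 := comp_cokerProj _ _

open ZeroObject in
/-- The cosyzygies of `X`. -/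
noncomputable def cosyz (X : FilF A) : ℤ → FilF A := fun k =>
  Int.inductionOn' (motive := fun _ => FilF A) k 0 X (fun _ _ C => cosyzNext C) (fun _ _ _ => 0)

lemma cosyz_zero (X : FilF A) : cosyz X 0 = X := Int.inductionOn'_self

lemma cosyz_succ (X : FilF A) (k : ℤ) (hk : 0 ≤ k) : cosyz X (k + 1) = cosyzNext (cosyz X k) :=
  Int.inductionOn'_add_one hk

open ZeroObject in
lemma cosyz_neg (X : FilF A) (k : ℤ) (hk : k < 0) : IsZero (cosyz X k) := by
  have h1 : k = (k + 1) - 1 := by omega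
  have h2 : cosyz X ((k + 1) - 1) = 0 :=
    Int.inductionOn'_sub_one (motive := fun _ => FilF A) (by omega : k + 1 ≤ 0)
  rw [h1, h2]
  exact isZero_zero _

/-- The objects of the resolution. -/
noncomputable abbrev resX (X : FilF A) (k : ℤ) : FilF A := inj (cosyz X k)

/-- The identification of the next cosyzygy. -/
noncomputable def nextIso (X : FilF A) (k : ℤ) (hk : 0 ≤ k) :
    cosyzNext (cosyz X k) ≅ cosyz X (k + 1) :=
  eqToIso (cosyz_succ X k hk).symm

/-- The differentials of the resolution. -/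
noncomputable def resD (X : FilF A) (k : ℤ) : resX X k ⟶ resX X (k + 1) :=
  if hk : 0 ≤ k then cosyzProj (cosyz X k) ≫ (nextIso X k hk).hom ≫ emb (cosyz X (k + 1)) else 0

lemma resD_of_nonneg (X : FilF A) (k : ℤ) (hk : 0 ≤ k) :
    resD X k = cosyzProj (cosyz X k) ≫ (nextIso X k hk).hom ≫ emb (cosyz X (k + 1)) :=
  dif_pos hk

lemma resD_comp (X : FilF A) (k : ℤ) : resD X k ≫ resD X (k + 1) = 0 := by
  by_cases hk : 0 ≤ k
  · rw [resD_of_nonneg X k hk, resD_of_nonneg X (k + 1) (by omega)]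
    simp only [Category.assoc, emb_cosyzProj_assoc, zero_comp, comp_zero]
  · unfold resD
    rw [dif_neg hk, zero_comp]

/-- The resolution complex. -/
noncomputable abbrev resCx (X : FilF A) : CochainComplex (FilF A) ℤ :=
  CochainComplex.of (resX X) (resD X) (resD_comp X)

lemma resCx_d (X : FilF A) (k : ℤ) : (resCx X).d k (k + 1) = resD X k :=
  CochainComplex.of_d (resX X) (resD X) k

instance (X : FilF A) : (resCx X).IsStrictlyGE 0 := by
  rw [CochainComplex.isStrictlyGE_iff]
  intro i hi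
  exact inj_isZero _ (cosyz_neg X i hi)

/-- The augmentation `X ⟶ I^0`. -/
noncomputable def resAug0 (X : FilF A) : X ⟶ (resCx X).X 0 :=
  eqToHom (cosyz_zero X).symm ≫ emb (cosyz X 0)

lemma resAug0_d (X : FilF A) : resAug0 X ≫ (resCx X).d 0 (0 + 1) = 0 := by
  rw [resCx_d, resD_of_nonneg X 0 le_rfl, resAug0, Category.assoc, emb_cosyzProj_assoc, zero_comp,
    comp_zero]

/-- The augmentation morphism `X[0] ⟶ I`. -/
noncomputable def resAug (X : FilF A) :
    (CochainComplex.singleFunctor (FilF A) 0).obj X ⟶ resCx X :=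
  HomologicalComplex.mkHomFromSingle (resAug0 X) (by
    intro k hk
    obtain rfl : 0 + 1 = k := hk
    exact resAug0_d X)

lemma resAug_f_zero (X : FilF A) : (resAug X).f 0 = (single0Iso X).hom ≫ resAug0 X :=
  HomologicalComplex.mkHomFromSingle_f _ _

lemma mono_gr_emb (Z : FilF A) (p : ℤ) : Mono ((grF A p).map (emb Z)) :=
  mono_gr_of_mono_of_isStrict (emb Z) (emb_isStrict Z) p

/-- If `y` is killed by `gr (resD k)`, it comes from `gr (emb (cosyz k))`. -/
lemma gr_resD_exact_aux (X : FilF A) (k : ℤ) (hk : 0 ≤ k) (p : ℤ) {T : A}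
    (y : T ⟶ (grF A p).obj (resX X k)) (hy : y ≫ (grF A p).map (resD X k) = 0) :
    ∃ (T' : A) (π : T' ⟶ T) (_ : Epi π) (x : T' ⟶ (grF A p).obj (cosyz X k)),
      π ≫ y = x ≫ (grF A p).map (emb (cosyz X k)) := by
  rw [resD_of_nonneg X k hk, Functor.map_comp, Functor.map_comp] at hy
  have := mono_gr_emb (cosyz X (k + 1)) p
  have h1 : y ≫ (grF A p).map (cosyzProj (cosyz X k)) = 0 := by
    have : Mono ((grF A p).map (nextIso X k hk).hom ≫
        (grF A p).map (emb (cosyz X (k + 1)))) := mono_comp _ _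
    rw [← cancel_mono ((grF A p).map (nextIso X k hk).hom ≫
      (grF A p).map (emb (cosyz X (k + 1)))), zero_comp, Category.assoc]
    exact hy
  exact (gr_exact_cokerProj (emb (cosyz X k)) (emb_isStrict _) p).exact_up_to_refinements y h1

end Groth.Agent.H6.FilDLib

namespace Groth.Agent.H6.FilDLib

open FilD

variable {A : Type u} [Category.{v} A] [Abelian A] [EnoughInjectives A]

lemma gr_exact_resCx (X : FilF A) (k : ℤ) (hk : 0 ≤ k) (p : ℤ) :
    ((ShortComplex.mk ((resCx X).d k (k + 1)) ((resCx X).d (k + 1) (k + 1 + 1))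
      ((resCx X).d_comp_d _ _ _)).map (grF A p)).Exact := by
  rw [ShortComplex.exact_iff_exact_up_to_refinements]
  intro T y hy
  change T ⟶ (grF A p).obj (resX X (k + 1)) at y
  change y ≫ (grF A p).map ((resCx X).d (k + 1) (k + 1 + 1)) = 0 at hy
  rw [resCx_d] at hy
  obtain ⟨T1, π1, hπ1, x, hx⟩ := gr_resD_exact_aux X (k + 1) (by omega) p y hy
  have : Epi ((grF A p).map (cosyzProj (cosyz X k))) := epi_gr_cokerProj _ _ p
  have : Epi ((grF A p).map (cosyzProj (cosyz X k)) ≫ (grF A p).map (nextIso X k hk).hom) :=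
    epi_comp _ _
  obtain ⟨T2, π2, hπ2, w, hw⟩ := surjective_up_to_refinements_of_epi
    ((grF A p).map (cosyzProj (cosyz X k)) ≫ (grF A p).map (nextIso X k hk).hom) x
  refine ⟨T2, π2 ≫ π1, epi_comp _ _, w, ?_⟩
  change (π2 ≫ π1) ≫ y = w ≫ (grF A p).map ((resCx X).d k (k + 1))
  rw [resCx_d, resD_of_nonneg X k hk, Category.assoc, hx, ← Category.assoc, hw, Functor.map_comp,
    Functor.map_comp, Category.assoc, Category.assoc]

/-- The iso `X[0]^0 ≅ cosyz X 0`. -/
noncomputable def resIso0 (X : FilF A) :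
    ((CochainComplex.singleFunctor (FilF A) 0).obj X).X 0 ≅ cosyz X 0 :=
  single0Iso X ≪≫ eqToIso (cosyz_zero X).symm

lemma resAug_f_zero' (X : FilF A) : (resAug X).f 0 = (resIso0 X).hom ≫ emb (cosyz X 0) := by
  rw [resAug_f_zero]
  simp [resIso0, resAug0]

theorem isFilteredQuasiIso_resAug (X : FilF A) : IsFilteredQuasiIso (resAug X) := by
  intro p
  refine ⟨fun n => ?_⟩
  by_cases hn : n = 0
  · subst hn
    have hm : Mono ((grF A p).map ((resAug X).f 0)) := by
      have := mono_gr_emb (cosyz X 0) p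
      rw [resAug_f_zero', Functor.map_comp]
      exact mono_comp _ _
    refine quasiIsoAt_zero_of_mono_of_exact ((grCx p).map (resAug X)) ?_ ?_ hm ?_
    · change (grF A p).map (((CochainComplex.singleFunctor (FilF A) 0).obj X).d 0 1) = 0
      rw [single_d_eq_zero, Functor.map_zero]
    · exact isZero_grF_obj (inj_isZero _ (cosyz_neg X (-1) (by omega))) p
    · rw [ShortComplex.exact_iff_exact_up_to_refinements]
      intro T y hy
      change T ⟶ (grF A p).obj (resX X 0) at y
      change y ≫ (grF A p).map ((resCx X).d 0 (0 + 1)) = 0 at hy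
      rw [resCx_d] at hy
      obtain ⟨T1, π1, hπ1, x, hx⟩ := gr_resD_exact_aux X 0 le_rfl p y hy
      refine ⟨T1, π1, hπ1, x ≫ (grF A p).map (resIso0 X).inv, ?_⟩
      change π1 ≫ y = (x ≫ (grF A p).map (resIso0 X).inv) ≫ (grF A p).map ((resAug X).f 0)
      rw [hx, resAug_f_zero', Category.assoc, ← Functor.map_comp, Iso.inv_hom_id_assoc]
  · have hz : IsZero (((CochainComplex.singleFunctor (FilF A) 0).obj X).X n) :=
      HomologicalComplex.isZero_single_obj_X _ _ _ _ hn
    have hK : ((grCx p).obj ((CochainComplex.singleFunctor (FilF A) 0).obj X)).ExactAt n :=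
      HomologicalComplex.ExactAt.of_isZero (isZero_grF_obj hz p)
    rw [quasiIsoAt_iff_exactAt _ _ hK]
    by_cases hneg : n < 0
    · exact HomologicalComplex.ExactAt.of_isZero
        (isZero_grF_obj (inj_isZero _ (cosyz_neg X n hneg)) p)
    · obtain ⟨k, rfl⟩ : ∃ k, n = k + 1 := ⟨n - 1, by omega⟩
      rw [HomologicalComplex.exactAt_iff' _ k (k + 1) (k + 1 + 1) (by simp) (by simp)]
      exact gr_exact_resCx X k (by omega) p

theorem exists_filteredInjective_resolution_single (X : FilF A) :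
    ∃ (I : CochainComplex (FilF A) ℤ)
      (φ : (CochainComplex.singleFunctor (FilF A) 0).obj X ⟶ I), I.IsStrictlyGE 0 ∧
      (∀ n, IsFilteredInjective (I.X n)) ∧ IsFilteredQuasiIso φ :=
  ⟨resCx X, resAug X, inferInstance, fun _ => inj_filteredInjective _,
    isFilteredQuasiIso_resAug X⟩

end Groth.Agent.H6.FilDLib
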