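import Groth.Agent.H6.FilDInj
import Groth.Agent.H6.FilDBiprod

/-!
# The objects `T⟨p⟩` and enough filtered injectives
-/

set_option autoImplicit false
set_option linter.unusedSectionVars false
universe v u

open CategoryTheory CategoryTheory.Limits Opposite

namespace Groth.Agent.H6.FilDLib

open FilD ZeroObject

variable {A : Type u} [Category.{v} A] [Abelian A]

/-- The functor which is `T` in filtration levels `≤ p` and `0` above. -/
noncomputable def shFunctor (T : A) (p : ℤ) : ℤᵒᵖ ⥤ A where
  obj q := if q.unop ≤ p then T else 0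
  map {q q'} f :=
    if h : q.unop ≤ p then
      eqToHom (if_pos h) ≫ eqToHom (if_pos ((leOfHom f.unop).trans h)).symm
    else 0
  map_id q := by
    by_cases h : q.unop ≤ p
    · simp [dif_pos h]
    · rw [dif_neg h]
      have hz : IsZero (if q.unop ≤ p then T else (0 : A)) := by
        rw [if_neg h]; exact isZero_zero A
      exact hz.eq_of_src _ _
  map_comp {q q' q''} f g := by
    by_cases h : q.unop ≤ p
    · have h' : q'.unop ≤ p := (leOfHom f.unop).trans h
      simp [dif_pos h, dif_pos h']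
    · simp [dif_neg h]

lemma shFunctor_obj_pos (T : A) {p q : ℤ} (h : q ≤ p) : (shFunctor T p).obj (op q) = T :=
  if_pos h

lemma shFunctor_obj_pos' (T : A) {p : ℤ} {q : ℤᵒᵖ} (h : q.unop ≤ p) :
    (shFunctor T p).obj q = T :=
  if_pos h

lemma shFunctor_map_eq (T : A) (p : ℤ) {q q' : ℤᵒᵖ} (f : q ⟶ q') (h : q.unop ≤ p) :
    (shFunctor T p).map f = eqToHom (shFunctor_obj_pos' T h) ≫
      eqToHom (shFunctor_obj_pos' T ((leOfHom f.unop).trans h)).symm := by
  change (if h : q.unop ≤ p then
      eqToHom (if_pos h) ≫ eqToHom (if_pos ((leOfHom f.unop).trans h)).symm else 0) = _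
  rw [dif_pos h]
  rfl

lemma shFunctor_obj_neg (T : A) {p q : ℤ} (h : ¬ q ≤ p) : IsZero ((shFunctor T p).obj (op q)) := by
  change IsZero (if q ≤ p then T else (0 : A))
  rw [if_neg h]; exact isZero_zero A

lemma shFunctor_map_isIso (T : A) (p : ℤ) {q q' : ℤᵒᵖ} (f : q ⟶ q') (h : q.unop ≤ p) :
    IsIso ((shFunctor T p).map f) := by
  change IsIso (if h : q.unop ≤ p then
      eqToHom (if_pos h) ≫ eqToHom (if_pos ((leOfHom f.unop).trans h)).symm else 0)
  rw [dif_pos h]
  infer_instance

lemma isFinFil_shFunctor (T : A) (p : ℤ) : IsFinFil A (shFunctor T p) := by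
  refine ⟨?_, ⟨p + 1, fun q hq => shFunctor_obj_neg T (by omega)⟩, ⟨p, ?_⟩⟩
  · intro q q' f
    by_cases h : q.unop ≤ p
    · have := shFunctor_map_isIso T p f h
      infer_instance
    · have hz : IsZero ((shFunctor T p).obj q) := shFunctor_obj_neg T h
      exact ⟨fun g g' _ => hz.eq_of_tgt _ _⟩
  · intro q q' f h
    exact shFunctor_map_isIso T p f h

/-- The finite filtered object `T⟨p⟩`. -/
noncomputable def sh (T : A) (p : ℤ) : FilF A := ⟨shFunctor T p, isFinFil_shFunctor T p⟩

lemma isZero_cokernel_of_isIso {C : Type*} [Category C] [HasZeroMorphisms C] {X Y : C} (f : X ⟶ Y)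
    [IsIso f] [HasCokernel f] : IsZero (cokernel f) := by
  rw [IsZero.iff_id_eq_zero, ← cancel_epi (cokernel.π f), comp_zero, Category.comp_id,
    ← cancel_epi f, cokernel.condition, comp_zero]

lemma isZero_cokernel_of_isZero {C : Type*} [Category C] [HasZeroMorphisms C] {X Y : C} (f : X ⟶ Y)
    (h : IsZero Y) [HasCokernel f] : IsZero (cokernel f) := by
  rw [IsZero.iff_id_eq_zero, ← cancel_epi (cokernel.π f), comp_zero, Category.comp_id]
  exact h.eq_of_src _ _

lemma isFilteredInjective_sh (T : A) [Injective T] (p : ℤ) : IsFilteredInjective (sh T p) := by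
  intro q
  change Injective (cokernel ((shFunctor T p).map (stepHom q)))
  by_cases h1 : q + 1 ≤ p
  · have := shFunctor_map_isIso T p (stepHom q) h1
    exact (isZero_cokernel_of_isIso _).injective
  · by_cases h2 : q ≤ p
    · -- q = p
      have hz : IsZero ((shFunctor T p).obj (op (q + 1))) := shFunctor_obj_neg T h1
      have h0 : (shFunctor T p).map (stepHom q) = 0 := hz.eq_of_src _ _
      have e : cokernel ((shFunctor T p).map (stepHom q)) ≅ T :=
        cokernelIsoOfEq h0 ≪≫ cokernelZeroIsoTarget ≪≫ eqToIso (shFunctor_obj_pos T h2)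
      exact Injective.of_iso e.symm inferInstance
    · exact (isZero_cokernel_of_isZero _ (shFunctor_obj_neg T h2)).injective

/-- The canonical map from any level to the stable level `a`. -/
noncomputable def toBot (X : FilF A) (a q : ℤ) : lev X q ⟶ lev X a :=
  have := Classical.propDecidable
  if h : IsIso (tr X (le_max_left q a)) then
    (@asIso _ _ _ _ _ h).inv ≫ tr X (le_max_right q a)
  else 0

/-- `a` is a stabilization index of `X`. -/
def IsStab (X : FilF A) (a : ℤ) : Prop :=
  ∀ ⦃p q : ℤᵒᵖ⦄ (f : p ⟶ q), p.unop ≤ a → IsIso (X.obj.map f)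

lemma exists_isStab (X : FilF A) : ∃ a, IsStab X a := X.property.2.2

lemma IsStab.of_le {X : FilF A} {a a' : ℤ} (h : IsStab X a) (h' : a' ≤ a) : IsStab X a' :=
  fun _ _ f hp => h f (hp.trans h')

lemma isIso_tr_of_eq (X : FilF A) {q r : ℤ} (h : q ≤ r) (hr : r = q) : IsIso (tr X h) := by
  subst hr
  rw [tr_refl]
  infer_instance

lemma IsStab.isIso_tr_max {X : FilF A} {a : ℤ} (ha : IsStab X a) (q : ℤ) :
    IsIso (tr X (le_max_left q a)) := by
  by_cases h : q ≤ a
  · exact ha _ (by change max q a ≤ a; exact max_le h le_rfl)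
  · exact isIso_tr_of_eq X _ (max_eq_left (by omega))

lemma IsStab.toBot_comp {X : FilF A} {a : ℤ} (ha : IsStab X a) (q : ℤ) :
    tr X (le_max_left q a) ≫ toBot X a q = tr X (le_max_right q a) := by
  have h := ha.isIso_tr_max q
  unfold toBot
  rw [dif_pos h]
  simp

lemma IsStab.tr_toBot {X : FilF A} {a : ℤ} (ha : IsStab X a) {q q' : ℤ} (h : q ≤ q') :
    tr X h ≫ toBot X a q = toBot X a q' := by
  have h1 := ha.isIso_tr_max q
  have h2 := ha.isIso_tr_max q'
  have hm : max q a ≤ max q' a := max_le_max h le_rfl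
  rw [← cancel_epi (tr X (le_max_left q' a)), ha.toBot_comp q', ← Category.assoc, tr_tr,
    ← tr_tr X (le_max_left q a) hm, Category.assoc, ha.toBot_comp q, tr_tr]

lemma IsStab.toBot_of_le {X : FilF A} {a : ℤ} (ha : IsStab X a) {q : ℤ} (h : a ≤ q) :
    toBot X a q = tr X h := by
  have h1 := ha.isIso_tr_max q
  rw [← cancel_epi (tr X (le_max_left q a)), ha.toBot_comp q, tr_tr]

/-- The natural transformation `X ⟶ T⟨p⟩` induced by `w : X^a ⟶ T` killing `X^{p+1}`. -/
noncomputable def toShNat (X : FilF A) {a p : ℤ} (ha : IsStab X a) (hap : a ≤ p) {T : A}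
    (w : lev X a ⟶ T) (hw : tr X (hap.trans (Int.le_add_one le_rfl) : a ≤ p + 1) ≫ w = 0) :
    X.obj ⟶ shFunctor T p where
  app q := if h : q.unop ≤ p then toBot X a q.unop ≫ w ≫ eqToHom (shFunctor_obj_pos' T h).symm
    else 0
  naturality := by
    intro q q' f
    have hle : q'.unop ≤ q.unop := leOfHom f.unop
    have hf : f = (homOfLE hle).op := Subsingleton.elim _ _
    by_cases h : q.unop ≤ p
    · have h' : q'.unop ≤ p := hle.trans h
      rw [dif_pos h, dif_pos h', shFunctor_map_eq T p f h]
      have : X.obj.map f ≫ toBot X a q'.unop = toBot X a q.unop := by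
        rw [hf]; exact ha.tr_toBot hle
      rw [← Category.assoc, this]
      simp only [Category.assoc, eqToHom_trans]
    · rw [dif_neg h]
      rw [zero_comp]
      by_cases h' : q'.unop ≤ p
      · rw [dif_pos h']
        have : X.obj.map f ≫ toBot X a q'.unop = toBot X a q.unop := by
          rw [hf]; exact ha.tr_toBot hle
        rw [← Category.assoc, this]
        have hq : p + 1 ≤ q.unop := by omega
        rw [ha.toBot_of_le (hap.trans ((Int.le_add_one le_rfl).trans hq)),
          ← tr_tr X (hap.trans (Int.le_add_one le_rfl)) hq, Category.assoc, ← Category.assoc _ w,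
          hw, zero_comp, comp_zero]
      · rw [dif_neg h', comp_zero]

end Groth.Agent.H6.FilDLib

namespace Groth.Agent.H6.FilDLib

open FilD ZeroObject

variable {A : Type u} [Category.{v} A] [Abelian A]

/-- The morphism `X ⟶ T⟨p⟩` induced by `w : X^a ⟶ T` killing `X^{p+1}`. -/
noncomputable def toSh (X : FilF A) {a p : ℤ} (ha : IsStab X a) (hap : a ≤ p) {T : A}
    (w : lev X a ⟶ T) (hw : tr X (hap.trans (Int.le_add_one le_rfl) : a ≤ p + 1) ≫ w = 0) :
    X ⟶ sh T p :=
  ObjectProperty.homMk (toShNat X ha hap w hw)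

lemma app_toSh (X : FilF A) {a p : ℤ} (ha : IsStab X a) (hap : a ≤ p) {T : A}
    (w : lev X a ⟶ T) (hw : tr X (hap.trans (Int.le_add_one le_rfl) : a ≤ p + 1) ≫ w = 0) :
    app (toSh X ha hap w hw) p =
      tr X hap ≫ w ≫ eqToHom (shFunctor_obj_pos' T (le_refl p) : (shFunctor T p).obj (op p) = T).symm := by
  change (if h : p ≤ p then toBot X a p ≫ w ≫ eqToHom (shFunctor_obj_pos' T h).symm else 0) = _
  rw [dif_pos (le_refl p), ha.toBot_of_le hap]

lemma mono_grπ_sh (T : A) (p : ℤ) : Mono (grπ (sh T p) p) := by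
  apply Preadditive.mono_of_cancel_zero
  intro T' y hy
  obtain ⟨y', hy'⟩ := exists_lift_of_comp_grπ_eq_zero (sh T p) p y hy
  have hz : IsZero (lev (sh T p) (p + 1)) := shFunctor_obj_neg T (by omega)
  rw [← hy', hz.eq_of_tgt y' 0, zero_comp]

lemma exists_toSh_gr_mono [EnoughInjectives A] (X : FilF A) (p : ℤ) :
    ∃ (J : A) (_ : Injective J) (v : X ⟶ sh J p), Mono ((grF A p).map v) := by
  obtain ⟨a0, ha0⟩ := exists_isStab X
  have ha : IsStab X (min a0 p) := ha0.of_le (min_le_left _ _)
  have hap : min a0 p ≤ p := min_le_right _ _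
  let J := Injective.under ((grF A p).obj X)
  let m : (grF A p).obj X ⟶ J := Injective.ι _
  let w : lev X (min a0 p) ⟶ J := Injective.factorThru (grπ X p ≫ m) (tr X hap)
  have hw0 : tr X hap ≫ w = grπ X p ≫ m := Injective.comp_factorThru _ _
  have hw : tr X (hap.trans (Int.le_add_one le_rfl) : min a0 p ≤ p + 1) ≫ w = 0 := by
    rw [← tr_tr X hap (Int.le_add_one le_rfl), Category.assoc, hw0, ← Category.assoc]
    erw [step_grπ X p]
    rw [zero_comp]
  refine ⟨J, inferInstance, toSh X ha hap w hw, ?_⟩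
  apply Preadditive.mono_of_cancel_zero
  intro T' z hz
  obtain ⟨T'', π, hπ, x, hx⟩ := surjective_up_to_refinements_of_epi (grπ X p) z
  have h1 : (x ≫ app (toSh X ha hap w hw) p) ≫ grπ (sh J p) p = 0 := by
    rw [Category.assoc, ← grπ_map, ← Category.assoc, ← hx, Category.assoc, hz, comp_zero]
  have := mono_grπ_sh J p
  have h2 : x ≫ app (toSh X ha hap w hw) p = 0 := by
    rw [← cancel_mono (grπ (sh J p) p), h1, zero_comp]
  have h2' : x ≫ tr X hap ≫ w ≫ eqToHom (shFunctor_obj_pos' J (le_refl p) :
      (shFunctor J p).obj (op p) = J).symm = 0 := by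
    rw [← app_toSh X ha hap w hw]; exact h2
  have h3 : (x ≫ tr X hap ≫ w) = 0 := by
    rw [← cancel_mono (eqToHom (shFunctor_obj_pos' J (le_refl p) :
      (shFunctor J p).obj (op p) = J).symm), zero_comp, Category.assoc, Category.assoc]
    exact h2'
  rw [hw0, ← Category.assoc] at h3
  have h4 : x ≫ grπ X p = 0 := by
    rw [← cancel_mono m, h3, zero_comp]
  rw [← cancel_epi π, hx, h4, comp_zero]

/-- Biproducts of filtered injective objects are filtered injective. -/
lemma isFilteredInjective_biprod {I I' : FilF A} (hI : IsFilteredInjective I)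
    (hI' : IsFilteredInjective I') : IsFilteredInjective (I ⊞ I') := by
  intro q
  have := hI q
  have := hI' q
  have := preservesBinaryBiproducts_of_preservesBiproducts (grF A q)
  exact Injective.of_iso ((grF A q).mapBiprod I I').symm inferInstance

lemma isZero_lev_zero (q : ℤ) : IsZero (lev (0 : FilF A) q) := by
  rw [IsZero.iff_id_eq_zero]
  have h : 𝟙 (0 : FilF A) = 0 := (isZero_zero _).eq_of_src _ _
  change app (𝟙 (0 : FilF A)) q = 0
  rw [h]
  rfl

lemma isZero_gr_of_isZero (X : FilF A) (q : ℤ) (h : IsZero (lev X q)) :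
    IsZero ((grF A q).obj X) :=
  isZero_cokernel_of_isZero _ h

/-- A morphism which is a monomorphism on all graded pieces is a strict monomorphism. -/
lemma mono_and_isStrict_of_gr_mono {X I : FilF A} (u : X ⟶ I)
    (hu : ∀ q : ℤ, Mono ((grF A q).map u)) : Mono u ∧ IsStrict u := by
  let S : ShortComplex (FilF A) := ShortComplex.mk (0 : 0 ⟶ X) u zero_comp
  have hS : ∀ q : ℤ, (S.map (grF A q)).Exact := by
    intro q
    have h0 : (S.map (grF A q)).f = 0 := by
      change (grF A q).map (0 : (0 : FilF A) ⟶ X) = 0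
      exact Functor.map_zero _ _ _
    rw [ShortComplex.exact_iff_mono _ h0]
    exact hu q
  refine ⟨?_, isStrict_g_of_gr_exact S hS⟩
  have hm : ∀ p : ℤ, Mono (app u p) := by
    intro p
    apply Preadditive.mono_of_cancel_zero
    intro T y hy
    obtain ⟨T', π, hπ, x, hx⟩ := levelwise_exact_refinements S hS p y hy
    have : app S.f p = 0 := rfl
    rw [this, comp_zero] at hx
    rw [← cancel_epi π, hx, comp_zero]
  have hm' : Mono u.hom := by
    have : ∀ q : ℤᵒᵖ, Mono (u.hom.app q) := fun q => hm q.unop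
    exact NatTrans.mono_of_mono_app _
  exact (IsFinFil A).ι.mono_of_mono_map hm'

theorem exists_strictMono_into_filteredInjective [EnoughInjectives A] (X : FilF A) :
    ∃ (I : FilF A) (u : X ⟶ I), IsFilteredInjective I ∧ Mono u ∧ IsStrict u := by
  obtain ⟨b, hb⟩ := exists_zero_bound X
  obtain ⟨a, ha⟩ := exists_isStab X
  have key : ∀ p : ℤ, ∃ (I : FilF A) (u : X ⟶ I), IsFilteredInjective I ∧
      ∀ q, p ≤ q → Mono ((grF A q).map u) := by
    refine int_desc_induction b ?_ ?_
    · intro p hp
      refine ⟨0, 0, ?_, ?_⟩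
      · intro q
        exact (isZero_gr_of_isZero 0 q (isZero_lev_zero q)).injective
      · intro q hq
        have hz : IsZero ((grF A q).obj X) := isZero_gr_of_isZero X q (hb q (hp.trans hq))
        exact ⟨fun g g' _ => hz.eq_of_tgt _ _⟩
    · rintro p ⟨I, u, hI, hu⟩
      obtain ⟨J, hJ, v, hv⟩ := exists_toSh_gr_mono X p
      refine ⟨I ⊞ sh J p, biprod.lift u v, isFilteredInjective_biprod hI (isFilteredInjective_sh J p),
        ?_⟩
      intro q hq
      by_cases hqp : q = p
      · subst hqp
        have : Mono ((grF A q).map (biprod.lift u v) ≫ (grF A q).map biprod.snd) := by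
          rw [← Functor.map_comp, biprod.lift_snd]; exact hv
        exact mono_of_mono _ ((grF A q).map biprod.snd)
      · have := hu q (by omega)
        have : Mono ((grF A q).map (biprod.lift u v) ≫ (grF A q).map biprod.fst) := by
          rw [← Functor.map_comp, biprod.lift_fst]; exact this
        exact mono_of_mono _ ((grF A q).map biprod.fst)
  obtain ⟨I, u, hI, hu⟩ := key a
  refine ⟨I, u, hI, mono_and_isStrict_of_gr_mono u ?_⟩
  intro q
  by_cases hq : a ≤ q
  · exact hu q hq
  · have hiso : IsIso (X.obj.map (stepHom q)) := ha _ (by change q + 1 ≤ a; omega)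
    have hz : IsZero (cokernel (X.obj.map (stepHom q))) := isZero_cokernel_of_isIso _
    have hz' : IsZero ((grF A q).obj X) := hz
    exact ⟨fun g g' _ => hz'.eq_of_tgt _ _⟩

end Groth.Agent.H6.FilDLib
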