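import Groth.Agent.H6.JordanHolder
import Groth.Agent.H6.CovChainWF

set_option autoImplicit false
universe v u

open CategoryTheory CategoryTheory.Limits

namespace Groth.Agent.H6.SubLat

variable {C : Type u} [Category.{v} C] [Abelian C]

theorem finiteLength_iff_artinian_and_noetherian (X : C) :
    (IsArtinianObject X ∧ IsNoetherianObject X) ↔
      ∃ (n : ℕ) (F : Fin (n + 1) → Subobject X) (hF : Monotone F), F 0 = ⊥ ∧ F (Fin.last n) = ⊤ ∧
        ∀ i : Fin n, Simple (cokernel (Subobject.ofLE (F (Fin.castSucc i)) (F (Fin.succ i))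
          (hF (Fin.castSucc_lt_succ (i := i)).le))) := by
  constructor
  · rintro ⟨hA, hN⟩
    obtain ⟨a, h0, n, hn, hcov⟩ := exists_covBy_seq_of_wellFoundedLT_wellFoundedGT (Subobject X)
    have hcov' : ∀ i : Fin n, a (Fin.castSucc i : Fin (n + 1)) ⋖ a (Fin.succ i : Fin (n + 1)) := by
      intro i
      have := hcov i i.2
      simpa using this
    have hmono : Monotone (fun i : Fin (n + 1) => a i) :=
      Fin.monotone_iff_le_succ.2 (fun i => (hcov' i).le)
    refine ⟨n, fun i => a i, hmono, ?_, ?_, fun i => ?_⟩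
    · simpa using h0.eq_bot
    · simpa using hn.eq_top
    · exact simple_of_covBy _ (hcov' i)
  · rintro ⟨n, F, hF, h0, hn, hs⟩
    have hcov : ∀ i : Fin n, F (Fin.castSucc i) ⋖ F (Fin.succ i) := by
      intro i
      have := hs i
      exact covBy_of_simple (hF (Fin.castSucc_lt_succ (i := i)).le)
    obtain ⟨h1, h2⟩ := wellFounded_of_covBy_chain n F h0 hn hcov
    exact ⟨isArtinianObject.is_of_prop h1, isNoetherianObject.is_of_prop h2⟩

end Groth.Agent.H6.SubLat
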