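import Mathlib

/-!
# Finitely many irreducible components ascend along flat morphisms locally of finite type

* `finite_isMin_of_flat`: for a flat ring map `A → B` of finite type, if `A` has finitely many
  minimal primes then so has `B`.
* `finite_irreducibleComponents_of_flat`: scheme version, for quasi-compact opens.
-/

set_option autoImplicit false
universe u

namespace Groth.Agent.H6.FlatIrred

open AlgebraicGeometry CategoryTheory TopologicalSpace

section Ring

variable {A B : Type*} [CommRing A] [CommRing B] [Algebra A B]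

lemma finite_isMin_of_isNoetherianRing (R : Type*) [CommRing R] [IsNoetherianRing R] :
    {r : PrimeSpectrum R | IsMin r}.Finite := by
  have h := minimalPrimes.finite_of_isNoetherianRing R
  have : {r : PrimeSpectrum R | IsMin r} = PrimeSpectrum.asIdeal ⁻¹' (minimalPrimes R) := by
    ext r
    simp [PrimeSpectrum.isMin_iff]
  rw [this]
  exact h.preimage (fun a _ b _ hab => PrimeSpectrum.ext hab)

lemma isMin_comap_of_flat [Module.Flat A B] {q : PrimeSpectrum B} (hq : IsMin q) :
    IsMin (PrimeSpectrum.comap (algebraMap A B) q) := by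
  have hg : GeneralizingMap (PrimeSpectrum.comap (algebraMap A B)) :=
    Algebra.HasGoingDown.iff_generalizingMap_primeSpectrumComap.mp inferInstance
  intro p' hp'
  obtain ⟨q', hq', rfl⟩ := hg ((PrimeSpectrum.le_iff_specializes _ _).mp hp')
  have h1 : q' ≤ q := (PrimeSpectrum.le_iff_specializes _ _).mpr hq'
  have h2 : q ≤ q' := hq h1
  exact Ideal.comap_mono h2

lemma finite_isMin_fiber [Algebra.FiniteType A B] (p : PrimeSpectrum A) :
    {q : PrimeSpectrum B | IsMin q ∧ PrimeSpectrum.comap (algebraMap A B) q = p}.Finite := by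
  have : Algebra.FiniteType p.asIdeal.ResidueField (p.asIdeal.Fiber B) := by
    delta Ideal.Fiber
    infer_instance
  have : IsNoetherianRing (p.asIdeal.Fiber B) :=
    Algebra.FiniteType.isNoetherianRing p.asIdeal.ResidueField _
  have hfin := finite_isMin_of_isNoetherianRing (p.asIdeal.Fiber B)
  let e := PrimeSpectrum.preimageOrderIsoFiber A B p
  let g : {q : PrimeSpectrum B | IsMin q ∧ PrimeSpectrum.comap (algebraMap A B) q = p} →
      {r : PrimeSpectrum (p.asIdeal.Fiber B) | IsMin r} := fun q =>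
    ⟨e ⟨q.1, q.2.2⟩, by
      intro r' hr'
      have h1 : e.symm r' ≤ ⟨q.1, q.2.2⟩ := by
        rw [← e.symm_apply_apply ⟨q.1, q.2.2⟩]
        exact e.symm.monotone hr'
      have h2 : q.1 ≤ (e.symm r').1 := q.2.1 h1
      have h3 : (⟨q.1, q.2.2⟩ : (PrimeSpectrum.comap (algebraMap A B)) ⁻¹' {p}) ≤ e.symm r' := h2
      have := e.monotone h3
      rwa [e.apply_symm_apply] at this⟩
  have hg : Function.Injective g := by
    intro a b hab
    have h1 : e ⟨a.1, a.2.2⟩ = e ⟨b.1, b.2.2⟩ := congrArg Subtype.val hab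
    have h2 := e.injective h1
    exact Subtype.ext (congrArg (fun z => z.1) h2)
  have : Finite {r : PrimeSpectrum (p.asIdeal.Fiber B) | IsMin r} := hfin.to_subtype
  exact Set.finite_coe_iff.mp (Finite.of_injective g hg)

/-- For a flat ring map of finite type, finiteness of the set of minimal primes ascends. -/
theorem finite_isMin_of_flat [Module.Flat A B] [Algebra.FiniteType A B]
    (h : {p : PrimeSpectrum A | IsMin p}.Finite) : {q : PrimeSpectrum B | IsMin q}.Finite := by
  have : {q : PrimeSpectrum B | IsMin q} ⊆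
      ⋃ p ∈ {p : PrimeSpectrum A | IsMin p},
        {q : PrimeSpectrum B | IsMin q ∧ PrimeSpectrum.comap (algebraMap A B) q = p} := by
    intro q hq
    simp only [Set.mem_iUnion, Set.mem_ofPred_eq]
    exact ⟨_, isMin_comap_of_flat hq, hq, rfl⟩
  exact (h.biUnion fun p _ => finite_isMin_fiber p).subset this

theorem finite_isMin_of_flat_ringHom {A B : Type*} [CommRing A] [CommRing B] (φ : A →+* B)
    (h1 : φ.Flat) (h2 : φ.FiniteType) (h : {p : PrimeSpectrum A | IsMin p}.Finite) :
    {q : PrimeSpectrum B | IsMin q}.Finite := by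
  algebraize [φ]
  exact finite_isMin_of_flat h

end Ring

section Top

variable {T T' : Type*} [TopologicalSpace T] [TopologicalSpace T']

/-- A point without proper generizations. -/
def IsMaxPt (x : T) : Prop := ∀ y, y ⤳ x → y = x

lemma isMaxPt_of_mem_irreducibleComponents [T0Space T] {y : T}
    (hy : closure {y} ∈ irreducibleComponents T) : IsMaxPt y := by
  intro y' h
  have h1 : closure {y} ⊆ closure {y'} := h.closure_subset
  have h2 : IsIrreducible (closure {y'}) := isIrreducible_singleton.closure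
  have h3 : closure {y'} ⊆ closure {y} := hy.2 h2 h1
  have h4 : y ⤳ y' := specializes_iff_closure_subset.mpr h3
  exact (h.antisymm h4).eq

lemma mem_irreducibleComponents_of_isMaxPt [QuasiSober T] {y : T} (hy : IsMaxPt y) :
    closure {y} ∈ irreducibleComponents T := by
  refine ⟨isIrreducible_singleton.closure, fun Z hZ hle => ?_⟩
  obtain ⟨z, hz⟩ := QuasiSober.sober hZ.closure isClosed_closure
  have h1 : y ∈ closure {z} := by
    rw [hz.def]; exact subset_closure (hle (subset_closure rfl))
  have h2 : z ⤳ y := specializes_iff_mem_closure.mpr h1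
  have h3 := hy z h2
  subst h3
  rw [hz.def]
  exact subset_closure

lemma finite_irreducibleComponents_of_finite_isMaxPt [QuasiSober T] [T0Space T]
    (h : {x : T | IsMaxPt x}.Finite) : (irreducibleComponents T).Finite := by
  refine (h.image fun x => closure {x}).subset fun Z hZ => ?_
  obtain ⟨z, hz⟩ := QuasiSober.sober hZ.1 (isClosed_of_mem_irreducibleComponents Z hZ)
  refine ⟨z, ?_, hz.def⟩
  exact isMaxPt_of_mem_irreducibleComponents (by rw [hz.def]; exact hZ)

lemma finite_isMaxPt_of_finite_irreducibleComponents [QuasiSober T] [T0Space T]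
    (h : (irreducibleComponents T).Finite) : {x : T | IsMaxPt x}.Finite := by
  have : Set.InjOn (fun x : T => closure {x}) {x : T | IsMaxPt x} := by
    intro a _ b _ hab
    have h1 : a ⤳ b := specializes_iff_closure_subset.mpr (le_of_eq hab.symm)
    have h2 : b ⤳ a := specializes_iff_closure_subset.mpr (le_of_eq hab)
    exact (h1.antisymm h2).eq
  refine Set.Finite.of_finite_image (h.subset ?_) this
  rintro _ ⟨x, hx, rfl⟩
  exact mem_irreducibleComponents_of_isMaxPt hx

lemma isMaxPt_homeomorph (e : T ≃ₜ T') {x : T} : IsMaxPt (e x) ↔ IsMaxPt x := by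
  constructor
  · intro h y hy
    exact e.injective (h (e y) (hy.map e.continuous))
  · intro h z hz
    obtain ⟨y, rfl⟩ := e.surjective z
    have : y ⤳ x := e.isInducing.specializes_iff.mp hz
    rw [h y this]

lemma isMaxPt_subtype {s : Set T} (hs : IsOpen s) {x : s} : IsMaxPt x ↔ IsMaxPt (x : T) := by
  constructor
  · intro h y hy
    have hys : y ∈ s := hy.mem_open hs x.2
    have : (⟨y, hys⟩ : s) ⤳ x := (subtype_specializes_iff _ _).mpr hy
    exact congrArg Subtype.val (h _ this)
  · intro h y hy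
    have : (y : T) ⤳ x := (subtype_specializes_iff _ _).mp hy
    exact Subtype.ext (h _ this)

lemma isMaxPt_primeSpectrum {R : Type*} [CommRing R] {p : PrimeSpectrum R} :
    IsMaxPt p ↔ IsMin p := by
  constructor
  · intro h q hq
    have := h q ((PrimeSpectrum.le_iff_specializes _ _).mp hq)
    exact this ▸ le_rfl
  · intro h q hq
    have h1 : q ≤ p := (PrimeSpectrum.le_iff_specializes _ _).mpr hq
    exact le_antisymm h1 (h h1)

end Top

section Scheme

variable {X Y : Scheme.{u}}

/-- For an affine open `U`, the maximal points of `X` in `U` correspond to minimal primes. -/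
lemma finite_isMaxPt_iff_of_isAffineOpen {U : X.Opens} (hU : IsAffineOpen U) :
    {x : X | x ∈ U ∧ IsMaxPt x}.Finite ↔ {p : PrimeSpectrum Γ(X, U) | IsMin p}.Finite := by
  let e : (U : Type u) ≃ₜ PrimeSpectrum Γ(X, U) := Scheme.homeoOfIso hU.isoSpec
  have h1 : {x : X | x ∈ U ∧ IsMaxPt x} = Subtype.val '' {x : U | IsMaxPt x} := by
    ext x
    constructor
    · rintro ⟨hx, hm⟩
      exact ⟨⟨x, hx⟩, (isMaxPt_subtype U.2).mpr hm, rfl⟩
    · rintro ⟨y, hy, rfl⟩
      exact ⟨y.2, (isMaxPt_subtype U.2).mp hy⟩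
  have h2 : {p : PrimeSpectrum Γ(X, U) | IsMin p} = e '' {x : U | IsMaxPt x} := by
    ext p
    constructor
    · intro hp
      refine ⟨e.symm p, ?_, e.apply_symm_apply p⟩
      show IsMaxPt (e.symm p)
      rw [← isMaxPt_homeomorph e, e.apply_symm_apply]
      exact isMaxPt_primeSpectrum.mpr hp
    · rintro ⟨y, hy, rfl⟩
      exact isMaxPt_primeSpectrum.mp ((isMaxPt_homeomorph e).mpr hy)
  rw [h1, h2, Set.finite_image_iff Subtype.val_injective.injOn,
    Set.finite_image_iff e.injective.injOn]
  exact Iff.rfl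

/-- If `f : Y ⟶ X` is flat and locally of finite type and every quasi-compact open of `X` has
finitely many irreducible components, then so does every quasi-compact open of `Y`. -/
theorem finite_irreducibleComponents_of_flat (f : Y ⟶ X) [Flat f] [LocallyOfFiniteType f]
    (hX : ∀ U : X.Opens, IsCompact (U : Set X) → (irreducibleComponents (U : Type u)).Finite)
    (V : Y.Opens) (hV : IsCompact (V : Set Y)) : (irreducibleComponents (V : Type u)).Finite := by
  have : QuasiSober (V : Type u) := inferInstanceAs (QuasiSober (V : Scheme.{u}))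
  have : T0Space (V : Type u) := inferInstanceAs (T0Space (V : Scheme.{u}))
  apply finite_irreducibleComponents_of_finite_isMaxPt
  suffices h : {y : Y | y ∈ V ∧ IsMaxPt y}.Finite by
    refine (h.preimage Subtype.val_injective.injOn).subset fun y hy => ?_
    exact ⟨y.2, (isMaxPt_subtype V.2).mp hy⟩
  -- choose affine neighbourhoods
  have key : ∀ y : V, ∃ W : Y.Opens, (y : Y) ∈ W ∧ W ≤ V ∧ {z : Y | z ∈ W ∧ IsMaxPt z}.Finite := by
    intro y
    obtain ⟨U, hU, hyU⟩ : ∃ U : X.Opens, IsAffineOpen U ∧ f y.1 ∈ U := by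
      obtain ⟨_, ⟨U, hU : IsAffineOpen U, rfl⟩, hyU, -⟩ :=
        X.isBasis_affineOpens.exists_subset_of_mem_open (Set.mem_univ (f y.1)) isOpen_univ
      exact ⟨U, hU, hyU⟩
    obtain ⟨W, hW, hyW, hWle⟩ : ∃ W : Y.Opens, IsAffineOpen W ∧ y.1 ∈ W ∧ W ≤ f ⁻¹ᵁ U ⊓ V := by
      obtain ⟨_, ⟨W, hW : IsAffineOpen W, rfl⟩, hyW, hle⟩ :=
        Y.isBasis_affineOpens.exists_subset_of_mem_open
          (show y.1 ∈ ((f ⁻¹ᵁ U ⊓ V : Y.Opens) : Set Y) from ⟨hyU, y.2⟩) (f ⁻¹ᵁ U ⊓ V).2
      exact ⟨W, hW, hyW, hle⟩
    refine ⟨W, hyW, hWle.trans inf_le_right, ?_⟩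
    rw [finite_isMaxPt_iff_of_isAffineOpen hW]
    have hfinU : {p : PrimeSpectrum Γ(X, U) | IsMin p}.Finite := by
      rw [← finite_isMaxPt_iff_of_isAffineOpen hU]
      have : QuasiSober (U : Type u) := inferInstanceAs (QuasiSober (U : Scheme.{u}))
      have : T0Space (U : Type u) := inferInstanceAs (T0Space (U : Scheme.{u}))
      have h := finite_isMaxPt_of_finite_irreducibleComponents (hX U hU.isCompact)
      refine (h.image Subtype.val).subset ?_
      rintro x ⟨hx, hm⟩
      exact ⟨⟨x, hx⟩, (isMaxPt_subtype U.2).mpr hm, rfl⟩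
    exact finite_isMin_of_flat_ringHom (f.appLE U W (hWle.trans inf_le_left)).hom
      (f.flat_appLE hU hW _) (f.finiteType_appLE hU hW _) hfinU
  choose W hyW hWV hfin using key
  obtain ⟨t, ht⟩ := hV.elim_finite_subcover (fun y : V => ((W y : Y.Opens) : Set Y))
    (fun y => (W y).2) (fun z hz => Set.mem_iUnion.mpr ⟨⟨z, hz⟩, hyW ⟨z, hz⟩⟩)
  refine (t.finite_toSet.biUnion fun y _ => hfin y).subset ?_
  rintro z ⟨hzV, hzm⟩
  obtain ⟨y, hy, hzy⟩ := Set.mem_iUnion₂.mp (ht hzV)
  exact Set.mem_iUnion₂.mpr ⟨y, hy, hzy, hzm⟩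

end Scheme

end Groth.Agent.H6.FlatIrred
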