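import Groth.Agent.H6.ReflNormal
import Groth.Agent.H34.Reflexive
import Groth.Agent.H67.TorsionFreeLocFree
import Groth.Prelude.Def_TorSh

/-!
# Reflexive = torsion-free + normal on regular integral schemes (helper6)
-/

set_option autoImplicit false
universe u

namespace Groth.Agent.H6.ReflNormal

open AlgebraicGeometry CategoryTheory Opposite TopologicalSpace IsLocalRing
open Groth.Agent.H6.HomSh

/-- stalks of the dual of a coherent module on an integral locally Noetherian scheme are
reflexive -/
theorem isReflexive_stalk_dual (X : Scheme.{u}) [IsIntegral X] [IsLocallyNoetherian X]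
    (G : X.Modules) (hG : Coh.IsCoh G) (x : X) :
    Module.IsReflexive (X.presheaf.stalk x) ((RefHull.dual G).presheaf.stalk x) := by
  have := Groth.Agent.H67.StalkLoc.isQuasicoherent_structureModule X
  let e := stalkHomEquiv G (Coh.structureModule X) hG x
  let c := Groth.Agent.H79.StructStalk.structStalkEquiv X x
  let κ : (G.presheaf.stalk x →ₗ[X.presheaf.stalk x] (Coh.structureModule X).presheaf.stalk x)
      ≃ₗ[X.presheaf.stalk x] Module.Dual (X.presheaf.stalk x) (G.presheaf.stalk x) :=
    LinearEquiv.arrowCongr (LinearEquiv.refl _ _) c.symm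
  have : Module.Finite (X.presheaf.stalk x) (G.presheaf.stalk x) := finite_stalk_of_isCoh G hG x
  have : Module.IsReflexive (X.presheaf.stalk x)
      (G.presheaf.stalk x →ₗ[X.presheaf.stalk x] X.presheaf.stalk x) :=
    Groth.Agent.H34.isReflexive_linearMap (X.presheaf.stalk x) (G.presheaf.stalk x)
      (X.presheaf.stalk x)
  exact Module.equiv (e.trans κ).symm

/-- the bidual of a coherent module has reflexive stalks -/
theorem isReflexive_stalk_ddual (X : Scheme.{u}) [IsIntegral X] [IsLocallyNoetherian X]
    (F : X.Modules) (hF : Coh.IsCoh F) (x : X) :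
    Module.IsReflexive (X.presheaf.stalk x) ((RefHull.ddual F).presheaf.stalk x) :=
  isReflexive_stalk_dual X (RefHull.dual F) (isCoh_dual F hF) x


/-- finite torsion-free modules over regular local rings of dimension at most one are
reflexive -/
theorem isReflexive_of_torsionFree_of_dim_le_one (A : Type u) [CommRing A] [IsRegularLocalRing A]
    (hdim : ¬ (2 : WithBot ℕ∞) ≤ ringKrullDim A) (M : Type u) [AddCommGroup M] [Module A M]
    [Module.Finite A M] [Module.IsTorsionFree A M] : Module.IsReflexive A M := by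
  have hdA : ringKrullDim A = (maximalIdeal A).spanFinrank :=
    Groth.Agent.Lead.RLR.ringKrullDim_eq_spanFinrank A
  have h1 : ringKrullDim A ≤ 1 := by
    rw [hdA] at hdim ⊢
    have h2 : ¬ 2 ≤ (maximalIdeal A).spanFinrank := fun h => hdim (by exact_mod_cast h)
    have h3 : (maximalIdeal A).spanFinrank ≤ 1 := by omega
    exact_mod_cast h3
  obtain ⟨hdom, hpid⟩ := Groth.Agent.H67.TorsionFreeLocFree.isPrincipalIdealRing_of_regular A h1
  have : Module.Free A M := Module.free_of_finite_type_torsion_free'
  infer_instance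

/-- On a regular integral locally Noetherian scheme, a torsion-free normal coherent module is
reflexive. -/
theorem isReflexive_of_torsionFree_of_normal (X : Scheme.{u}) [IsIntegral X]
    [IsLocallyNoetherian X] (hreg : ∀ x : X, IsRegularLocalRing (X.presheaf.stalk x))
    (F : X.Modules) (hF : Coh.IsCoh F) (htf : TorSh.IsTorsionFree F)
    (hnorm : ∀ (U V : X.Opens) (hVU : V ≤ U),
      (∀ x : X, x ∈ U → x ∉ V → (2 : WithBot ℕ∞) ≤ ringKrullDim (X.presheaf.stalk x)) →
        Function.Bijective (F.presheaf.map (homOfLE hVU).op)) :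
    RefHull.IsReflexive F := by
  have hE := isCoh_ddual F hF
  let Z : X.Opens := ⟨{x : X | Function.Bijective (RefHull.stalkMapₗ (RefHull.bidualMap F) x)},
    isOpen_bijLocus hF hE (RefHull.bidualMap F)⟩
  have hZ : ∀ x : X, x ∉ Z → (2 : WithBot ℕ∞) ≤ ringKrullDim (X.presheaf.stalk x) := by
    intro x hx
    by_contra hcon
    apply hx
    have := hreg x
    have : Module.Finite (X.presheaf.stalk x) (F.presheaf.stalk x) := finite_stalk_of_isCoh F hF x
    have := htf x
    exact (bijective_stalk_bidualMap_iff F hF x).mpr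
      (isReflexive_of_torsionFree_of_dim_le_one _ hcon _)
  unfold RefHull.IsReflexive
  rw [Scheme.Modules.Hom.isIso_iff_isIso_app]
  intro U
  rw [ConcreteCategory.isIso_iff_bijective]
  have hle : U ⊓ Z ≤ U := inf_le_left
  have hd : ∀ x : X, x ∈ U → x ∉ U ⊓ Z →
      (2 : WithBot ℕ∞) ≤ ringKrullDim (X.presheaf.stalk x) :=
    fun x hxU hx => hZ x (fun hxZ => hx ⟨hxU, hxZ⟩)
  have hbF := hnorm U (U ⊓ Z) hle hd
  have hbE := bijective_res_of_reflexive_stalks X hreg (RefHull.ddual F) hE
    (isReflexive_stalk_ddual X F hF) U (U ⊓ Z) hle hd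
  have hbW : Function.Bijective ((RefHull.bidualMap F).app (U ⊓ Z)) := by
    let F' : TopCat.Sheaf Ab X := ⟨F.presheaf, F.isSheaf⟩
    let G' : TopCat.Sheaf Ab X := ⟨(RefHull.ddual F).presheaf, (RefHull.ddual F).isSheaf⟩
    let f : F' ⟶ G' := ⟨(RefHull.bidualMap F).mapPresheaf⟩
    exact TopCat.Presheaf.app_bijective_of_stalkFunctor_map_bijective f (U ⊓ Z)
      (fun x hx => hx.2)
  have hnat : ∀ s : Γ(F, U), (RefHull.ddual F).presheaf.map (homOfLE hle).op
      ((RefHull.bidualMap F).app U s) =
      (RefHull.bidualMap F).app (U ⊓ Z) (F.presheaf.map (homOfLE hle).op s) := by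
    intro s
    have := (RefHull.bidualMap F).mapPresheaf.naturality (homOfLE hle).op
    exact congr($(this) s).symm
  constructor
  · intro s t hst
    apply hbF.1
    apply hbW.1
    rw [← hnat, ← hnat, hst]
  · intro e
    obtain ⟨w, hw⟩ := hbW.2 ((RefHull.ddual F).presheaf.map (homOfLE hle).op e)
    obtain ⟨s, rfl⟩ := hbF.2 w
    refine ⟨s, ?_⟩
    apply hbE.1
    rw [hnat, hw]

end Groth.Agent.H6.ReflNormal
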