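import Groth.Agent.H6.ReflExt
import Groth.Agent.H6.ReflNormal2
import Groth.Agent.H12.ExtCases
import Groth.Agent.H12.CohOpen

/-!
# Direct images of reflexive modules from big opens (helper6)
-/

set_option autoImplicit false
set_option linter.style.haveILetI false
universe u

namespace Groth.Agent.H6.ReflPush

open AlgebraicGeometry CategoryTheory Opposite TopologicalSpace

/-- a morphism which is bijective on stalks at the points of `U` restricts to an isomorphism
on `U` -/
theorem isIso_restrict_map_of_bijective_stalks {X : Scheme.{u}} {A B : X.Modules} (φ : A ⟶ B)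
    (U : X.Opens) (h : ∀ x ∈ U, Function.Bijective (RefHull.stalkMapₗ φ x)) :
    IsIso ((Scheme.Modules.restrictFunctor U.ι).map φ) := by
  rw [Scheme.Modules.Hom.isIso_iff_isIso_app]
  intro V
  have h1 : Function.Bijective (φ.app (U.ι ''ᵁ V)) := by
    apply HomSh.bijective_app_of_bijective_stalkMapₗ φ (U.ι ''ᵁ V)
    intro x hx
    apply h x
    obtain ⟨y, -, rfl⟩ := hx
    exact y.2
  rw [ConcreteCategory.isIso_iff_bijective]
  exact h1

/-- stalks of isomorphic modules are linearly equivalent -/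
theorem isReflexive_stalk_of_iso {X : Scheme.{u}} {A B : X.Modules} (e : A ≅ B) (x : X)
    (h : Module.IsReflexive (X.presheaf.stalk x) (A.presheaf.stalk x)) :
    Module.IsReflexive (X.presheaf.stalk x) (B.presheaf.stalk x) := by
  have hb := HomSh.bijective_stalkMapₗ_of_isIso e.hom x
  exact Module.equiv (LinearEquiv.ofBijective (RefHull.stalkMapₗ e.hom x) hb)

theorem isCoh_of_iso {X : Scheme.{u}} {A B : X.Modules} (e : A ≅ B) (h : Coh.IsCoh A) :
    Coh.IsCoh B := by
  haveI : A.IsQuasicoherent := h.1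
  exact ⟨Groth.Agent.H12.QCohAbelian.isQuasicoherent_of_iso e,
    Groth.Agent.H12.CohOpen.isFiniteType_of_iso e.symm h.2⟩

/-- a locally Noetherian scheme has a locally Noetherian underlying space -/
theorem exists_noetherianSpace_nhds (X : Scheme.{u}) [IsLocallyNoetherian X] (x : X) :
    ∃ U : X.Opens, x ∈ U ∧ NoetherianSpace (U : Set X) := by
  obtain ⟨W, hW, hxW, -⟩ := exists_isAffineOpen_mem_and_subset (x := x) (U := ⊤) trivial
  haveI : IsNoetherianRing Γ(X, W) := IsLocallyNoetherian.component_noetherian ⟨W, hW⟩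
  exact ⟨W, hxW, noetherianSpace_of_isAffineOpen W hW⟩

/-- (a): the unit is an isomorphism for coherent modules with reflexive stalks, when the local
rings outside `U` have depth at least two -/
theorem isIso_unit_of_reflexive (X : Scheme.{u}) [IsLocallyNoetherian X] (U : X.Opens)
    (hU : ∀ x : X, x ∉ U → (2 : ℕ∞) ≤ LocCoh.depth (X.presheaf.stalk x) (X.presheaf.stalk x))
    (F : X.Modules) (hF : Coh.IsCoh F)
    (hrefl : ∀ x : X, Module.IsReflexive (X.presheaf.stalk x) (F.presheaf.stalk x)) :
    IsIso ((Scheme.Modules.restrictAdjunction U.ι).unit.app F) := by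
  apply HartogsMod.isIso_unit_app X F hF U
  intro x hx
  haveI : Module.Finite (X.presheaf.stalk x) (F.presheaf.stalk x) :=
    HomSh.finite_stalk_of_isCoh F hF x
  haveI := hrefl x
  have h1 := ReflRegular.min_two_depth_le_depth_of_isReflexive (X.presheaf.stalk x)
    (F.presheaf.stalk x)
  refine le_trans ?_ h1
  rw [le_min_iff]
  exact ⟨le_rfl, hU x hx⟩

/-- (b): the direct image of a coherent module with reflexive stalks on `U` is isomorphic to a
coherent module with reflexive stalks on `X` -/
theorem exists_iso_pushforward (X : Scheme.{u}) [IsIntegral X] [IsLocallyNoetherian X]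
    (U : X.Opens)
    (hU : ∀ x : X, x ∉ U → (2 : ℕ∞) ≤ LocCoh.depth (X.presheaf.stalk x) (X.presheaf.stalk x))
    (G : (U : Scheme.{u}).Modules) (hG : Coh.IsCoh G)
    (hrefl : ∀ x : ↥(U : Scheme.{u}), Module.IsReflexive ((U : Scheme.{u}).presheaf.stalk x)
      (G.presheaf.stalk x)) :
    ∃ E : X.Modules, Coh.IsCoh E ∧
      (∀ x : X, Module.IsReflexive (X.presheaf.stalk x) (E.presheaf.stalk x)) ∧
      Nonempty (E ≅ (Scheme.Modules.pushforward U.ι).obj G) := by
  haveI : G.IsQuasicoherent := hG.1
  have hX := exists_noetherianSpace_nhds X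
  haveI := Groth.Agent.H12.ExtCases.quasiCompact_ι_of_locallyNoetherian hX U
  obtain ⟨G', hq, hft, ⟨e⟩⟩ := Groth.Agent.H12.ExtCases.exists_ft_restrict_iso_of_ext U G
    (fun F _ i _ =>
      Groth.Agent.H12.ExtCases.exists_ft_extension_of_locallyNoetherian hX U F G i hG.2)
  have hG' : Coh.IsCoh G' := ⟨hq, hft⟩
  have hE : Coh.IsCoh (RefHull.ddual G') := HomSh.isCoh_ddual G' hG'
  have hEr : ∀ x : X, Module.IsReflexive (X.presheaf.stalk x)
      ((RefHull.ddual G').presheaf.stalk x) := ReflNormal.isReflexive_stalk_ddual X G' hG'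
  have h1 : ∀ x ∈ U, Module.IsReflexive (X.presheaf.stalk x) (G'.presheaf.stalk x) := by
    intro x hx
    have h2 : Module.IsReflexive ((U : Scheme.{u}).presheaf.stalk ⟨x, hx⟩)
        ((G'.restrict U.ι).presheaf.stalk ⟨x, hx⟩) :=
      isReflexive_stalk_of_iso e.symm ⟨x, hx⟩ (hrefl ⟨x, hx⟩)
    exact (RestrictStalk.isReflexive_restrict_iff U.ι G' ⟨x, hx⟩).mp h2
  haveI h3 : IsIso ((Scheme.Modules.restrictFunctor U.ι).map (RefHull.bidualMap G')) :=
    isIso_restrict_map_of_bijective_stalks _ U
      (fun x hx => (HomSh.bijective_stalk_bidualMap_iff G' hG' x).mpr (h1 x hx))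
  haveI h4 := isIso_unit_of_reflexive X U hU (RefHull.ddual G') hE hEr
  exact ⟨RefHull.ddual G', hE, hEr,
    ⟨asIso ((Scheme.Modules.restrictAdjunction U.ι).unit.app (RefHull.ddual G')) ≪≫
      (Scheme.Modules.pushforward U.ι).mapIso
        ((asIso ((Scheme.Modules.restrictFunctor U.ι).map (RefHull.bidualMap G'))).symm ≪≫ e)⟩⟩

end Groth.Agent.H6.ReflPush
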