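import Groth.Agent.H6.SubFT
import Groth.Agent.H6.ReflPush
import Groth.Agent.H6.NormalDepth
import Groth.Agent.H67.FreeLocus
import Groth.Prelude.Def_FlatMod2
import Groth.Prelude.Def_Pi1

/-!
# The bidual of a submodule of finite type of a flat module on a normal scheme (helper6)

`F ⊆ A` of finite type, `A` flat quasi-coherent on a locally Noetherian normal scheme: then
`F^** ≅ j_* j^* F` for `j` the inclusion of the flat locus of `F`.
-/

set_option autoImplicit false
set_option linter.style.haveILetI false
universe u

namespace Groth.Agent.H6.FlatLocusBidual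

open AlgebraicGeometry CategoryTheory Opposite TopologicalSpace IsLocalRing
open Groth.Agent.H6.HomSh

/-- stalks of the dual of a coherent module are reflexive at points where the local ring is a
domain -/
theorem isReflexive_stalk_dual_of_isDomain (X : Scheme.{u}) [IsLocallyNoetherian X]
    (G : X.Modules) (hG : Coh.IsCoh G) (x : X) [IsDomain (X.presheaf.stalk x)] :
    Module.IsReflexive (X.presheaf.stalk x) ((RefHull.dual G).presheaf.stalk x) := by
  have := Groth.Agent.H67.StalkLoc.isQuasicoherent_structureModule X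
  let e := stalkHomEquiv G (Coh.structureModule X) hG x
  let c := Groth.Agent.H79.StructStalk.structStalkEquiv X x
  let κ : (G.presheaf.stalk x →ₗ[X.presheaf.stalk x] (Coh.structureModule X).presheaf.stalk x)
      ≃ₗ[X.presheaf.stalk x] Module.Dual (X.presheaf.stalk x) (G.presheaf.stalk x) :=
    LinearEquiv.arrowCongr (LinearEquiv.refl _ _) c.symm
  have : Module.Finite (X.presheaf.stalk x) (G.presheaf.stalk x) := finite_stalk_of_isCoh G hG x
  have : Module.IsReflexive (X.presheaf.stalk x)
      (G.presheaf.stalk x →ₗ[X.presheaf.stalk x] X.presheaf.stalk x) :=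
    Groth.Agent.H34.isReflexive_linearMap (X.presheaf.stalk x) (G.presheaf.stalk x)
      (X.presheaf.stalk x)
  exact Module.equiv (e.trans κ).symm

/-- stalk maps of a monomorphism are injective -/
theorem injective_stalkMapₗ_of_mono {X : Scheme.{u}} {F G : X.Modules} (φ : F ⟶ G) [Mono φ]
    (x : X) : Function.Injective (RefHull.stalkMapₗ φ x) :=
  TopCat.Presheaf.stalkFunctor_map_injective_of_app_injective (f := φ.mapPresheaf)
    (Groth.Agent.H7.ZClosBase.injective_app_of_mono φ) x

/-- the main construction -/
theorem exists_iso_pushforward_flatLocus (S : Scheme.{u}) [IsLocallyNoetherian S]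
    (hS : Pi1.IsNormalScheme S) (A F : S.Modules) (hA : Coh.IsQCoh A) (hAfl : FlatMod.IsFlat A)
    (ι : F ⟶ A) [Mono ι] (hF : CohB1.IsFT F) (U : S.Opens)
    (hU : (U : Set S) = {s : S | FlatMod.IsFlatAt F s}) :
    ∃ e : RefHull.ddual F ≅ (Scheme.Modules.pushforward U.ι).obj (F.restrict U.ι),
      RefHull.bidualMap F ≫ e.hom = (Scheme.Modules.restrictAdjunction U.ι).unit.app F := by
  haveI : A.IsQuasicoherent := hA
  have hq : F.IsQuasicoherent := SubFT.isQuasicoherent_of_mono_of_isFiniteType A F ι hF
  have hcoh : Coh.IsCoh F := ⟨hq, hF⟩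
  have hmem : ∀ x : S, x ∈ U ↔ FlatMod.IsFlatAt F x := by
    intro x
    have : x ∈ (U : Set S) ↔ x ∈ {s : S | FlatMod.IsFlatAt F s} := by rw [hU]
    exact this
  -- on `U`, the stalk maps of `F → F^**` are bijective
  have hbij : ∀ x ∈ U, Function.Bijective (RefHull.stalkMapₗ (RefHull.bidualMap F) x) := by
    intro x hx
    rw [bijective_stalk_bidualMap_iff F hcoh x]
    unfold RefHull.IsReflexiveAt
    haveI : Module.Finite (S.presheaf.stalk x) (F.presheaf.stalk x) :=
      finite_stalk_of_isCoh F hcoh x
    haveI : Module.Flat (S.presheaf.stalk x) (F.presheaf.stalk x) := (hmem x).mp hx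
    haveI : Module.Free (S.presheaf.stalk x) (F.presheaf.stalk x) :=
      Module.free_of_flat_of_isLocalRing
    infer_instance
  -- off `U`, the local rings have dimension at least two
  have hdim : ∀ x : S, x ∉ U → (2 : WithBot ℕ∞) ≤ ringKrullDim (S.presheaf.stalk x) := by
    intro x hx
    by_contra hcon
    apply hx
    rw [hmem x]
    haveI := (hS x).1
    haveI := (hS x).2
    have h1 : ringKrullDim (S.presheaf.stalk x) ≤ 1 := by
      have h2 : ringKrullDim (S.presheaf.stalk x) < 2 := not_le.mp hcon
      have hne : ringKrullDim (S.presheaf.stalk x) ≠ ⊥ := ringKrullDim_ne_bot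
      obtain ⟨n, hn⟩ := WithBot.ne_bot_iff_exists.mp hne
      rw [← hn] at h2 ⊢
      have h3 : n < 2 := WithBot.coe_lt_coe.mp h2
      have h4 : n < 1 + 1 := by
        have : (1 : ℕ∞) + 1 = 2 := by norm_num
        rw [this]; exact h3
      have h5 : n ≤ 1 := Order.le_of_lt_add_one h4
      exact WithBot.coe_le_coe.mpr h5
    haveI : IsPrincipalIdealRing (S.presheaf.stalk x) :=
      Groth.Agent.H67.FreeLocus.isPrincipalIdealRing_of_normal _ h1
    haveI : Module.Finite (S.presheaf.stalk x) (F.presheaf.stalk x) :=
      finite_stalk_of_isCoh F hcoh x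
    haveI : Module.Flat (S.presheaf.stalk x) (A.presheaf.stalk x) := hAfl x
    haveI : Module.IsTorsionFree (S.presheaf.stalk x) (F.presheaf.stalk x) :=
      Function.Injective.moduleIsTorsionFree (RefHull.stalkMapₗ ι x)
        (injective_stalkMapₗ_of_mono ι x) (fun r m => map_smul _ r m)
    haveI : Module.Free (S.presheaf.stalk x) (F.presheaf.stalk x) :=
      Module.free_of_finite_type_torsion_free'
    show Module.Flat (S.presheaf.stalk x) (F.presheaf.stalk x)
    infer_instance
  -- the bidual has depth at least two off `U`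
  have hE : Coh.IsCoh (RefHull.ddual F) := isCoh_ddual F hcoh
  have hdepth : ∀ x : S, x ∉ U →
      (2 : ℕ∞) ≤ LocCoh.depth (S.presheaf.stalk x) ((RefHull.ddual F).presheaf.stalk x) := by
    intro x hx
    haveI := (hS x).1
    haveI := (hS x).2
    haveI : Module.Finite (S.presheaf.stalk x) ((RefHull.ddual F).presheaf.stalk x) :=
      finite_stalk_of_isCoh _ hE x
    haveI : Module.IsReflexive (S.presheaf.stalk x) ((RefHull.ddual F).presheaf.stalk x) :=
      isReflexive_stalk_dual_of_isDomain S (RefHull.dual F) (isCoh_dual F hcoh) x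
    exact NormalDepth.two_le_depth_of_isReflexive_of_normal _ (hdim x hx) _
  haveI h1 : IsIso ((Scheme.Modules.restrictAdjunction U.ι).unit.app (RefHull.ddual F)) :=
    HartogsMod.isIso_unit_app S (RefHull.ddual F) hE U hdepth
  haveI h2 : IsIso ((Scheme.Modules.restrictFunctor U.ι).map (RefHull.bidualMap F)) :=
    ReflPush.isIso_restrict_map_of_bijective_stalks _ U hbij
  refine ⟨asIso ((Scheme.Modules.restrictAdjunction U.ι).unit.app (RefHull.ddual F)) ≪≫
    (Scheme.Modules.pushforward U.ι).mapIso
      (asIso ((Scheme.Modules.restrictFunctor U.ι).map (RefHull.bidualMap F))).symm, ?_⟩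
  have hnat := (Scheme.Modules.restrictAdjunction U.ι).unit.naturality (RefHull.bidualMap F)
  simp only [Functor.id_obj, Functor.comp_obj, Functor.id_map, Functor.comp_map] at hnat
  simp only [Iso.trans_hom, asIso_hom, Functor.mapIso_hom, Iso.symm_hom, asIso_inv]
  rw [← Category.assoc, hnat, Category.assoc, ← Functor.map_comp, IsIso.hom_inv_id,
    CategoryTheory.Functor.map_id, Category.comp_id]

end Groth.Agent.H6.FlatLocusBidual
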