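import Groth.Agent.H71.QCoh.StalkFree
import Groth.Agent.H44.LocFree
import Groth.Agent.H44.FiniteSections
import Groth.Prelude.Def_Coh

/-!
# Coherent modules with free stalks are locally free; dimension of local rings (helper6)
-/

set_option autoImplicit false
set_option linter.style.haveILetI false
universe u
open CategoryTheory CategoryTheory.Limits AlgebraicGeometry TopologicalSpace Opposite

namespace Groth.Agent.H6.FreeStalks

variable {X : Scheme.{u}}

/-- local rings of a scheme of dimension at most `n` have dimension at most `n` -/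
theorem ringKrullDim_stalk_le (n : WithBot ℕ∞) (hdim : topologicalKrullDim X ≤ n) (x : X) :
    ringKrullDim (X.presheaf.stalk x) ≤ n := by
  obtain ⟨_, ⟨V, hV, rfl⟩, hxV, -⟩ :=
    X.isBasis_affineOpens.exists_subset_of_mem_open (Set.mem_univ x) isOpen_univ
  letI : Algebra Γ(X, V) (X.presheaf.stalk x) :=
    TopCat.Presheaf.algebra_section_stalk X.presheaf ⟨x, hxV⟩
  haveI := hV.isLocalization_stalk ⟨x, hxV⟩
  rw [IsLocalization.AtPrime.ringKrullDim_eq_height (hV.primeIdealOf ⟨x, hxV⟩).asIdeal
    (X.presheaf.stalk x)]
  refine (Ideal.height_le_ringKrullDim_of_ne_top (hV.primeIdealOf ⟨x, hxV⟩).isPrime.ne_top).trans ?_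
  rw [← PrimeSpectrum.topologicalKrullDim_eq_ringKrullDim]
  refine le_trans ?_ hdim
  exact (hV.fromSpec.isOpenEmbedding.isInducing).topologicalKrullDim_le

/-- a coherent module on a locally Noetherian scheme all of whose stalks are free is finite
locally free -/
theorem isFinLocFree_of_free_stalks [IsLocallyNoetherian X] (F : X.Modules) (hF : Coh.IsCoh F)
    (hfree : ∀ x : X, Module.Free (X.presheaf.stalk x) (F.presheaf.stalk x)) :
    FlatMod.IsFinLocFree F := by
  haveI : F.IsQuasicoherent := hF.1
  haveI : SheafOfModules.IsFiniteType (R := X.ringCatSheaf) F := hF.2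
  apply Groth.Agent.H44.isFinLocFree_of_forall_exists_affine
  intro x
  obtain ⟨_, ⟨V, hV, rfl⟩, hxV, -⟩ :=
    X.isBasis_affineOpens.exists_subset_of_mem_open (Set.mem_univ x) isOpen_univ
  haveI : Module.Finite Γ(X, V) Γ(F, V) := Groth.Agent.H44.finite_sections_of_isFiniteType F hV
  haveI : IsNoetherianRing Γ(X, V) := IsLocallyNoetherian.component_noetherian ⟨V, hV⟩
  haveI : Module.FinitePresentation Γ(X, V) Γ(F, V) := Module.finitePresentation_of_finite _ _
  refine ⟨V, hV, hxV, inferInstance, ?_⟩
  apply Module.projective_of_localization_maximal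
  intro I hI
  haveI := Groth.Agent.H71.QCoh.free_localizedModule_of_free_stalks F hV hfree ⟨I, hI.isPrime⟩
  infer_instance

end Groth.Agent.H6.FreeStalks
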