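import Groth.Agent.H6.HartogsModConv

set_option autoImplicit false
set_option linter.style.haveILetI false
universe u

namespace Groth.Agent.H6.HartogsMod

open AlgebraicGeometry CategoryTheory Opposite TopologicalSpace

/-- Under the Hartogs depth condition the unit `E ⟶ j_* j^* E` is an isomorphism. -/
theorem isIso_unit_app (X : Scheme.{u}) [IsLocallyNoetherian X] (E : X.Modules)
    (hE : Coh.IsCoh E) (U : X.Opens)
    (hU : ∀ x : ↥X, x ∉ U → (2 : ℕ∞) ≤ LocCoh.depth (X.presheaf.stalk x) (E.presheaf.stalk x)) :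
    IsIso ((Scheme.Modules.restrictAdjunction U.ι).unit.app E) := by
  rw [Scheme.Modules.Hom.isIso_iff_isIso_app]
  intro V
  rw [Scheme.Modules.restrictAdjunction_unit_app_app, ConcreteCategory.isIso_iff_bijective]
  apply bijective_res_mod X E hE U hU V
  rw [Scheme.Hom.image_preimage_eq_opensRange_inf, Scheme.Opens.opensRange_ι, inf_comm]

/-- S14995: restriction of morphisms into a module satisfying the Hartogs depth condition is
bijective. -/
theorem bijective_restrict_map (Y : Scheme.{u}) [IsLocallyNoetherian Y] (E F : Y.Modules)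
    (hE : Coh.IsCoh E) (U : Y.Opens)
    (hdepth : ∀ y : Y, y ∉ U →
      (2 : ℕ∞) ≤ LocCoh.depth (Y.presheaf.stalk y) (E.presheaf.stalk y)) :
    Function.Bijective (fun φ : F ⟶ E => (Scheme.Modules.restrictFunctor U.ι).map φ) := by
  haveI := isIso_unit_app Y E hE U hdepth
  let adj := Scheme.Modules.restrictAdjunction U.ι
  have key : (fun φ : F ⟶ E => (Scheme.Modules.restrictFunctor U.ι).map φ) =
      (adj.homEquiv F ((Scheme.Modules.restrictFunctor U.ι).obj E)).symm ∘
        (fun φ : F ⟶ E => φ ≫ adj.unit.app E) := by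
    funext φ
    rw [Function.comp_apply, Adjunction.homEquiv_counit, Functor.map_comp, Category.assoc,
      adj.left_triangle_components, Category.comp_id]
  rw [key]
  refine (Equiv.bijective _).comp ?_
  constructor
  · intro φ₁ φ₂ h
    exact (cancel_mono (adj.unit.app E)).mp h
  · intro ψ
    exact ⟨ψ ≫ inv (adj.unit.app E), by simp⟩


/-- restriction maps of `j_* j^* F` from `V` to `V ∩ U` are bijective. -/
theorem bijective_res_push_restrict (X : Scheme.{u}) (U : X.Opens) (F : X.Modules) (V : X.Opens) :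
    Function.Bijective (((Scheme.Modules.pushforward U.ι).obj (F.restrict U.ι)).presheaf.map
      (homOfLE (inf_le_left : V ⊓ U ≤ V)).op) := by
  have e : U.ι ''ᵁ (U.ι ⁻¹ᵁ (V ⊓ U)) = U.ι ''ᵁ (U.ι ⁻¹ᵁ V) := by
    rw [Scheme.Hom.image_preimage_eq_opensRange_inf, Scheme.Hom.image_preimage_eq_opensRange_inf,
      Scheme.Opens.opensRange_ι]
    ext x
    simp only [Opens.coe_inf, Set.mem_inter_iff, SetLike.mem_coe]
    tauto
  have h0 : Function.Bijective (F.presheaf.map (𝟙 (U.ι ''ᵁ (U.ι ⁻¹ᵁ (V ⊓ U)))).op) := by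
    rw [op_id, CategoryTheory.Functor.map_id]
    exact Function.bijective_id
  exact bijective_of_eq F (𝟙 (U.ι ''ᵁ (U.ι ⁻¹ᵁ (V ⊓ U))))
    (U.ι.opensFunctor.map ((Opens.map U.ι.base).map (homOfLE (inf_le_left : V ⊓ U ≤ V))))
    rfl e h0

/-- S12226 -/
theorem push_restrict_universal (X : Scheme.{u}) [IsLocallyNoetherian X] (U : X.Opens)
    (F : X.Modules) (hF' : Coh.IsCoh ((Coh.push U.ι).obj (F.restrict U.ι))) :
    (∀ x : ↥X, x ∉ U → (2 : ℕ∞) ≤ LocCoh.depth (X.presheaf.stalk x)
        (((Coh.push U.ι).obj (F.restrict U.ι)).presheaf.stalk x)) ∧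
    ∀ (G : X.Modules) (hG : Coh.IsCoh G) (φ : F ⟶ G),
      IsIso ((Scheme.Modules.restrictFunctor U.ι).map φ) →
      (∀ x : ↥X, x ∉ U → (2 : ℕ∞) ≤ LocCoh.depth (X.presheaf.stalk x) (G.presheaf.stalk x)) →
        (∃! ψ : G ⟶ (Coh.push U.ι).obj (F.restrict U.ι),
            φ ≫ ψ = (Scheme.Modules.restrictAdjunction U.ι).unit.app F) ∧
          ∀ ψ : G ⟶ (Coh.push U.ι).obj (F.restrict U.ι),
            φ ≫ ψ = (Scheme.Modules.restrictAdjunction U.ι).unit.app F → IsIso ψ := by
  refine ⟨fun x hx => two_le_depth_of_bijective_res X _ hF' U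
    (fun V => bijective_res_push_restrict X U F V) x hx, ?_⟩
  intro G hG φ hφ hGd
  let adj := Scheme.Modules.restrictAdjunction U.ι
  haveI := isIso_unit_app X G hG U hGd
  haveI := hφ
  let ψ₀ : G ⟶ (Coh.push U.ι).obj (F.restrict U.ι) :=
    adj.unit.app G ≫ (Scheme.Modules.pushforward U.ι).map
      (inv ((Scheme.Modules.restrictFunctor U.ι).map φ))
  have hψ₀ : φ ≫ ψ₀ = adj.unit.app F := by
    have nat := adj.unit.naturality φ
    simp only [Functor.id_obj, Functor.id_map, Functor.comp_obj, Functor.comp_map] at nat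
    simp only [ψ₀]
    rw [← Category.assoc, nat, Category.assoc, ← Functor.map_comp, IsIso.hom_inv_id,
      CategoryTheory.Functor.map_id, Category.comp_id]
  have huniq : ∀ ψ : G ⟶ (Coh.push U.ι).obj (F.restrict U.ι),
      φ ≫ ψ = adj.unit.app F → ψ = ψ₀ := by
    intro ψ hψ
    apply (adj.homEquiv G (F.restrict U.ι)).symm.injective
    have h1 : ∀ ψ' : G ⟶ (Coh.push U.ι).obj (F.restrict U.ι), φ ≫ ψ' = adj.unit.app F →
        (adj.homEquiv G (F.restrict U.ι)).symm ψ' =
          inv ((Scheme.Modules.restrictFunctor U.ι).map φ) := by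
      intro ψ' hψ'
      rw [Adjunction.homEquiv_counit]
      rw [← cancel_epi ((Scheme.Modules.restrictFunctor U.ι).map φ), IsIso.hom_inv_id,
        ← Category.assoc, ← Functor.map_comp, hψ']
      exact adj.left_triangle_components F
    rw [h1 ψ hψ, h1 ψ₀ hψ₀]
  refine ⟨⟨ψ₀, hψ₀, huniq⟩, ?_⟩
  intro ψ hψ
  rw [huniq ψ hψ]
  simp only [ψ₀]
  infer_instance

end Groth.Agent.H6.HartogsMod
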