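import Groth.Agent.H8.QCohStalk
import Groth.Prelude.Def_RefHull

/-!
# The sheaf Hom `RefHull.homSh F G` and linear maps on sections (helper6)

For a quasi-coherent `F` and an affine open `U`:
* `fam hU φ y : F_y → G_y`, the stalk maps induced by a `Γ(X,U)`-linear map `φ : Γ(F,U) → Γ(G,U)`;
* `ofLin hU φ : Γ(homSh F G, U)`;
* `toLin g : Γ(F,U) →ₗ Γ(G,U)` for any open `U` and any section `g` of `homSh F G`;
* `secEquiv hU : Γ(homSh F G, U) ≃ₗ[Γ(X,U)] (Γ(F,U) →ₗ[Γ(X,U)] Γ(G,U))`.
-/

set_option autoImplicit false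
set_option linter.style.haveILetI false
universe u

namespace Groth.Agent.H6.HomSh

open AlgebraicGeometry CategoryTheory Opposite TopologicalSpace
open Groth.Agent.H8

variable {X : Scheme.{u}}

/-- the underlying sheaf of abelian groups -/
noncomputable abbrev shAb (F : X.Modules) : TopCat.Sheaf Ab X := ⟨F.presheaf, F.isSheaf⟩

/-- a section is determined by its germs -/
theorem section_ext (G : X.Modules) {U : X.Opens} (s t : Γ(G, U))
    (h : ∀ y : U, G.presheaf.germ U y.1 y.2 s = G.presheaf.germ U y.1 y.2 t) : s = t :=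
  TopCat.Presheaf.section_ext (shAb G) U s t (fun y hy => h ⟨y, hy⟩)

/-- A family of germs of `G` over `U` which is locally given by sections comes from a section. -/
theorem exists_section_of_germs (G : X.Modules) {U : X.Opens} (t : ∀ y : U, G.presheaf.stalk y.1)
    (h : ∀ x : U, ∃ (W : X.Opens) (_ : x.1 ∈ W) (j : W ⟶ U) (n : Γ(G, W)),
      ∀ y : W, t ⟨y.1, j.le y.2⟩ = G.presheaf.germ W y.1 y.2 n) :
    ∃ s : Γ(G, U), ∀ y : U, G.presheaf.germ U y.1 y.2 s = t y := by
  choose W hxW j n hn using h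
  have hc : TopCat.Presheaf.IsCompatible (shAb G).1 W n := by
    intro x x'
    apply section_ext G
    intro y
    rw [TopCat.Presheaf.germ_res_apply, TopCat.Presheaf.germ_res_apply]
    rw [← hn x ⟨y.1, y.2.1⟩, ← hn x' ⟨y.1, y.2.2⟩]
  have hcov : U ≤ iSup W := fun y hy => Opens.mem_iSup.mpr ⟨⟨y, hy⟩, hxW ⟨y, hy⟩⟩
  obtain ⟨s, hs, -⟩ := (shAb G).existsUnique_gluing' W U j hcov n hc
  refine ⟨s, fun y => ?_⟩
  have h1 := hs y
  rw [← TopCat.Presheaf.germ_res_apply G.presheaf (j y) y.1 (hxW y) s]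
  rw [hn y ⟨y.1, hxW y⟩]
  exact congrArg _ h1


section Affine

variable {F G : X.Modules} {U : X.Opens} (hU : IsAffineOpen U)
include hU

/-- elements outside the prime of `y` have invertible germs -/
lemma isUnit_germ_of_notMem {y : X} (hy : y ∈ U) (s : Γ(X, U))
    (hs : s ∉ (hU.primeIdealOf ⟨y, hy⟩).asIdeal) : IsUnit (X.presheaf.germ U y hy s) := by
  by_contra h
  exact hs ((mem_primeIdealOf_iff hU hy s).mpr h)

/-- elements outside the prime of `y` act invertibly on every stalk at `y` -/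
lemma map_units_stalk (G : X.Modules) {y : X} (hy : y ∈ U) :
    letI := stalkModule G hy
    ∀ s : (hU.primeIdealOf ⟨y, hy⟩).asIdeal.primeCompl,
      IsUnit (algebraMap Γ(X, U) (Module.End Γ(X, U) (G.presheaf.stalk y)) s) := by
  letI := stalkModule G hy
  rintro ⟨g, hg⟩
  have hu : IsUnit (X.presheaf.germ U y hy g) := isUnit_germ_of_notMem hU hy g hg
  rw [Module.End.isUnit_iff]
  obtain ⟨u, hu⟩ := hu
  refine ⟨fun a b hab => ?_, fun b => ⟨(↑u⁻¹ : X.presheaf.stalk y) • b, ?_⟩⟩
  · have h1 : (X.presheaf.germ U y hy g) • a = (X.presheaf.germ U y hy g) • b := hab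
    rw [← hu] at h1
    have := congrArg (fun z => (↑u⁻¹ : X.presheaf.stalk y) • z) h1
    simpa [smul_smul] using this
  · change (X.presheaf.germ U y hy g) • ((↑u⁻¹ : X.presheaf.stalk y) • b) = b
    rw [← hu, smul_smul]
    simp

/-- Two `O_y`-linear maps of stalks agreeing on the germs of sections over an affine `U ∋ y`
agree. -/
theorem stalkHom_ext [F.IsQuasicoherent] {y : X} (hy : y ∈ U) (a b : RefHull.StalkHom F G y)
    (h : ∀ m : Γ(F, U), a (F.presheaf.germ U y hy m) = b (F.presheaf.germ U y hy m)) : a = b := by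
  letI := stalkModule F hy
  haveI := isLocalizedModule_germₗ F hU hy
  apply LinearMap.ext
  intro v
  obtain ⟨⟨m, s⟩, hms⟩ := IsLocalizedModule.surj (hU.primeIdealOf ⟨y, hy⟩).asIdeal.primeCompl
    (germₗ F hy) v
  have hms' : X.presheaf.germ U y hy s.1 • v = F.presheaf.germ U y hy m := hms
  have hu : IsUnit (X.presheaf.germ U y hy s.1) := isUnit_germ_of_notMem hU hy s.1 s.2
  have h1 : X.presheaf.germ U y hy s.1 • a v = X.presheaf.germ U y hy s.1 • b v := by
    rw [← map_smul, ← map_smul, hms', h m]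
  obtain ⟨u, hu⟩ := hu
  rw [← hu] at h1
  have := congrArg (fun z => (↑u⁻¹ : X.presheaf.stalk y) • z) h1
  simpa [smul_smul] using this


/-- every germ of function at `y ∈ U` is a fraction of germs of sections over `U` -/
lemma exists_germ_mul_eq {y : X} (hy : y ∈ U) (a : X.presheaf.stalk y) :
    ∃ (r s : Γ(X, U)), IsUnit (X.presheaf.germ U y hy s) ∧
      a * X.presheaf.germ U y hy s = X.presheaf.germ U y hy r := by
  letI := TopCat.Presheaf.algebra_section_stalk X.presheaf ⟨y, hy⟩
  haveI := hU.isLocalization_stalk ⟨y, hy⟩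
  obtain ⟨⟨r, s⟩, h⟩ := IsLocalization.surj (hU.primeIdealOf ⟨y, hy⟩).asIdeal.primeCompl a
  exact ⟨r, s.1, isUnit_germ_of_notMem hU hy s.1 s.2, h⟩

/-- the `Γ(X,U)`-linear map of stalks induced by a linear map on sections over affine `U` -/
noncomputable def famA [F.IsQuasicoherent] (φ : Γ(F, U) →ₗ[Γ(X, U)] Γ(G, U)) {y : X}
    (hy : y ∈ U) :
    letI := stalkModule F hy
    letI := stalkModule G hy
    F.presheaf.stalk y →ₗ[Γ(X, U)] G.presheaf.stalk y :=
  letI := stalkModule F hy
  letI := stalkModule G hy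
  haveI := isLocalizedModule_germₗ F hU hy
  IsLocalizedModule.lift (hU.primeIdealOf ⟨y, hy⟩).asIdeal.primeCompl (germₗ F hy)
    ((germₗ G hy).comp φ) (map_units_stalk hU G hy)

lemma famA_germ [F.IsQuasicoherent] (φ : Γ(F, U) →ₗ[Γ(X, U)] Γ(G, U)) {y : X}
    (hy : y ∈ U) (m : Γ(F, U)) :
    famA hU φ hy (F.presheaf.germ U y hy m) = G.presheaf.germ U y hy (φ m) := by
  letI := stalkModule F hy
  letI := stalkModule G hy
  haveI := isLocalizedModule_germₗ F hU hy
  exact IsLocalizedModule.lift_apply (hU.primeIdealOf ⟨y, hy⟩).asIdeal.primeCompl (germₗ F hy)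
    ((germₗ G hy).comp φ) (map_units_stalk hU G hy) m

/-- the `O_y`-linear map of stalks induced by a linear map on sections over affine `U` -/
noncomputable def fam [F.IsQuasicoherent] (φ : Γ(F, U) →ₗ[Γ(X, U)] Γ(G, U)) (y : U) :
    RefHull.StalkHom F G y.1 where
  toFun := famA hU φ y.2
  map_add' := map_add _
  map_smul' a v := by
    letI := stalkModule F y.2
    letI := stalkModule G y.2
    obtain ⟨r, s, hs, hrs⟩ := exists_germ_mul_eq hU y.2 a
    have h1 : X.presheaf.germ U y.1 y.2 s • famA hU φ y.2 (a • v) =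
        X.presheaf.germ U y.1 y.2 s • (a • famA hU φ y.2 v) := by
      have e1 : X.presheaf.germ U y.1 y.2 s • famA hU φ y.2 (a • v) =
          famA hU φ y.2 (s • (a • v)) := ((famA hU φ y.2).map_smul s (a • v)).symm
      have e2 : (s • (a • v) : F.presheaf.stalk y.1) = r • v := by
        change X.presheaf.germ U y.1 y.2 s • (a • v) = X.presheaf.germ U y.1 y.2 r • v
        rw [smul_smul, mul_comm, hrs]
      rw [e1, e2, (famA hU φ y.2).map_smul r v]
      change X.presheaf.germ U y.1 y.2 r • famA hU φ y.2 v = _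
      rw [smul_smul, mul_comm, hrs]
    obtain ⟨u, hu⟩ := hs
    rw [← hu] at h1
    have := congrArg (fun z => (↑u⁻¹ : X.presheaf.stalk y.1) • z) h1
    simpa [smul_smul] using this

lemma fam_germ [F.IsQuasicoherent] (φ : Γ(F, U) →ₗ[Γ(X, U)] Γ(G, U)) (y : U) (m : Γ(F, U)) :
    fam hU φ y (F.presheaf.germ U y.1 y.2 m) = G.presheaf.germ U y.1 y.2 (φ m) :=
  famA_germ hU φ y.2 m


/-- the family of stalk maps induced by a linear map on sections is a section of the sheaf Hom -/
theorem isLocSect_fam [F.IsQuasicoherent] (φ : Γ(F, U) →ₗ[Γ(X, U)] Γ(G, U)) :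
    RefHull.IsLocSect F G (fam hU φ) := by
  intro V i m x
  have hxU : x.1 ∈ U := i.le x.2
  obtain ⟨g, hgV, hxg⟩ := hU.exists_basicOpen_le x hxU
  obtain ⟨n, s, hs⟩ := exists_res_eq_pow_smul F hU g (F.presheaf.map (homOfLE hgV).op m)
  have hu : IsUnit (X.presheaf.map (homOfLE (X.basicOpen_le g)).op g) :=
    RingedSpace.isUnit_res_basicOpen _ g
  obtain ⟨v, hv⟩ := hu.pow n
  refine ⟨X.basicOpen g, hxg, homOfLE hgV,
    (↑v⁻¹ : Γ(X, X.basicOpen g)) • G.presheaf.map (homOfLE (X.basicOpen_le g)).op (φ s),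
    fun y => ?_⟩
  have hyU : y.1 ∈ U := X.basicOpen_le g y.2
  have hyV : y.1 ∈ V := hgV y.2
  change fam hU φ ⟨y.1, hyU⟩ (F.presheaf.germ V y.1 hyV m) = _
  set w : X.presheaf.stalk y.1 := X.presheaf.germ (X.basicOpen g) y.1 y.2 (v : Γ(X, X.basicOpen g))
    with hw
  set w' : X.presheaf.stalk y.1 :=
    X.presheaf.germ (X.basicOpen g) y.1 y.2 ((↑v⁻¹ : Γ(X, X.basicOpen g))) with hw'
  have hww : w' * w = 1 := by
    rw [hw, hw', ← map_mul, Units.inv_mul, map_one]
  have h1 : w • F.presheaf.germ V y.1 hyV m = F.presheaf.germ U y.1 hyU s := by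
    have e := congrArg (F.presheaf.germ (X.basicOpen g) y.1 y.2) hs
    rw [TopCat.Presheaf.germ_res_apply, Mero.germ_smul, TopCat.Presheaf.germ_res_apply, ← hv] at e
    exact e.symm
  have h2 : w • fam hU φ ⟨y.1, hyU⟩ (F.presheaf.germ V y.1 hyV m) =
      G.presheaf.germ U y.1 hyU (φ s) := by
    rw [← map_smul, h1]
    exact fam_germ hU φ ⟨y.1, hyU⟩ s
  rw [Mero.germ_smul, TopCat.Presheaf.germ_res_apply, ← h2, smul_smul, hww, one_smul]

/-- the section of the sheaf Hom over an affine open defined by a linear map on sections -/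
noncomputable def ofLin [F.IsQuasicoherent] (φ : Γ(F, U) →ₗ[Γ(X, U)] Γ(G, U)) :
    Γ(RefHull.homSh F G, U) :=
  ⟨fam hU φ, isLocSect_fam hU φ⟩

lemma ofLin_apply [F.IsQuasicoherent] (φ : Γ(F, U) →ₗ[Γ(X, U)] Γ(G, U)) (y : U) :
    (ofLin hU φ).1 y = fam hU φ y := rfl

end Affine


section ToLin

variable {F G : X.Modules} {U : X.Opens}

/-- the value on a section of `F` of a section of the sheaf Hom -/
theorem exists_apply (g : Γ(RefHull.homSh F G, U)) (m : Γ(F, U)) :
    ∃ s : Γ(G, U), ∀ y : U, G.presheaf.germ U y.1 y.2 s = g.1 y (F.presheaf.germ U y.1 y.2 m) := by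
  refine exists_section_of_germs G (fun y => g.1 y (F.presheaf.germ U y.1 y.2 m)) (fun x => ?_)
  obtain ⟨W, hxW, j, n, hn⟩ := RefHull.isLocSect_of_mem g U (𝟙 U) m x
  exact ⟨W, hxW, j, n, fun y => hn y⟩

/-- the value on a section of `F` of a section of the sheaf Hom -/
noncomputable def app (g : Γ(RefHull.homSh F G, U)) (m : Γ(F, U)) : Γ(G, U) :=
  (exists_apply g m).choose

theorem germ_app (g : Γ(RefHull.homSh F G, U)) (m : Γ(F, U)) (y : U) :
    G.presheaf.germ U y.1 y.2 (app g m) = g.1 y (F.presheaf.germ U y.1 y.2 m) :=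
  (exists_apply g m).choose_spec y

/-- a section of the sheaf Hom over `U` induces a linear map on sections over `U` -/
noncomputable def toLin (g : Γ(RefHull.homSh F G, U)) : Γ(F, U) →ₗ[Γ(X, U)] Γ(G, U) where
  toFun := app g
  map_add' m m' := by
    apply section_ext G
    intro y
    rw [map_add, germ_app, germ_app, germ_app, map_add, map_add]
  map_smul' r m := by
    apply section_ext G
    intro y
    rw [RingHom.id_apply, Mero.germ_smul, germ_app, germ_app, Mero.germ_smul, map_smul]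

theorem germ_toLin (g : Γ(RefHull.homSh F G, U)) (m : Γ(F, U)) (y : U) :
    G.presheaf.germ U y.1 y.2 (toLin g m) = g.1 y (F.presheaf.germ U y.1 y.2 m) :=
  germ_app g m y

theorem toLin_add (g g' : Γ(RefHull.homSh F G, U)) : toLin (g + g') = toLin g + toLin g' := by
  apply LinearMap.ext
  intro m
  apply section_ext G
  intro y
  rw [LinearMap.add_apply, map_add, germ_toLin, germ_toLin, germ_toLin]
  rfl

theorem toLin_smul (r : Γ(X, U)) (g : Γ(RefHull.homSh F G, U)) : toLin (r • g) = r • toLin g := by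
  apply LinearMap.ext
  intro m
  apply section_ext G
  intro y
  rw [LinearMap.smul_apply, Mero.germ_smul, germ_toLin, germ_toLin]
  rfl

/-- compatibility of `toLin` with restriction -/
theorem toLin_res {V : X.Opens} (i : V ⟶ U) (g : Γ(RefHull.homSh F G, U)) (m : Γ(F, U)) :
    toLin ((RefHull.homSh F G).presheaf.map i.op g) (F.presheaf.map i.op m) =
      G.presheaf.map i.op (toLin g m) := by
  apply section_ext G
  intro y
  rw [germ_toLin, TopCat.Presheaf.germ_res_apply, TopCat.Presheaf.germ_res_apply]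
  exact (germ_toLin g m ⟨y.1, i.le y.2⟩).symm

end ToLin


section Equiv

variable {F G : X.Modules} {U : X.Opens} (hU : IsAffineOpen U) [F.IsQuasicoherent]
include hU

theorem toLin_ofLin (φ : Γ(F, U) →ₗ[Γ(X, U)] Γ(G, U)) : toLin (ofLin hU φ) = φ := by
  apply LinearMap.ext
  intro m
  apply section_ext G
  intro y
  rw [germ_toLin, ofLin_apply, fam_germ]

theorem ofLin_toLin (g : Γ(RefHull.homSh F G, U)) : ofLin hU (toLin g) = g := by
  apply Subtype.ext
  funext y
  rw [ofLin_apply]
  apply stalkHom_ext hU y.2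
  intro m
  rw [fam_germ, germ_toLin]

/-- sections of the sheaf Hom over an affine open are the linear maps between the modules of
sections -/
noncomputable def secEquiv :
    Γ(RefHull.homSh F G, U) ≃ₗ[Γ(X, U)] (Γ(F, U) →ₗ[Γ(X, U)] Γ(G, U)) where
  toFun := toLin
  map_add' := toLin_add
  map_smul' := toLin_smul
  invFun := ofLin hU
  left_inv := ofLin_toLin hU
  right_inv := toLin_ofLin hU

@[simp] lemma secEquiv_apply (g : Γ(RefHull.homSh F G, U)) : secEquiv hU g = toLin g := rfl

@[simp] lemma secEquiv_symm_apply (φ : Γ(F, U) →ₗ[Γ(X, U)] Γ(G, U)) :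
    (secEquiv hU).symm φ = ofLin hU φ := rfl

/-- a section of the sheaf Hom over an affine open vanishes if its linear map does -/
theorem eq_zero_of_toLin_eq_zero (g : Γ(RefHull.homSh F G, U)) (h : toLin g = 0) : g = 0 :=
  (secEquiv hU).injective (by rw [secEquiv_apply, h, map_zero])

end Equiv

end Groth.Agent.H6.HomSh
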