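import Groth.Agent.H6.HomSh

/-!
# Global sections of the sheaf Hom are morphisms (helper6)

* `toHom g : F ⟶ G` for `g : Γ(RefHull.homSh F G, ⊤)`, with `stalkMapₗ_toHom`;
* `evalStalk_stalkSpecializes`: compatibility of `evalStalk` with specialization maps.
-/

set_option autoImplicit false
set_option linter.style.haveILetI false
universe u

namespace Groth.Agent.H6.HomSh

open AlgebraicGeometry CategoryTheory Opposite TopologicalSpace

variable {X : Scheme.{u}} {F G : X.Modules}

/-- the underlying family of a restricted section of the sheaf Hom -/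
theorem res_val {U V : X.Opens} (i : V ⟶ U) (g : Γ(RefHull.homSh F G, U)) (y : V) :
    ((RefHull.homSh F G).presheaf.map i.op g).1 y = g.1 ⟨y.1, i.le y.2⟩ := rfl

/-- the morphism defined by a global section of the sheaf Hom -/
noncomputable def toHom (g : Γ(RefHull.homSh F G, ⊤)) : F ⟶ G :=
  ⟨PresheafOfModules.homMk
    { app := fun V => AddCommGrpCat.ofHom
        (toLin ((RefHull.homSh F G).presheaf.map (homOfLE (le_top : V.unop ≤ ⊤)).op g)).toAddMonoidHom
      naturality := fun {U V} i => by
        ext m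
        have h := toLin_res (F := F) (G := G) i.unop
          ((RefHull.homSh F G).presheaf.map (homOfLE (le_top : U.unop ≤ ⊤)).op g) m
        exact h }
    (fun V r m => by
      exact (toLin ((RefHull.homSh F G).presheaf.map (homOfLE (le_top : V.unop ≤ ⊤)).op g)).map_smul
        r m)⟩

theorem toHom_app (g : Γ(RefHull.homSh F G, ⊤)) (V : X.Opens) (m : Γ(F, V)) :
    (toHom g).app V m =
      toLin ((RefHull.homSh F G).presheaf.map (homOfLE (le_top : V ≤ ⊤)).op g) m := rfl

/-- the stalk maps of the morphism defined by a global section of the sheaf Hom -/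
theorem stalkMapₗ_toHom (g : Γ(RefHull.homSh F G, ⊤)) (x : X) :
    RefHull.stalkMapₗ (toHom g) x = g.1 ⟨x, trivial⟩ := by
  apply LinearMap.ext
  intro v
  obtain ⟨V, hV, m, rfl⟩ := TopCat.Presheaf.exists_germ_eq F.presheaf v
  rw [RefHull.stalkMapₗ_germ, toHom_app, germ_toLin _ m ⟨x, hV⟩]
  rfl

/-- compatibility of evaluation at stalks with specialization maps -/
theorem evalStalk_stalkSpecializes {x y : X} (h : y ⤳ x)
    (θ : (RefHull.homSh F G).presheaf.stalk x) (v : F.presheaf.stalk x) :
    RefHull.evalStalk F G y (((RefHull.homSh F G).presheaf.stalkSpecializes h).hom θ)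
        ((F.presheaf.stalkSpecializes h).hom v) =
      (G.presheaf.stalkSpecializes h).hom (RefHull.evalStalk F G x θ v) := by
  obtain ⟨W, hW, g, rfl⟩ := TopCat.Presheaf.exists_germ_eq (RefHull.homSh F G).presheaf θ
  obtain ⟨W', hW', m, rfl⟩ := TopCat.Presheaf.exists_germ_eq F.presheaf v
  have hyW : y ∈ W := h.mem_open W.2 hW
  have hyW' : y ∈ W' := h.mem_open W'.2 hW'
  rw [← TopCat.Presheaf.germ_res_apply (RefHull.homSh F G).presheaf
      (homOfLE (inf_le_left : W ⊓ W' ≤ W)) x ⟨hW, hW'⟩,
    ← TopCat.Presheaf.germ_res_apply F.presheaf (homOfLE (inf_le_right : W ⊓ W' ≤ W')) x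
      ⟨hW, hW'⟩]
  set g' := (RefHull.homSh F G).presheaf.map (homOfLE (inf_le_left : W ⊓ W' ≤ W)).op g
  set m' := F.presheaf.map (homOfLE (inf_le_right : W ⊓ W' ≤ W')).op m
  rw [TopCat.Presheaf.germ_stalkSpecializes_apply, TopCat.Presheaf.germ_stalkSpecializes_apply,
    RefHull.evalStalk_germ, RefHull.evalStalk_germ]
  rw [← germ_toLin g' m' ⟨x, ⟨hW, hW'⟩⟩, ← germ_toLin g' m' ⟨y, ⟨hyW, hyW'⟩⟩,
    TopCat.Presheaf.germ_stalkSpecializes_apply]

end Groth.Agent.H6.HomSh
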