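import Groth.Agent.H6.HomSh
import Groth.Agent.H18.FTypeConverse

/-!
# Injectivity of `𝓗om(F, G)_x → Hom(F_x, G_x)` for `F` of finite type (helper6)
-/

set_option autoImplicit false
universe u

namespace Groth.Agent.H6.HomSh

open AlgebraicGeometry CategoryTheory Opposite TopologicalSpace

variable {X : Scheme.{u}}

theorem evalStalk_injective_of_isFT (F G : X.Modules) (hF : CohB1.IsFT F) (x : X) :
    Function.Injective (RefHull.evalStalk F G x) := by
  rw [← LinearMap.ker_eq_bot, LinearMap.ker_eq_bot']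
  intro θ hθ
  obtain ⟨U, hxU, g, rfl⟩ := TopCat.Presheaf.exists_germ_eq (RefHull.homSh F G).presheaf θ
  rw [RefHull.evalStalk_germ] at hθ
  obtain ⟨ι, Ui, hcov, σ, hfin, s, hs⟩ := Groth.Agent.H18.exists_local_generators_of_isFiniteType F hF
  obtain ⟨i, hxi⟩ := hcov.exists_mem x
  have := hfin i
  -- the sections `g (s i j)` over `U ⊓ Ui i`
  let V : X.Opens := U ⊓ Ui i
  have hxV : x ∈ V := ⟨hxU, hxi⟩
  let gV : Γ(RefHull.homSh F G, V) := (RefHull.homSh F G).presheaf.map (homOfLE inf_le_left).op g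
  let t : σ i → Γ(G, V) := fun j => toLin gV (F.presheaf.map (homOfLE inf_le_right).op (s i j))
  have ht0 : ∀ j, G.presheaf.germ V x hxV (t j) = 0 := by
    intro j
    have e1 := germ_toLin gV (F.presheaf.map (homOfLE inf_le_right).op (s i j)) ⟨x, hxV⟩
    refine e1.trans ?_
    change g.1 ⟨x, hxU⟩ _ = 0
    rw [hθ, LinearMap.zero_apply]
  -- common neighbourhood where all `t j` vanish
  have hex : ∀ j, ∃ (W : X.Opens) (_ : x ∈ W) (hWV : W ≤ V),
      G.presheaf.map (homOfLE hWV).op (t j) = 0 := by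
    intro j
    have h0 : G.presheaf.germ V x hxV (t j) = G.presheaf.germ V x hxV 0 := by
      rw [ht0 j, map_zero]
    obtain ⟨W, hxW, k, k', hW⟩ := TopCat.Presheaf.germ_eq G.presheaf x hxV hxV _ _ h0
    refine ⟨W, hxW, k.le, ?_⟩
    rw [map_zero] at hW
    exact hW
  choose W hxW hWV hW0 using hex
  have := Fintype.ofFinite (σ i)
  let V' : X.Opens := V ⊓ (Finset.univ : Finset (σ i)).inf W
  have hxV' : x ∈ V' := by
    refine ⟨hxV, ?_⟩
    have h1 : x ∈ (((Finset.univ : Finset (σ i)).inf W : X.Opens) : Set X) := by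
      rw [Opens.coe_finset_inf, Finset.inf_eq_iInf]
      simp only [Function.comp_apply, Set.iInf_eq_iInter, Set.mem_iInter]
      exact fun j _ => hxW j
    exact h1
  have hV'W : ∀ j, V' ≤ W j := fun j => inf_le_right.trans (Finset.inf_le (Finset.mem_univ j))
  have hV'V : V' ≤ V := inf_le_left
  have hV'U : V' ≤ U := hV'V.trans inf_le_left
  -- `g` vanishes at every point of `V'`
  have hzero : ∀ y : V', g.1 ⟨y.1, hV'U y.2⟩ = 0 := by
    intro y
    apply LinearMap.ext
    intro v
    obtain ⟨V'', hyV'', m, rfl⟩ := TopCat.Presheaf.exists_germ_eq F.presheaf v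
    -- shrink to inside `V'`
    have hyI : y.1 ∈ V'' ⊓ V' := ⟨hyV'', y.2⟩
    have hle : V'' ⊓ V' ≤ Ui i := inf_le_right.trans (hV'V.trans inf_le_right)
    obtain ⟨W', hW'le, hyW', hmem⟩ := hs i (V'' ⊓ V') hle
      (F.presheaf.map (homOfLE inf_le_left).op m) y.1 hyI
    have hgerm : F.presheaf.germ V'' y.1 hyV'' m =
        F.presheaf.germ W' y.1 hyW' (Groth.Agent.H18.mres F hW'le
          (F.presheaf.map (homOfLE inf_le_left).op m)) := by
      rw [TopCat.Presheaf.germ_res_apply, TopCat.Presheaf.germ_res_apply]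
    rw [hgerm, LinearMap.zero_apply]
    have hW'V' : W' ≤ V' := hW'le.trans inf_le_right
    -- every element of the span is killed
    have key : ∀ m' ∈ Submodule.span Γ(X, W') (Set.range fun j =>
        Groth.Agent.H18.mres F (hW'le.trans hle) (s i j)),
        g.1 ⟨y.1, hV'U y.2⟩ (F.presheaf.germ W' y.1 hyW' m') = 0 := by
      intro m' hm'
      induction hm' using Submodule.span_induction with
      | mem m' hm' =>
        obtain ⟨j, rfl⟩ := hm'
        change g.1 ⟨y.1, hV'U y.2⟩ (F.presheaf.germ W' y.1 hyW'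
          (F.presheaf.map (homOfLE (hW'le.trans hle)).op (s i j))) = 0
        rw [TopCat.Presheaf.germ_res_apply]
        have e1 := germ_toLin gV (F.presheaf.map (homOfLE inf_le_right).op (s i j))
          ⟨y.1, hV'V y.2⟩
        rw [TopCat.Presheaf.germ_res_apply] at e1
        have e2 : gV.1 ⟨y.1, hV'V y.2⟩ = g.1 ⟨y.1, hV'U y.2⟩ := rfl
        rw [e2] at e1
        rw [← e1]
        have e3 := congrArg (G.presheaf.germ (W j) y.1 (hV'W j y.2)) (hW0 j)
        rw [TopCat.Presheaf.germ_res_apply, map_zero] at e3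
        exact e3
      | zero => rw [map_zero, map_zero]
      | add a b _ _ ha hb => rw [map_add, map_add, ha, hb, add_zero]
      | smul a b _ hb => rw [Mero.germ_smul, map_smul, hb, smul_zero]
    exact key _ hmem
  have hres : (RefHull.homSh F G).presheaf.map (homOfLE hV'U).op g = 0 := by
    apply Subtype.ext
    funext y
    exact hzero y
  rw [← TopCat.Presheaf.germ_res_apply (RefHull.homSh F G).presheaf (homOfLE hV'U) x hxV' g, hres,
    map_zero]

end Groth.Agent.H6.HomSh
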