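import Groth.Agent.H6.HomShRefl

/-!
# Stalks of the sheaf Hom, continued (helper6)
-/

set_option autoImplicit false
set_option linter.style.haveILetI false
universe u

namespace Groth.Agent.H6.HomSh

open AlgebraicGeometry CategoryTheory Opposite TopologicalSpace
open Groth.Agent.H8

variable {X : Scheme.{u}}

/-- The stalk at `x` of a quasi-coherent module of finite type is finite over the local ring. -/
theorem finite_stalk_of_isCoh (M : X.Modules) (hM : Coh.IsCoh M) (x : X) :
    Module.Finite (X.presheaf.stalk x) (M.presheaf.stalk x) := by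
  obtain ⟨hqc, hft⟩ := hM
  haveI : M.IsQuasicoherent := hqc
  haveI : SheafOfModules.IsFiniteType (R := X.ringCatSheaf) M := hft
  obtain ⟨_, ⟨U, hU : IsAffineOpen U, rfl⟩, hxU, -⟩ :=
    X.isBasis_affineOpens.exists_subset_of_mem_open (Set.mem_univ x) isOpen_univ
  haveI : Module.Finite Γ(X, U) Γ(M, U) := Groth.Agent.H44.finite_sections_of_isFiniteType M hU
  letI : Algebra Γ(X, U) (X.presheaf.stalk x) :=
    TopCat.Presheaf.algebra_section_stalk X.presheaf ⟨x, hxU⟩
  haveI : IsLocalization.AtPrime (X.presheaf.stalk x) (hU.primeIdealOf ⟨x, hxU⟩).asIdeal :=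
    hU.isLocalization_stalk ⟨x, hxU⟩
  letI := stalkModule M hxU
  haveI : IsScalarTower Γ(X, U) (X.presheaf.stalk x) (M.presheaf.stalk x) :=
    .of_algebraMap_smul fun _ _ => rfl
  haveI := isLocalizedModule_germₗ M hU hxU
  exact Module.Finite.of_isLocalizedModule (hU.primeIdealOf ⟨x, hxU⟩).asIdeal.primeCompl
    (germₗ M hxU)

/-- the stalk of the sheaf Hom, for `F` coherent on a locally Noetherian scheme -/
noncomputable def stalkHomEquiv [IsLocallyNoetherian X] (F G : X.Modules) (hF : Coh.IsCoh F)
    [G.IsQuasicoherent] (x : X) :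
    (RefHull.homSh F G).presheaf.stalk x ≃ₗ[X.presheaf.stalk x] RefHull.StalkHom F G x :=
  LinearEquiv.ofBijective (RefHull.evalStalk F G x) (evalStalk_bijective_of_isCoh F G hF x)

end Groth.Agent.H6.HomSh
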