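import Groth.Agent.H6.HomShRefl2

/-!
# Reflexivity of the module of sections over an affine open (helper6)

* `toLin_bidualMap`: `toLin (bidualMap s) θ = toLin θ s`.
* `bijective_bidualMap_app_iff`: for `F` coherent on a locally Noetherian scheme and `W` affine,
  `Γ(F, W) → Γ(F^**, W)` is bijective iff `Γ(F, W)` is a reflexive `Γ(X, W)`-module.
* `isReflexive_sections_iff`: `Γ(F, W)` is reflexive iff all stalks `F_x`, `x ∈ W`, are.
-/

set_option autoImplicit false
set_option linter.style.haveILetI false
universe u

namespace Groth.Agent.H6.HomSh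

open AlgebraicGeometry CategoryTheory Opposite TopologicalSpace
open Groth.Agent.H8

variable {X : Scheme.{u}}

theorem toLin_bidualMap (F : X.Modules) {W : X.Opens} (s : Γ(F, W))
    (θ : Γ(RefHull.dual F, W)) :
    toLin ((RefHull.bidualMap F).app W s) θ = toLin θ s := by
  apply section_ext (Coh.structureModule X)
  intro y
  rw [germ_toLin, germ_toLin, RefHull.bidualMap_app_apply, RefHull.bidualAt_apply,
    RefHull.evalStalk_germ]

/-- sections of the bidual over an affine open are the double dual of the sections -/
noncomputable def ddualSecEquiv [IsLocallyNoetherian X] (F : X.Modules) (hF : Coh.IsCoh F)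
    {W : X.Opens} (hW : IsAffineOpen W) :
    Γ(RefHull.ddual F, W) ≃ₗ[Γ(X, W)] Module.Dual Γ(X, W) (Module.Dual Γ(X, W) Γ(F, W)) :=
  haveI : F.IsQuasicoherent := hF.1
  haveI : (RefHull.dual F).IsQuasicoherent := (isCoh_dual F hF).1
  (secEquiv (F := RefHull.dual F) (G := Coh.structureModule X) hW).trans
    (LinearEquiv.arrowCongr (secEquiv (F := F) (G := Coh.structureModule X) hW)
      (LinearEquiv.refl Γ(X, W) Γ(X, W)))

theorem ddualSecEquiv_bidualMap [IsLocallyNoetherian X] (F : X.Modules) (hF : Coh.IsCoh F)
    {W : X.Opens} (hW : IsAffineOpen W) (s : Γ(F, W)) :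
    ddualSecEquiv F hF hW ((RefHull.bidualMap F).app W s) = Module.Dual.eval Γ(X, W) Γ(F, W) s := by
  haveI : F.IsQuasicoherent := hF.1
  haveI : (RefHull.dual F).IsQuasicoherent := (isCoh_dual F hF).1
  apply LinearMap.ext
  intro l
  change toLin ((RefHull.bidualMap F).app W s)
    ((secEquiv (F := F) (G := Coh.structureModule X) hW).symm l) = l s
  rw [toLin_bidualMap, secEquiv_symm_apply, toLin_ofLin]
  rfl

theorem bijective_bidualMap_app_iff [IsLocallyNoetherian X] (F : X.Modules) (hF : Coh.IsCoh F)
    {W : X.Opens} (hW : IsAffineOpen W) :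
    Function.Bijective ((RefHull.bidualMap F).app W) ↔ Module.IsReflexive Γ(X, W) Γ(F, W) := by
  have h2 : (Module.Dual.eval Γ(X, W) Γ(F, W) : Γ(F, W) → _) =
      ddualSecEquiv F hF hW ∘ (RefHull.bidualMap F).app W := by
    funext s
    exact (ddualSecEquiv_bidualMap F hF hW s).symm
  constructor
  · intro hb
    refine ⟨?_⟩
    rw [h2]
    exact (ddualSecEquiv F hF hW).bijective.comp hb
  · intro hr
    have := Module.bijective_dual_eval Γ(X, W) Γ(F, W)
    rw [h2] at this
    exact (Function.Bijective.of_comp_iff' (ddualSecEquiv F hF hW).bijective _).mp this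


/-- a morphism of quasi-coherent modules bijective on sections over an affine open is bijective
on the stalks at the points of that open -/
theorem bijective_stalkMapₗ_of_bijective_app {F G : X.Modules} [F.IsQuasicoherent]
    [G.IsQuasicoherent] (φ : F ⟶ G) {W : X.Opens} (hW : IsAffineOpen W)
    (hb : Function.Bijective (φ.app W)) {x : X} (hx : x ∈ W) :
    Function.Bijective (RefHull.stalkMapₗ φ x) := by
  letI := stalkModule F hx
  letI := stalkModule G hx
  haveI := isLocalizedModule_germₗ F hW hx
  haveI := isLocalizedModule_germₗ G hW hx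
  have h := Groth.Agent.H67.StalkLoc.stalkMapA_eq_map φ hW hx
  have hb' : Function.Bijective (Groth.Agent.H67.StalkLoc.appₗ φ W) := hb
  have h1 : Function.Bijective (IsLocalizedModule.map (hW.primeIdealOf ⟨x, hx⟩).asIdeal.primeCompl
      (germₗ F hx) (germₗ G hx) (Groth.Agent.H67.StalkLoc.appₗ φ W)) :=
    ⟨IsLocalizedModule.map_injective _ _ _ _ hb'.1, IsLocalizedModule.map_surjective _ _ _ _ hb'.2⟩
  rw [← h] at h1
  exact h1

/-- a morphism of modules bijective on stalks at all points of an open is bijective on sections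
over it -/
theorem bijective_app_of_bijective_stalkMapₗ {F G : X.Modules} (φ : F ⟶ G) (W : X.Opens)
    (h : ∀ x ∈ W, Function.Bijective (RefHull.stalkMapₗ φ x)) : Function.Bijective (φ.app W) := by
  let F' : TopCat.Sheaf Ab X := ⟨F.presheaf, F.isSheaf⟩
  let G' : TopCat.Sheaf Ab X := ⟨G.presheaf, G.isSheaf⟩
  let f : F' ⟶ G' := ⟨φ.mapPresheaf⟩
  exact TopCat.Presheaf.app_bijective_of_stalkFunctor_map_bijective f W (fun x hx => h x hx)

/-- For a coherent module on a locally Noetherian scheme, the sections over an affine open form a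
reflexive module iff the stalks at the points of that open are reflexive. -/
theorem isReflexive_sections_iff [IsLocallyNoetherian X] (F : X.Modules) (hF : Coh.IsCoh F)
    {W : X.Opens} (hW : IsAffineOpen W) :
    Module.IsReflexive Γ(X, W) Γ(F, W) ↔
      ∀ x ∈ W, Module.IsReflexive (X.presheaf.stalk x) (F.presheaf.stalk x) := by
  haveI : F.IsQuasicoherent := hF.1
  haveI : (RefHull.ddual F).IsQuasicoherent := (isCoh_ddual F hF).1
  rw [← bijective_bidualMap_app_iff F hF hW]
  constructor
  · intro hb x hx
    exact (bijective_stalk_bidualMap_iff F hF x).mp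
      (bijective_stalkMapₗ_of_bijective_app (RefHull.bidualMap F) hW hb hx)
  · intro h
    exact bijective_app_of_bijective_stalkMapₗ (RefHull.bidualMap F) W
      (fun x hx => (bijective_stalk_bidualMap_iff F hF x).mpr (h x hx))

end Groth.Agent.H6.HomSh
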