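import Groth.Agent.H6.HomShQC

/-!
# Stalks of the sheaf Hom (helper6)

* `evalStalk_bijective`: for quasi-coherent `F`, `G` with `homSh F G` quasi-coherent and `F` having
  finitely presented sections over an affine open neighbourhood of `x`, the canonical map
  `𝓗om(F, G)_x → Hom(F_x, G_x)` is bijective.
-/

set_option autoImplicit false
set_option linter.style.haveILetI false
universe u

namespace Groth.Agent.H6.HomSh

open AlgebraicGeometry CategoryTheory Opposite TopologicalSpace
open Groth.Agent.H8

variable {X : Scheme.{u}}

set_option backward.isDefEq.respectTransparency false in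
theorem evalStalk_bijective (F G : X.Modules) [F.IsQuasicoherent] [G.IsQuasicoherent]
    [(RefHull.homSh F G).IsQuasicoherent] {U : X.Opens} (hU : IsAffineOpen U)
    [Module.FinitePresentation Γ(X, U) Γ(F, U)] {x : X} (hx : x ∈ U) :
    Function.Bijective (RefHull.evalStalk F G x) := by
  letI := stalkModule F hx
  letI := stalkModule G hx
  letI := stalkModule (RefHull.homSh F G) hx
  haveI := isLocalizedModule_germₗ F hU hx
  haveI := isLocalizedModule_germₗ G hU hx
  haveI := isLocalizedModule_germₗ (RefHull.homSh F G) hU hx
  set S := (hU.primeIdealOf ⟨x, hx⟩).asIdeal.primeCompl with hS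
  let Φ : Γ(RefHull.homSh F G, U) →ₗ[Γ(X, U)]
      (F.presheaf.stalk x →ₗ[Γ(X, U)] G.presheaf.stalk x) :=
    (IsLocalizedModule.map S (germₗ F hx) (germₗ G hx)).comp (secEquiv hU).toLinearMap
  haveI hΦ : IsLocalizedModule S Φ := IsLocalizedModule.of_linearEquiv_right S _ (secEquiv hU)
  let evA : (RefHull.homSh F G).presheaf.stalk x →ₗ[Γ(X, U)]
      (F.presheaf.stalk x →ₗ[Γ(X, U)] G.presheaf.stalk x) :=
    { toFun := fun θ =>
        { toFun := RefHull.evalStalk F G x θ
          map_add' := map_add _
          map_smul' := fun a v => (RefHull.evalStalk F G x θ).map_smul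
            (X.presheaf.germ U x hx a) v }
      map_add' := fun θ θ' => by
        apply LinearMap.ext
        intro v
        change RefHull.evalStalk F G x (θ + θ') v = _
        rw [map_add]
        rfl
      map_smul' := fun a θ => by
        apply LinearMap.ext
        intro v
        change RefHull.evalStalk F G x (X.presheaf.germ U x hx a • θ) v = _
        rw [map_smul]
        rfl }
  have hcomp : evA.comp (germₗ (RefHull.homSh F G) hx) = Φ := by
    apply LinearMap.ext
    intro g
    apply IsLocalizedModule.ext S (germₗ F hx) (map_units_stalk hU G hx)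
    apply LinearMap.ext
    intro m
    change RefHull.evalStalk F G x ((RefHull.homSh F G).presheaf.germ U x hx g)
      (F.presheaf.germ U x hx m) =
      IsLocalizedModule.map S (germₗ F hx) (germₗ G hx) (toLin g) (germₗ F hx m)
    rw [RefHull.evalStalk_germ, IsLocalizedModule.map_apply]
    exact (germ_toLin g m ⟨x, hx⟩).symm
  have hev : evA = (IsLocalizedModule.linearEquiv S (germₗ (RefHull.homSh F G) hx) Φ).toLinearMap := by
    apply IsLocalizedModule.ext S (germₗ (RefHull.homSh F G) hx) (IsLocalizedModule.map_units Φ)
    rw [hcomp]
    apply LinearMap.ext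
    intro g
    exact (IsLocalizedModule.linearEquiv_apply S (germₗ (RefHull.homSh F G) hx) Φ g).symm
  have hbij : Function.Bijective evA := by
    rw [hev]
    exact (IsLocalizedModule.linearEquiv S (germₗ (RefHull.homSh F G) hx) Φ).bijective
  constructor
  · intro θ θ' h
    apply hbij.1
    apply LinearMap.ext
    intro v
    exact LinearMap.congr_fun h v
  · intro T
    let TA : F.presheaf.stalk x →ₗ[Γ(X, U)] G.presheaf.stalk x :=
      { toFun := T
        map_add' := map_add _
        map_smul' := fun a v => T.map_smul (X.presheaf.germ U x hx a) v }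
    obtain ⟨θ, hθ⟩ := hbij.2 TA
    refine ⟨θ, ?_⟩
    apply LinearMap.ext
    intro v
    exact LinearMap.congr_fun hθ v

end Groth.Agent.H6.HomSh
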