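import Mathlib.RingTheory.Ideal.Operations
import Mathlib.RingTheory.LocalRing.Basic
import Mathlib.RingTheory.Ideal.Prime
import Mathlib.RingTheory.Finiteness.Ideal
import Mathlib.RingTheory.Finiteness.Basic
import Mathlib.Order.Zorn
import Mathlib.Algebra.Field.IsField
import Mathlib.RingTheory.LocalRing.MaximalIdeal.Basic
import Mathlib.Tactic.LinearCombination

set_option autoImplicit false
universe u

namespace Groth.Agent.H6

/-- If `𝒮` is a nonempty set of finitely generated ideals closed under products and `𝔞` is an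
ideal containing no member of `𝒮`, then some prime above `𝔞` contains no member of `𝒮`. -/
theorem exists_prime_ge_not_ge_of_mul_closed {A : Type u} [CommRing A] (𝒮 : Set (Ideal A))
    (hfg : ∀ I ∈ 𝒮, I.FG) (hmul : ∀ I ∈ 𝒮, ∀ J ∈ 𝒮, I * J ∈ 𝒮) (hne : 𝒮.Nonempty)
    (𝔞 : Ideal A) (h𝔞 : ∀ I ∈ 𝒮, ¬ I ≤ 𝔞) :
    ∃ p : Ideal A, p.IsPrime ∧ 𝔞 ≤ p ∧ ∀ I ∈ 𝒮, ¬ I ≤ p := by
  obtain ⟨p, hap, hp⟩ := zorn_le_nonempty₀ {𝔟 : Ideal A | ∀ I ∈ 𝒮, ¬ I ≤ 𝔟} (by
    intro c hc hchain y hy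
    refine ⟨sSup c, ?_, fun z hz => le_sSup hz⟩
    intro I hI hle
    have hcpt : IsCompactElement I := (Submodule.fg_iff_compact I).mp (hfg I hI)
    rw [CompleteLattice.isCompactElement_iff_le_of_directed_sSup_le] at hcpt
    obtain ⟨x, hxc, hIx⟩ := hcpt c ⟨y, hy⟩ hchain.directedOn hle
    exact hc hxc I hI hIx) 𝔞 h𝔞
  refine ⟨p, ?_, hap, hp.prop⟩
  have hptop : p ≠ ⊤ := by
    rintro rfl
    obtain ⟨I, hI⟩ := hne
    exact hp.prop I hI le_top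
  refine (Ideal.isPrime_iff).mpr ⟨hptop, ?_⟩
  intro a b hab
  by_contra hcon
  push Not at hcon
  obtain ⟨ha, hb⟩ := hcon
  have h1 : ¬ (p ⊔ Ideal.span {a}) ∈ {𝔟 : Ideal A | ∀ I ∈ 𝒮, ¬ I ≤ 𝔟} := by
    intro hmem
    have := hp.le_of_ge hmem le_sup_left
    exact ha (this (Ideal.mem_sup_right (Ideal.subset_span rfl)))
  have h2 : ¬ (p ⊔ Ideal.span {b}) ∈ {𝔟 : Ideal A | ∀ I ∈ 𝒮, ¬ I ≤ 𝔟} := by
    intro hmem
    have := hp.le_of_ge hmem le_sup_left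
    exact hb (this (Ideal.mem_sup_right (Ideal.subset_span rfl)))
  simp only [Set.mem_ofPred_eq, not_forall, not_not] at h1 h2
  obtain ⟨I₁, hI₁, hle₁⟩ := h1
  obtain ⟨I₂, hI₂, hle₂⟩ := h2
  refine hp.prop (I₁ * I₂) (hmul I₁ hI₁ I₂ hI₂) ?_
  calc I₁ * I₂ ≤ (p ⊔ Ideal.span {a}) * (p ⊔ Ideal.span {b}) := Ideal.mul_mono hle₁ hle₂
    _ ≤ p := by
      rw [Ideal.mul_sup, Ideal.sup_mul, Ideal.sup_mul]
      refine sup_le (sup_le Ideal.mul_le_right Ideal.mul_le_right) (sup_le Ideal.mul_le_left ?_)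
      rw [Ideal.span_singleton_mul_span_singleton, Ideal.span_singleton_le_iff_mem]
      exact hab

/-- Local domain, not a field; `𝒮` a product-closed set of nonzero f.g. ideals such that every
nonzero prime contains a member: then the intersection of `𝒮` is zero. -/
theorem sInf_eq_bot_of_fg_mul_closed_cover (A : Type u) [CommRing A] [IsDomain A] [IsLocalRing A]
    (hA : ¬ IsField A)
    (𝒮 : Set (Ideal A)) (hfg : ∀ I ∈ 𝒮, I.FG) (hmul : ∀ I ∈ 𝒮, ∀ J ∈ 𝒮, I * J ∈ 𝒮)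
    (hcov : ∀ (p : Ideal A), p.IsPrime → p ≠ ⊥ → ∃ I ∈ 𝒮, I ≤ p) :
    sInf 𝒮 = ⊥ := by
  have hm : IsLocalRing.maximalIdeal A ≠ ⊥ := by
    intro h
    exact hA (IsLocalRing.isField_iff_maximalIdeal_eq.mpr h)
  obtain ⟨I₀, hI₀, hI₀m⟩ := hcov _ (IsLocalRing.maximalIdeal.isMaximal A).isPrime hm
  have hne : 𝒮.Nonempty := ⟨I₀, hI₀⟩
  rw [eq_bot_iff]
  intro f hf
  rw [Ideal.mem_sInf] at hf
  rw [Ideal.mem_bot]
  by_contra hf0
  have hfm : f ∈ IsLocalRing.maximalIdeal A := hI₀m (hf hI₀)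
  have hfu : ¬ IsUnit f := by
    rwa [IsLocalRing.mem_maximalIdeal] at hfm
  have hf2 : f * f ≠ 0 := mul_ne_zero hf0 hf0
  -- some member of `𝒮` lies in `(f * f)`
  have key : ∃ I ∈ 𝒮, I ≤ Ideal.span {f * f} := by
    by_contra hcon
    push Not at hcon
    obtain ⟨p, hp, hle, hnot⟩ := exists_prime_ge_not_ge_of_mul_closed 𝒮 hfg hmul hne _ hcon
    have hpbot : p ≠ ⊥ := by
      rintro rfl
      exact hf2 (by simpa using hle (Ideal.subset_span rfl))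
    obtain ⟨I, hI, hIp⟩ := hcov p hp hpbot
    exact hnot I hI hIp
  obtain ⟨I, hI, hIle⟩ := key
  have := hIle (hf hI)
  rw [Ideal.mem_span_singleton'] at this
  obtain ⟨a, ha⟩ := this
  apply hfu
  have h1 : f * (a * f) = f * 1 := by rw [mul_one]; linear_combination ha
  have h2 : a * f = 1 := mul_left_cancel₀ hf0 h1
  exact IsUnit.of_mul_eq_one a (by rw [mul_comm]; exact h2)

end Groth.Agent.H6
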