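import Mathlib.CategoryTheory.Triangulated.Pretriangulated
import Mathlib.CategoryTheory.Idempotents.Basic
import Mathlib.CategoryTheory.Limits.Preserves.Shapes.Products
import Mathlib.CategoryTheory.Adjunction.Limits
import Mathlib.CategoryTheory.Triangulated.Opposite.Pretriangulated
import Mathlib.CategoryTheory.Limits.Opposites

/-!
# Idempotents split in a pretriangulated category with countable coproducts (Bökstedt–Neeman)
-/

set_option autoImplicit false
universe v u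

open CategoryTheory CategoryTheory.Limits CategoryTheory.Pretriangulated

namespace Groth.Agent.H6

variable {D : Type u} [Category.{v} D] [Preadditive D] [HasZeroObject D] [HasShift D ℤ]
  [∀ n : ℤ, (shiftFunctor D n).Additive] [Pretriangulated D]

omit [HasZeroObject D] [HasShift D ℤ] [∀ n : ℤ, (shiftFunctor D n).Additive] [Pretriangulated D] in
/-- Solving `h n - E ≫ h (n+1) = g n` for an idempotent `E`. -/
lemma exists_seq_sub_idem {X W : D} (E : X ⟶ X) (hE : E ≫ E = E) (g : ℕ → (X ⟶ W)) :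
    ∃ h : ℕ → (X ⟶ W), ∀ n, h n - E ≫ h (n + 1) = g n := by
  let c : ℕ → (X ⟶ W) := fun n => Nat.rec 0 (fun k ck => ck - E ≫ g k) n
  have hc0 : c 0 = 0 := rfl
  have hcs : ∀ n, c (n + 1) = c n - E ≫ g n := fun n => rfl
  have hEc : ∀ n, E ≫ c n = c n := by
    intro n
    induction n with
    | zero => simp [hc0]
    | succ k ih => rw [hcs, Preadditive.comp_sub, ih, ← Category.assoc, hE]
  have hE' : ∀ k : X ⟶ W, E ≫ E ≫ k = E ≫ k := fun k => by rw [← Category.assoc, hE]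
  refine ⟨fun n => g n - E ≫ g n + c n, fun n => ?_⟩
  simp only [Preadditive.comp_add, Preadditive.comp_sub, hEc, hcs, hE']
  abel

theorem isIdempotentComplete_of_hasCoproducts_nat [HasColimitsOfShape (Discrete ℕ) D] :
    IsIdempotentComplete D := by
  refine ⟨fun X e he => ?_⟩
  let F : ℕ → D := fun _ => X
  let S : D := ∐ F
  let ι : ∀ n : ℕ, X ⟶ S := fun n => Sigma.ι F n
  let s : S ⟶ S := Sigma.desc (fun n => e ≫ ι (n + 1))
  let φ : S ⟶ S := 𝟙 S - s
  have hιφ : ∀ n, ι n ≫ φ = ι n - e ≫ ι (n + 1) := by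
    intro n
    simp only [φ, s, ι, Preadditive.comp_sub, Category.comp_id]
    congr 1
    exact Sigma.ι_desc (f := F) (fun n => e ≫ Sigma.ι F (n + 1)) n
  obtain ⟨Y, π, δ, hT⟩ := distinguished_cocone_triangle φ
  have hφπ : φ ≫ π = 0 := comp_distTriang_mor_zero₁₂ _ hT
  have hδφ : δ ≫ φ⟦(1 : ℤ)⟧' = 0 := comp_distTriang_mor_zero₃₁ _ hT
  -- the maps f n = ι n ≫ π all coincide
  have hR : ∀ n, ι n ≫ π = e ≫ ι (n + 1) ≫ π := by
    intro n
    have := congrArg (fun t => ι n ≫ t) hφπ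
    simp only [comp_zero] at this
    rw [← Category.assoc, hιφ, Preadditive.sub_comp, sub_eq_zero, Category.assoc] at this
    exact this
  have hef : ∀ n, e ≫ ι n ≫ π = ι n ≫ π := by
    intro n
    rw [hR n, ← Category.assoc, he]
  have hconst : ∀ n, ι n ≫ π = ι 0 ≫ π := by
    intro n
    induction n with
    | zero => rfl
    | succ k ih => rw [← ih, hR k, hef]
  let p : X ⟶ Y := ι 0 ≫ π
  have hep : e ≫ p = p := hef 0
  -- the map i : Y ⟶ X
  let g : S ⟶ X := Sigma.desc (fun _ => e)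
  have hιg : ∀ n, ι n ≫ g = e := fun n => Sigma.ι_desc (f := F) (fun _ => e) n
  have hφg : φ ≫ g = 0 := by
    apply Sigma.hom_ext
    intro n
    change ι n ≫ φ ≫ g = ι n ≫ 0
    rw [← Category.assoc, hιφ, Preadditive.sub_comp, Category.assoc, hιg, hιg, he, comp_zero,
      sub_self]
  obtain ⟨i, hi⟩ : ∃ i : Y ⟶ X, g = π ≫ i := Triangle.yoneda_exact₂ _ hT g hφg
  have hpi : p ≫ i = e := by
    change (ι 0 ≫ π) ≫ i = e
    rw [Category.assoc, ← hi, hιg]
  -- injectivity of precomposition with p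
  have hinj : ∀ {W : D} (q : Y ⟶ W), p ≫ q = 0 → q = 0 := by
    intro W q hq
    have hπq : π ≫ q = 0 := by
      apply Sigma.hom_ext
      intro n
      change ι n ≫ π ≫ q = ι n ≫ 0
      rw [← Category.assoc, hconst n, comp_zero]
      exact hq
    obtain ⟨q', hq'⟩ : ∃ q' : S⟦(1 : ℤ)⟧ ⟶ W, q = δ ≫ q' := Triangle.yoneda_exact₃ _ hT q hπq
    -- S⟦1⟧ is the coproduct of the X⟦1⟧
    have hcolim : IsColimit (Cofan.mk _ fun n : ℕ => (shiftFunctor D (1 : ℤ)).map (Sigma.ι F n) :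
        Cofan fun n => (shiftFunctor D (1 : ℤ)).obj (F n)) :=
      isColimitOfHasCoproductOfPreservesColimit (shiftFunctor D (1 : ℤ)) F
    have hE : e⟦(1 : ℤ)⟧' ≫ e⟦(1 : ℤ)⟧' = e⟦(1 : ℤ)⟧' := by
      rw [← Functor.map_comp, he]
    obtain ⟨h, hh⟩ := exists_seq_sub_idem (e⟦(1 : ℤ)⟧') hE (fun n => (ι n)⟦(1 : ℤ)⟧' ≫ q')
    let q'' : S⟦(1 : ℤ)⟧ ⟶ W := Cofan.IsColimit.desc hcolim h
    have hq'' : ∀ n, (ι n)⟦(1 : ℤ)⟧' ≫ q'' = h n := fun n => Cofan.IsColimit.fac hcolim h n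
    have : q' = φ⟦(1 : ℤ)⟧' ≫ q'' := by
      apply Cofan.IsColimit.hom_ext hcolim
      intro n
      change (ι n)⟦(1 : ℤ)⟧' ≫ q' = (ι n)⟦(1 : ℤ)⟧' ≫ φ⟦(1 : ℤ)⟧' ≫ q''
      rw [← Category.assoc, ← Functor.map_comp, hιφ, Functor.map_sub, Preadditive.sub_comp,
        Functor.map_comp, Category.assoc, hq'', hq'', hh]
    rw [hq', this, ← Category.assoc, hδφ, zero_comp]
  refine ⟨Y, i, p, ?_, hpi⟩
  have : i ≫ p - 𝟙 Y = 0 := by
    apply hinj
    rw [Preadditive.comp_sub, Category.comp_id, ← Category.assoc, hpi, hep, sub_self]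
  exact sub_eq_zero.mp this

open CategoryTheory.Pretriangulated.Opposite in
theorem isIdempotentComplete_of_hasProducts_nat [HasLimitsOfShape (Discrete ℕ) D] :
    IsIdempotentComplete D := by
  rw [← Idempotents.isIdempotentComplete_iff_opposite]
  have : HasLimitsOfShape (Discrete ℕ)ᵒᵖ D :=
    hasLimitsOfShape_of_equivalence (Discrete.opposite ℕ).symm
  have : HasColimitsOfShape (Discrete ℕ) Dᵒᵖ := hasColimitsOfShape_op_of_hasLimitsOfShape
  exact isIdempotentComplete_of_hasCoproducts_nat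

end Groth.Agent.H6
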