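import Groth.Agent.H6.SubLat
import Mathlib.Order.JordanHolder
import Mathlib.CategoryTheory.Subobject.ArtinianObject
import Mathlib.CategoryTheory.Subobject.NoetherianObject
import Mathlib.Order.OrderIsoNat

set_option autoImplicit false
universe v u

open CategoryTheory CategoryTheory.Limits

namespace Groth.Agent.H6.SubLat

variable {C : Type u} [Category.{v} C] [Abelian C] {X : C}

/-- Transport of quotients along equalities of subobjects. -/
noncomputable def cokerIsoOfEq {a a' b b' : Subobject X} (ha : a = a') (hb : b = b') (h : a ≤ b)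
    (h' : a' ≤ b') : cokernel (Subobject.ofLE a b h) ≅ cokernel (Subobject.ofLE a' b' h') := by
  subst ha hb
  exact Iso.refl _

/-- The quotient `b / (a ⊓ b)`, defined for every pair. -/
noncomputable abbrev Q (p : Subobject X × Subobject X) : C :=
  cokernel (Subobject.ofLE (p.1 ⊓ p.2) p.2 inf_le_right)

/-- For `a ≤ b`, `Q (a, b) ≅ b / a`. -/
noncomputable def QIso {a b : Subobject X} (h : a ≤ b) :
    Q (a, b) ≅ cokernel (Subobject.ofLE a b h) :=
  cokerIsoOfEq (inf_eq_left.2 h) rfl _ _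

lemma nonempty_iso_of_jhIso {p q : Subobject X × Subobject X}
    (h : JordanHolderLattice.Iso p q) : Nonempty (Q p ≅ Q q) := by
  refine JordanHolderLattice.Iso.rel (fun p q => Nonempty (Q p ≅ Q q)) ⟨Iso.refl _⟩
    (fun ⟨e⟩ => ⟨e.symm⟩) (fun ⟨e⟩ ⟨e'⟩ => ⟨e ≪≫ e'⟩) ?_ h
  intro x y _
  refine ⟨?_⟩
  -- Q (x, x ⊔ y) ≅ (x ⊔ y) / x ≅ y / (x ⊓ y) ≅ Q (x ⊓ y, y)
  exact QIso (le_sup_left : x ≤ x ⊔ y) ≪≫ (secondIso x y).symm ≪≫
    (QIso (inf_le_right : x ⊓ y ≤ y)).symm

/-- The composition series attached to a chain with simple quotients. -/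
noncomputable def seriesOfSimple (n : ℕ) (F : Fin (n + 1) → Subobject X) (hF : Monotone F)
    (hFs : ∀ i : Fin n, Simple (cokernel (Subobject.ofLE (F (Fin.castSucc i)) (F (Fin.succ i))
      (hF (Fin.castSucc_lt_succ (i := i)).le)))) : CompositionSeries (Subobject X) where
  length := n
  toFun := F
  step i := by
    have := hFs i
    exact covBy_of_simple (hF (Fin.castSucc_lt_succ (i := i)).le)

theorem jordanHolder_subobject_filtrations (X : C)
    (n : ℕ) (F : Fin (n + 1) → Subobject X) (hF : Monotone F) (hF0 : F 0 = ⊥)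
    (hFn : F (Fin.last n) = ⊤)
    (hFs : ∀ i : Fin n, Simple (cokernel (Subobject.ofLE (F (Fin.castSucc i)) (F (Fin.succ i))
      (hF (Fin.castSucc_lt_succ (i := i)).le))))
    (m : ℕ) (G : Fin (m + 1) → Subobject X) (hG : Monotone G) (hG0 : G 0 = ⊥)
    (hGm : G (Fin.last m) = ⊤)
    (hGs : ∀ j : Fin m, Simple (cokernel (Subobject.ofLE (G (Fin.castSucc j)) (G (Fin.succ j))
      (hG (Fin.castSucc_lt_succ (i := j)).le)))) :
    ∃ (e : n = m) (σ : Equiv.Perm (Fin m)), ∀ i : Fin n,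
      Nonempty (cokernel (Subobject.ofLE (F (Fin.castSucc i)) (F (Fin.succ i))
          (hF (Fin.castSucc_lt_succ (i := i)).le)) ≅
        cokernel (Subobject.ofLE (G (Fin.castSucc (σ (Fin.cast e i))))
          (G (Fin.succ (σ (Fin.cast e i))))
          (hG (Fin.castSucc_lt_succ (i := σ (Fin.cast e i))).le))) := by
  obtain ⟨f, hf⟩ := CompositionSeries.jordan_holder (seriesOfSimple n F hF hFs)
    (seriesOfSimple m G hG hGs) (hF0.trans hG0.symm) (hFn.trans hGm.symm)
  have e : n = m := Fin.equiv_iff_eq.1 ⟨f⟩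
  subst e
  refine ⟨rfl, f, fun i => ?_⟩
  obtain ⟨k⟩ := nonempty_iso_of_jhIso (hf i)
  exact ⟨(QIso _).symm ≪≫ k ≪≫ QIso _⟩

end Groth.Agent.H6.SubLat
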