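import Mathlib

/-!
# Restriction of base changes to opens

`exists_isPullback_restrict_resLE`: for a pullback square `fst, f' / f, g` and opens `V ≤ g⁻¹U`, the
restriction `f' ∣_ V` is the base change of `f ∣_ U` along `g.resLE U V`.

`le_of_flat_isOpenMap`: for a property `P` of morphisms which is Zariski-local on the target and
descends along fpqc morphisms, if `g` is flat and open and `P (f' ∣_ W₁)` then every point of `g(W₁)` has
an open neighbourhood `U` in `Y` with `P (f ∣_ U)`.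
-/

set_option autoImplicit false
universe u
open CategoryTheory CategoryTheory.Limits AlgebraicGeometry

namespace Groth.Agent.H6.MaxOpenBC

/-- For `V ≤ g⁻¹U`, the restriction of a base change `f'` of `f` along `g` over `V` is the
base change of `f ∣_ U` along `g.resLE U V`. -/
theorem exists_isPullback_restrict_resLE {X X' Y Y' : Scheme.{u}} {f : X ⟶ Y} {g : Y' ⟶ Y}
    {fst : X' ⟶ X} {f' : X' ⟶ Y'} (H : IsPullback fst f' f g)
    (U : Y.Opens) (V : Y'.Opens) (e : V ≤ g ⁻¹ᵁ U) :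
    ∃ top : (f' ⁻¹ᵁ V).toScheme ⟶ (f ⁻¹ᵁ U).toScheme,
      IsPullback top (f' ∣_ V) (f ∣_ U) (g.resLE U V e) := by
  have C := isPullback_morphismRestrict f U
  have A := isPullback_morphismRestrict f' V
  have B := H.flip
  have AB : IsPullback ((f' ⁻¹ᵁ V).ι ≫ fst) (f' ∣_ V) f (V.ι ≫ g) := (A.paste_vert B).flip
  have hcomm : ((f' ⁻¹ᵁ V).ι ≫ fst) ≫ f = (f' ∣_ V ≫ g.resLE U V e) ≫ U.ι := by
    rw [Category.assoc (f' ∣_ V), Scheme.Hom.resLE_comp_ι, AB.w]
  refine ⟨C.flip.lift _ _ hcomm, ?_⟩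
  refine IsPullback.of_right ?_ (C.flip.lift_snd _ _ hcomm) C.flip
  rw [C.flip.lift_fst]
  convert AB using 1
  rw [Scheme.Hom.resLE_comp_ι]

/-- Restriction to a smaller open, for a property stable under base change. -/
theorem restrict_of_le {P : MorphismProperty Scheme.{u}} [P.IsStableUnderBaseChange]
    {X Y : Scheme.{u}} (f : X ⟶ Y) {U V : Y.Opens} (e : V ≤ U) (h : P (f ∣_ U)) : P (f ∣_ V) := by
  have H : IsPullback (𝟙 X) f f (𝟙 Y) := IsPullback.of_horiz_isIso ⟨by simp⟩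
  obtain ⟨top, sq⟩ := exists_isPullback_restrict_resLE H U V (by simpa using e)
  exact P.of_isPullback sq h

/-- Base change of a restriction. -/
theorem restrict_preimage_of_isPullback {P : MorphismProperty Scheme.{u}} [P.IsStableUnderBaseChange]
    {X X' Y Y' : Scheme.{u}} {f : X ⟶ Y} {g : Y' ⟶ Y}
    {fst : X' ⟶ X} {f' : X' ⟶ Y'} (H : IsPullback fst f' f g) (U : Y.Opens) (h : P (f ∣_ U)) :
    P (f' ∣_ (g ⁻¹ᵁ U)) := by
  obtain ⟨top, sq⟩ := exists_isPullback_restrict_resLE H U (g ⁻¹ᵁ U) le_rfl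
  exact P.of_isPullback sq h

/-- fpqc-local descent to a neighbourhood: if `g` is flat and open, `f'` is the base change of `f`
along `g`, and `f'` has `P` over an open `W₁`, then every point of `g(W₁)` has an open neighbourhood over
which `f` has `P`. -/
theorem exists_open_of_flat_isOpenMap (P : MorphismProperty Scheme.{u}) [P.IsStableUnderBaseChange]
    [P.DescendsAlong (@Flat ⊓ @Surjective ⊓ @QuasiCompact)]
    {X X' Y Y' : Scheme.{u}} {f : X ⟶ Y} {g : Y' ⟶ Y} [Flat g] (hg : IsOpenMap g.base)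
    {fst : X' ⟶ X} {f' : X' ⟶ Y'} (H : IsPullback fst f' f g)
    (W₁ : Y'.Opens) (hW₁ : P (f' ∣_ W₁)) (y' : Y') (hy' : y' ∈ W₁) :
    ∃ U : Y.Opens, g.base y' ∈ U ∧ P (f ∣_ U) := by
  -- affine neighbourhood of `g y'`
  obtain ⟨VY, hVY, hyVY⟩ : ∃ VY : Y.Opens, IsAffineOpen VY ∧ g.base y' ∈ VY := by
    obtain ⟨_, ⟨VY, hVY, rfl⟩, hy, -⟩ :=
      (Y.isBasis_affineOpens).exists_subset_of_mem_open (Set.mem_univ (g.base y')) isOpen_univ
    exact ⟨VY, hVY, hy⟩
  -- affine neighbourhood of `y'` inside `W₁ ⊓ g⁻¹VY`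
  obtain ⟨V', hV', hyV', hV'le⟩ : ∃ V' : Y'.Opens, IsAffineOpen V' ∧ y' ∈ V' ∧
      V' ≤ W₁ ⊓ g ⁻¹ᵁ VY := by
    obtain ⟨_, ⟨V', hV', rfl⟩, hy, hle⟩ :=
      (Y'.isBasis_affineOpens).exists_subset_of_mem_open
        (show y' ∈ ((W₁ ⊓ g ⁻¹ᵁ VY : Y'.Opens) : Set Y') from ⟨hy', hyVY⟩) (W₁ ⊓ g ⁻¹ᵁ VY).2
    exact ⟨V', hV', hy, hle⟩
  let U : Y.Opens := ⟨g.base '' (V' : Set Y'), hg _ V'.2⟩
  have hUVY : U ≤ VY := by
    rintro _ ⟨z, hz, rfl⟩
    exact (hV'le hz).2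
  have e : V' ≤ g ⁻¹ᵁ U := fun z hz => ⟨z, hz, rfl⟩
  refine ⟨U, ⟨y', hyV', rfl⟩, ?_⟩
  obtain ⟨top, sq⟩ := exists_isPullback_restrict_resLE H U V' e
  have hP' : P (f' ∣_ V') := restrict_of_le f' (hV'le.trans inf_le_left) hW₁
  have hsurj : Surjective (g.resLE U V' e) := by
    constructor
    rintro ⟨_, ⟨z, hz, rfl⟩⟩
    refine ⟨⟨z, hz⟩, ?_⟩
    apply Subtype.ext
    have := congr($(Scheme.Hom.resLE_comp_ι g e).base ⟨z, hz⟩)
    exact this
  have hqc : QuasiCompact (g.resLE U V' e) := by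
    have : IsAffine V'.toScheme := hV'
    have : IsAffine VY.toScheme := hVY
    have hcomp : g.resLE U V' e ≫ Y.homOfLE hUVY = g.resLE VY V' (hV'le.trans inf_le_right) := by
      rw [Scheme.Hom.resLE_map]
    have : QuasiCompact (g.resLE U V' e ≫ Y.homOfLE hUVY) := by
      rw [hcomp]; infer_instance
    exact QuasiCompact.of_comp _ (Y.homOfLE hUVY)
  exact MorphismProperty.of_isPullback_of_descendsAlong (P := P)
    (Q := @Flat ⊓ @Surjective ⊓ @QuasiCompact) sq.flip ⟨⟨inferInstance, hsurj⟩, hqc⟩ hP'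

end Groth.Agent.H6.MaxOpenBC
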