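import Groth.Agent.H6.Shear
import Groth.Agent.H6.MaxOpenBC

set_option autoImplicit false
set_option linter.unusedSectionVars false
universe u
open CategoryTheory CategoryTheory.Limits MonoidalCategory CartesianMonoidalCategory MonObj GrpObj AlgebraicGeometry

namespace Groth.Agent.H6.MaxOpenGrp

open Groth.Agent.H6.Shear Groth.Agent.H6.MaxOpenBC

variable (P : MorphismProperty Scheme.{u}) [P.IsStableUnderBaseChange]
    [P.DescendsAlong (@Flat ⊓ @Surjective ⊓ @QuasiCompact)]
    {S : Scheme.{u}} {G H : Over S} [GrpObj G] [GrpObj H] (u : G ⟶ H) [IsMonHom u]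

/-- The square `snd, G ◁ u / u, snd` is a pullback of schemes. -/
theorem isPullback_snd_whiskerLeft :
    IsPullback (snd G G).left (G ◁ u).left u.left (snd G H).left := by
  have hR : IsPullback (fst G H).left (snd G H).left G.hom H.hom := IsPullback.of_hasPullback _ _
  have hO : IsPullback (fst G G).left (snd G G).left G.hom G.hom := IsPullback.of_hasPullback _ _
  have hw : (G ◁ u).left ≫ (fst G H).left = (fst G G).left := by
    rw [← Over.comp_left, whiskerLeft_fst]
  have hw2 : (G ◁ u).left ≫ (snd G H).left = (snd G G).left ≫ u.left := by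
    rw [← Over.comp_left, whiskerLeft_snd, Over.comp_left]
  have hu : u.left ≫ H.hom = G.hom := Over.w u
  have : IsPullback ((G ◁ u).left ≫ (fst G H).left) (snd G G).left G.hom (u.left ≫ H.hom) := by
    rw [hw, hu]; exact hO
  exact (IsPullback.of_right this hw2 hR).flip

variable [Flat G.hom] [UniversallyOpen G.hom]

/-- Key stability: with `W` the largest open of `H` over which `u` has `P`, the open `snd⁻¹ W` of
`G ×_S H` is stable under the shear map and its inverse. -/
theorem snd_shear_mem_iff
    (W : H.left.Opens) (hW : P (u.left ∣_ W)) (hmax : ∀ W' : H.left.Opens, P (u.left ∣_ W') → W' ≤ W)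
    (z : ↥(G ⊗ H).left) :
    (snd G H).left.base ((shear u).left.base z) ∈ W ↔ (snd G H).left.base z ∈ W := by
  -- `W_G = snd⁻¹ W`
  set WG : (G ⊗ H).left.Opens := (snd G H).left ⁻¹ᵁ W with hWG
  have hsq := isPullback_snd_whiskerLeft u
  have hPWG : P ((G ◁ u).left ∣_ WG) := restrict_preimage_of_isPullback hsq W hW
  have hflat : Flat (snd G H).left := by
    change Flat (pullback.snd G.hom H.hom)
    infer_instance
  have hopen : IsOpenMap (snd G H).left.base := by
    change IsOpenMap (pullback.snd G.hom H.hom).base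
    exact (pullback.snd G.hom H.hom).isOpenMap
  have hmaxG : ∀ W' : (G ⊗ H).left.Opens, P ((G ◁ u).left ∣_ W') → W' ≤ WG := by
    intro W' hW' y' hy'
    obtain ⟨U, hyU, hU⟩ := exists_open_of_flat_isOpenMap P hopen hsq W' hW' y' hy'
    exact hmax U hU hyU
  -- the shear squares
  have hiso1 : IsIso (shear (𝟙 G)).left :=
    (inferInstance : IsIso ((Over.forget S).map (shearIso (𝟙 G)).hom))
  have hiso2 : IsIso (shear u).left :=
    (inferInstance : IsIso ((Over.forget S).map (shearIso u).hom))
  have hiso3 : IsIso (shearInv (𝟙 G)).left :=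
    (inferInstance : IsIso ((Over.forget S).map (shearIso (𝟙 G)).inv))
  have hiso4 : IsIso (shearInv u).left :=
    (inferInstance : IsIso ((Over.forget S).map (shearIso u).inv))
  have sq1 : IsPullback (shear (𝟙 G)).left (G ◁ u).left (G ◁ u).left (shear u).left :=
    IsPullback.of_horiz_isIso ⟨by rw [← Over.comp_left, ← Over.comp_left, shear_comm]⟩
  have sq2 : IsPullback (shearInv (𝟙 G)).left (G ◁ u).left (G ◁ u).left (shearInv u).left :=
    IsPullback.of_horiz_isIso ⟨by rw [← Over.comp_left, ← Over.comp_left, shearInv_comm]⟩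
  have h1 : (shear u).left ⁻¹ᵁ WG ≤ WG := hmaxG _ (restrict_preimage_of_isPullback sq1 WG hPWG)
  have h2 : (shearInv u).left ⁻¹ᵁ WG ≤ WG := hmaxG _ (restrict_preimage_of_isPullback sq2 WG hPWG)
  constructor
  · intro hz
    exact h1 hz
  · intro hz
    have hz' : (shear u).left.base z ∈ (shearInv u).left ⁻¹ᵁ WG := by
      change (snd G H).left.base ((shearInv u).left.base ((shear u).left.base z)) ∈ W
      have : (shearInv u).left.base ((shear u).left.base z) = z := by
        rw [← Scheme.Hom.comp_apply, ← Over.comp_left, shear_shearInv]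
        rfl
      rw [this]
      exact hz
    exact h2 hz'


/-- `u⁻¹(W)` is an open subgroup of `G` over its (open) image in `S`. -/
theorem preimage_maxOpen_isSubgroup [IsZariskiLocalAtTarget P]
    (W : H.left.Opens) (hW : P (u.left ∣_ W)) (hmax : ∀ W' : H.left.Opens, P (u.left ∣_ W') → W' ≤ W) :
    letI V : G.left.Opens := u.left ⁻¹ᵁ W
    IsOpen (G.hom.base '' (V : Set G.left)) ∧
    (∀ g ∈ V, ∀ p : ↥(𝟙_ (Over S)).left, (𝟙_ (Over S)).hom.base p = G.hom.base g → η[G].left.base p ∈ V) ∧
    (∀ g ∈ V, ι[G].left.base g ∈ V) ∧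
    (∀ z : ↥(G ⊗ G).left, (fst G G).left.base z ∈ V → (snd G G).left.base z ∈ V → μ[G].left.base z ∈ V) := by
  have key := snd_shear_mem_iff P u W hW hmax
  -- unit points
  have hunit : ∀ g : G.left, u.left.base g ∈ W → η[H].left.base (G.hom.base g) ∈ W := by
    intro g hg
    have h1 : (snd G H).left.base ((lift ι[G] u).left.base g) ∈ W := by
      rw [← Scheme.Hom.comp_apply, ← Over.comp_left, lift_snd]
      exact hg
    have h2 := (key _).mpr h1
    rw [← Scheme.Hom.comp_apply, ← Scheme.Hom.comp_apply, ← Over.comp_left, ← Over.comp_left,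
      lift_inv_shear_snd, CategoryTheory.Hom.one_def, Over.comp_left, Scheme.Hom.comp_apply] at h2
    exact h2
  refine ⟨G.hom.isOpenMap _ (u.left ⁻¹ᵁ W).2, ?_, ?_, ?_⟩
  · intro g hg p hp
    change u.left.base (η[G].left.base p) ∈ W
    have hp' : p = G.hom.base g := hp
    rw [← Scheme.Hom.comp_apply, ← Over.comp_left, IsMonHom.one_hom, hp']
    exact hunit g hg
  · intro g hg
    change u.left.base (ι[G].left.base g) ∈ W
    have h1 : (snd G H).left.base ((lift ι[G] (1 : G ⟶ H)).left.base g) ∈ W := by
      rw [← Scheme.Hom.comp_apply, ← Over.comp_left, lift_snd, CategoryTheory.Hom.one_def, Over.comp_left,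
        Scheme.Hom.comp_apply]
      exact hunit g hg
    have h2 := (key _).mpr h1
    rw [← Scheme.Hom.comp_apply, ← Scheme.Hom.comp_apply, ← Over.comp_left, ← Over.comp_left,
      lift_inv_one_shear_snd, Over.comp_left, Scheme.Hom.comp_apply] at h2
    exact h2
  · intro z _ hz
    change u.left.base (μ[G].left.base z) ∈ W
    have h1 : (snd G H).left.base ((G ◁ u).left.base z) ∈ W := by
      rw [← Scheme.Hom.comp_apply, ← Over.comp_left, whiskerLeft_snd, Over.comp_left,
        Scheme.Hom.comp_apply]
      exact hz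
    have h2 := (key _).mpr h1
    rw [← Scheme.Hom.comp_apply, ← Scheme.Hom.comp_apply, ← Over.comp_left, ← Over.comp_left,
      whiskerLeft_shear_snd, Over.comp_left, Scheme.Hom.comp_apply] at h2
    exact h2

end Groth.Agent.H6.MaxOpenGrp
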