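import Mathlib.RingTheory.Ideal.GoingDown
import Mathlib.RingTheory.LocalRing.ResidueField.Fiber
import Mathlib.RingTheory.Ideal.MinimalPrime.Noetherian
import Mathlib.RingTheory.Spectrum.Prime.Topology
import Mathlib.RingTheory.FiniteStability
import Mathlib.RingTheory.Flat.Basic

/-!
# Finiteness of the set of minimal primes ascends along going-down maps of finite type
-/

set_option autoImplicit false
universe u v

namespace Groth.Agent.H6.MinPrimesFlat

theorem finite_irreducibleComponents_iff (R : Type u) [CommRing R] :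
    (irreducibleComponents (PrimeSpectrum R)).Finite ↔ (minimalPrimes R).Finite := by
  rw [← Set.finite_coe_iff, ← Set.finite_coe_iff]
  exact (Equiv.finite_iff
    ((minimalPrimes.equivIrreducibleComponents R).toEquiv.trans OrderDual.ofDual)).symm

variable {A : Type u} {B : Type v} [CommRing A] [CommRing B] [Algebra A B]

/-- under going down, minimal primes contract to minimal primes -/
theorem under_mem_minimalPrimes [Algebra.HasGoingDown A B] {Q : Ideal B}
    (hQ : Q ∈ minimalPrimes B) : Q.under A ∈ minimalPrimes A := by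
  have hQp : Q.IsPrime := hQ.1.1
  refine ⟨⟨inferInstance, bot_le⟩, fun p hp hle => ?_⟩
  have hpp : p.IsPrime := hp.1
  obtain ⟨P, hPQ, hPprime, hPover⟩ :=
    Ideal.exists_ideal_le_liesOver_of_le (p := p) (q := Q.under A) Q hle
  have hPQ' : P = Q := le_antisymm hPQ (hQ.2 ⟨hPprime, bot_le⟩ hPQ)
  rw [hPover.over, hPQ']

theorem finite_minimalPrimes_of_hasGoingDown [Algebra.HasGoingDown A B] [Algebra.FiniteType A B]
    (h : (minimalPrimes A).Finite) : (minimalPrimes B).Finite := by
  have hsub : minimalPrimes B ⊆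
      ⋃ P ∈ minimalPrimes A, {Q | Q ∈ minimalPrimes B ∧ Q.under A = P} :=
    fun Q hQ => Set.mem_biUnion (under_mem_minimalPrimes hQ) ⟨hQ, rfl⟩
  refine (Set.Finite.biUnion h ?_).subset hsub
  intro P hP
  have hPp : P.IsPrime := hP.1.1
  have hnoeth : IsNoetherianRing (P.Fiber B) :=
    Algebra.FiniteType.isNoetherianRing P.ResidueField (P.Fiber B)
  have hfin := minimalPrimes.finite_of_isNoetherianRing (P.Fiber B)
  refine (hfin.image (fun q : Ideal (P.Fiber B) =>
    q.comap (Algebra.TensorProduct.includeRight (R := A) (A := P.ResidueField) (B := B)))).subset ?_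
  rintro Q ⟨hQ, hQP⟩
  have hQp : Q.IsPrime := hQ.1.1
  have hQo : Q.LiesOver P := ⟨hQP.symm⟩
  let e := PrimeSpectrum.primesOverOrderIsoFiber A B P
  let Q' : P.primesOver B := ⟨Q, hQp, hQo⟩
  refine ⟨(e Q').asIdeal, ⟨⟨(e Q').isPrime, bot_le⟩, ?_⟩, ?_⟩
  · intro q' hq' hle
    let y : PrimeSpectrum (P.Fiber B) := ⟨q', hq'.1⟩
    have hy : y ≤ e Q' := hle
    have h1 : e.symm y ≤ Q' := by
      have := e.symm.monotone hy
      rwa [OrderIso.symm_apply_apply] at this
    have h2 : (e.symm y : Ideal B) = Q :=
      le_antisymm h1 (hQ.2 ⟨(e.symm y).2.1, bot_le⟩ h1)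
    have h3 : e.symm y = Q' := Subtype.ext h2
    have h4 : y = e Q' := by rw [← h3, OrderIso.apply_symm_apply]
    have : e Q' ≤ y := h4.ge
    exact this
  · have := PrimeSpectrum.coe_primesOverOrderIsoFiber_symm_apply (R := A) (S := B) (p := P) (e Q')
    rw [OrderIso.symm_apply_apply] at this
    exact this.symm

theorem finite_irreducibleComponents_of_flat {A B : Type u} [CommRing A] [CommRing B]
    [Algebra A B] [Module.Flat A B] [Algebra.FiniteType A B]
    (h : (irreducibleComponents (PrimeSpectrum A)).Finite) :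
    (irreducibleComponents (PrimeSpectrum B)).Finite := by
  rw [finite_irreducibleComponents_iff] at h ⊢
  exact finite_minimalPrimes_of_hasGoingDown h

end Groth.Agent.H6.MinPrimesFlat
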