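import Mathlib

/-!
# Reflecting specializations after base change: reduction to finite type base changes
-/

set_option autoImplicit false
universe u

namespace Groth.Agent.H6.ReflSpec

open AlgebraicGeometry CategoryTheory CategoryTheory.Limits TensorProduct

section Ring

variable (A C B : Type*) [CommRing A] [CommRing C] [CommRing B] [Algebra A C] [Algebra A B]

/-- `Spec (C ⊗[A] B) → Spec B` reflects specializations. -/
def SpecRefl : Prop :=
  ∀ Q₁ Q₀ : Ideal (C ⊗[A] B), Q₁.IsPrime → Q₀.IsPrime →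
    Q₁.comap (Algebra.TensorProduct.includeRight : B →ₐ[A] C ⊗[A] B) ≤
      Q₀.comap (Algebra.TensorProduct.includeRight : B →ₐ[A] C ⊗[A] B) → Q₁ ≤ Q₀

variable {A C B}

/-- The map `C ⊗ B' → C ⊗ B` for a subalgebra `B' ≤ B`. -/
noncomputable def tmap (B' : Subalgebra A B) : C ⊗[A] B' →ₐ[A] C ⊗[A] B :=
  Algebra.TensorProduct.map (AlgHom.id A C) B'.val

lemma range_tmap_mono {B' B'' : Subalgebra A B} (h : B' ≤ B'') :
    (tmap (C := C) B').range ≤ (tmap (C := C) B'').range := by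
  have hc : (tmap (C := C) B'').comp
      (Algebra.TensorProduct.map (AlgHom.id A C) (Subalgebra.inclusion h)) = tmap (C := C) B' := by
    ext <;> rfl
  intro t ht
  obtain ⟨x, rfl⟩ := (AlgHom.mem_range _).mp ht
  exact (AlgHom.mem_range _).mpr
    ⟨Algebra.TensorProduct.map (AlgHom.id A C) (Subalgebra.inclusion h) x, congr($hc x)⟩

lemma exists_fg_mem_range_tmap (t : C ⊗[A] B) :
    ∃ B' : Subalgebra A B, B'.FG ∧ t ∈ (tmap (C := C) B').range := by
  induction t using TensorProduct.induction_on with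
  | zero => exact ⟨⊥, Subalgebra.fg_bot, Subalgebra.zero_mem _⟩
  | tmul c b =>
    have hfg : (Algebra.adjoin A ({b} : Set B)).FG := by
      simpa using Subalgebra.fg_adjoin_finset (R := A) ({b} : Finset B)
    exact ⟨Algebra.adjoin A {b}, hfg, (AlgHom.mem_range _).mpr
      ⟨c ⊗ₜ ⟨b, Algebra.subset_adjoin rfl⟩, rfl⟩⟩
  | add x y hx hy =>
    obtain ⟨B₁, h₁, hx⟩ := hx
    obtain ⟨B₂, h₂, hy⟩ := hy
    exact ⟨B₁ ⊔ B₂, h₁.sup h₂,
      Subalgebra.add_mem _ (range_tmap_mono le_sup_left hx) (range_tmap_mono le_sup_right hy)⟩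

/-- Reduction to finitely generated subalgebras. -/
theorem specRefl_of_fg (h : ∀ B' : Subalgebra A B, B'.FG → SpecRefl A C B') : SpecRefl A C B := by
  intro Q₁ Q₀ hQ₁ hQ₀ hle t ht
  obtain ⟨B', hfg, t', rfl⟩ := exists_fg_mem_range_tmap (C := C) t
  have key := h B' hfg (Q₁.comap (tmap (C := C) B')) (Q₀.comap (tmap (C := C) B'))
    (Ideal.comap_isPrime _ _) (Ideal.comap_isPrime _ _) ?_ ht
  · exact key
  · intro b hb
    rw [Ideal.mem_comap] at hb ⊢
    rw [Ideal.mem_comap] at hb ⊢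
    have e : (tmap (C := C) B') ((Algebra.TensorProduct.includeRight : B' →ₐ[A] C ⊗[A] B') b) =
        (Algebra.TensorProduct.includeRight : B →ₐ[A] C ⊗[A] B) (b : B) := by
      simp [tmap]
    rw [e] at hb ⊢
    exact hle hb

end Ring

section Scheme

variable {X Y : Scheme.{u}} (f : Y ⟶ X)

/-- The projection `Y ×_X X' → X'` reflects specializations. -/
def Refl {X' : Scheme.{u}} (g : X' ⟶ X) : Prop :=
  ∀ y₀ y₁ : ↥(pullback f g), (pullback.snd f g) y₁ ⤳ (pullback.snd f g) y₀ → y₁ ⤳ y₀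

variable {A C B : Type u} [CommRing A] [CommRing C] [CommRing B] [Algebra A C] [Algebra A B]
  (iU : Spec (.of A) ⟶ X) (iW : Spec (.of C) ⟶ Y) [IsOpenImmersion iU] [IsOpenImmersion iW]
  (e₁ : Spec.map (CommRingCat.ofHom (algebraMap A C)) ≫ iU = iW ≫ f)

/-- The open immersion `Spec (C ⊗ B) → Y ×_X X'`. -/
noncomputable def jmap {X' : Scheme.{u}} (g : X' ⟶ X) (iV : Spec (.of B) ⟶ X')
    (e₂ : Spec.map (CommRingCat.ofHom (algebraMap A B)) ≫ iU = iV ≫ g) :
    Spec (.of (C ⊗[A] B)) ⟶ pullback f g :=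
  (pullbackSpecIso A C B).inv ≫ pullback.map _ _ f g iW iV iU e₁ e₂

instance {X' : Scheme.{u}} (g : X' ⟶ X) (iV : Spec (.of B) ⟶ X') [IsOpenImmersion iV]
    (e₂ : Spec.map (CommRingCat.ofHom (algebraMap A B)) ≫ iU = iV ≫ g) :
    IsOpenImmersion (jmap f iU iW e₁ g iV e₂) := by
  delta jmap
  infer_instance

omit [IsOpenImmersion iU] [IsOpenImmersion iW] in
lemma jmap_snd {X' : Scheme.{u}} (g : X' ⟶ X) (iV : Spec (.of B) ⟶ X')
    (e₂ : Spec.map (CommRingCat.ofHom (algebraMap A B)) ≫ iU = iV ≫ g) :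
    jmap f iU iW e₁ g iV e₂ ≫ pullback.snd f g =
      Spec.map (CommRingCat.ofHom
        (Algebra.TensorProduct.includeRight : B →ₐ[A] C ⊗[A] B).toRingHom) ≫ iV := by
  rw [jmap, Category.assoc, pullback.lift_snd, ← Category.assoc, pullbackSpecIso_inv_snd]
  rfl

omit [IsOpenImmersion iW] in
lemma range_jmap {X' : Scheme.{u}} (g : X' ⟶ X) (iV : Spec (.of B) ⟶ X')
    (e₂ : Spec.map (CommRingCat.ofHom (algebraMap A B)) ≫ iU = iV ≫ g) :
    Set.range (jmap f iU iW e₁ g iV e₂) =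
      pullback.fst f g ⁻¹' Set.range iW ∩ pullback.snd f g ⁻¹' Set.range iV := by
  rw [← Scheme.Pullback.range_map _ _ f g iW iV iU e₁ e₂]
  apply Set.Subset.antisymm
  · rintro _ ⟨q, rfl⟩
    exact ⟨(pullbackSpecIso A C B).inv q, rfl⟩
  · rintro _ ⟨p, rfl⟩
    refine ⟨(pullbackSpecIso A C B).hom p, ?_⟩
    rw [jmap, Scheme.Hom.comp_apply, ← Scheme.Hom.comp_apply (pullbackSpecIso A C B).hom,
      Iso.hom_inv_id]
    rfl

lemma comap_specializes {R S : Type u} [CommRing R] [CommRing S] (φ : R →+* S)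
    (q₁ q₀ : PrimeSpectrum S) :
    PrimeSpectrum.comap φ q₁ ⤳ PrimeSpectrum.comap φ q₀ ↔
      q₁.asIdeal.comap φ ≤ q₀.asIdeal.comap φ := by
  rw [← PrimeSpectrum.le_iff_specializes]
  rfl

include e₁ in
/-- From the scheme-level property to the ring-level property. -/
lemma specRefl_of_refl
    (h : Refl f (Spec.map (CommRingCat.ofHom (algebraMap A B)) ≫ iU)) : SpecRefl A C B := by
  intro Q₁ Q₀ hQ₁ hQ₀ hle
  let g := Spec.map (CommRingCat.ofHom (algebraMap A B)) ≫ iU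
  have e₂ : Spec.map (CommRingCat.ofHom (algebraMap A B)) ≫ iU = 𝟙 _ ≫ g := (Category.id_comp _).symm
  let j := jmap f iU iW e₁ g (𝟙 _) e₂
  let q₁ : PrimeSpectrum (C ⊗[A] B) := ⟨Q₁, hQ₁⟩
  let q₀ : PrimeSpectrum (C ⊗[A] B) := ⟨Q₀, hQ₀⟩
  have hs : ∀ q : PrimeSpectrum (C ⊗[A] B), (pullback.snd f g) (j q) = PrimeSpectrum.comap
      (Algebra.TensorProduct.includeRight : B →ₐ[A] C ⊗[A] B).toRingHom q := by
    intro q
    rw [← Scheme.Hom.comp_apply, jmap_snd, Category.comp_id]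
    rfl
  have h1 : (pullback.snd f g) (j q₁) ⤳ (pullback.snd f g) (j q₀) := by
    rw [hs, hs]
    exact (comap_specializes _ q₁ q₀).mpr hle
  have h2 : j q₁ ⤳ j q₀ := h _ _ h1
  have h3 : q₁ ⤳ q₀ := j.isOpenEmbedding.isInducing.specializes_iff.mp h2
  exact (PrimeSpectrum.le_iff_specializes q₁ q₀).mpr h3

omit [IsOpenImmersion iW] in
include e₁ in
/-- From the ring-level property back to the scheme-level property on an affine piece. -/
lemma specializes_of_specRefl {X' : Scheme.{u}} (g : X' ⟶ X) (iV : Spec (.of B) ⟶ X')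
    [IsOpenImmersion iV]
    (e₂ : Spec.map (CommRingCat.ofHom (algebraMap A B)) ≫ iU = iV ≫ g)
    (h : SpecRefl A C B) (y₀ y₁ : ↥(pullback f g))
    (h₀W : pullback.fst f g y₀ ∈ Set.range iW) (h₁W : pullback.fst f g y₁ ∈ Set.range iW)
    (h₀V : pullback.snd f g y₀ ∈ Set.range iV) (h₁V : pullback.snd f g y₁ ∈ Set.range iV)
    (hsp : pullback.snd f g y₁ ⤳ pullback.snd f g y₀) : y₁ ⤳ y₀ := by
  let j := jmap f iU iW e₁ g iV e₂
  obtain ⟨q₀, rfl⟩ : y₀ ∈ Set.range j := by rw [range_jmap]; exact ⟨h₀W, h₀V⟩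
  obtain ⟨q₁, rfl⟩ : y₁ ∈ Set.range j := by rw [range_jmap]; exact ⟨h₁W, h₁V⟩
  change PrimeSpectrum (C ⊗[A] B) at q₀ q₁
  have hs : ∀ q : PrimeSpectrum (C ⊗[A] B), (pullback.snd f g) (j q) = iV (PrimeSpectrum.comap
      (Algebra.TensorProduct.includeRight : B →ₐ[A] C ⊗[A] B).toRingHom q) := by
    intro q
    rw [← Scheme.Hom.comp_apply, jmap_snd, Scheme.Hom.comp_apply]
    rfl
  rw [hs, hs, iV.isOpenEmbedding.isInducing.specializes_iff] at hsp
  have hle := (comap_specializes _ q₁ q₀).mp hsp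
  have := h q₁.asIdeal q₀.asIdeal q₁.2 q₀.2 hle
  exact ((PrimeSpectrum.le_iff_specializes q₁ q₀).mp this).map j.continuous

lemma exists_affine_le {Z : Scheme.{u}} (x : Z) {U : Z.Opens} (hx : x ∈ U) :
    ∃ W : Z.Opens, IsAffineOpen W ∧ x ∈ W ∧ W ≤ U := by
  obtain ⟨_, ⟨W, hW : IsAffineOpen W, rfl⟩, hxW, hle⟩ :=
    Z.isBasis_affineOpens.exists_subset_of_mem_open hx U.2
  exact ⟨W, hW, hxW, hle⟩

/-- If the projections `Y ×_X X' → X'` reflect specializations for all `X' → X` locally of finite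
type, then they do so for all `X' → X`. -/
theorem refl_of_locallyOfFiniteType
    (h : ∀ (X' : Scheme.{u}) (g : X' ⟶ X) [LocallyOfFiniteType g], Refl f g)
    (X' : Scheme.{u}) (g : X' ⟶ X) : Refl f g := by
  intro y₀ y₁ hsp
  -- an affine open of `X` around the image of `y₀`
  obtain ⟨U, hU, hy₀U, -⟩ := exists_affine_le (g (pullback.snd f g y₀))
    (show g (pullback.snd f g y₀) ∈ (⊤ : X.Opens) from trivial)
  have hgsp : g (pullback.snd f g y₁) ⤳ g (pullback.snd f g y₀) := hsp.map g.continuous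
  have hy₁U : g (pullback.snd f g y₁) ∈ U := hgsp.mem_open U.2 hy₀U
  have hcond : ∀ y : ↥(pullback f g), f (pullback.fst f g y) = g (pullback.snd f g y) := by
    intro y
    rw [← Scheme.Hom.comp_apply, ← Scheme.Hom.comp_apply, pullback.condition]
  -- stage 1: the first projections specialize
  have hfst : pullback.fst f g y₁ ⤳ pullback.fst f g y₀ := by
    obtain ⟨z₀, hz₀a, hz₀b⟩ := Scheme.Pullback.exists_preimage_pullback (f := f) (g := U.ι)
      (pullback.fst f g y₀) ⟨g (pullback.snd f g y₀), hy₀U⟩ (hcond y₀)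
    obtain ⟨z₁, hz₁a, hz₁b⟩ := Scheme.Pullback.exists_preimage_pullback (f := f) (g := U.ι)
      (pullback.fst f g y₁) ⟨g (pullback.snd f g y₁), hy₁U⟩ (hcond y₁)
    have h1 : pullback.snd f U.ι z₁ ⤳ pullback.snd f U.ι z₀ := by
      rw [hz₀b, hz₁b]
      exact (subtype_specializes_iff _ _).mpr hgsp
    have h2 := h _ U.ι z₀ z₁ h1
    have h3 := h2.map (pullback.fst f U.ι).continuous
    rwa [hz₀a, hz₁a] at h3
  -- affine opens
  obtain ⟨W, hW, hy₀W, hWU⟩ := exists_affine_le (pullback.fst f g y₀)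
    (show pullback.fst f g y₀ ∈ f ⁻¹ᵁ U from by
      show f (pullback.fst f g y₀) ∈ U
      rw [hcond]; exact hy₀U)
  have hy₁W : pullback.fst f g y₁ ∈ W := hfst.mem_open W.2 hy₀W
  obtain ⟨V, hV, hy₀V, hVU⟩ := exists_affine_le (pullback.snd f g y₀)
    (show pullback.snd f g y₀ ∈ g ⁻¹ᵁ U from hy₀U)
  have hy₁V : pullback.snd f g y₁ ∈ V := hsp.mem_open V.2 hy₀V
  let _ : Algebra Γ(X, U) Γ(Y, W) := (f.appLE U W hWU).hom.toAlgebra
  let _ : Algebra Γ(X, U) Γ(X', V) := (g.appLE U V hVU).hom.toAlgebra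
  have e₁ : Spec.map (CommRingCat.ofHom (algebraMap Γ(X, U) Γ(Y, W))) ≫ hU.fromSpec =
      hW.fromSpec ≫ f := hU.SpecMap_appLE_fromSpec f hW hWU
  have e₂ : Spec.map (CommRingCat.ofHom (algebraMap Γ(X, U) Γ(X', V))) ≫ hU.fromSpec =
      hV.fromSpec ≫ g := hU.SpecMap_appLE_fromSpec g hV hVU
  have hSR : SpecRefl Γ(X, U) Γ(Y, W) Γ(X', V) := by
    apply specRefl_of_fg
    intro B' hB'
    apply specRefl_of_refl f hU.fromSpec hW.fromSpec e₁
    have hft : Algebra.FiniteType Γ(X, U) B' := (Subalgebra.fg_iff_finiteType B').mp hB'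
    have : LocallyOfFiniteType (Spec.map (CommRingCat.ofHom (algebraMap Γ(X, U) B'))) :=
      (HasRingHomProperty.Spec_iff (P := @LocallyOfFiniteType)).mpr hft
    exact h _ _
  refine specializes_of_specRefl f hU.fromSpec hW.fromSpec e₁ g hV.fromSpec e₂ hSR y₀ y₁
    ?_ ?_ ?_ ?_ hsp
  · rw [hW.range_fromSpec]; exact hy₀W
  · rw [hW.range_fromSpec]; exact hy₁W
  · rw [hV.range_fromSpec]; exact hy₀V
  · rw [hV.range_fromSpec]; exact hy₁V

end Scheme

end Groth.Agent.H6.ReflSpec
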