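import Mathlib
import Groth.Agent.H6.ReflSpec
import Groth.Agent.H22.DVRSpec
import Groth.Agent.H24.FlatMono

/-!
# Monomorphisms: residue fields, lifting field points, and reflecting specializations via DVRs
-/

set_option autoImplicit false
universe u

namespace Groth.Agent.H6.MonoRefl

open AlgebraicGeometry CategoryTheory CategoryTheory.Limits IsLocalRing

variable {P X' : Scheme.{u}} (s : P ⟶ X')

/-- The residue field maps of a monomorphism of schemes are epimorphisms of rings. -/
theorem epi_residueFieldMap_of_mono [Mono s] (y : P) : Epi (s.residueFieldMap y) := by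
  constructor
  intro R a b hab
  have h1 : Spec.map a ≫ P.fromSpecResidueField y = Spec.map b ≫ P.fromSpecResidueField y := by
    rw [← cancel_mono s]
    simp only [Category.assoc, ← Scheme.Hom.SpecMap_residueFieldMap_fromSpecResidueField]
    rw [← Spec.map_comp_assoc, ← Spec.map_comp_assoc, hab]
  have h2 : Spec.map a = Spec.map b := (cancel_mono _).mp h1
  exact Spec.map_injective h2

/-- The residue field maps of a monomorphism of schemes are isomorphisms. -/
theorem isIso_residueFieldMap_of_mono [Mono s] (y : P) : IsIso (s.residueFieldMap y) := by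
  have := epi_residueFieldMap_of_mono s y
  algebraize [(s.residueFieldMap y).hom]
  have : Algebra.IsEpi (X'.residueField (s y)) (P.residueField y) :=
    CommRingCat.epi_iff_epi.mp (inferInstanceAs (Epi (s.residueFieldMap y)))
  have hbij := Groth.Agent.H24.bijective_algebraMap_of_faithfullyFlat_of_isEpi
    (X'.residueField (s y)) (P.residueField y)
  exact (ConcreteCategory.isIso_iff_bijective (s.residueFieldMap y)).mpr hbij

/-- Field-valued points of the target of a monomorphism whose image point lies in the range of
the monomorphism lift (uniquely) to the source. -/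
theorem exists_lift_of_field [Mono s] (y : P) (k : Type u) [Field k]
    (t : Spec (CommRingCat.of k) ⟶ X') (ht : t (closedPoint k) = s y) :
    ∃ l : Spec (CommRingCat.of k) ⟶ P, l ≫ s = t := by
  have := isIso_residueFieldMap_of_mono s y
  refine ⟨Spec.map (X'.descResidueField (Scheme.stalkClosedPointTo t)) ≫
    Spec.map (X'.residueFieldCongr ht.symm).hom ≫ Spec.map (inv (s.residueFieldMap y)) ≫
      P.fromSpecResidueField y, ?_⟩
  have h1 : Spec.map (inv (s.residueFieldMap y)) ≫ P.fromSpecResidueField y ≫ s =
      X'.fromSpecResidueField (s y) := by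
    rw [← Scheme.Hom.SpecMap_residueFieldMap_fromSpecResidueField, ← Spec.map_comp_assoc,
      IsIso.hom_inv_id, Spec.map_id, Category.id_comp]
  simp only [Category.assoc]
  rw [h1, Scheme.residueFieldCongr_fromSpecResidueField,
    Scheme.descResidueField_stalkClosedPointTo_fromSpecResidueField]

section main

variable {X Y : Scheme.{u}} (f : Y ⟶ X) [Mono f]

/-- Reflecting specializations along a base change to a locally Noetherian scheme, for a
monomorphism satisfying the DVR lifting condition. -/
theorem specializes_of_dvrLift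
    (h : ∀ S : ValuativeCommSq f, IsDiscreteValuationRing S.R →
        (∃ l₀ : Spec (CommRingCat.of (IsLocalRing.ResidueField S.R)) ⟶ Y,
            l₀ ≫ f = Spec.map (CommRingCat.ofHom (IsLocalRing.residue S.R)) ≫ S.i₂) →
          S.commSq.HasLift)
    (X' : Scheme.{u}) [IsLocallyNoetherian X'] (g : X' ⟶ X) (y₀ y₁ : ↥(pullback f g))
    (hsp : (pullback.snd f g) y₁ ⤳ (pullback.snd f g) y₀) : y₁ ⤳ y₀ := by
  have hinj : Function.Injective (pullback.snd f g) := (pullback.snd f g).injective
  by_cases hne : pullback.snd f g y₀ = pullback.snd f g y₁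
  · rw [hinj hne]
  obtain ⟨A, h', hA, hcl, hgen⟩ :=
    Groth.Agent.H22.DVRSpec.exists_dvr_through_specialization (𝟙 X')
      (pullback.snd f g y₁) (pullback.snd f g y₀) hsp hne
  rw [Category.comp_id] at hgen
  -- lift of the generic point
  obtain ⟨l₁, hl₁⟩ := exists_lift_of_field (pullback.snd f g) y₁
    (X'.residueField (pullback.snd f g y₁)) (X'.fromSpecResidueField _)
    (Scheme.fromSpecResidueField_apply _ _)
  -- lift of the closed point
  obtain ⟨l₀, hl₀⟩ := exists_lift_of_field (pullback.snd f g) y₀
    (IsLocalRing.ResidueField A) (Spec.map (CommRingCat.ofHom (IsLocalRing.residue A)) ≫ h')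
    (by
      rw [Scheme.Hom.comp_apply, ← hcl]
      congr 1
      exact IsLocalRing.comap_closedPoint (IsLocalRing.residue A))
  have hcond : pullback.fst f g ≫ f = pullback.snd f g ≫ g := pullback.condition
  let S : ValuativeCommSq f :=
    { R := A
      K := X'.residueField (pullback.snd f g y₁)
      i₁ := l₁ ≫ pullback.fst f g
      i₂ := h' ≫ g
      commSq := ⟨by
        rw [Category.assoc, hcond, reassoc_of% hl₁]
        exact (congrArg (fun t => t ≫ g) hgen).symm⟩ }
  have hlift : S.commSq.HasLift := h S hA ⟨l₀ ≫ pullback.fst f g, by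
    rw [Category.assoc, hcond, reassoc_of% hl₀]⟩
  obtain ⟨⟨ℓ, hℓ₁, hℓ₂⟩⟩ := hlift
  change Spec.map (CommRingCat.ofHom (algebraMap A (X'.residueField (pullback.snd f g y₁)))) ≫ ℓ =
    l₁ ≫ pullback.fst f g at hℓ₁
  change ℓ ≫ f = h' ≫ g at hℓ₂
  let m : Spec (CommRingCat.of A) ⟶ pullback f g := pullback.lift ℓ h' hℓ₂
  have hm : m ≫ pullback.snd f g = h' := pullback.lift_snd _ _ _
  -- the closed point
  have hm₀ : m (closedPoint A) = y₀ := by
    apply hinj
    rw [← Scheme.Hom.comp_apply, hm, hcl]
  -- the generic point
  have hm₁ : m (Spec.map (CommRingCat.ofHom A.subtype)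
      (closedPoint (X'.residueField (pullback.snd f g y₁)))) = y₁ := by
    apply hinj
    rw [← Scheme.Hom.comp_apply, hm, ← Scheme.Hom.comp_apply, hgen,
      Scheme.fromSpecResidueField_apply]
  have key := (IsLocalRing.specializes_closedPoint (Spec.map (CommRingCat.ofHom A.subtype)
      (closedPoint (X'.residueField (pullback.snd f g y₁))))).map m.continuous
  rwa [hm₁, hm₀] at key

/-- **Monomorphisms with the DVR lifting property reflect specializations universally**
(over a locally Noetherian base). -/
theorem refl_of_dvrLift [IsLocallyNoetherian X]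
    (h : ∀ S : ValuativeCommSq f, IsDiscreteValuationRing S.R →
        (∃ l₀ : Spec (CommRingCat.of (IsLocalRing.ResidueField S.R)) ⟶ Y,
            l₀ ≫ f = Spec.map (CommRingCat.ofHom (IsLocalRing.residue S.R)) ≫ S.i₂) →
          S.commSq.HasLift)
    (X' : Scheme.{u}) (g : X' ⟶ X) (y₀ y₁ : ↥(pullback f g))
    (hsp : (pullback.snd f g) y₁ ⤳ (pullback.snd f g) y₀) : y₁ ⤳ y₀ := by
  refine Groth.Agent.H6.ReflSpec.refl_of_locallyOfFiniteType f ?_ X' g y₀ y₁ hsp
  intro X'' g' _ z₀ z₁ hz
  have : IsLocallyNoetherian X'' := LocallyOfFiniteType.isLocallyNoetherian g'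
  exact specializes_of_dvrLift f h X'' g' z₀ z₁ hz

end main

end Groth.Agent.H6.MonoRefl
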