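import Mathlib
import Groth.Agent.H6.MonoRefl

/-!
# Monomorphisms with the dense-lifting property are quasi-compact (Noetherian base)
-/

set_option autoImplicit false
universe u

namespace Groth.Agent.H6.MonoImm

open AlgebraicGeometry CategoryTheory CategoryTheory.Limits IsLocalRing PrimeSpectrum

section alg

variable {A₀ : Type u} [CommRing A₀] (I : Ideal A₀)

lemma lt_comap_of_zeroLocus_ne (J' : Ideal (A₀ ⧸ I))
    (h : zeroLocus (J' : Set (A₀ ⧸ I)) ≠ Set.univ) : I < J'.comap (Ideal.Quotient.mk I) := by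
  have hle : I ≤ J'.comap (Ideal.Quotient.mk I) := by
    intro a ha
    rw [Ideal.mem_comap, Ideal.Quotient.eq_zero_iff_mem.mpr ha]
    exact J'.zero_mem
  refine lt_of_le_of_ne hle ?_
  intro heq
  apply h
  have h1 : J' = ⊥ := by
    rw [← Ideal.map_comap_of_surjective (Ideal.Quotient.mk I) Ideal.Quotient.mk_surjective J',
      ← heq, Ideal.map_quotient_self]
  rw [h1]
  exact zeroLocus_bot

lemma exists_comap_eq_of_mem_zeroLocus {x : PrimeSpectrum A₀} (hx : x ∈ zeroLocus (I : Set A₀)) :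
    ∃ p : PrimeSpectrum (A₀ ⧸ I), comap (Ideal.Quotient.mk I) p = x := by
  have := range_comap_of_surjective _ (Ideal.Quotient.mk I) Ideal.Quotient.mk_surjective
  rw [Ideal.mk_ker] at this
  rw [← this] at hx
  exact hx

lemma comap_mem_zeroLocus_self (p : PrimeSpectrum (A₀ ⧸ I)) :
    comap (Ideal.Quotient.mk I) p ∈ zeroLocus (I : Set A₀) := by
  intro a ha
  show Ideal.Quotient.mk I a ∈ p.asIdeal
  rw [Ideal.Quotient.eq_zero_iff_mem.mpr ha]
  exact p.asIdeal.zero_mem

lemma comap_mem_zeroLocus_comap (J' : Ideal (A₀ ⧸ I)) {p : PrimeSpectrum (A₀ ⧸ I)}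
    (hp : p ∈ zeroLocus (J' : Set (A₀ ⧸ I))) :
    comap (Ideal.Quotient.mk I) p ∈
      zeroLocus ((J'.comap (Ideal.Quotient.mk I) : Ideal A₀) : Set A₀) := by
  intro a ha
  exact hp ha

lemma zeroLocus_union_of_mul_mem {x y : A₀} (hxy : x * y ∈ I) :
    zeroLocus (I : Set A₀) = zeroLocus ((I ⊔ Ideal.span {x} : Ideal A₀) : Set A₀) ∪
      zeroLocus ((I ⊔ Ideal.span {y} : Ideal A₀) : Set A₀) := by
  apply Set.Subset.antisymm
  · intro p hp
    have hI : I ≤ p.asIdeal := hp
    rcases p.2.mem_or_mem (hI hxy) with h | h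
    · left
      show ((I ⊔ Ideal.span {x} : Ideal A₀) : Set A₀) ⊆ p.asIdeal
      exact sup_le hI ((Ideal.span_singleton_le_iff_mem _).mpr h)
    · right
      show ((I ⊔ Ideal.span {y} : Ideal A₀) : Set A₀) ⊆ p.asIdeal
      exact sup_le hI ((Ideal.span_singleton_le_iff_mem _).mpr h)
  · rintro p (hp | hp)
    · exact fun a ha => hp (Ideal.mem_sup_left ha)
    · exact fun a ha => hp (Ideal.mem_sup_left ha)

end alg

section zl

variable {R : CommRingCat.{u}}

/-- Zero locus as a set of points of `Spec R`. -/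
def zl (I : Ideal R) : Set ↥(Spec R) := zeroLocus (I : Set R)

lemma zl_top : zl (⊤ : Ideal R) = ∅ := zeroLocus_empty_of_one_mem (by simp)

lemma zl_bot : zl (⊥ : Ideal R) = Set.univ := zeroLocus_bot

lemma zl_anti {I J : Ideal R} (h : I ≤ J) : zl J ⊆ zl I := zeroLocus_anti_mono (by exact_mod_cast h)

lemma zl_union {I : Ideal R} {x y : R} (hxy : x * y ∈ I) :
    zl I = zl (I ⊔ Ideal.span {x}) ∪ zl (I ⊔ Ideal.span {y}) := zeroLocus_union_of_mul_mem I hxy

/-- the closed immersion `Spec R/I ⟶ Spec R` -/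
noncomputable def qmap (I : Ideal R) : Spec (CommRingCat.of (R ⧸ I)) ⟶ Spec R :=
  Spec.map (CommRingCat.ofHom (Ideal.Quotient.mk I))

lemma qmap_mem (I : Ideal R) (p : ↥(Spec (CommRingCat.of (R ⧸ I)))) : qmap I p ∈ zl I :=
  comap_mem_zeroLocus_self I p

lemma exists_qmap_eq (I : Ideal R) {x : ↥(Spec R)} (hx : x ∈ zl I) : ∃ p, qmap I p = x :=
  exists_comap_eq_of_mem_zeroLocus I hx

/-- zero locus in the quotient -/
def zl' (I : Ideal R) (J' : Ideal (R ⧸ I)) : Set ↥(Spec (CommRingCat.of (R ⧸ I))) :=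
  zeroLocus (J' : Set (R ⧸ I))

lemma qmap_mem_comap (I : Ideal R) (J' : Ideal (R ⧸ I)) {p : ↥(Spec (CommRingCat.of (R ⧸ I)))}
    (hp : p ∈ zl' I J') : qmap I p ∈ zl (J'.comap (Ideal.Quotient.mk I)) :=
  comap_mem_zeroLocus_comap I J' hp

lemma lt_comap_of_zl'_ne (I : Ideal R) (J' : Ideal (R ⧸ I)) (h : zl' I J' ≠ Set.univ) :
    I < J'.comap (Ideal.Quotient.mk I) := lt_comap_of_zeroLocus_ne I J' h

/-- ideal of a set -/
def vi (I : Ideal R) (D : Set ↥(Spec (CommRingCat.of (R ⧸ I)))) : Ideal (R ⧸ I) :=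
  vanishingIdeal (D : Set (PrimeSpectrum (R ⧸ I)))

lemma zl'_vi (I : Ideal R) (D : Set ↥(Spec (CommRingCat.of (R ⧸ I)))) :
    zl' I (vi I D) = closure D := zeroLocus_vanishingIdeal_eq_closure _

end zl

variable {X Y : Scheme.{u}} (f : Y ⟶ X)

/-- The dense lifting hypothesis. -/
def DenseLift : Prop :=
  ∀ (A : Type u) [CommRing A] [IsDomain A] (s : Spec (CommRingCat.of A) ⟶ X)
    (D : Set ↥(Spec (CommRingCat.of A))), Dense D →
    (∀ p ∈ D, ∃ l : Spec ((Spec (CommRingCat.of A)).residueField p) ⟶ Y,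
        l ≫ f = (Spec (CommRingCat.of A)).fromSpecResidueField p ≫ s) →
      ∃ U : (Spec (CommRingCat.of A)).Opens, (U : Set ↥(Spec (CommRingCat.of A))).Nonempty ∧
        ∃ l : (U : Scheme.{u}) ⟶ Y, l ≫ f = U.ι ≫ s

theorem isCompact_preimage_zl [Mono f] (hc : DenseLift f) {V : X.Opens}
    (hV : IsAffineOpen V) [IsNoetherianRing Γ(X, V)] (I : Ideal Γ(X, V)) :
    IsCompact (f ⁻¹' (hV.fromSpec '' zl I)) := by
  induction I using IsNoetherian.induction with | hgt I ih => ?_
  change Ideal Γ(X, V) at I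
  change ∀ J : Ideal Γ(X, V), J > I → IsCompact (f ⁻¹' (hV.fromSpec '' zl J)) at ih
  by_cases htop : I = ⊤
  · rw [htop, zl_top, Set.image_empty, Set.preimage_empty]
    exact isCompact_empty
  by_cases hprime : Ideal.IsPrime I
  swap
  · -- not prime
    have : ∃ x y, x * y ∈ I ∧ x ∉ I ∧ y ∉ I := by
      by_contra hcon
      push Not at hcon
      apply hprime
      rw [Ideal.isPrime_iff]
      refine ⟨htop, fun {x y} hxy => ?_⟩
      by_contra h
      push Not at h
      exact h.2 (hcon x y hxy h.1)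
    obtain ⟨x, y, hxy, hx, hy⟩ := this
    have h1 : I < I ⊔ Ideal.span {x} :=
      lt_of_le_of_ne le_sup_left fun h => hx (h ▸ Ideal.mem_sup_right (Ideal.mem_span_singleton_self x))
    have h2 : I < I ⊔ Ideal.span {y} :=
      lt_of_le_of_ne le_sup_left fun h => hy (h ▸ Ideal.mem_sup_right (Ideal.mem_span_singleton_self y))
    rw [zl_union hxy, Set.image_union, Set.preimage_union]
    exact (ih _ h1).union (ih _ h2)
  -- prime case
  have : IsDomain (Γ(X, V) ⧸ I) := Ideal.Quotient.isDomain I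
  let s : Spec (CommRingCat.of (Γ(X, V) ⧸ I)) ⟶ X := qmap I ≫ hV.fromSpec
  have hs : ∀ p, s p = hV.fromSpec (qmap I p) := fun p => rfl
  let D : Set ↥(Spec (CommRingCat.of (Γ(X, V) ⧸ I))) := {p | s p ∈ Set.range f}
  have hlift : ∀ p ∈ D, ∃ l : Spec ((Spec (CommRingCat.of (Γ(X, V) ⧸ I))).residueField p) ⟶ Y,
        l ≫ f = (Spec (CommRingCat.of (Γ(X, V) ⧸ I))).fromSpecResidueField p ≫ s := by
    intro p hp
    obtain ⟨y, hy⟩ := hp
    exact MonoRefl.exists_lift_of_field f y ((Spec (CommRingCat.of (Γ(X, V) ⧸ I))).residueField p)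
      ((Spec (CommRingCat.of (Γ(X, V) ⧸ I))).fromSpecResidueField p ≫ s) (by
        rw [Scheme.Hom.comp_apply, Scheme.fromSpecResidueField_apply, hy])
  have hinj : Function.Injective f := f.injective
  by_cases hD : Dense D
  · obtain ⟨U, hUne, l, hl⟩ := hc (Γ(X, V) ⧸ I) s D hD hlift
    let J' : Ideal (Γ(X, V) ⧸ I) := vi I ((U : Set ↥(Spec (CommRingCat.of (Γ(X, V) ⧸ I))))ᶜ)
    have hJ' : zl' I J' = (U : Set ↥(Spec (CommRingCat.of (Γ(X, V) ⧸ I))))ᶜ := by
      rw [zl'_vi]
      exact (U.isOpen.isClosed_compl).closure_eq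
    have hlt : I < J'.comap (Ideal.Quotient.mk I) := by
      apply lt_comap_of_zl'_ne
      rw [hJ']
      intro h
      obtain ⟨u, hu⟩ := hUne
      have : u ∈ (U : Set ↥(Spec (CommRingCat.of (Γ(X, V) ⧸ I))))ᶜ := h ▸ Set.mem_univ u
      exact this hu
    have hcpt := ih _ hlt
    have hns : TopologicalSpace.NoetherianSpace ↥(Spec (CommRingCat.of (Γ(X, V) ⧸ I))) :=
      inferInstanceAs (TopologicalSpace.NoetherianSpace (PrimeSpectrum (Γ(X, V) ⧸ I)))
    have hUc : CompactSpace (U : Scheme.{u}) := isCompact_iff_compactSpace.mp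
      (TopologicalSpace.NoetherianSpace.isCompact
        (U : Set ↥(Spec (CommRingCat.of (Γ(X, V) ⧸ I)))))
    have hrange : IsCompact (Set.range l) := isCompact_range l.continuous
    have heq : f ⁻¹' (hV.fromSpec '' zl I) =
        f ⁻¹' (hV.fromSpec '' zl (J'.comap (Ideal.Quotient.mk I))) ∪ Set.range l := by
      apply Set.Subset.antisymm
      · rintro y ⟨x, hx, hxy⟩
        obtain ⟨p, rfl⟩ := exists_qmap_eq I hx
        by_cases hpU : p ∈ U
        · right
          refine ⟨⟨p, hpU⟩, hinj ?_⟩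
          rw [← Scheme.Hom.comp_apply, hl, Scheme.Hom.comp_apply, ← hxy]
          rfl
        · left
          refine ⟨qmap I p, qmap_mem_comap I J' ?_, hxy⟩
          rw [hJ']
          exact hpU
      · rintro y (⟨x, hx, hxy⟩ | ⟨u, rfl⟩)
        · exact ⟨x, zl_anti hlt.le hx, hxy⟩
        · refine ⟨qmap I u.1, qmap_mem I u.1, ?_⟩
          have h3 : f (l u) = (U.ι ≫ s) u := by rw [← hl]; rfl
          rw [h3]
          rfl
    rw [heq]
    exact hcpt.union hrange
  · let J' : Ideal (Γ(X, V) ⧸ I) := vi I D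
    have hJ' : zl' I J' = closure D := zl'_vi I D
    have hlt : I < J'.comap (Ideal.Quotient.mk I) := by
      apply lt_comap_of_zl'_ne
      rw [hJ']
      intro h
      exact hD (dense_iff_closure_eq.mpr h)
    have hcpt := ih _ hlt
    have heq : f ⁻¹' (hV.fromSpec '' zl I) =
        f ⁻¹' (hV.fromSpec '' zl (J'.comap (Ideal.Quotient.mk I))) := by
      apply Set.Subset.antisymm
      · rintro y ⟨x, hx, hxy⟩
        obtain ⟨p, rfl⟩ := exists_qmap_eq I hx
        refine ⟨qmap I p, qmap_mem_comap I J' ?_, hxy⟩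
        rw [hJ']
        apply subset_closure
        exact ⟨y, hxy.symm⟩
      · rintro y ⟨x, hx, hxy⟩
        exact ⟨x, zl_anti hlt.le hx, hxy⟩
    rw [heq]
    exact hcpt

theorem quasiCompact_of_denseLift [IsLocallyNoetherian X] [Mono f] (hc : DenseLift f) :
    QuasiCompact f := by
  rw [quasiCompact_iff_forall_isAffineOpen]
  intro V hV
  have : IsNoetherianRing Γ(X, V) := IsLocallyNoetherian.component_noetherian ⟨V, hV⟩
  have h := isCompact_preimage_zl f hc hV ⊥
  rw [zl_bot, Set.image_univ, hV.range_fromSpec] at h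
  exact h

end Groth.Agent.H6.MonoImm
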