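import Mathlib
import Groth.Agent.H6.MonoImmQC
import Groth.Agent.H6.SubtrLC

/-!
# Monomorphisms with DVR lifting and dense lifting are immersions
-/

set_option autoImplicit false
universe u

namespace Groth.Agent.H6.MonoImm

open AlgebraicGeometry CategoryTheory CategoryTheory.Limits Groth.Agent.H17

variable {X Y : Scheme.{u}} (f : Y ⟶ X)

/-- a dominant quasi-compact morphism: every point of the target is a specialization of a point in
the range -/
lemma exists_specializes_of_isDominant {Y' : Scheme.{u}} (j : Y ⟶ Y') [QuasiCompact j]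
    [IsDominant j] (y' : Y') : ∃ y : Y, j y ⤳ y' := by
  have hpro : ProCons.IsProConstructible (j '' Set.univ) :=
    Groth.Agent.S3398.result j Set.univ (isProConstructible_of_isClosed isClosed_univ)
  have hmem : y' ∈ closure (j '' Set.univ) := by
    rw [Set.image_univ, j.denseRange.closure_range]
    trivial
  obtain ⟨_, ⟨y, -, rfl⟩, hz⟩ :=
    Groth.Agent.H73.SubtrProCons.exists_specializes_of_mem_closure hpro hmem
  exact ⟨y, hz⟩

/-- Key claim: in a factorization `f = j ≫ ν` with `j` a dominant quasi-compact open immersion and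
`ν` separated, a point of `Y'` lying over the range of `f` is in the range of `j`. -/
lemma mem_range_of_factor [IsLocallyNoetherian X] [Mono f]
    (hb : ∀ S : ValuativeCommSq f, IsDiscreteValuationRing S.R →
        (∃ l₀ : Spec (CommRingCat.of (IsLocalRing.ResidueField S.R)) ⟶ Y,
            l₀ ≫ f = Spec.map (CommRingCat.ofHom (IsLocalRing.residue S.R)) ≫ S.i₂) →
          S.commSq.HasLift)
    {Y' : Scheme.{u}} (j : Y ⟶ Y') (ν : Y' ⟶ X) (hjν : j ≫ ν = f) [QuasiCompact j] [IsDominant j]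
    [IsSeparated ν] (y'' : Y') (hy'' : ν y'' ∈ Set.range f) : y'' ∈ Set.range j := by
  let σ : Y ⟶ pullback f ν := pullback.lift (𝟙 Y) j (by rw [Category.id_comp, hjν])
  have hσ1 : σ ≫ pullback.fst f ν = 𝟙 Y := pullback.lift_fst _ _ _
  have hσ2 : σ ≫ pullback.snd f ν = j := pullback.lift_snd _ _ _
  have hcl : IsClosedImmersion σ := by
    have : IsClosedImmersion (σ ≫ pullback.fst f ν) := by rw [hσ1]; infer_instance
    exact IsClosedImmersion.of_comp σ (pullback.fst f ν)
  obtain ⟨p₀, hp₀⟩ : y'' ∈ Set.range (pullback.snd f ν) := by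
    rw [Scheme.Pullback.range_snd]
    exact hy''
  obtain ⟨y₁, hy₁⟩ := exists_specializes_of_isDominant j y''
  have hsp : pullback.snd f ν (σ y₁) ⤳ pullback.snd f ν p₀ := by
    rw [hp₀, ← Scheme.Hom.comp_apply, hσ2]
    exact hy₁
  have hsp' : σ y₁ ⤳ p₀ := MonoRefl.refl_of_dvrLift f hb Y' ν p₀ (σ y₁) hsp
  have hmem : p₀ ∈ Set.range σ :=
    hsp'.mem_closed σ.isClosedEmbedding.isClosed_range ⟨y₁, rfl⟩
  obtain ⟨y, rfl⟩ := hmem
  refine ⟨y, ?_⟩
  rw [← hp₀, ← Scheme.Hom.comp_apply, hσ2]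

theorem isImmersion_of_mono_dvrLift_denseLift [IsLocallyNoetherian X]
    [LocallyOfFinitePresentation f] [Mono f]
    (hb : ∀ S : ValuativeCommSq f, IsDiscreteValuationRing S.R →
        (∃ l₀ : Spec (CommRingCat.of (IsLocalRing.ResidueField S.R)) ⟶ Y,
            l₀ ≫ f = Spec.map (CommRingCat.ofHom (IsLocalRing.residue S.R)) ≫ S.i₂) →
          S.commSq.HasLift)
    (hc : DenseLift f) : IsImmersion f := by
  have hqc : QuasiCompact f := quasiCompact_of_denseLift f hc
  have hsep : IsSeparated f := inferInstance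
  have hlqf : LocallyQuasiFinite f := inferInstance
  let j := f.toNormalization
  let ν := f.fromNormalization
  have hjν : j ≫ ν = f := f.toNormalization_fromNormalization
  have hjo : IsOpenImmersion j := inferInstance
  have key : ∀ y'' : f.normalization, ν y'' ∈ Set.range f → y'' ∈ Set.range j :=
    fun y'' h => mem_range_of_factor f hb j ν hjν y'' h
  -- the closed set `T`
  have hTcl : IsClosed (ν '' (Set.range j)ᶜ) :=
    ν.isClosedMap _ j.isOpenEmbedding.isOpen_range.isClosed_compl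
  let U : X.Opens := ⟨(ν '' (Set.range j)ᶜ)ᶜ, hTcl.isOpen_compl⟩
  have hrange : Set.range j = ((ν ⁻¹ᵁ U : f.normalization.Opens) : Set f.normalization) := by
    apply Set.Subset.antisymm
    · rintro _ ⟨y, rfl⟩
      show ν (j y) ∈ (ν '' (Set.range j)ᶜ)ᶜ
      rintro ⟨y'', hy'', heq⟩
      apply hy''
      apply key
      rw [heq, ← Scheme.Hom.comp_apply, hjν]
      exact ⟨y, rfl⟩
    · intro y'' hy''
      by_contra hcon
      exact hy'' ⟨y'', hcon, rfl⟩
  let e : Y ≅ (ν ⁻¹ᵁ U : f.normalization.Opens) :=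
    IsOpenImmersion.isoOfRangeEq j (ν ⁻¹ᵁ U).ι (by rw [hrange, Scheme.Opens.range_ι])
  have he : e.hom ≫ (ν ⁻¹ᵁ U).ι = j := IsOpenImmersion.isoOfRangeEq_hom_fac _ _ _
  let g₀ : Y ⟶ U := e.hom ≫ (ν ∣_ U)
  have hg₀ : g₀ ≫ U.ι = f := by
    rw [Category.assoc, morphismRestrict_ι, reassoc_of% he, hjν]
  have h1 : IsIntegralHom g₀ := inferInstance
  have h2 : LocallyOfFiniteType g₀ := by
    have : LocallyOfFiniteType (g₀ ≫ U.ι) := by rw [hg₀]; infer_instance
    exact locallyOfFiniteType_of_comp g₀ U.ι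
  have h3 : Mono g₀ := by
    have : Mono (g₀ ≫ U.ι) := by rw [hg₀]; infer_instance
    exact mono_of_mono g₀ U.ι
  have h4 : IsFinite g₀ := (IsFinite.iff_isIntegralHom_and_locallyOfFiniteType g₀).mpr ⟨h1, h2⟩
  have h5 : IsClosedImmersion g₀ := (IsClosedImmersion.iff_isFinite_and_mono g₀).mpr ⟨h4, h3⟩
  rw [← hg₀]
  infer_instance

end Groth.Agent.H6.MonoImm
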