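import Mathlib.CategoryTheory.Triangulated.Triangulated
import Mathlib.Algebra.Homology.HomologicalComplex

set_option autoImplicit false
set_option linter.unusedSectionVars false
universe v u
open CategoryTheory CategoryTheory.Pretriangulated CategoryTheory.Limits

namespace Groth.Agent.H6.Postnikov

variable {D : Type u} [Category.{v} D] [Preadditive D] [Limits.HasZeroObject D] [HasShift D ℤ]
  [∀ n : ℤ, (shiftFunctor D n).Additive] [Pretriangulated D]
  (X : ChainComplex D ℕ)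

/-- The chosen lift `X_{k+1} ⟶ Y` of the differential through `a : Y ⟶ X_k` (zero if none). -/
noncomputable def bOf {k : ℕ} {Y : D} (a : Y ⟶ X.X k) : X.X (k + 1) ⟶ Y := by
  classical
  exact if h : ∃ b : X.X (k + 1) ⟶ Y, b ≫ a = X.d (k + 1) k then h.choose else 0

lemma bOf_comp {k : ℕ} {Y : D} (a : Y ⟶ X.X k)
    (h : ∃ b : X.X (k + 1) ⟶ Y, b ≫ a = X.d (k + 1) k) : bOf X a ≫ a = X.d (k + 1) k := by
  unfold bOf
  rw [dif_pos h]
  exact h.choose_spec

/-- The next object. -/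
noncomputable def nextY {k : ℕ} {Y : D} (a : Y ⟶ X.X k) : D :=
  (distinguished_cocone_triangle₁ (bOf X a)).choose

/-- The next structure map. -/
noncomputable def nextA {k : ℕ} {Y : D} (a : Y ⟶ X.X k) : nextY X a ⟶ X.X (k + 1) :=
  (distinguished_cocone_triangle₁ (bOf X a)).choose_spec.choose

/-- The connecting map. -/
noncomputable def cOf {k : ℕ} {Y : D} (a : Y ⟶ X.X k) : Y ⟶ (nextY X a)⟦(1 : ℤ)⟧ :=
  (distinguished_cocone_triangle₁ (bOf X a)).choose_spec.choose_spec.choose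

lemma triangle_mem {k : ℕ} {Y : D} (a : Y ⟶ X.X k) :
    Triangle.mk (nextA X a) (bOf X a) (cOf X a) ∈ distTriang D :=
  (distinguished_cocone_triangle₁ (bOf X a)).choose_spec.choose_spec.choose_spec

/-- The sequence of pairs `(Y_k, a_k)`. -/
noncomputable def seq : (k : ℕ) → Σ Y : D, (Y ⟶ X.X k)
  | 0 => ⟨X.X 0, 𝟙 _⟩
  | k + 1 => ⟨nextY X (seq k).2, nextA X (seq k).2⟩

noncomputable abbrev Y (k : ℕ) : D := (seq X k).1
noncomputable abbrev a (k : ℕ) : Y X k ⟶ X.X k := (seq X k).2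
noncomputable abbrev b (k : ℕ) : X.X (k + 1) ⟶ Y X k := bOf X (a X k)
noncomputable abbrev c (k : ℕ) : Y X k ⟶ (Y X (k + 1))⟦(1 : ℤ)⟧ := cOf X (a X k)

lemma tri (k : ℕ) : Triangle.mk (a X (k + 1)) (b X k) (c X k) ∈ distTriang D :=
  triangle_mem X (a X k)

omit X in
lemma eq_zero_of_vanishing {T : Triangle D} (hT : T ∈ distTriang D) {W : D} (f : W ⟶ T.obj₁)
    (hf : f ≫ T.mor₁ = 0) (hv : ∀ g : (shiftFunctor D (1 : ℤ)).obj W ⟶ T.obj₃, g = 0) : f = 0 := by
  obtain ⟨g, hg⟩ := Triangle.coyoneda_exact₁ T hT ((shiftFunctor D (1 : ℤ)).map f) (by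
    rw [← Functor.map_comp, hf, Functor.map_zero])
  rw [hv g, zero_comp] at hg
  exact (shiftFunctor D (1 : ℤ)).map_injective (hg.trans ((shiftFunctor D (1 : ℤ)).map_zero _ _).symm)

variable (n : ℕ)
  (hX : ∀ i j : ℕ, j + 2 < i → i ≤ n →
    ∀ φ : (shiftFunctor D ((i : ℤ) - j - 2)).obj (X.X i) ⟶ X.X j, φ = 0)

include hX in
lemma vanish (k : ℕ) : ∀ (i : ℕ) (s : ℤ), k + 2 < i → i ≤ n → s = (i : ℤ) - k - 2 →
    ∀ φ : (X.X i)⟦s⟧ ⟶ Y X k, φ = 0 := by
  induction k with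
  | zero =>
    intro i s hi hin hs φ
    subst hs
    exact hX i 0 hi hin φ
  | succ k ih =>
    intro i s hi hin hs φ
    have h1 : φ ≫ a X (k + 1) = 0 := by
      subst hs
      exact hX i (k + 1) hi hin _
    refine eq_zero_of_vanishing (tri X k) φ h1 (fun g => ?_)
    have := ih i (s + 1) (by omega) hin (by omega)
      ((shiftFunctorAdd' D s 1 (s + 1) rfl).hom.app (X.X i) ≫ g)
    exact (cancel_epi ((shiftFunctorAdd' D s 1 (s + 1) rfl).hom.app (X.X i))).1
      (this.trans comp_zero.symm)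

include hX in
lemma b_comp_a (k : ℕ) (hk : k < n) : b X k ≫ a X k = X.d (k + 1) k := by
  induction k using Nat.strong_induction_on with
  | _ k ih =>
    apply bOf_comp
    match k, ih, hk with
    | 0, _, _ => exact ⟨X.d 1 0, Category.comp_id _⟩
    | 1, ih, hk =>
      have h0 : b X 0 ≫ a X 0 = X.d 1 0 := ih 0 (by omega) (by omega)
      have hb0 : b X 0 = X.d 1 0 := by
        rw [← h0]
        exact (Category.comp_id _).symm
      obtain ⟨l, hl⟩ := Triangle.coyoneda_exact₂ _ (tri X 0) (X.d 2 1) (by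
        change X.d 2 1 ≫ b X 0 = 0
        rw [hb0]
        exact X.d_comp_d 2 1 0)
      exact ⟨l, hl.symm⟩
    | m + 2, ih, hk =>
      have h1 : b X (m + 1) ≫ a X (m + 1) = X.d (m + 1 + 1) (m + 1) :=
        ih (m + 1) (by omega) (by omega)
      have hz : X.d (m + 2 + 1) (m + 2) ≫ b X (m + 1) = 0 := by
        have h2 : (X.d (m + 2 + 1) (m + 2) ≫ b X (m + 1)) ≫ a X (m + 1) = 0 := by
          rw [Category.assoc, h1, X.d_comp_d]
        exact eq_zero_of_vanishing (tri X m) _ h2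
          (fun g => vanish X n hX m (m + 2 + 1) 1 (by omega) (by omega) (by omega) g)
      obtain ⟨l, hl⟩ := Triangle.coyoneda_exact₂ _ (tri X (m + 1)) (X.d (m + 2 + 1) (m + 2)) hz
      exact ⟨l, hl.symm⟩

include hX in
theorem exists_postnikov_system :
    ∃ (Y : ℕ → D) (a : ∀ k, Y k ⟶ X.X k) (b : ∀ k, X.X (k + 1) ⟶ Y k)
      (c : ∀ k, Y k ⟶ (shiftFunctor D (1 : ℤ)).obj (Y (k + 1))),
      IsIso (a 0) ∧ ∀ k, k < n → Triangle.mk (a (k + 1)) (b k) (c k) ∈ distinguishedTriangles ∧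
        b k ≫ a k = X.d (k + 1) k :=
  ⟨Y X, a X, b X, c X, (inferInstance : IsIso (𝟙 (X.X 0))),
    fun k hk => ⟨tri X k, b_comp_a X n hX k hk⟩⟩

end Groth.Agent.H6.Postnikov
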