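import Mathlib.Algebra.Homology.DerivedCategory.Basic
import Mathlib.Algebra.Homology.Embedding.CochainComplex
import Mathlib.CategoryTheory.Preadditive.Projective.Basic
import Mathlib.Algebra.Homology.DerivedCategory.KProjective

set_option autoImplicit false
universe w v u
open CategoryTheory CategoryTheory.Limits

namespace Groth.Agent.H6
open DerivedCategory

variable {A : Type u} [Category.{v} A] [Abelian A] [HasDerivedCategory.{w} A]

lemma hom_Q_eq_zero (P K : CochainComplex A ℤ) (n b : ℤ) [P.IsStrictlyGE n] [P.IsStrictlyLE b]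
    (hP : ∀ i : ℤ, Projective (P.X i))
    (hK : ∀ i : ℤ, n ≤ i → IsZero (K.homology i))
    (φ : Q.obj P ⟶ Q.obj K) : φ = 0 := by
  have : P.IsKProjective := CochainComplex.isKProjective_of_projective P b
  have hKle : K.IsLE (n - 1) := by
    rw [CochainComplex.isLE_iff]
    intro i hi
    rw [HomologicalComplex.exactAt_iff_isZero_homology]
    exact hK i (by omega)
  have : QuasiIso (K.ιTruncLE (n - 1)) := inferInstance
  have : IsIso (Q.map (K.ιTruncLE (n - 1))) := by
    rw [isIso_Q_map_iff_quasiIso]; infer_instance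
  -- φ' : Q P ⟶ Q (truncLE K)
  let φ' : Q.obj P ⟶ Q.obj (K.truncLE (n - 1)) := φ ≫ inv (Q.map (K.ιTruncLE (n - 1)))
  have hφ : φ = φ' ≫ Q.map (K.ιTruncLE (n - 1)) := by simp [φ']
  -- lift φ' to the homotopy category
  obtain ⟨ψ, hψ⟩ := (CochainComplex.IsKProjective.Qh_map_bijective P
    ((HomotopyCategory.quotient _ _).obj (K.truncLE (n - 1)))).surjective
    ((quotientCompQhIso A).hom.app P ≫ φ' ≫ (quotientCompQhIso A).inv.app _)
  obtain ⟨g, rfl⟩ := (HomotopyCategory.quotient _ _).map_surjective ψ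
  have hg : g = 0 := by
    ext i
    by_cases hi : i < n
    · exact (P.isZero_of_isStrictlyGE n i hi).eq_of_src _ _
    · exact ((K.truncLE (n - 1)).isZero_of_isStrictlyLE (n - 1) i (by omega)).eq_of_tgt _ _
  have hφ' : φ' = 0 := by
    have h2 : φ' = (quotientCompQhIso A).inv.app P ≫
        Qh.map ((HomotopyCategory.quotient _ _).map g) ≫ (quotientCompQhIso A).hom.app _ := by
      rw [hψ]; simp
    rw [h2, hg]; simp
  rw [hφ, hφ', zero_comp]

lemma hom_quotient_eq_zero (P K : CochainComplex A ℤ) (n b : ℤ) [P.IsStrictlyGE n] [P.IsStrictlyLE b]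
    (hP : ∀ i : ℤ, Projective (P.X i))
    (hK : ∀ i : ℤ, n ≤ i → IsZero (K.homology i))
    (φ : (HomotopyCategory.quotient A (ComplexShape.up ℤ)).obj P ⟶
      (HomotopyCategory.quotient A (ComplexShape.up ℤ)).obj K) : φ = 0 := by
  have : P.IsKProjective := CochainComplex.isKProjective_of_projective P b
  apply (CochainComplex.IsKProjective.Qh_map_bijective P
    ((HomotopyCategory.quotient _ _).obj K)).injective
  have h := hom_Q_eq_zero P K n b hP hK
    ((quotientCompQhIso A).inv.app P ≫ Qh.map φ ≫ (quotientCompQhIso A).hom.app K)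
  rw [Functor.map_zero]
  have h2 : Qh.map φ = (quotientCompQhIso A).hom.app P ≫
      ((quotientCompQhIso A).inv.app P ≫ Qh.map φ ≫ (quotientCompQhIso A).hom.app K) ≫
        (quotientCompQhIso A).inv.app K := by simp
  rw [h2, h]; simp

end Groth.Agent.H6
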