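import Groth.Agent.H6.PuncturedDT
import Groth.Agent.H58.Conn.CdRad
import Groth.Agent.S0325
import Groth.Agent.S0327
import Groth.Prelude.Def_FEt

set_option autoImplicit false
universe u

namespace Groth.Agent.H6.PuncturedAffine

open AlgebraicGeometry CategoryTheory Opposite TopologicalSpace
open Groth.Agent.H6.PuncturedSections Groth.Agent.H6.PuncturedDT Groth.Agent.H58

theorem puncturedSpec_eq (A : Type u) [CommRing A] [IsLocalRing A] :
    FEt.puncturedSpec A = LocCoh.puncturedOpen A (IsLocalRing.maximalIdeal A) := by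
  ext x
  let y : PrimeSpectrum A := x
  change y ∈ ({IsLocalRing.closedPoint A}ᶜ : Set (PrimeSpectrum A)) ↔
    y ∈ (PrimeSpectrum.zeroLocus (IsLocalRing.maximalIdeal A : Set A))ᶜ
  rw [Set.mem_compl_iff, Set.mem_compl_iff, not_iff_not, Set.mem_singleton_iff,
    PrimeSpectrum.mem_zeroLocus, SetLike.coe_subset_coe]
  constructor
  · rintro rfl
    exact le_rfl
  · intro h
    apply PrimeSpectrum.ext
    exact le_antisymm (IsLocalRing.le_maximalIdeal y.isPrime.ne_top) h

/-- empty punctured open ⟹ cd ≤ 0 -/
theorem cdLE_zero_of_isEmpty {A : Type u} [CommRing A] [IsNoetherianRing A] (I : Ideal A)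
    (h : ∀ x : (Spec (CommRingCat.of A)), x ∉ LocCoh.puncturedOpen A I) : LocCoh.CdLE A I 0 := by
  have hI : (⊥ : Ideal A).radical = I.radical := by
    apply le_antisymm (Ideal.radical_mono bot_le)
    rw [Ideal.radical_le_radical_iff]
    intro f hf
    show f ∈ nilradical A
    rw [mem_nilradical, nilpotent_iff_mem_prime]
    intro J hJ
    by_contra hfJ
    exact h (⟨J, hJ⟩ : PrimeSpectrum A) (mem_puncturedOpen.mpr ⟨f, hf, hfJ⟩)
  have hbot : LocCoh.CdLE A (⊥ : Ideal A) 0 := by
    have := LC.cdLE_span_finset (∅ : Finset A)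
    simpa using this
  exact Conn.cdLE_of_radical_eq ⊥ I hI 0 hbot

theorem exists_nat_ringKrullDim (A : Type u) [CommRing A] [IsLocalRing A] [IsNoetherianRing A] :
    ∃ d : ℕ, ringKrullDim A = d := by
  have h1 := ringKrullDim_ne_bot (R := A)
  have h2 := ringKrullDim_ne_top (R := A)
  obtain ⟨e, he⟩ := WithBot.ne_bot_iff_exists.mp h1
  have he' : e ≠ ⊤ := by
    rintro rfl
    exact h2 he.symm
  obtain ⟨d, rfl⟩ := ENat.ne_top_iff_exists.mp he'
  exact ⟨d, he.symm⟩

theorem ringKrullDim_le_one_of_isAffineOpen (A : Type u) [CommRing A] [IsLocalRing A]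
    [IsNoetherianRing A]
    (h : IsAffineOpen (LocCoh.puncturedOpen A (IsLocalRing.maximalIdeal A))) :
    ringKrullDim A ≤ 1 := by
  have hcd := (isAffineOpen_punctured_iff_cdLE _).mp h
  obtain ⟨d, hd⟩ := exists_nat_ringKrullDim A
  by_contra hlt
  have h2 : 1 < d := by
    rw [hd] at hlt
    rw [not_le] at hlt
    exact_mod_cast hlt
  have hnt := Groth.Agent.S0327.result A d hd
  have hss := hcd A d h2
  exact not_subsingleton _ hss

theorem isAffineOpen_of_ringKrullDim_le_one (A : Type u) [CommRing A]
    [IsNoetherianRing A] (I : Ideal A) (h : ringKrullDim A ≤ 1) :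
    IsAffineOpen (LocCoh.puncturedOpen A I) :=
  (isAffineOpen_punctured_iff_cdLE _).mpr (Groth.Agent.S0325.result A _ 1 (by exact_mod_cast h))

/-- The complement of an affine open in a Noetherian affine scheme has codimension ≤ 1. -/
theorem height_le_one_of_affine_compl (A : Type u) [CommRing A] [IsNoetherianRing A]
    (U : (Spec (CommRingCat.of A)).Opens) (hU : IsAffineOpen U) (p : PrimeSpectrum A)
    (hpU : (p : (Spec (CommRingCat.of A) : Type u)) ∉ U)
    (hmin : ∀ q : PrimeSpectrum A, q.asIdeal ≤ p.asIdeal →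
      (q : (Spec (CommRingCat.of A) : Type u)) ∉ U → q = p) : p.asIdeal.height ≤ 1 := by
  let Ap := Localization.AtPrime p.asIdeal
  let f : Spec (CommRingCat.of Ap) ⟶ Spec (CommRingCat.of A) :=
    Spec.map (CommRingCat.ofHom (algebraMap A Ap))
  have hV : IsAffineOpen (f ⁻¹ᵁ U) := hU.preimage f
  have hfx : ∀ x : PrimeSpectrum Ap, f.base x = PrimeSpectrum.comap (algebraMap A Ap) x :=
    fun x => rfl
  have hVeq : f ⁻¹ᵁ U = LocCoh.puncturedOpen Ap (IsLocalRing.maximalIdeal Ap) := by
    rw [← puncturedSpec_eq]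
    ext x
    let y : PrimeSpectrum Ap := x
    change f.base y ∈ U ↔ y ∈ ({IsLocalRing.closedPoint Ap}ᶜ : Set (PrimeSpectrum Ap))
    rw [hfx, Set.mem_compl_iff, Set.mem_singleton_iff]
    constructor
    · rintro h rfl
      apply hpU
      have : PrimeSpectrum.comap (algebraMap A Ap) (IsLocalRing.closedPoint Ap) = p := by
        apply PrimeSpectrum.ext
        exact IsLocalization.AtPrime.under_maximalIdeal Ap p.asIdeal
      rwa [this] at h
    · intro hne
      by_contra hnU
      apply hne
      have hle : (PrimeSpectrum.comap (algebraMap A Ap) y).asIdeal ≤ p.asIdeal := by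
        have := IsLocalRing.le_maximalIdeal y.isPrime.ne_top
        have h2 := Ideal.comap_mono (f := algebraMap A Ap) this
        have h3 : Ideal.comap (algebraMap A Ap) (IsLocalRing.maximalIdeal Ap) = p.asIdeal :=
          IsLocalization.AtPrime.under_maximalIdeal Ap p.asIdeal
        rw [h3] at h2
        exact h2
      have heq := hmin _ hle hnU
      apply PrimeSpectrum.ext
      have h3 : (PrimeSpectrum.comap (algebraMap A Ap) y) =
          PrimeSpectrum.comap (algebraMap A Ap) (IsLocalRing.closedPoint Ap) := by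
        rw [heq]
        apply PrimeSpectrum.ext
        exact (IsLocalization.AtPrime.under_maximalIdeal Ap p.asIdeal).symm
      exact congrArg PrimeSpectrum.asIdeal
        (PrimeSpectrum.localization_comap_injective Ap p.asIdeal.primeCompl h3)
  rw [hVeq] at hV
  have := ringKrullDim_le_one_of_isAffineOpen Ap hV
  rw [IsLocalization.AtPrime.ringKrullDim_eq_height p.asIdeal Ap] at this
  exact_mod_cast this

end Groth.Agent.H6.PuncturedAffine
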