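import Groth.Agent.H6.PuncturedSections
import Groth.Agent.H58.LCDTExact2

set_option autoImplicit false
universe u

namespace Groth.Agent.H6.PuncturedDT

open AlgebraicGeometry CategoryTheory Opposite TopologicalSpace
open Groth.Agent.H6.PuncturedSections Groth.Agent.H58

variable {R : Type u} [CommRing R] {M : Type u} [AddCommGroup M] [Module R M]

theorem exists_smul_eq_basic (g : R) (t : Sec M (D g)) : ∃ y : Sec M (D g), g • y = t := by
  have h := IsLocalizedModule.map_units (toO M (D g)) (⟨g, Submonoid.mem_powers g⟩ : Submonoid.powers g)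
  rw [Module.End.isUnit_iff] at h
  obtain ⟨y, hy⟩ := h.2 t
  exact ⟨y, hy⟩

theorem inf_D_le_D_mul (g h : R) : D g ⊓ D h ≤ D (g * h) := by
  intro x hx
  have : x ∈ PrimeSpectrum.basicOpen (g * h) := by
    rw [PrimeSpectrum.basicOpen_mul]; exact hx
  exact this

/-- Every linear map `a^n → Γ(U, M~)` is multiplication by a section. -/
theorem exists_section_of_hom (a : Ideal R) (n : ℕ)
    (φ : ↥(a ^ n) →ₗ[R] Sec M (LocCoh.puncturedOpen R a)) :
    ∃ y : Sec M (LocCoh.puncturedOpen R a), ∀ r : ↥(a ^ n), φ r = (r : R) • y := by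
  have hle : a ^ (n + 1) ≤ a ^ n := Ideal.pow_le_pow_right (Nat.le_succ n)
  have hle1 : a ^ (n + 1) ≤ a := Ideal.pow_le_self (Nat.succ_ne_zero n)
  have hV : ∀ g : ↥(a ^ (n + 1)), D (g : R) ≤ LocCoh.puncturedOpen R a :=
    fun g => D_le_puncturedOpen (hle1 g.2)
  have hcov : LocCoh.puncturedOpen R a ≤ ⨆ g : ↥(a ^ (n + 1)), D (g : R) := by
    intro x hx
    obtain ⟨f, hf, hxf⟩ := mem_puncturedOpen.mp hx
    refine (Opens.mem_iSup).mpr ⟨⟨f ^ (n + 1), Ideal.pow_mem_pow hf _⟩, ?_⟩
    rw [mem_D] at hxf ⊢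
    exact fun h => hxf (x.isPrime.mem_of_pow_mem _ h)
  have hex : ∀ g : ↥(a ^ (n + 1)), ∃ y : Sec M (D (g : R)),
      (g : R) • y = res M (hV g) (φ ⟨g, hle g.2⟩) := fun g => exists_smul_eq_basic _ _
  choose sf hsf using hex
  have hc : ∀ g h : ↥(a ^ (n + 1)),
      res M (inf_le_left : D (g : R) ⊓ D (h : R) ≤ D (g : R)) (sf g) =
        res M (inf_le_right : D (g : R) ⊓ D (h : R) ≤ D (h : R)) (sf h) := by
    intro g h
    apply isSMulRegular_sec (inf_D_le_D_mul (g : R) (h : R))
    show ((g : R) * (h : R)) • _ = ((g : R) * (h : R)) • _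
    have e1 : ((g : R) * (h : R)) • res M (inf_le_left : D (g : R) ⊓ D (h : R) ≤ D (g : R)) (sf g)
        = res M (inf_le_left.trans (hV g)) (φ (⟨(h : R) * (g : R), Ideal.mul_mem_left _ _ (hle g.2)⟩)) := by
      rw [mul_comm, mul_smul, ← map_smul (res M _) (g : R), hsf, res_res, ← map_smul, ← map_smul]
      rfl
    have e2 : ((g : R) * (h : R)) • res M (inf_le_right : D (g : R) ⊓ D (h : R) ≤ D (h : R)) (sf h)
        = res M (inf_le_right.trans (hV h)) (φ (⟨(g : R) * (h : R), Ideal.mul_mem_left _ _ (hle h.2)⟩)) := by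
      rw [mul_smul, ← map_smul (res M _) (h : R), hsf, res_res, ← map_smul, ← map_smul]
      rfl
    rw [e1, e2]
    congr 2
    exact Subtype.ext (mul_comm _ _)
  obtain ⟨y, hy⟩ := sec_glue (LocCoh.puncturedOpen R a) (fun g : ↥(a ^ (n + 1)) => D (g : R)) hV hcov sf hc
  refine ⟨y, fun r => ?_⟩
  refine sec_ext (LocCoh.puncturedOpen R a) (fun g : ↥(a ^ (n + 1)) => D (g : R)) hV hcov _ _ ?_
  intro g
  apply isSMulRegular_sec (le_refl (D (g : R)))
  show (g : R) • _ = (g : R) • _
  rw [map_smul, hy, smul_comm, hsf, ← map_smul, ← map_smul, ← map_smul, ← map_smul]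
  congr 2
  exact Subtype.ext (mul_comm _ _)

section Noeth
set_option linter.unusedSectionVars false
variable [IsNoetherianRing R] (a : Ideal R)

theorem toDT_sec_bijective (M : Type u) [AddCommGroup M] [Module R M] :
    Function.Bijective (LocCoh.toDT a (Sec M (LocCoh.puncturedOpen R a))) := by
  constructor
  · rw [← LinearMap.ker_eq_bot, ker_toDT, eq_bot_iff]
    rintro x ⟨n, hn⟩
    exact (Submodule.mem_bot R).mpr (eq_zero_of_pow_smul_eq_zero a le_rfl x n hn)
  · intro x
    obtain ⟨n, f, rfl⟩ := dt_exists_rep a _ x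
    obtain ⟨y, hy⟩ := exists_section_of_hom a n f
    refine ⟨y, ?_⟩
    rw [LC.toDT_eq_dtι a _ n y]
    congr 1
    ext r
    rw [hy]; rfl

theorem ker_toO_le (M : Type u) [AddCommGroup M] [Module R M] : LinearMap.ker (toO M (LocCoh.puncturedOpen R a)) ≤ DRing.torsionSub a M := by
  intro m hm
  exact (toO_eq_zero_iff_punctured a m).mp hm

/-- Deligne's formula: `D_a(M) ≅ Γ(U, M~)`. -/
noncomputable def deligneEquiv (M : Type u) [AddCommGroup M] [Module R M] : LocCoh.DT a M ≃ₗ[R] Sec M (LocCoh.puncturedOpen R a) :=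
  (dtEquiv a (toO M (LocCoh.puncturedOpen R a)) (ker_toO_le a M) (sections_punctured a M).2.2).trans
    (LinearEquiv.ofBijective (LocCoh.toDT a (Sec M (LocCoh.puncturedOpen R a)))
      (toDT_sec_bijective a M)).symm

theorem deligneEquiv_toDT (m : M) :
    deligneEquiv a M (LocCoh.toDT a M m) = toO M (LocCoh.puncturedOpen R a) m := by
  unfold deligneEquiv
  rw [LinearEquiv.trans_apply, LinearEquiv.symm_apply_eq]
  exact dtMap_toDT a _ m

theorem smul_top_eq_top_iff_of_equiv {A B : Type*} [AddCommGroup A] [Module R A] [AddCommGroup B]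
    [Module R B] (e : A ≃ₗ[R] B) :
    a • (⊤ : Submodule R A) = ⊤ ↔ a • (⊤ : Submodule R B) = ⊤ := by
  constructor
  · intro h
    rw [eq_top_iff]
    intro y _
    have := LC.map_mem_smul_top a e.toLinearMap (x := e.symm y) (by rw [h]; trivial)
    simpa using this
  · intro h
    rw [eq_top_iff]
    intro y _
    have := LC.map_mem_smul_top a e.symm.toLinearMap (x := e y) (by rw [h]; trivial)
    simpa using this

theorem smul_top_DT_iff :
    a • (⊤ : Submodule R (LocCoh.DT a R)) = ⊤ ↔
      a • (⊤ : Submodule R (Sec R (LocCoh.puncturedOpen R a))) = ⊤ :=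
  smul_top_eq_top_iff_of_equiv a (deligneEquiv a R)

end Noeth

section Ring

/-- The restriction ring homomorphism `R → Γ(Spec R, U)`. -/
noncomputable def ρ (U : (Spec (CommRingCat.of R)).Opens) :
    R →+* Γ(Spec (CommRingCat.of R), U) :=
  ((Scheme.ΓSpecIso (CommRingCat.of R)).inv ≫
    (Spec (CommRingCat.of R)).presheaf.map (homOfLE (le_top : U ≤ ⊤)).op).hom

theorem basicOpen_ρ (U : (Spec (CommRingCat.of R)).Opens) (f : R) :
    (Spec (CommRingCat.of R)).basicOpen (ρ U f) = U ⊓ D f := by
  have : ρ U f = (Spec (CommRingCat.of R)).presheaf.map (homOfLE (le_top : U ≤ ⊤)).op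
      ((Scheme.ΓSpecIso (CommRingCat.of R)).inv f) := rfl
  rw [this, Scheme.basicOpen_res, basicOpen_eq_of_affine]

/-- Sections of the structure sheaf: module-sheaf sections and ring-sheaf sections agree. -/
noncomputable def secRingEquiv (U : (Spec (CommRingCat.of R)).Opens) :
    Sec R U ≃+ Γ(Spec (CommRingCat.of R), U) := AddEquiv.refl _

theorem secRingEquiv_smul (U : (Spec (CommRingCat.of R)).Opens) (r : R) (s : Sec R U) :
    secRingEquiv U (r • s) = ρ U r * secRingEquiv U s := rfl

theorem secRingEquiv_toO (U : (Spec (CommRingCat.of R)).Opens) (r : R) :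
    secRingEquiv U (toO R U r) = ρ U r := rfl

theorem isAffineOpen_punctured_iff (a : Ideal R) :
    IsAffineOpen (LocCoh.puncturedOpen R a) ↔
      Ideal.map (ρ (LocCoh.puncturedOpen R a)) a = ⊤ := by
  constructor
  · intro hU
    rw [Ideal.map, ← hU.self_le_iSup_basicOpen_iff]
    intro x hx
    obtain ⟨f, hf, hxf⟩ := mem_puncturedOpen.mp hx
    refine Opens.mem_iSup.mpr ⟨⟨ρ _ f, Set.mem_image_of_mem _ hf⟩, ?_⟩
    rw [basicOpen_ρ]
    exact ⟨hx, hxf⟩
  · intro h
    apply isAffineOpen_of_isAffineOpen_basicOpen _ (ρ (LocCoh.puncturedOpen R a) '' a) h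
    rintro _ ⟨f, hf, rfl⟩
    rw [basicOpen_ρ, inf_eq_right.mpr (D_le_puncturedOpen hf)]
    exact IsAffineOpen.Spec_basicOpen (R := CommRingCat.of R) f

theorem map_eq_top_iff_smul_top (a : Ideal R) (U : (Spec (CommRingCat.of R)).Opens) :
    Ideal.map (ρ U) a = ⊤ ↔ a • (⊤ : Submodule R (Sec R U)) = ⊤ := by
  constructor
  · intro h
    -- a • ⊤ is stable under multiplication by sections
    have hmul : ∀ (b : Γ(Spec (CommRingCat.of R), U)) (x : Sec R U),
        x ∈ a • (⊤ : Submodule R (Sec R U)) →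
          (secRingEquiv U).symm (b * secRingEquiv U x) ∈ a • (⊤ : Submodule R (Sec R U)) := by
      intro b x hx
      refine Submodule.smul_induction_on hx ?_ ?_
      · intro r hr t _
        have : (secRingEquiv U).symm (b * secRingEquiv U (r • t)) =
            r • (secRingEquiv U).symm (b * secRingEquiv U t) := by
          apply (secRingEquiv U).injective
          rw [AddEquiv.apply_symm_apply, secRingEquiv_smul, secRingEquiv_smul,
            AddEquiv.apply_symm_apply]
          ring
        rw [this]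
        exact Submodule.smul_mem_smul hr Submodule.mem_top
      · intro x y hx hy
        rw [map_add, mul_add, map_add]
        exact Submodule.add_mem _ hx hy
    have key : ∀ s : Γ(Spec (CommRingCat.of R), U), s ∈ Ideal.map (ρ U) a →
        (secRingEquiv U).symm s ∈ a • (⊤ : Submodule R (Sec R U)) := by
      intro s hs
      refine Submodule.span_induction (p := fun s _ => (secRingEquiv U).symm s ∈
        a • (⊤ : Submodule R (Sec R U))) ?_ ?_ ?_ ?_ hs
      · rintro _ ⟨f, hf, rfl⟩
        have : (secRingEquiv U).symm (ρ U f) = f • (secRingEquiv U).symm 1 := by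
          apply (secRingEquiv U).injective
          rw [secRingEquiv_smul, AddEquiv.apply_symm_apply, AddEquiv.apply_symm_apply, mul_one]
        rw [this]
        exact Submodule.smul_mem_smul hf Submodule.mem_top
      · rw [map_zero]; exact Submodule.zero_mem _
      · intro x y _ _ hx hy
        rw [map_add]; exact Submodule.add_mem _ hx hy
      · intro b x _ hx
        have := hmul b _ hx
        rwa [AddEquiv.apply_symm_apply] at this
    rw [eq_top_iff]
    intro s _
    have := key (secRingEquiv U s) (by rw [h]; trivial)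
    rwa [AddEquiv.symm_apply_apply] at this
  · intro h
    have key : ∀ x : Sec R U, x ∈ a • (⊤ : Submodule R (Sec R U)) →
        secRingEquiv U x ∈ Ideal.map (ρ U) a := by
      intro x hx
      refine Submodule.smul_induction_on hx ?_ ?_
      · intro r hr t _
        rw [secRingEquiv_smul]
        exact Ideal.mul_mem_right _ _ (Ideal.mem_map_of_mem _ hr)
      · intro x y hx hy
        rw [map_add]; exact Ideal.add_mem _ hx hy
    rw [Ideal.eq_top_iff_one]
    have := key ((secRingEquiv U).symm 1) (by rw [h]; trivial)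
    rwa [AddEquiv.apply_symm_apply] at this

end Ring

/-- The punctured open `Spec R \ V(a)` is affine iff `cd(R, a) ≤ 1`. -/
theorem isAffineOpen_punctured_iff_cdLE [IsNoetherianRing R] (a : Ideal R) :
    IsAffineOpen (LocCoh.puncturedOpen R a) ↔ LocCoh.CdLE R a 1 := by
  rw [isAffineOpen_punctured_iff, map_eq_top_iff_smul_top, ← smul_top_DT_iff]
  constructor
  · exact LC.cdLE_of_smul_top a
  · intro h
    exact LC.smul_top_of_exact a (LC.idealTransform_exact_of_cdLE a h).2

end Groth.Agent.H6.PuncturedDT
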