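import Mathlib
import Groth.Prelude.Def_Wider

set_option autoImplicit false
universe u

namespace Groth.Agent.H6.PuncturedSections

open AlgebraicGeometry CategoryTheory Opposite TopologicalSpace

variable {R : Type u} [CommRing R] (M : Type u) [AddCommGroup M] [Module R M]

/-- The sheaf of `R`-modules underlying `M~`. -/
noncomputable abbrev Sh : TopCat.Sheaf (ModuleCat.{u} R) (Spec (CommRingCat.of R)) :=
  modulesSpecToSheaf.obj (tilde (R := CommRingCat.of R) (ModuleCat.of R M))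

/-- Sections of `M~` over an open, as an `R`-module. -/
noncomputable abbrev Sec (W : (Spec (CommRingCat.of R)).Opens) : Type u :=
  ↑((Sh M).presheaf.obj (op W))

/-- Restriction of sections as a linear map. -/
noncomputable def res {V W : (Spec (CommRingCat.of R)).Opens} (h : V ≤ W) :
    Sec M W →ₗ[R] Sec M V :=
  ((Sh M).presheaf.map (homOfLE h).op).hom

/-- The canonical map `M → Γ(W, M~)`. -/
noncomputable def toO (W : (Spec (CommRingCat.of R)).Opens) : M →ₗ[R] Sec M W :=
  (tilde.toOpen (R := CommRingCat.of R) (ModuleCat.of R M) W).hom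

/-- Basic open of `Spec R` as an `Opens`. -/
abbrev D (f : R) : (Spec (CommRingCat.of R)).Opens := PrimeSpectrum.basicOpen f

variable {M}

theorem res_res {V W X : (Spec (CommRingCat.of R)).Opens} (h : V ≤ W) (h' : W ≤ X)
    (s : Sec M X) : res M h (res M h' s) = res M (h.trans h') s := by
  unfold res
  rw [← LinearMap.comp_apply, ← ModuleCat.hom_comp, ← CategoryTheory.Functor.map_comp]
  rfl

theorem res_self {W : (Spec (CommRingCat.of R)).Opens} (s : Sec M W) :
    res M (le_refl W) s = s := by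
  unfold res
  have : (homOfLE (le_refl W)).op = 𝟙 (op W) := rfl
  rw [this, CategoryTheory.Functor.map_id]
  rfl

theorem res_toO {V W : (Spec (CommRingCat.of R)).Opens} (h : V ≤ W) (m : M) :
    res M h (toO M W m) = toO M V m := by
  exact LinearMap.congr_fun (congrArg ModuleCat.Hom.hom
    (tilde.toOpen_res (R := CommRingCat.of R) (ModuleCat.of R M) W V (homOfLE h))) m

theorem isSMulRegular_sec {f : R} {V : (Spec (CommRingCat.of R)).Opens} (h : V ≤ D f) :
    IsSMulRegular (Sec M V) f :=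
  Scheme.Modules.isSMulRegular_of_le_basicOpen
    (M := tilde (R := CommRingCat.of R) (ModuleCat.of R M)) h

instance (f : R) : IsLocalizedModule (Submonoid.powers f) (toO M (D f)) :=
  AlgebraicGeometry.tilde.instAwayCarrierCarrierObjOppositeOpensCarrierCarrierCommRingCatSpecModuleCatPresheafModulesSheafModulesSpecToSheafOpBasicOpenHomToOpen
    (R := CommRingCat.of R) (ModuleCat.of R M) f

theorem exists_pow_smul_eq_toO (f : R) (s : Sec M (D f)) :
    ∃ (n : ℕ) (m : M), f ^ n • s = toO M (D f) m := by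
  obtain ⟨⟨m, ⟨_, n, rfl⟩⟩, h⟩ := IsLocalizedModule.surj (Submonoid.powers f) (toO M (D f)) s
  exact ⟨n, m, h⟩

theorem toO_eq_zero_iff (f : R) (m : M) :
    toO M (D f) m = 0 ↔ ∃ n : ℕ, f ^ n • m = 0 := by
  rw [IsLocalizedModule.eq_zero_iff (Submonoid.powers f)]
  constructor
  · rintro ⟨⟨_, n, rfl⟩, h⟩
    exact ⟨n, h⟩
  · rintro ⟨n, h⟩
    exact ⟨⟨_, n, rfl⟩, h⟩

/-- Locality of sections. -/
theorem sec_ext {ι : Type*} (W : (Spec (CommRingCat.of R)).Opens)
    (V : ι → (Spec (CommRingCat.of R)).Opens) (hV : ∀ i, V i ≤ W) (hcov : W ≤ iSup V)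
    (s t : Sec M W) (h : ∀ i, res M (hV i) s = res M (hV i) t) : s = t :=
  (Sh M).eq_of_locally_eq' V W (fun i => homOfLE (hV i)) hcov s t h

/-- Gluing of sections. -/
theorem sec_glue {ι : Type*} (W : (Spec (CommRingCat.of R)).Opens)
    (V : ι → (Spec (CommRingCat.of R)).Opens) (hV : ∀ i, V i ≤ W) (hcov : W ≤ iSup V)
    (sf : ∀ i, Sec M (V i))
    (hc : ∀ i j, res M (inf_le_left : V i ⊓ V j ≤ V i) (sf i) =
      res M (inf_le_right : V i ⊓ V j ≤ V j) (sf j)) :
    ∃ s : Sec M W, ∀ i, res M (hV i) s = sf i := by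
  obtain ⟨s, hs, -⟩ := (Sh M).existsUnique_gluing' V W (fun i => homOfLE (hV i)) hcov sf hc
  exact ⟨s, hs⟩

theorem mem_D {f : R} {x : (Spec (CommRingCat.of R))} : x ∈ D f ↔ f ∉ x.asIdeal := Iff.rfl

theorem mem_puncturedOpen {a : Ideal R} {x : (Spec (CommRingCat.of R))} :
    x ∈ LocCoh.puncturedOpen R a ↔ ∃ f ∈ a, x ∈ D f := by
  let y : PrimeSpectrum R := x
  change y ∈ (PrimeSpectrum.zeroLocus (a : Set R))ᶜ ↔ _
  rw [Set.mem_compl_iff, PrimeSpectrum.mem_zeroLocus, Set.not_subset]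
  rfl

theorem D_le_puncturedOpen {a : Ideal R} {f : R} (hf : f ∈ a) : D f ≤ LocCoh.puncturedOpen R a :=
  fun _ hx => mem_puncturedOpen.mpr ⟨f, hf, hx⟩

theorem pow_smul_eq_zero_imp {f : R} {V : (Spec (CommRingCat.of R)).Opens} (h : V ≤ D f)
    (n : ℕ) (t : Sec M V) (ht : f ^ n • t = 0) : t = 0 := by
  induction n with
  | zero => simpa using ht
  | succ n ih =>
    apply ih
    apply isSMulRegular_sec h
    show f • (f ^ n • t) = f • (0 : Sec M V)
    rw [smul_zero, ← ht, pow_succ', mul_smul]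

/-- (L2) A section over an open inside the punctured open killed by a power of `a` vanishes. -/
theorem eq_zero_of_pow_smul_eq_zero (a : Ideal R) {W : (Spec (CommRingCat.of R)).Opens}
    (hW : W ≤ LocCoh.puncturedOpen R a) (t : Sec M W) (n : ℕ)
    (ht : ∀ b ∈ a ^ n, b • t = 0) : t = 0 := by
  refine sec_ext W (fun f : a => W ⊓ D (f : R)) (fun _ => inf_le_left) ?_ t 0 ?_
  · intro x hx
    obtain ⟨f, hf, hxf⟩ := mem_puncturedOpen.mp (hW hx)
    exact (Opens.mem_iSup).mpr ⟨⟨f, hf⟩, hx, hxf⟩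
  · intro f
    rw [map_zero]
    apply pow_smul_eq_zero_imp (inf_le_right : W ⊓ D (f : R) ≤ D (f : R)) n
    rw [← map_smul, ht _ (Ideal.pow_mem_pow f.2 n), map_zero]

theorem D_mul_le_left (g f : R) : D (g * f) ≤ D g := by
  intro x hx
  rw [mem_D] at hx ⊢
  exact fun h => hx (Ideal.mul_mem_right _ _ h)

theorem D_mul_le_right (g f : R) : D (g * f) ≤ D f := by
  intro x hx
  rw [mem_D] at hx ⊢
  exact fun h => hx (Ideal.mul_mem_left _ _ h)

theorem D_mul_le_inf (g f : R) : D (g * f) ≤ D g ⊓ D f :=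
  le_inf (D_mul_le_left g f) (D_mul_le_right g f)

/-- (L3) for a basic open. -/
theorem exists_pow_smul_eq_zero_basic (g f : R) (t : Sec M (D g))
    (ht : res M (inf_le_left : D g ⊓ D f ≤ D g) t = 0) : ∃ n : ℕ, f ^ n • t = 0 := by
  obtain ⟨k, m, hm⟩ := exists_pow_smul_eq_toO g t
  have h1 : toO M (D (g * f)) m = 0 := by
    rw [← res_toO (D_mul_le_left g f), ← hm, map_smul,
      ← res_res (D_mul_le_inf g f) (inf_le_left : D g ⊓ D f ≤ D g), ht, map_zero, smul_zero]
  obtain ⟨n, hn⟩ := (toO_eq_zero_iff (g * f) m).mp h1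
  refine ⟨n, ?_⟩
  apply pow_smul_eq_zero_imp (le_refl (D g)) (n + k)
  have h2 : toO M (D g) ((g * f) ^ n • m) = 0 := by rw [hn, map_zero]
  rw [map_smul, ← hm, mul_pow] at h2
  rw [← h2, pow_add, mul_smul, mul_smul, smul_comm (f ^ n) (g ^ k)]

/-- (L3) A section over a quasi-compact open vanishing on `W ∩ D(f)` is killed by a power of
`f`. -/
theorem exists_pow_smul_eq_zero_of_res_eq_zero {W : (Spec (CommRingCat.of R)).Opens}
    (hW : IsCompact (W : Set (Spec (CommRingCat.of R)))) (f : R) (t : Sec M W)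
    (ht : res M (inf_le_left : W ⊓ D f ≤ W) t = 0) : ∃ n : ℕ, f ^ n • t = 0 := by
  classical
  let W' : TopologicalSpace.Opens (PrimeSpectrum R) := W
  obtain ⟨S, hSfin, hS⟩ := eq_finite_iUnion_of_isTopologicalBasis_of_isCompact_open
    (fun r : R => (PrimeSpectrum.basicOpen r : Set (PrimeSpectrum R)))
    PrimeSpectrum.isTopologicalBasis_basic_opens (W' : Set (PrimeSpectrum R)) hW W'.2
  have hle : ∀ g ∈ S, D g ≤ W := by
    intro g hg x hx
    have : x ∈ (W' : Set (PrimeSpectrum R)) := by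
      rw [hS]; exact Set.mem_biUnion hg hx
    exact this
  have key : ∀ g : S, ∃ n : ℕ, f ^ n • res M (hle g.1 g.2) t = 0 := by
    intro g
    apply exists_pow_smul_eq_zero_basic
    rw [res_res]
    have h3 : D g.1 ⊓ D f ≤ W ⊓ D f := inf_le_inf_right _ (hle g.1 g.2)
    rw [← res_res h3 (inf_le_left : W ⊓ D f ≤ W), ht, map_zero]
  choose n hn using key
  have : Fintype S := hSfin.fintype
  refine ⟨Finset.univ.sup n, ?_⟩
  refine sec_ext W (fun g : S => D g.1) (fun g => hle g.1 g.2) ?_ _ 0 ?_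
  · intro x hx
    have hx' : x ∈ (W' : Set (PrimeSpectrum R)) := hx
    rw [hS] at hx'
    obtain ⟨g, hg, hxg⟩ := Set.mem_iUnion₂.mp hx'
    exact Opens.mem_iSup.mpr ⟨⟨g, hg⟩, hxg⟩
  · intro g
    rw [map_zero, map_smul]
    have hle' : n g ≤ Finset.univ.sup n := Finset.le_sup (Finset.mem_univ g)
    obtain ⟨d, hd⟩ := Nat.exists_eq_add_of_le hle'
    rw [hd, pow_add, mul_comm, mul_smul, hn g, smul_zero]

/-- If every element of a finitely generated ideal `a` has a power sending `t` into the submodule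
`P`, then a power of `a` sends `t` into `P`. -/
theorem exists_pow_smul_mem_of_forall {N : Type*} [AddCommGroup N] [Module R N] (a : Ideal R)
    (ha : a.FG) (P : Submodule R N) (t : N) (h : ∀ f ∈ a, ∃ k : ℕ, f ^ k • t ∈ P) :
    ∃ n : ℕ, ∀ b ∈ a ^ n, b • t ∈ P := by
  let J : Ideal R := P.comap (LinearMap.toSpanSingleton R N t)
  have hJ : ∀ b : R, b ∈ J ↔ b • t ∈ P := fun b => by
    simp [J, Submodule.mem_comap, LinearMap.toSpanSingleton_apply]
  have hrad : a ≤ J.radical := by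
    intro f hf
    obtain ⟨k, hk⟩ := h f hf
    exact ⟨k, (hJ _).mpr hk⟩
  obtain ⟨n, hn⟩ := Ideal.exists_pow_le_of_le_radical_of_fg hrad ha
  exact ⟨n, fun b hb => (hJ b).mp (hn hb)⟩

theorem mem_iSup_torsionBy {N : Type*} [AddCommGroup N] [Module R N] (a : Ideal R) (x : N) :
    x ∈ ⨆ n : ℕ, LocCoh.torsionBy (a ^ n) N ↔ ∃ n : ℕ, ∀ b ∈ a ^ n, b • x = 0 := by
  have hdir : Directed (· ≤ ·) (fun n : ℕ => LocCoh.torsionBy (a ^ n) N) := by
    refine Monotone.directed_le ?_
    intro n m hnm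
    exact Submodule.torsionBySet_le_torsionBySet_of_subset
      (show ((a ^ m : Ideal R) : Set R) ⊆ (a ^ n : Ideal R) from Ideal.pow_le_pow_right hnm)
  rw [Submodule.mem_iSup_of_directed _ hdir]
  constructor
  · rintro ⟨n, hn⟩
    exact ⟨n, fun b hb => (Submodule.mem_torsionBySet_iff _ _).mp hn ⟨b, hb⟩⟩
  · rintro ⟨n, hn⟩
    exact ⟨n, (Submodule.mem_torsionBySet_iff _ _).mpr fun b => hn b.1 b.2⟩

section Noeth

variable [IsNoetherianRing R]

theorem isCompact_opens (W : (Spec (CommRingCat.of R)).Opens) :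
    IsCompact (W : Set (Spec (CommRingCat.of R))) :=
  haveI : TopologicalSpace.NoetherianSpace (PrimeSpectrum R) := inferInstance
  TopologicalSpace.NoetherianSpace.isCompact (α := PrimeSpectrum R) _

variable (a : Ideal R)

/-- Kernel of restriction to the punctured open: the `a`-power torsion sections. -/
theorem res_eq_zero_iff {W : (Spec (CommRingCat.of R)).Opens}
    (hUW : LocCoh.puncturedOpen R a ≤ W) (t : Sec M W) :
    res M hUW t = 0 ↔ ∃ n : ℕ, ∀ b ∈ a ^ n, b • t = 0 := by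
  constructor
  · intro h
    have := exists_pow_smul_mem_of_forall a (IsNoetherian.noetherian a) (⊥ : Submodule R (Sec M W)) t
      (fun f hf => by
        have hDf : D f ≤ LocCoh.puncturedOpen R a := D_le_puncturedOpen hf
        have hle : W ⊓ D f ≤ LocCoh.puncturedOpen R a := inf_le_right.trans hDf
        obtain ⟨k, hk⟩ := exists_pow_smul_eq_zero_of_res_eq_zero (isCompact_opens W) f t (by
          rw [← res_res hle hUW, h, map_zero])
        exact ⟨k, (Submodule.mem_bot R).mpr hk⟩)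
    obtain ⟨n, hn⟩ := this
    exact ⟨n, fun b hb => (Submodule.mem_bot R).mp (hn b hb)⟩
  · rintro ⟨n, hn⟩
    apply eq_zero_of_pow_smul_eq_zero a (le_refl _) _ n
    intro b hb
    rw [← map_smul, hn b hb, map_zero]

/-- Kernel of `M → Γ(U, M~)`: the `a`-power torsion elements. -/
theorem toO_eq_zero_iff_punctured (m : M) :
    toO M (LocCoh.puncturedOpen R a) m = 0 ↔ ∃ n : ℕ, ∀ b ∈ a ^ n, b • m = 0 := by
  constructor
  · intro h
    have := exists_pow_smul_mem_of_forall a (IsNoetherian.noetherian a) (⊥ : Submodule R M) m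
      (fun f hf => by
        have h1 : toO M (D f) m = 0 := by
          rw [← res_toO (D_le_puncturedOpen hf), h, map_zero]
        obtain ⟨k, hk⟩ := (toO_eq_zero_iff f m).mp h1
        exact ⟨k, (Submodule.mem_bot R).mpr hk⟩)
    obtain ⟨n, hn⟩ := this
    exact ⟨n, fun b hb => (Submodule.mem_bot R).mp (hn b hb)⟩
  · rintro ⟨n, hn⟩
    apply eq_zero_of_pow_smul_eq_zero a (le_refl _) _ n
    intro b hb
    rw [← map_smul, hn b hb, map_zero]

/-- Cokernel of `M → Γ(U, M~)` is `a`-power torsion. -/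
theorem exists_pow_smul_mem_range (t : Sec M (LocCoh.puncturedOpen R a)) :
    ∃ n : ℕ, ∀ b ∈ a ^ n, b • t ∈ LinearMap.range (toO M (LocCoh.puncturedOpen R a)) := by
  apply exists_pow_smul_mem_of_forall a (IsNoetherian.noetherian a)
  intro f hf
  have hDf : D f ≤ LocCoh.puncturedOpen R a := D_le_puncturedOpen hf
  obtain ⟨k, m, hm⟩ := exists_pow_smul_eq_toO f (res M hDf t)
  have h0 : res M (inf_le_left : LocCoh.puncturedOpen R a ⊓ D f ≤ LocCoh.puncturedOpen R a)
      (f ^ k • t - toO M (LocCoh.puncturedOpen R a) m) = 0 := by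
    have hle : LocCoh.puncturedOpen R a ⊓ D f ≤ D f := inf_le_right
    rw [← res_res hle hDf, map_sub, map_smul, hm, res_toO, sub_self, map_zero]
  obtain ⟨n, hn⟩ := exists_pow_smul_eq_zero_of_res_eq_zero (isCompact_opens _) f _ h0
  refine ⟨n + k, f ^ n • m, ?_⟩
  rw [smul_sub, sub_eq_zero] at hn
  rw [map_smul, ← hn, pow_add, mul_smul]

/-- The statement of S11677. -/
theorem sections_punctured (M : Type u) [AddCommGroup M] [Module R M] :
    LinearMap.ker (toO M (LocCoh.puncturedOpen R a)) = ⨆ n : ℕ, LocCoh.torsionBy (a ^ n) M ∧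
    (⨆ n : ℕ, LocCoh.torsionBy (a ^ n) (Sec M (LocCoh.puncturedOpen R a))) = ⊥ ∧
    LocCoh.IsPowerTorsion a (Sec M (LocCoh.puncturedOpen R a) ⧸
      LinearMap.range (toO M (LocCoh.puncturedOpen R a))) := by
  refine ⟨?_, ?_, ?_⟩
  · ext m
    rw [LinearMap.mem_ker, mem_iSup_torsionBy, toO_eq_zero_iff_punctured]
  · rw [eq_bot_iff]
    intro t ht
    rw [mem_iSup_torsionBy] at ht
    obtain ⟨n, hn⟩ := ht
    exact (Submodule.mem_bot R).mpr (eq_zero_of_pow_smul_eq_zero a (le_refl _) t n hn)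
  · intro q
    obtain ⟨t, rfl⟩ := Submodule.Quotient.mk_surjective _ q
    obtain ⟨n, hn⟩ := exists_pow_smul_mem_range a t
    refine ⟨n, fun b hb => ?_⟩
    rw [← Submodule.Quotient.mk_smul, Submodule.Quotient.mk_eq_zero]
    exact hn b hb

/-- The statement of S11678. -/
theorem restriction_punctured (M : Type u) [AddCommGroup M] [Module R M]
    (W : (Spec (CommRingCat.of R)).Opens) (hUW : LocCoh.puncturedOpen R a ≤ W) :
    LinearMap.ker (res M hUW) = ⨆ n : ℕ, LocCoh.torsionBy (a ^ n) (Sec M W) ∧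
    LocCoh.IsPowerTorsion a (Sec M (LocCoh.puncturedOpen R a) ⧸ LinearMap.range (res M hUW)) := by
  refine ⟨?_, ?_⟩
  · ext t
    rw [LinearMap.mem_ker, mem_iSup_torsionBy, res_eq_zero_iff]
  · intro q
    obtain ⟨t, rfl⟩ := Submodule.Quotient.mk_surjective _ q
    obtain ⟨n, hn⟩ := exists_pow_smul_mem_range a t
    refine ⟨n, fun b hb => ?_⟩
    rw [← Submodule.Quotient.mk_smul, Submodule.Quotient.mk_eq_zero]
    obtain ⟨m, hm⟩ := hn b hb
    exact ⟨toO M W m, by rw [res_toO, hm]⟩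

end Noeth

end Groth.Agent.H6.PuncturedSections
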