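import Groth.Prelude.Def_FlatCA
import Mathlib.RingTheory.Ideal.GoingUp
import Mathlib.RingTheory.IsTensorProduct
import Mathlib.RingTheory.IntegralClosure.IsIntegralClosure.Basic

/-!
# A module whose scheme-theoretic support is finite over the base is universally pure
-/

set_option autoImplicit false
universe u

open TensorProduct

namespace Groth.Agent.H6.PureFinite

section Fibre

variable {R S : Type u} [CommRing R] [CommRing S] [Algebra R S] (t' : Ideal R) [t'.IsPrime]

attribute [local instance] Algebra.TensorProduct.rightAlgebra in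
/-- an element killing `M` kills the fibre module -/
lemma one_tmul_mem_annihilator_fiberMod (M : Type u) [AddCommGroup M] [Module S M] [Module R M]
    [IsScalarTower R S M] {s : S} (hs : s ∈ Module.annihilator S M) :
    (1 : t'.ResidueField) ⊗ₜ[R] s ∈
      Module.annihilator (t'.Fiber S) (FlatCA.fiberMod t' S M) := by
  rw [Module.mem_annihilator]
  intro x
  change ((1 : t'.ResidueField) ⊗ₜ[R] s) • (show (t'.Fiber S) ⊗[S] M from x) = 0
  induction x using TensorProduct.induction_on with
  | zero => simp
  | tmul y m =>
    have h1 : ((1 : t'.ResidueField) ⊗ₜ[R] s) • y = s • y := by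
      rw [smul_eq_mul, Algebra.smul_def]; rfl
    rw [TensorProduct.smul_tmul', h1, TensorProduct.smul_tmul,
      (Module.mem_annihilator.mp hs) m, TensorProduct.tmul_zero]
  | add x y hx hy => rw [smul_add, hx, hy, add_zero]

/-- an element whose image in the fibre ring lies in the extension of a prime `P` over `t'`
lies in `P` -/
lemma mem_of_one_tmul_mem_fiberIdeal (P : Ideal S) [P.IsPrime] [P.LiesOver t'] {s : S}
    (h : (1 : t'.ResidueField) ⊗ₜ[R] s ∈ FlatCA.fiberIdeal t' P) : s ∈ P := by
  let e := PrimeSpectrum.primesOverOrderIsoFiber R S t'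
  let P' : t'.primesOver S := ⟨P, ‹_›, ‹_›⟩
  have hcomap : (e P').asIdeal.comap
      (Algebra.TensorProduct.includeRight (R := R) (A := t'.ResidueField) (B := S)) = P := by
    have := PrimeSpectrum.coe_primesOverOrderIsoFiber_symm_apply (R := R) (S := S) (p := t') (e P')
    rw [OrderIso.symm_apply_apply] at this
    exact this.symm
  have hle : FlatCA.fiberIdeal t' P ≤ (e P').asIdeal := by
    unfold FlatCA.fiberIdeal
    rw [Ideal.map_le_iff_le_comap]
    exact hcomap.ge
  have : s ∈ (e P').asIdeal.comap
      (Algebra.TensorProduct.includeRight (R := R) (A := t'.ResidueField) (B := S)) :=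
    hle h
  rwa [hcomap] at this

end Fibre

section Main

variable {A B : Type u} [CommRing A] [CommRing B] [Algebra A B] (N : Type u) [AddCommGroup N]
  [Module B N]
  (A' B' N' : Type u) [CommRing A'] [CommRing B'] [Algebra A A'] [Algebra B B']
  [Algebra A' B'] [Algebra A B'] [IsScalarTower A B B'] [IsScalarTower A A' B']
  [AddCommGroup N'] [Module B' N'] [Module B N'] [IsScalarTower B B' N']

omit [Algebra A B] [Algebra A B'] [IsScalarTower A B B'] [Algebra A A'] [IsScalarTower A A' B']
  [Algebra A' B'] [CommRing A'] [CommRing A] in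
variable {N B' N'} in
lemma algebraMap_mem_annihilator (f : N →ₗ[B] N') (hbc : IsBaseChange B' f) {b : B}
    (hb : b ∈ Module.annihilator B N) : algebraMap B B' b ∈ Module.annihilator B' N' := by
  rw [Module.mem_annihilator]
  intro x
  refine hbc.inductionOn x (fun x => algebraMap B B' b • x = 0) (smul_zero _) ?_ ?_ ?_
  · intro n
    rw [algebraMap_smul, ← map_smul, (Module.mem_annihilator.mp hb) n, map_zero]
  · intro s n hn
    rw [smul_comm, hn, smul_zero]
  · intro n₁ n₂ h₁ h₂
    rw [smul_add, h₁, h₂, add_zero]

variable {A' B'} in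
/-- the base change of the quotient by the annihilator is integral over the new base -/
lemma isIntegral_quotient_map_annihilator [Module.Finite A (B ⧸ Module.annihilator B N)]
    (hpo : Algebra.IsPushout A B A' B') :
    Algebra.IsIntegral A' (B' ⧸ (Module.annihilator B N).map (algebraMap B B')) := by
  have hint : Algebra.IsIntegral A (B ⧸ Module.annihilator B N) := Algebra.IsIntegral.of_finite _ _
  let J := (Module.annihilator B N).map (algebraMap B B')
  let g : (B ⧸ Module.annihilator B N) →ₐ[A] (B' ⧸ J) :=
    Ideal.quotientMapₐ J (IsScalarTower.toAlgHom A B B') Ideal.le_comap_map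
  have hg : ∀ b : B, IsIntegral A' (Ideal.Quotient.mk J (algebraMap B B' b)) := by
    intro b
    have h1 : IsIntegral A (Ideal.Quotient.mk (Module.annihilator B N) b) := hint.isIntegral _
    have h2 : IsIntegral A (g (Ideal.Quotient.mk (Module.annihilator B N) b)) := h1.map g
    exact h2.tower_top
  constructor
  intro x
  obtain ⟨y, rfl⟩ := Ideal.Quotient.mk_surjective x
  refine hpo.symm.out.inductionOn y (fun y => IsIntegral A' (Ideal.Quotient.mk J y)) ?_ ?_ ?_ ?_
  · rw [map_zero]; exact isIntegral_zero
  · intro b
    exact hg b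
  · intro a' y hy
    have : Ideal.Quotient.mk J (a' • y) = a' • Ideal.Quotient.mk J y := rfl
    rw [this]
    exact hy.smul a'
  · intro y₁ y₂ h₁ h₂
    rw [map_add]
    exact h₁.add h₂

variable [Module A' N'] [IsScalarTower A' B' N']

/-- no impurity when the scheme-theoretic support is finite over the base -/
theorem not_isImpurity [Module.Finite A (B ⧸ Module.annihilator B N)] (p : Ideal A) [p.IsPrime]
    (f : N →ₗ[B] N') (t' t : Ideal A') [t'.IsPrime] [t.IsPrime]
    (P : Ideal B') [P.IsPrime] : ¬ FlatCA.IsImpurity A B N p A' B' N' f t' t P := by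
  rintro ⟨hpo, hbc, hle, _, hP, hass, hno⟩
  let J := (Module.annihilator B N).map (algebraMap B B')
  have hJP : J ≤ P := by
    rw [Ideal.map_le_iff_le_comap]
    intro b hb
    rw [Ideal.mem_comap]
    have h1 := algebraMap_mem_annihilator f hbc hb
    have h2 := one_tmul_mem_annihilator_fiberMod t' N' h1
    have h3 : (1 : t'.ResidueField) ⊗ₜ[A'] (algebraMap B B' b) ∈ FlatCA.fiberIdeal t' P :=
      (IsAssociatedPrime.annihilator_le hass) (by
        rw [Submodule.mem_annihilator]
        intro n _
        exact (Module.mem_annihilator.mp h2) n)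
    exact mem_of_one_tmul_mem_fiberIdeal t' P h3
  have hint := isIntegral_quotient_map_annihilator N hpo
  let I : Ideal (B' ⧸ J) := P.map (Ideal.Quotient.mk J)
  have hIprime : I.IsPrime :=
    Ideal.map_isPrime_of_surjective Ideal.Quotient.mk_surjective (by rwa [Ideal.mk_ker])
  have hIcomap : I.comap (Ideal.Quotient.mk J) = P := by
    rw [Ideal.comap_map_of_surjective _ Ideal.Quotient.mk_surjective, ← RingHom.ker_eq_comap_bot,
      Ideal.mk_ker, sup_eq_left.mpr hJP]
  have hIt : I.comap (algebraMap A' (B' ⧸ J)) ≤ t := by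
    have : I.comap (algebraMap A' (B' ⧸ J)) = P.comap (algebraMap A' B') := by
      rw [← hIcomap, Ideal.comap_comap]; rfl
    rw [this, ← Ideal.under_def, ← hP.over]
    exact hle
  obtain ⟨Q, hQI, hQprime, hQt⟩ :=
    Ideal.exists_ideal_over_prime_of_isIntegral_of_isPrime t I hIt
  have hP'prime : (Q.comap (Ideal.Quotient.mk J)).IsPrime := Ideal.comap_isPrime _ _
  refine hno (Q.comap (Ideal.Quotient.mk J)) ?_ ⟨?_⟩
  · rw [← hIcomap]
    exact Ideal.comap_mono hQI
  · rw [Ideal.under_def, Ideal.comap_comap]
    exact hQt.symm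

end Main

end Groth.Agent.H6.PureFinite
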