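import Groth.Agent.H6.PurityFF

set_option autoImplicit false
set_option linter.style.haveILetI false
universe u

open AlgebraicGeometry CategoryTheory CategoryTheory.Limits Opposite TopologicalSpace

namespace Groth.Agent.H6.PurityFF

/-- For a finite étale `f : Y ⟶ Spec R`, the ring map `R ⟶ Γ(Y, ⊤)` is finite and étale. -/
theorem finite_etale_appTop {R : Type u} [CommRing R] {Y : Scheme.{u}}
    (f : Y ⟶ Spec (CommRingCat.of R)) [IsFinite f] [Etale f] :
    ((Scheme.ΓSpecIso (CommRingCat.of R)).inv ≫ f.appTop).hom.Finite ∧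
    ((Scheme.ΓSpecIso (CommRingCat.of R)).inv ≫ f.appTop).hom.Etale := by
  haveI : IsAffine Y := isAffine_of_isAffineHom f
  let φ : CommRingCat.of R ⟶ Γ(Y, ⊤) := (Scheme.ΓSpecIso (CommRingCat.of R)).inv ≫ f.appTop
  have hcomp : Y.isoSpec.hom ≫ Spec.map φ = f := by
    rw [Spec.map_comp, Scheme.isoSpec_hom, ← Scheme.toSpecΓ_naturality_assoc,
      toSpecΓ_SpecMap_ΓSpecIso_inv, Category.comp_id]
  have hprop : FEt.prop (Spec.map φ) := by
    have h1 : FEt.prop (Y.isoSpec.hom ≫ Spec.map φ) := by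
      rw [hcomp]; exact ⟨inferInstance, inferInstance⟩
    exact (MorphismProperty.cancel_left_of_respectsIso FEt.prop Y.isoSpec.hom
      (Spec.map φ)).mp h1
  refine ⟨?_, ?_⟩
  · have := hprop.1
    rw [IsFinite.SpecMap_iff] at this
    exact this
  · have := hprop.2
    rw [HasRingHomProperty.Spec_iff (P := @Etale)] at this
    exact this

set_option backward.isDefEq.respectTransparency.types false in
/-- S0263. -/
theorem gamma_finite_etale (A : Type u) [CommRing A] [IsNoetherianRing A] [IsLocalRing A]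
    (hA : (2 : ℕ∞) ≤ LocCoh.depth A A)
    (V : FEt.Cat (FEt.puncturedSpec A : Scheme.{u}))
    (hV : ∃ Y : FEt.Cat (Spec (CommRingCat.of A)),
      Nonempty ((FEt.restrict (FEt.puncturedSpec A).ι).obj Y ≅ V)) :
    ((Scheme.ΓSpecIso (CommRingCat.of A)).inv ≫
      (V.hom ≫ (FEt.puncturedSpec A).ι).appTop).hom.Finite ∧
    ((Scheme.ΓSpecIso (CommRingCat.of A)).inv ≫
      (V.hom ≫ (FEt.puncturedSpec A).ι).appTop).hom.Etale := by
  obtain ⟨Y, ⟨e⟩⟩ := hV
  let U := FEt.puncturedSpec A
  let f : Y.left ⟶ Spec (CommRingCat.of A) := Y.hom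
  haveI : IsFinite f := Y.prop.1
  haveI : Etale f := Y.prop.2
  have hU : HPair U.ι := by
    apply hpair_ι
    intro x hx
    have hx' : x = IsLocalRing.closedPoint A := by
      by_contra hne
      exact hx hne
    subst hx'
    rw [depth_stalk_closedPoint]
    exact hA
  have hP : HPair (pullback.fst f U.ι) := hpair_fst U.ι hU f
  haveI := hP.isIso_appTop
  let k : V.left ⟶ pullback f U.ι := e.inv.left
  have hk : k ≫ pullback.snd f U.ι = V.hom := MorphismProperty.Over.w e.inv
  haveI : IsIso k := by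
    refine ⟨e.hom.left, ?_, ?_⟩
    · have := congrArg (fun φ => φ.left) e.inv_hom_id
      exact this
    · have := congrArg (fun φ => φ.left) e.hom_inv_id
      exact this
  haveI : IsIso k.appTop := isIso_appTop_of_isIso k
  have hcomp : V.hom ≫ U.ι = k ≫ pullback.fst f U.ι ≫ f := by
    rw [pullback.condition, reassoc_of% hk]
  obtain ⟨h1, h2⟩ := finite_etale_appTop f
  have key : (Scheme.ΓSpecIso (CommRingCat.of A)).inv ≫ (V.hom ≫ U.ι).appTop =
      ((Scheme.ΓSpecIso (CommRingCat.of A)).inv ≫ f.appTop) ≫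
        ((pullback.fst f U.ι).appTop ≫ k.appTop) := by
    rw [hcomp, Scheme.Hom.comp_appTop, Scheme.Hom.comp_appTop]
    simp only [Category.assoc]
  change ((Scheme.ΓSpecIso (CommRingCat.of A)).inv ≫ (V.hom ≫ U.ι).appTop).hom.Finite ∧
    ((Scheme.ΓSpecIso (CommRingCat.of A)).inv ≫ (V.hom ≫ U.ι).appTop).hom.Etale
  rw [key]
  exact ⟨(RingHom.finite_respectsIso.cancel_right_isIso _ _).mpr h1,
    (RingHom.Etale.respectsIso.cancel_right_isIso _ _).mpr h2⟩

end Groth.Agent.H6.PurityFF
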