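import Mathlib
import Groth.Agent.H6.QuasiAffineHom

/-!
# Quasi-affine morphisms: composition, cancellation, quasi-compact embeddings
-/

set_option autoImplicit false
set_option linter.unusedSectionVars false

namespace Groth.Agent.H6.QuasiAffineHom

open AlgebraicGeometry CategoryTheory Limits TopologicalSpace MorphismProperty

universe u

/-- A quasi-compact scheme which embeds topologically into an affine scheme is quasi-affine. -/
theorem isQuasiAffine_of_isEmbedding {X Y : Scheme.{u}} [IsAffine Y] [CompactSpace X] (f : X ⟶ Y)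
    (hf : Topology.IsEmbedding f.base) : X.IsQuasiAffine := by
  refine Scheme.IsQuasiAffine.of_forall_exists_mem_basicOpen X fun x ↦ ?_
  -- an affine open neighbourhood `W` of `x`
  obtain ⟨_, ⟨W, hW : IsAffineOpen W, rfl⟩, hxW, -⟩ :=
    (X.isBasis_affineOpens).exists_subset_of_mem_open (Set.mem_univ x) isOpen_univ
  -- `W = f⁻¹ W'`
  obtain ⟨W', hW'o, hW'⟩ := hf.isInducing.isOpen_iff.mp W.2
  have hfx : f x ∈ W' := by
    have : x ∈ f.base ⁻¹' W' := by rw [hW']; exact hxW
    exact this
  obtain ⟨_, ⟨_, ⟨s, rfl⟩, rfl⟩, hxs, hsW'⟩ :=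
    (AlgebraicGeometry.isBasis_basicOpen Y).exists_subset_of_mem_open hfx hW'o
  refine ⟨f.appTop s, ?_, ?_⟩
  · have e : X.basicOpen (f.appTop s) = f ⁻¹ᵁ Y.basicOpen s := by
      rw [Scheme.preimage_basicOpen_top]
    have hle : X.basicOpen (f.appTop s) ≤ W := by
      rw [e]
      intro y hy
      have : y ∈ f.base ⁻¹' W' := hsW' hy
      rw [hW'] at this
      exact this
    have e2 : X.basicOpen (f.appTop s) = X.basicOpen (X.presheaf.map (homOfLE le_top).op (f.appTop s) : Γ(X, W)) := by
      rw [Scheme.basicOpen_res]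
      exact (inf_eq_right.mpr hle).symm
    rw [e2]
    exact hW.basicOpen _
  · rw [← Scheme.preimage_basicOpen_top]
    exact hxs

/-- A quasi-compact morphism which is a topological embedding is quasi-affine. -/
theorem P_of_isEmbedding {X Y : Scheme.{u}} (f : X ⟶ Y) [QuasiCompact f]
    (hf : Topology.IsEmbedding f.base) : P f := by
  rintro ⟨V, hV⟩
  change (f ⁻¹ᵁ V).toScheme.IsQuasiAffine
  have : IsAffine V.toScheme := hV
  have : CompactSpace (f ⁻¹ᵁ V).toScheme :=
    isCompact_iff_compactSpace.mp (QuasiCompact.isCompact_preimage (f := f) _ V.2 hV.isCompact)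
  refine isQuasiAffine_of_isEmbedding (f ∣_ V) ?_
  -- the restriction of an embedding is an embedding
  have h1 : Topology.IsEmbedding ((f ∣_ V) ≫ V.ι).base := by
    rw [morphismRestrict_ι, Scheme.Hom.comp_base, TopCat.coe_comp]
    exact hf.comp (f ⁻¹ᵁ V).ι.isEmbedding
  rw [Scheme.Hom.comp_base, TopCat.coe_comp] at h1
  exact Topology.IsEmbedding.of_comp (f ∣_ V).continuous V.ι.continuous h1

/-- If `Y` is quasi-affine and `f : X ⟶ Y` is quasi-affine, then `X` is quasi-affine. -/
theorem isQuasiAffine_of_P {X Y : Scheme.{u}} [Y.IsQuasiAffine] (f : X ⟶ Y) (hf : P f) :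
    X.IsQuasiAffine := by
  have hqc : QuasiCompact f := ((P_iff f).mp hf).1
  have : CompactSpace X := QuasiCompact.compactSpace_of_compactSpace f
  refine Groth.Agent.H7.isQuasiAffine_of_forall_exists_preimage_basicOpen f ⊤ (fun _ ↦ trivial)
    fun x ↦ ?_
  obtain ⟨_, ⟨_, ⟨r, hr, rfl⟩, rfl⟩, hxr, -⟩ := (Scheme.IsQuasiAffine.isBasis_basicOpen
    Y).exists_subset_of_mem_open (Set.mem_univ (f x)) isOpen_univ
  exact ⟨r, hxr, hf ⟨_, hr⟩⟩

instance P_isStableUnderComposition : P.IsStableUnderComposition where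
  comp_mem {X Y Z} f g hf hg := by
    rintro ⟨U, hU⟩
    have h1 : (g ⁻¹ᵁ U).toScheme.IsQuasiAffine := hg ⟨U, hU⟩
    have hf' : P (f ∣_ (g ⁻¹ᵁ U)) := IsZariskiLocalAtTarget.restrict hf _
    exact isQuasiAffine_of_P (f ∣_ (g ⁻¹ᵁ U)) hf'

instance P_containsIdentities : P.ContainsIdentities where
  id_mem X := by
    rintro ⟨U, hU⟩
    have : IsAffine U.toScheme := hU
    change (U.toScheme).IsQuasiAffine
    infer_instance

instance P_isMultiplicative : P.IsMultiplicative where

/-- Quasi-separated morphisms have quasi-affine diagonal. -/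
theorem quasiSeparated_le_diagonal : (@QuasiSeparated : MorphismProperty Scheme.{u}) ≤ P.diagonal := by
  intro X Y g hg
  have : QuasiCompact (pullback.diagonal g) := hg.1
  exact P_of_isEmbedding (pullback.diagonal g) (pullback.diagonal g).isEmbedding

instance P_hasOfPostcompProperty : P.HasOfPostcompProperty @QuasiSeparated :=
  (MorphismProperty.hasOfPostcompProperty_iff_le_diagonal).mpr quasiSeparated_le_diagonal

end Groth.Agent.H6.QuasiAffineHom
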