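import Mathlib

/-!
# Quasi-compactness of the Riemann–Zariski space (finite-subcover form)

`exists_finset_of_forall_valuationSubring`: if every valuation subring of `K` containing a subring
`A₀` contains one of the finite sets `F i`, then finitely many of the `F i` already have this
property.  Proof: Tychonoff on `K → Bool`.
-/

set_option autoImplicit false

namespace Groth.Agent.H6.RZCompact

variable {K : Type*}

lemma isClosed_cond3 (x y z : K) (p : Bool → Bool → Bool → Prop) :
    IsClosed {χ : K → Bool | p (χ x) (χ y) (χ z)} := by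
  have hc : Continuous fun χ : K → Bool => (χ x, χ y, χ z) :=
    (continuous_apply x).prodMk ((continuous_apply y).prodMk (continuous_apply z))
  exact (isClosed_discrete {q : Bool × Bool × Bool | p q.1 q.2.1 q.2.2}).preimage hc

lemma isClosed_cond1 (x : K) (b : Bool) : IsClosed {χ : K → Bool | χ x = b} :=
  isClosed_cond3 x x x (fun a _ _ => a = b)

lemma isOpen_cond1 (x : K) (b : Bool) : IsOpen {χ : K → Bool | χ x = b} := by
  have : {χ : K → Bool | χ x = b} = (fun χ : K → Bool => χ x) ⁻¹' {a : Bool | a = b} := rfl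
  rw [this]
  exact (isOpen_discrete {a : Bool | a = b}).preimage (continuous_apply x)

variable [Field K]

/-- The set of indicator functions of valuation subrings containing `A₀`. -/
def valSet (A₀ : Subring K) : Set (K → Bool) :=
  {χ | χ 0 = true ∧ χ 1 = true ∧ (∀ x y, χ x = true → χ y = true → χ (x + y) = true) ∧
    (∀ x y, χ x = true → χ y = true → χ (x * y) = true) ∧ (∀ x, χ x = true → χ (-x) = true) ∧
    (∀ x, χ x = true ∨ χ x⁻¹ = true) ∧ ∀ a ∈ A₀, χ a = true}

lemma isClosed_valSet (A₀ : Subring K) : IsClosed (valSet A₀) := by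
  have : valSet A₀ = {χ | χ 0 = true} ∩ {χ | χ 1 = true} ∩
      (⋂ x, ⋂ y, {χ : K → Bool | χ x = true → χ y = true → χ (x + y) = true}) ∩
      (⋂ x, ⋂ y, {χ : K → Bool | χ x = true → χ y = true → χ (x * y) = true}) ∩
      (⋂ x, {χ : K → Bool | χ x = true → χ (-x) = true}) ∩
      (⋂ x, {χ : K → Bool | χ x = true ∨ χ x⁻¹ = true}) ∩
      (⋂ a ∈ A₀, {χ : K → Bool | χ a = true}) := by
    ext χ
    simp only [valSet, Set.mem_ofPred_eq, Set.mem_inter_iff, Set.mem_iInter]
    tauto
  rw [this]
  refine ((((((isClosed_cond1 0 true).inter (isClosed_cond1 1 true)).inter ?_).inter ?_).inter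
    ?_).inter ?_).inter ?_
  · exact isClosed_iInter fun x => isClosed_iInter fun y =>
      isClosed_cond3 x y (x + y) (fun a b c => a = true → b = true → c = true)
  · exact isClosed_iInter fun x => isClosed_iInter fun y =>
      isClosed_cond3 x y (x * y) (fun a b c => a = true → b = true → c = true)
  · exact isClosed_iInter fun x => isClosed_cond3 x (-x) x (fun a b _ => a = true → b = true)
  · exact isClosed_iInter fun x => isClosed_cond3 x x⁻¹ x (fun a b _ => a = true ∨ b = true)
  · exact isClosed_iInter fun a => isClosed_iInter fun _ => isClosed_cond1 a true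

/-- The valuation subring attached to a point of `valSet A₀`. -/
def toVal {A₀ : Subring K} (χ : K → Bool) (h : χ ∈ valSet A₀) : ValuationSubring K where
  carrier := {x | χ x = true}
  mul_mem' {x y} hx hy := h.2.2.2.1 x y hx hy
  one_mem' := h.2.1
  add_mem' {x y} hx hy := h.2.2.1 x y hx hy
  zero_mem' := h.1
  neg_mem' {x} hx := h.2.2.2.2.1 x hx
  mem_or_inv_mem' x := h.2.2.2.2.2.1 x

lemma mem_toVal {A₀ : Subring K} (χ : K → Bool) (h : χ ∈ valSet A₀) (x : K) :
    x ∈ toVal χ h ↔ χ x = true := Iff.rfl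

open Classical in
lemma ofVal_mem {A₀ : Subring K} (R : ValuationSubring K) (hR : A₀ ≤ R.toSubring) :
    (fun x => decide (x ∈ R)) ∈ valSet A₀ := by
  refine ⟨?_, ?_, ?_, ?_, ?_, ?_, ?_⟩
  · simp [R.zero_mem]
  · simp [R.one_mem]
  · intro x y hx hy
    simp only [decide_eq_true_eq] at hx hy ⊢
    exact R.add_mem _ _ hx hy
  · intro x y hx hy
    simp only [decide_eq_true_eq] at hx hy ⊢
    exact R.mul_mem _ _ hx hy
  · intro x hx
    simp only [decide_eq_true_eq] at hx ⊢
    exact R.neg_mem _ hx
  · intro x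
    simp only [decide_eq_true_eq]
    exact R.mem_or_inv_mem x
  · intro a ha
    simp only [decide_eq_true_eq]
    exact hR ha

/-- Quasi-compactness of the Riemann–Zariski space, in finite-subcover form. -/
theorem exists_finset_of_forall_valuationSubring (A₀ : Subring K) {ι : Type*} (F : ι → Finset K)
    (h : ∀ R : ValuationSubring K, A₀ ≤ R.toSubring → ∃ i, ∀ x ∈ F i, x ∈ R) :
    ∃ t : Finset ι, ∀ R : ValuationSubring K, A₀ ≤ R.toSubring → ∃ i ∈ t, ∀ x ∈ F i, x ∈ R := by
  classical
  have hcomp : IsCompact (valSet A₀) := (isClosed_valSet A₀).isCompact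
  let O : ι → Set (K → Bool) := fun i => ⋂ x ∈ F i, {χ : K → Bool | χ x = true}
  have hO : ∀ i, IsOpen (O i) := fun i =>
    isOpen_biInter_finset fun x _ => isOpen_cond1 x true
  have hcover : valSet A₀ ⊆ ⋃ i, O i := by
    intro χ hχ
    obtain ⟨i, hi⟩ := h (toVal χ hχ) (fun a ha => hχ.2.2.2.2.2.2 a ha)
    refine Set.mem_iUnion.mpr ⟨i, ?_⟩
    simp only [O, Set.mem_iInter]
    exact fun x hx => hi x hx
  obtain ⟨t, ht⟩ := hcomp.elim_finite_subcover O hO hcover
  refine ⟨t, fun R hR => ?_⟩
  obtain ⟨i, hi, hχ⟩ := Set.mem_iUnion₂.mp (ht (ofVal_mem R hR))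
  refine ⟨i, hi, fun x hx => ?_⟩
  simp only [O, Set.mem_iInter] at hχ
  simpa using hχ x hx

end Groth.Agent.H6.RZCompact
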