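import Groth.Agent.H6.AssIsoRel
import Groth.Agent.H6.RestrictStalk2
import Groth.Agent.H6.NormalDepth
import Groth.Agent.H6.HomShRefl2
import Groth.Agent.H8.MeroGen
import Groth.Agent.H8.CodimTwoDecomp
import Groth.Agent.H18.SectionHom
import Groth.Agent.H79.StructStalk

/-!
# The degeneracy locus of a section of a rank one reflexive module has pure codimension one
(helper6)
-/

set_option autoImplicit false
set_option linter.style.haveILetI false
universe u

namespace Groth.Agent.H6.RefOneCodim

open AlgebraicGeometry CategoryTheory Opposite TopologicalSpace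

variable {X : Scheme.{u}}

/-- On an integral scheme a section of a quasi-coherent module with torsion-free stalks which
vanishes at the generic point vanishes. -/
theorem eq_zero_of_germ_genericPoint_eq_zero [IsIntegral X] (F : X.Modules) [F.IsQuasicoherent]
    (htf : ∀ x : X, Module.IsTorsionFree (X.presheaf.stalk x) (F.presheaf.stalk x))
    {U : X.Opens} (hη : genericPoint X ∈ U) (s : Γ(F, U))
    (hs : F.presheaf.germ U (genericPoint X) hη s = 0) : s = 0 := by
  apply HomSh.section_ext F
  intro y
  rw [map_zero]
  obtain ⟨W, hW, hyW, hWU0⟩ := exists_isAffineOpen_mem_and_subset (x := y.1) (U := U) y.2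
  have hWU : W ≤ U := hWU0
  have hηW : genericPoint X ∈ W := (genericPoint_specializes y.1).mem_open W.2 hyW
  set s' : Γ(F, W) := F.presheaf.map (homOfLE hWU).op s with hs'
  have h1 : F.presheaf.germ W (genericPoint X) hηW s' = 0 := by
    rw [hs', TopCat.Presheaf.germ_res_apply F.presheaf (homOfLE hWU) _ hηW s]
    exact hs
  letI := Groth.Agent.H8.stalkModule F hηW
  haveI := Groth.Agent.H8.isLocalizedModule_germₗ F hW hηW
  have h2 : Groth.Agent.H8.germₗ F hηW s' = 0 := h1
  obtain ⟨t, ht⟩ := (IsLocalizedModule.eq_zero_iff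
    (hW.primeIdealOf ⟨genericPoint X, hηW⟩).asIdeal.primeCompl (Groth.Agent.H8.germₗ F hηW)).mp h2
  have ht' : (t : Γ(X, W)) • s' = 0 := ht
  have ht0 : (t : Γ(X, W)) ≠ 0 := by
    intro h0
    exact t.2 (by rw [h0]; exact Ideal.zero_mem _)
  have h3 : X.presheaf.germ W y.1 hyW (t : Γ(X, W)) • F.presheaf.germ W y.1 hyW s' = 0 := by
    rw [← Mero.germ_smul, ht', map_zero]
  haveI := htf y.1
  haveI : IsDomain (X.presheaf.stalk y.1) := inferInstance
  have h4 : X.presheaf.germ W y.1 hyW (t : Γ(X, W)) ≠ 0 := by
    intro h0
    apply ht0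
    apply germ_injective_of_isIntegral X y.1 hyW
    rw [h0, map_zero]
  have h5 : F.presheaf.germ W y.1 hyW s' = 0 := by
    rcases smul_eq_zero.mp h3 with h | h
    · exact absurd h h4
    · exact h
  rw [hs', TopCat.Presheaf.germ_res_apply F.presheaf (homOfLE hWU) _ hyW s] at h5
  exact h5

/-- a module whose restriction to an open `U` is invertible has stalks free of rank one at the
points of `U` -/
theorem exists_gen_stalk_of_isInvertible_restrict' (F : X.Modules) (U : X.Opens)
    (hinv : PicF.IsInvertible (F.restrict U.ι)) (y : ↥(U : Scheme.{u})) :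
    ∃ v : F.presheaf.stalk (U.ι y),
      Function.Bijective (fun a : X.presheaf.stalk (U.ι y) => a • v) := by
  obtain ⟨U', hxU', σ, hσ⟩ := Groth.Agent.H8.exists_isFreeGen_of_isInvertible hinv y
  have hb := hσ.germ_bijective hxU'
  let e := RestrictStalk.stalkAddEquiv U.ι F y
  let ρ := RestrictStalk.stalkRingEquiv U.ι y
  refine ⟨e ((F.restrict U.ι).presheaf.germ U' y hxU' σ), ?_⟩
  have h1 : (fun a : X.presheaf.stalk (U.ι y) =>
      a • e ((F.restrict U.ι).presheaf.germ U' y hxU' σ)) =
      e ∘ (fun r : (U : Scheme.{u}).presheaf.stalk y =>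
        r • (F.restrict U.ι).presheaf.germ U' y hxU' σ) ∘ ρ.symm := by
    funext a
    simp only [Function.comp_apply]
    rw [RestrictStalk.stalkAddEquiv_smul, RingEquiv.apply_symm_apply]
  rw [h1]
  exact e.bijective.comp (hb.comp ρ.symm.bijective)

theorem exists_gen_stalk_of_isInvertible_restrict (F : X.Modules) (U : X.Opens)
    (hinv : PicF.IsInvertible (F.restrict U.ι)) (x : X) (hx : x ∈ U) :
    ∃ v : F.presheaf.stalk x, Function.Bijective (fun a : X.presheaf.stalk x => a • v) :=
  exists_gen_stalk_of_isInvertible_restrict' F U hinv ⟨x, hx⟩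

/-- the stalk map of the morphism `O_X ⟶ F` attached to a global section `s` is multiplication
by the germ of `s` -/
theorem stalkMapₗ_sectionHom (F : X.Modules) (s : Γ(F, (⊤ : X.Opens))) (x : X)
    (a : X.presheaf.stalk x) :
    RefHull.stalkMapₗ (Groth.Agent.H18.sectionHom F s) x
      (Groth.Agent.H79.StructStalk.structStalkEquiv X x a) =
      a • F.presheaf.germ ⊤ x trivial s := by
  have h1 : Groth.Agent.H79.StructStalk.structStalkEquiv X x a =
      a • (Coh.structureModule X).presheaf.germ ⊤ x trivial
        (Groth.Agent.H79.StructStalk.oneSec X ⊤) := rfl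
  rw [h1, map_smul, RefHull.stalkMapₗ_germ]
  congr 2
  have h2 := Groth.Agent.H18.sectionHom_app_one F s ⊤
  have h3 : Groth.Agent.H18.mres F (le_top : (⊤ : X.Opens) ≤ ⊤) s = s := by
    change F.presheaf.map (𝟙 _) s = s
    rw [F.presheaf.map_id]
    rfl
  rw [h3] at h2
  exact h2

theorem bijective_stalkMapₗ_sectionHom_iff (F : X.Modules) (s : Γ(F, (⊤ : X.Opens))) (x : X) :
    Function.Bijective (RefHull.stalkMapₗ (Groth.Agent.H18.sectionHom F s) x) ↔
      Function.Bijective (fun a : X.presheaf.stalk x => a • F.presheaf.germ ⊤ x trivial s) := by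
  have h1 : (fun a : X.presheaf.stalk x => a • F.presheaf.germ ⊤ x trivial s) =
      RefHull.stalkMapₗ (Groth.Agent.H18.sectionHom F s) x ∘
        Groth.Agent.H79.StructStalk.structStalkEquiv X x := by
    funext a
    exact (stalkMapₗ_sectionHom F s x a).symm
  rw [h1]
  constructor
  · intro h
    exact h.comp (Groth.Agent.H79.StructStalk.structStalkEquiv X x).bijective
  · intro h
    have h2 : ⇑(RefHull.stalkMapₗ (Groth.Agent.H18.sectionHom F s) x) =
        (RefHull.stalkMapₗ (Groth.Agent.H18.sectionHom F s) x ∘
          Groth.Agent.H79.StructStalk.structStalkEquiv X x) ∘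
          (Groth.Agent.H79.StructStalk.structStalkEquiv X x).symm := by
      funext m
      simp only [Function.comp_apply, LinearEquiv.apply_symm_apply]
    rw [h2]
    exact h.comp (Groth.Agent.H79.StructStalk.structStalkEquiv X x).symm.bijective

/-- a point of an integral scheme whose local ring has dimension zero is the generic point -/
theorem eq_genericPoint_of_ringKrullDim_eq_zero [IsIntegral X] (z : X)
    (h0 : ringKrullDim (X.presheaf.stalk z) = 0) : z = genericPoint X := by
  by_contra hne
  obtain ⟨_, ⟨W, hW, rfl⟩, hzW, -⟩ :=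
    X.isBasis_affineOpens.exists_subset_of_mem_open (Set.mem_univ z) isOpen_univ
  have hsp : genericPoint X ⤳ z := genericPoint_specializes z
  have hηW : genericPoint X ∈ W := hsp.mem_open W.2 hzW
  have h2 := Groth.Agent.H8.primeIdealOf_lt_of_specializes_ne hW (genericPoint X) z hηW hzW hsp
    (fun h => hne h.symm)
  have h3 := Ideal.height_add_one_le_of_lt_of_isPrime
    (I := (hW.primeIdealOf ⟨genericPoint X, hηW⟩).asIdeal)
    (J := (hW.primeIdealOf ⟨z, hzW⟩).asIdeal) h2
  rw [Groth.Agent.H8.ringKrullDim_stalk_eq_height hW z hzW] at h0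
  have h4 : (hW.primeIdealOf ⟨z, hzW⟩).asIdeal.height = 0 := by exact_mod_cast h0
  rw [h4] at h3
  simp at h3

/-- S16084: every irreducible component of the degeneracy locus of a nonzero section of a rank
one reflexive module on a normal integral locally Noetherian scheme has codimension one. -/
theorem ringKrullDim_eq_one (X : Scheme.{u}) [IsIntegral X] [IsLocallyNoetherian X]
    (hX : Pi1.IsNormalScheme X) (F : X.Modules) (hF : RefHull.IsRef1 F)
    (s : Γ(F, (⊤ : X.Opens))) (hs : s ≠ 0) (z : X)
    (hz : ¬ Function.Bijective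
      fun a : X.presheaf.stalk z => a • F.presheaf.germ ⊤ z trivial s)
    (hmax : ∀ y : X, ¬ Function.Bijective
      (fun a : X.presheaf.stalk y => a • F.presheaf.germ ⊤ y trivial s) → y ⤳ z → y = z) :
    ringKrullDim (X.presheaf.stalk z) = 1 := by
  obtain ⟨hcoh, hrefl, hgen⟩ := hF
  haveI : F.IsQuasicoherent := hcoh.1
  have hreflAt : ∀ x : X, Module.IsReflexive (X.presheaf.stalk x) (F.presheaf.stalk x) :=
    (HomSh.isReflexive_iff_forall_isReflexiveAt F hcoh).mp hrefl
  have htf : ∀ x : X, Module.IsTorsionFree (X.presheaf.stalk x) (F.presheaf.stalk x) := by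
    intro x
    haveI := hreflAt x
    infer_instance
  -- the generic point is not `z`-like of dimension two
  have hA : ¬ (2 : WithBot ℕ∞) ≤ ringKrullDim (X.presheaf.stalk z) := by
    intro h2
    apply hz
    rw [← bijective_stalkMapₗ_sectionHom_iff]
    have hO : Coh.IsCoh (Coh.structureModule X) := HomSh.isCoh_structureModule X
    haveI : (Coh.structureModule X).IsQuasicoherent := hO.1
    haveI : SheafOfModules.IsFiniteType (R := X.ringCatSheaf) (Coh.structureModule X) := hO.2
    apply AssIso.bijective_stalkMapₗ_of_ptHyp_generizations (Groth.Agent.H18.sectionHom F s) z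
    intro y hy
    by_cases hyz : y = z
    · subst hyz
      right
      haveI : IsDomain (X.presheaf.stalk y) := (hX y).1
      haveI : IsIntegrallyClosed (X.presheaf.stalk y) := (hX y).2
      refine ⟨?_, ?_⟩
      · have h3 := NormalDepth.two_le_depth_of_normal (X.presheaf.stalk y) h2
        unfold LocCoh.depth at h3 ⊢
        rw [← Groth.Agent.H34.idealDepth_congr
          (Groth.Agent.H79.StructStalk.structStalkEquiv X y)]
        exact h3
      · apply AssIso.not_isAssPoint_of_ne_genericPoint X F
        · intro x
          haveI := htf x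
          exact ⟨fun {c m} h => smul_eq_zero.mp h⟩
        · intro hη
          have h0 : ringKrullDim (X.presheaf.stalk y) = 0 := by
            rw [hη]
            exact ringKrullDim_eq_zero_of_field X.functionField
          rw [h0] at h2
          exact absurd h2 (by norm_num)
    · left
      exact (bijective_stalkMapₗ_sectionHom_iff F s y).mpr
        (by
          by_contra hnb
          exact hyz (hmax y hnb hy))
  have hB : ringKrullDim (X.presheaf.stalk z) ≠ 0 := by
    intro h0
    have hzη := eq_genericPoint_of_ringKrullDim_eq_zero z h0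
    subst hzη
    apply hz
    obtain ⟨U, hUd, hUinv⟩ := hgen
    have hηU : genericPoint X ∈ U := by
      obtain ⟨x, hx⟩ := hUd.nonempty
      exact ((genericPoint_spec X).mem_open_set_iff U.2).mpr ⟨x, Set.mem_univ x, hx⟩
    obtain ⟨v0, hv0⟩ := exists_gen_stalk_of_isInvertible_restrict F U hUinv _ hηU
    have hv : F.presheaf.germ ⊤ (genericPoint X) trivial s ≠ 0 := fun h =>
      hs (eq_zero_of_germ_genericPoint_eq_zero F htf (U := ⊤) trivial s h)
    obtain ⟨c, hc⟩ := hv0.2 (F.presheaf.germ ⊤ (genericPoint X) trivial s)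
    have hc' : c • v0 = F.presheaf.germ ⊤ (genericPoint X) trivial s := hc
    have hc0 : c ≠ 0 := by
      intro h
      rw [h, zero_smul] at hc'
      exact hv hc'.symm
    haveI : Ring.KrullDimLE 0 (X.presheaf.stalk (genericPoint X)) := by
      rw [Ring.krullDimLE_iff, h0]
      rfl
    have hfld : IsField (X.presheaf.stalk (genericPoint X)) :=
      Ring.KrullDimLE.isField_of_isDomain
    obtain ⟨d, hd⟩ := hfld.mul_inv_cancel hc0
    have h1 : (fun a : X.presheaf.stalk (genericPoint X) =>
        a • F.presheaf.germ ⊤ (genericPoint X) trivial s) =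
        (fun a : X.presheaf.stalk (genericPoint X) => a • v0) ∘ (fun a => a * c) := by
      funext a
      simp only [Function.comp_apply]
      rw [← hc', mul_smul]
    rw [h1]
    refine hv0.comp ⟨?_, ?_⟩
    · intro a b hab
      have := congrArg (fun t => t * d) hab
      simpa [mul_assoc, hd] using this
    · intro b
      refine ⟨b * d, ?_⟩
      change b * d * c = b
      rw [mul_assoc, mul_comm d c, hd, mul_one]
  -- conclude
  have hnt : ringKrullDim (X.presheaf.stalk z) ≠ ⊥ := by
    intro h
    have := ringKrullDim_nonneg_of_nontrivial (R := X.presheaf.stalk z)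
    rw [h] at this
    exact absurd this (by simp)
  generalize ringKrullDim (X.presheaf.stalk z) = d at hA hB hnt ⊢
  induction d using WithBot.recBotCoe with
  | bot => exact absurd rfl hnt
  | coe d =>
    induction d using ENat.recTopCoe with
    | top => exact absurd (by exact le_top) hA
    | coe n =>
      have h1 : n ≠ 0 := fun h => hB (by rw [h]; rfl)
      have h2 : ¬ 2 ≤ n := fun h => hA (by
        have h' : ((2 : ℕ) : ℕ∞) ≤ (n : ℕ∞) := Nat.cast_le.mpr h
        have : (((2 : ℕ) : ℕ∞) : WithBot ℕ∞) ≤ ((n : ℕ∞) : WithBot ℕ∞) := WithBot.coe_le_coe.mpr h'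
        exact this)
      have h3 : n = 1 := by omega
      rw [h3]
      rfl

end Groth.Agent.H6.RefOneCodim
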