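import Groth.Agent.H6.HomShHom
import Groth.Agent.H6.HomShRefl2
import Groth.Agent.H6.RefOneCodim
import Groth.Agent.H6.NormalDepth
import Groth.Agent.H6.ReflNormal2
import Groth.Agent.H6.HartogsMod
import Groth.Agent.H54.SecOrd
import Groth.Agent.H67.FreeLocus
import Groth.Prelude.Def_Pi1

/-!
# Extending generic data to reflexive modules on normal schemes (helper6)

* `exists_section_of_generic`: on a normal integral locally Noetherian scheme, an element of the
  generic stalk of a coherent reflexive module which lies in the stalks at all codimension-one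
  points is the germ of a global section.
* `exists_hom_iff`: extension of maps of generic stalks `G_η → F_η` to morphisms `G ⟶ F^**`.
-/

set_option autoImplicit false
set_option linter.style.haveILetI false
universe u

namespace Groth.Agent.H6.RefGenericExt

open AlgebraicGeometry CategoryTheory Opposite TopologicalSpace IsLocalRing
open Groth.Agent.H6.HomSh

section Algebra

variable {R : Type u} [CommRing R]

/-- abstract form: if `e1 : D ≃ Hom(P, O')` and `O' ≃ R`, the map `P → Hom(D, O')`,
`v ↦ (θ ↦ e1 θ v)` is surjective iff `P → P^**` is -/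
theorem surjective_iff_surjective_eval {P O' D : Type u} [AddCommGroup P] [Module R P]
    [AddCommGroup O'] [Module R O'] [AddCommGroup D] [Module R D]
    (c : R ≃ₗ[R] O') (e1 : D ≃ₗ[R] (P →ₗ[R] O'))
    (b : P →ₗ[R] (D →ₗ[R] O')) (hb : ∀ v θ, b v θ = e1 θ v) :
    Function.Surjective b ↔ Function.Surjective (Module.Dual.eval R P) := by
  let κ : (P →ₗ[R] O') ≃ₗ[R] Module.Dual R P := LinearEquiv.arrowCongr (LinearEquiv.refl R P) c.symm
  let E1 : D ≃ₗ[R] Module.Dual R P := e1.trans κ
  let E2 : (D →ₗ[R] O') ≃ₗ[R] Module.Dual R (Module.Dual R P) := LinearEquiv.arrowCongr E1 c.symm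
  have h : ∀ v, E2 (b v) = Module.Dual.eval R P v := by
    intro v
    apply LinearMap.ext
    intro l
    rw [LinearEquiv.arrowCongr_apply, hb, Module.Dual.eval_apply]
    have : e1 (E1.symm l) = κ.symm l := by
      change e1 ((e1.trans κ).symm l) = _
      rw [LinearEquiv.trans_symm, LinearEquiv.trans_apply, LinearEquiv.apply_symm_apply]
    rw [this]
    change c.symm ((LinearEquiv.arrowCongr (LinearEquiv.refl R P) c.symm).symm l v) = _
    rw [LinearEquiv.arrowCongr_symm_apply]
    simp
  have h2 : (Module.Dual.eval R P : P → _) = E2 ∘ b := by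
    funext v
    exact (h v).symm
  rw [h2]
  constructor
  · intro hs
    exact E2.surjective.comp hs
  · intro hs v
    obtain ⟨w, hw⟩ := hs (E2 v)
    exact ⟨w, E2.injective hw⟩

/-- over a principal ideal domain, the map of a finite module to its bidual is surjective -/
theorem surjective_eval_of_pid [IsDomain R] [IsPrincipalIdealRing R] (M : Type u) [AddCommGroup M]
    [Module R M] [Module.Finite R M] : Function.Surjective (Module.Dual.eval R M) := by
  let q : M →ₗ[R] M ⧸ Submodule.torsion R M := (Submodule.torsion R M).mkQ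
  have hq : Function.Surjective q := Submodule.mkQ_surjective _
  haveI : Module.Finite R (M ⧸ Submodule.torsion R M) := Module.Finite.of_surjective q hq
  haveI : Module.Free R (M ⧸ Submodule.torsion R M) := Module.free_of_finite_type_torsion_free'
  intro φ
  obtain ⟨n, hn⟩ := (Module.bijective_dual_eval R (M ⧸ Submodule.torsion R M)).2
    (φ.comp q.dualMap)
  obtain ⟨m, rfl⟩ := hq n
  refine ⟨m, ?_⟩
  apply LinearMap.ext
  intro l
  -- `l` kills the torsion
  have hl : Submodule.torsion R M ≤ LinearMap.ker l := by
    intro t ht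
    obtain ⟨a, hat⟩ := (Submodule.mem_torsion_iff t).mp ht
    rw [LinearMap.mem_ker]
    have hat' : (a : R) • t = 0 := hat
    have h1 : (a : R) • l t = 0 := by rw [← map_smul, hat', map_zero]
    have ha : (a : R) ≠ 0 := nonZeroDivisors.coe_ne_zero a
    exact (smul_eq_zero.mp h1).resolve_left ha
  have hl' : l = q.dualMap ((Submodule.torsion R M).liftQ l hl) := by
    apply LinearMap.ext
    intro v
    rw [LinearMap.dualMap_apply]
    exact (Submodule.liftQ_apply _ _ _).symm
  have h3 := congrArg (fun ψ => ψ ((Submodule.torsion R M).liftQ l hl)) hn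
  simp only [Module.Dual.eval_apply, LinearMap.comp_apply] at h3
  rw [Module.Dual.eval_apply]
  conv_rhs => rw [hl']
  rw [← h3]
  conv_lhs => rw [hl']
  rfl

end Algebra

section Spec

variable {X : Scheme.{u}}

/-- naturality of the specialization maps for stalk maps of morphisms -/
theorem stalkSpecializes_stalkMapₗ {A B : X.Modules} (φ : A ⟶ B) {x y : X} (h : y ⤳ x)
    (v : A.presheaf.stalk x) :
    (B.presheaf.stalkSpecializes h).hom (RefHull.stalkMapₗ φ x v) =
      RefHull.stalkMapₗ φ y ((A.presheaf.stalkSpecializes h).hom v) := by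
  obtain ⟨W, hW, m, rfl⟩ := TopCat.Presheaf.exists_germ_eq A.presheaf v
  rw [RefHull.stalkMapₗ_germ, TopCat.Presheaf.germ_stalkSpecializes_apply,
    TopCat.Presheaf.germ_stalkSpecializes_apply, RefHull.stalkMapₗ_germ]

variable [IsIntegral X]

/-- specialization maps from the generic point are injective on torsion-free modules -/
theorem injective_stalkSpecializes_genericPoint (E : X.Modules) [E.IsQuasicoherent]
    (htf : ∀ x : X, Module.IsTorsionFree (X.presheaf.stalk x) (E.presheaf.stalk x)) (x : X)
    (h : genericPoint X ⤳ x) :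
    Function.Injective (E.presheaf.stalkSpecializes h).hom := by
  rw [injective_iff_map_eq_zero]
  intro d hd
  obtain ⟨W, hW, t, rfl⟩ := TopCat.Presheaf.exists_germ_eq E.presheaf d
  rw [TopCat.Presheaf.germ_stalkSpecializes_apply] at hd
  have ht : t = 0 := RefOneCodim.eq_zero_of_germ_genericPoint_eq_zero E htf
    (h.mem_open W.2 hW) t hd
  rw [ht, map_zero]

end Spec

section Main

variable (X : Scheme.{u}) [IsIntegral X] [IsLocallyNoetherian X]

theorem two_le_ringKrullDim_of_ne (A : Type u) [CommRing A] [Nontrivial A]
    (h0 : ringKrullDim A ≠ 0) (h1 : ringKrullDim A ≠ 1) : (2 : WithBot ℕ∞) ≤ ringKrullDim A := by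
  have hne : ringKrullDim A ≠ ⊥ := by
    intro hb
    have h2 : (0 : WithBot ℕ∞) ≤ ringKrullDim A := ringKrullDim_nonneg_of_nontrivial
    rw [hb] at h2
    exact absurd h2 (by simp)
  obtain ⟨n, hn⟩ := WithBot.ne_bot_iff_exists.mp hne
  rw [← hn] at h0 h1 ⊢
  have h0' : n ≠ 0 := fun h => h0 (by rw [h]; rfl)
  have h1' : n ≠ 1 := fun h => h1 (by rw [h]; rfl)
  have h2 : (2 : ℕ∞) ≤ n := by
    induction n using ENat.recTopCoe with
    | top => exact le_top
    | coe k =>
      have hk0 : k ≠ 0 := fun h => h0' (by rw [h]; rfl)
      have hk1 : k ≠ 1 := fun h => h1' (by rw [h]; rfl)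
      have : 2 ≤ k := by omega
      exact_mod_cast this
  exact WithBot.coe_le_coe.mpr h2

/-- On a normal integral locally Noetherian scheme, an element of the generic stalk of a coherent
reflexive module lying in the stalks at all points of codimension one is the germ of a global
section. -/
theorem exists_section_of_generic (hX : Pi1.IsNormalScheme X) (E : X.Modules) (hE : Coh.IsCoh E)
    (hrefl : ∀ x : X, Module.IsReflexive (X.presheaf.stalk x) (E.presheaf.stalk x))
    (e : E.presheaf.stalk (genericPoint X))
    (h : ∀ x : X, ringKrullDim (X.presheaf.stalk x) = 1 →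
      e ∈ Set.range (E.presheaf.stalkSpecializes (genericPoint_specializes x)).hom) :
    ∃ s : Γ(E, ⊤), E.presheaf.germ ⊤ (genericPoint X) trivial s = e := by
  haveI : E.IsQuasicoherent := hE.1
  have htf : ∀ x : X, Module.IsTorsionFree (X.presheaf.stalk x) (E.presheaf.stalk x) := by
    intro x
    haveI := hrefl x
    infer_instance
  have hP : ∀ p : {x : X // e ∈ Set.range
      (E.presheaf.stalkSpecializes (genericPoint_specializes x)).hom},
      ∃ (W : X.Opens) (hx : p.1 ∈ W) (t : Γ(E, W)),
        E.presheaf.germ W (genericPoint X) ((genericPoint_specializes p.1).mem_open W.2 hx) t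
          = e := by
    rintro ⟨x, d, hd⟩
    obtain ⟨W, hW, t, rfl⟩ := TopCat.Presheaf.exists_germ_eq E.presheaf d
    refine ⟨W, hW, t, ?_⟩
    rw [TopCat.Presheaf.germ_stalkSpecializes_apply] at hd
    exact hd
  choose W hxW t ht using hP
  have hηW : ∀ p, genericPoint X ∈ W p :=
    fun p => (genericPoint_specializes p.1).mem_open (W p).2 (hxW p)
  have hc : TopCat.Presheaf.IsCompatible (shAb E).1 W t := by
    intro p q
    have hη : genericPoint X ∈ W p ⊓ W q := ⟨hηW p, hηW q⟩
    rw [← sub_eq_zero]
    apply RefOneCodim.eq_zero_of_germ_genericPoint_eq_zero E htf hη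
    rw [map_sub, TopCat.Presheaf.germ_res_apply, TopCat.Presheaf.germ_res_apply, ht, ht, sub_self]
  obtain ⟨s, hs, -⟩ := (shAb E).existsUnique_gluing' W (iSup W) (fun p => Opens.leSupr W p)
    le_rfl t hc
  -- the generic point is one of the points
  have hη0 : e ∈ Set.range
      (E.presheaf.stalkSpecializes (genericPoint_specializes (genericPoint X))).hom := by
    refine ⟨e, ?_⟩
    rw [TopCat.Presheaf.stalkSpecializes_refl]
    rfl
  have hdepth : ∀ x : X, x ∉ iSup W →
      (2 : ℕ∞) ≤ LocCoh.depth (X.presheaf.stalk x) (E.presheaf.stalk x) := by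
    intro x hx
    have hxP : e ∉ Set.range (E.presheaf.stalkSpecializes (genericPoint_specializes x)).hom := by
      intro hmem
      exact hx (Opens.mem_iSup.mpr ⟨⟨x, hmem⟩, hxW ⟨x, hmem⟩⟩)
    have h1 : ringKrullDim (X.presheaf.stalk x) ≠ 1 := fun h1 => hxP (h x h1)
    have h0 : ringKrullDim (X.presheaf.stalk x) ≠ 0 := by
      intro h0
      have := RefOneCodim.eq_genericPoint_of_ringKrullDim_eq_zero x h0
      subst this
      exact hxP hη0
    haveI := (hX x).1
    haveI := (hX x).2
    haveI : Module.Finite (X.presheaf.stalk x) (E.presheaf.stalk x) :=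
      finite_stalk_of_isCoh E hE x
    haveI := hrefl x
    exact NormalDepth.two_le_depth_of_isReflexive_of_normal _
      (two_le_ringKrullDim_of_ne _ h0 h1) _
  have hb := HartogsMod.bijective_res_mod X E hE (iSup W) hdepth ⊤ (iSup W) (by simp) le_top
  obtain ⟨s', hs'⟩ := hb.2 s
  refine ⟨s', ?_⟩
  have hηU : genericPoint X ∈ iSup W :=
    Opens.mem_iSup.mpr ⟨⟨genericPoint X, hη0⟩, hηW ⟨genericPoint X, hη0⟩⟩
  rw [← TopCat.Presheaf.germ_res_apply E.presheaf (homOfLE (le_top : iSup W ≤ ⊤))
    (genericPoint X) hηU s', hs']
  rw [← TopCat.Presheaf.germ_res_apply E.presheaf (Opens.leSupr W ⟨genericPoint X, hη0⟩)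
    (genericPoint X) (hηW ⟨genericPoint X, hη0⟩) s]
  have := hs ⟨genericPoint X, hη0⟩
  rw [this]
  exact ht ⟨genericPoint X, hη0⟩

omit [IsIntegral X] in
/-- at points of codimension one of a normal scheme, the stalk map of `F → F^**` is
surjective -/
theorem surjective_stalkMapₗ_bidualMap_of_dim_one (hX : Pi1.IsNormalScheme X) (F : X.Modules)
    (hF : Coh.IsCoh F) (x : X) (hx : ringKrullDim (X.presheaf.stalk x) = 1) :
    Function.Surjective (RefHull.stalkMapₗ (RefHull.bidualMap F) x) := by
  haveI := (hX x).1
  haveI := (hX x).2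
  haveI : IsPrincipalIdealRing (X.presheaf.stalk x) :=
    Groth.Agent.H67.FreeLocus.isPrincipalIdealRing_of_normal _ hx.le
  haveI : Module.Finite (X.presheaf.stalk x) (F.presheaf.stalk x) := finite_stalk_of_isCoh F hF x
  haveI := Groth.Agent.H67.StalkLoc.isQuasicoherent_structureModule X
  let e1 := LinearEquiv.ofBijective (RefHull.evalStalk F (Coh.structureModule X) x)
    (evalStalk_bijective_of_isCoh F (Coh.structureModule X) hF x)
  have e2bij := evalStalk_bijective_of_isCoh (RefHull.dual F) (Coh.structureModule X)
    (isCoh_dual F hF) x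
  have key := surjective_iff_surjective_eval
    (Groth.Agent.H79.StructStalk.structStalkEquiv X x) e1
    (RefHull.bidualAt F x) (fun v θ => rfl)
  have hs : Function.Surjective (RefHull.bidualAt F x) :=
    key.mpr (surjective_eval_of_pid (F.presheaf.stalk x))
  intro w
  obtain ⟨v, hv⟩ := hs (RefHull.evalStalk (RefHull.dual F) (Coh.structureModule X) x w)
  refine ⟨v, e2bij.1 ?_⟩
  rw [evalStalk_stalkMap_bidualMap F x v, hv]

/-- at the generic point, the stalk map of `F → F^**` is bijective -/
theorem bijective_stalkMapₗ_bidualMap_genericPoint (F : X.Modules) (hF : Coh.IsCoh F) :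
    Function.Bijective (RefHull.stalkMapₗ (RefHull.bidualMap F) (genericPoint X)) := by
  rw [bijective_stalk_bidualMap_iff F hF]
  unfold RefHull.IsReflexiveAt
  letI : Field (X.presheaf.stalk (genericPoint X)) := inferInstanceAs (Field X.functionField)
  haveI : Module.Finite (X.presheaf.stalk (genericPoint X)) (F.presheaf.stalk (genericPoint X)) :=
    finite_stalk_of_isCoh F hF _
  infer_instance

/-- Extension of maps of generic stalks to morphisms into the reflexive hull. -/
theorem exists_hom_iff (hX : Pi1.IsNormalScheme X) (F G : X.Modules) (hF : Coh.IsCoh F)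
    (hG : Coh.IsCoh G)
    (T : G.presheaf.stalk (genericPoint X) →ₗ[X.presheaf.stalk (genericPoint X)]
      F.presheaf.stalk (genericPoint X)) :
    (∃ ψ : G ⟶ RefHull.ddual F, RefHull.stalkMapₗ ψ (genericPoint X) =
        (RefHull.stalkMapₗ (RefHull.bidualMap F) (genericPoint X)).comp T) ↔
      ∀ x : X, ringKrullDim (X.presheaf.stalk x) = 1 →
        Set.MapsTo T
          (Set.range (G.presheaf.stalkSpecializes (genericPoint_specializes x)).hom)
          (Set.range (F.presheaf.stalkSpecializes (genericPoint_specializes x)).hom) := by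
  have hD : Coh.IsCoh (RefHull.ddual F) := isCoh_ddual F hF
  haveI : (RefHull.ddual F).IsQuasicoherent := hD.1
  haveI : G.IsQuasicoherent := hG.1
  have hDrefl : ∀ x : X, Module.IsReflexive (X.presheaf.stalk x)
      ((RefHull.ddual F).presheaf.stalk x) := ReflNormal.isReflexive_stalk_ddual X F hF
  have hDtf : ∀ x : X, Module.IsTorsionFree (X.presheaf.stalk x)
      ((RefHull.ddual F).presheaf.stalk x) := by
    intro x
    haveI := hDrefl x
    infer_instance
  have hβη := bijective_stalkMapₗ_bidualMap_genericPoint X F hF
  constructor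
  · rintro ⟨ψ, hψ⟩ x hx _ ⟨g, rfl⟩
    obtain ⟨f, hf⟩ := surjective_stalkMapₗ_bidualMap_of_dim_one X hX F hF x hx
      (RefHull.stalkMapₗ ψ x g)
    refine ⟨f, hβη.1 ?_⟩
    rw [← stalkSpecializes_stalkMapₗ, hf, stalkSpecializes_stalkMapₗ, hψ]
    rfl
  · intro hT
    set D := RefHull.ddual F with hDdef
    set E := RefHull.homSh G D with hEdef
    have hE : Coh.IsCoh E := isCoh_homSh G D hG hD
    have hErefl : ∀ x : X, Module.IsReflexive (X.presheaf.stalk x) (E.presheaf.stalk x) := by
      intro x
      haveI := (hX x).1
      haveI : Module.Finite (X.presheaf.stalk x) (G.presheaf.stalk x) :=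
        finite_stalk_of_isCoh G hG x
      haveI : Module.Finite (X.presheaf.stalk x) (D.presheaf.stalk x) :=
        finite_stalk_of_isCoh D hD x
      haveI := hDrefl x
      haveI : Module.IsReflexive (X.presheaf.stalk x)
          (G.presheaf.stalk x →ₗ[X.presheaf.stalk x] D.presheaf.stalk x) :=
        Groth.Agent.H34.isReflexive_linearMap (X.presheaf.stalk x) (G.presheaf.stalk x)
          (D.presheaf.stalk x)
      exact Module.equiv (stalkHomEquiv G D hG x).symm
    set e : E.presheaf.stalk (genericPoint X) := (stalkHomEquiv G D hG (genericPoint X)).symm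
      ((RefHull.stalkMapₗ (RefHull.bidualMap F) (genericPoint X)).comp T) with he
    have heval : RefHull.evalStalk G D (genericPoint X) e =
        (RefHull.stalkMapₗ (RefHull.bidualMap F) (genericPoint X)).comp T :=
      (stalkHomEquiv G D hG (genericPoint X)).apply_symm_apply _
    have hcond : ∀ x : X, ringKrullDim (X.presheaf.stalk x) = 1 →
        e ∈ Set.range (E.presheaf.stalkSpecializes (genericPoint_specializes x)).hom := by
      intro x hx
      have hsp := genericPoint_specializes x
      have hinj := injective_stalkSpecializes_genericPoint D hDtf x hsp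
      -- the pointwise lift
      have hex : ∀ g : G.presheaf.stalk x, ∃ d : D.presheaf.stalk x,
          (D.presheaf.stalkSpecializes hsp).hom d =
            RefHull.stalkMapₗ (RefHull.bidualMap F) (genericPoint X)
              (T ((G.presheaf.stalkSpecializes hsp).hom g)) := by
        intro g
        obtain ⟨f, hf⟩ := hT x hx ⟨g, rfl⟩
        refine ⟨RefHull.stalkMapₗ (RefHull.bidualMap F) x f, ?_⟩
        rw [stalkSpecializes_stalkMapₗ, hf]
      choose hfun hfun_spec using hex
      let hx' : G.presheaf.stalk x →ₗ[X.presheaf.stalk x] D.presheaf.stalk x :=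
        { toFun := hfun
          map_add' := by
            intro a b
            apply hinj
            rw [map_add, hfun_spec, hfun_spec, hfun_spec, map_add, map_add, map_add]
          map_smul' := by
            intro r a
            apply hinj
            have h1 := Groth.Agent.H54.SecOrd.stalkSpecializes_smul D hsp r (hfun a)
            have h2 := Groth.Agent.H54.SecOrd.stalkSpecializes_smul G hsp r a
            rw [RingHom.id_apply]
            refine (hfun_spec (r • a)).trans ?_
            refine Eq.trans ?_ h1.symm
            have h3 : (G.presheaf.stalkSpecializes hsp).hom (r • a) =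
                (X.presheaf.stalkSpecializes hsp).hom r • (G.presheaf.stalkSpecializes hsp).hom a :=
              h2
            rw [h3, map_smul, map_smul]
            congr 1
            exact (hfun_spec a).symm }
      refine ⟨(stalkHomEquiv G D hG x).symm hx', ?_⟩
      apply (stalkHomEquiv G D hG (genericPoint X)).injective
      change RefHull.evalStalk G D (genericPoint X) _ = RefHull.evalStalk G D (genericPoint X) e
      rw [heval]
      obtain ⟨W, hW, hxW, -⟩ := exists_isAffineOpen_mem_and_subset (x := x) (U := ⊤) trivial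
      have hηW : genericPoint X ∈ W := hsp.mem_open W.2 hxW
      apply stalkHom_ext hW hηW
      intro m
      rw [← TopCat.Presheaf.germ_stalkSpecializes_apply G.presheaf hxW hsp m]
      rw [evalStalk_stalkSpecializes hsp]
      have h4 : RefHull.evalStalk G D x ((stalkHomEquiv G D hG x).symm hx') = hx' :=
        (stalkHomEquiv G D hG x).apply_symm_apply hx'
      rw [h4]
      exact hfun_spec _
    obtain ⟨s, hs⟩ := exists_section_of_generic X hX E hE hErefl e hcond
    refine ⟨toHom s, ?_⟩
    rw [stalkMapₗ_toHom, ← heval, ← hs, RefHull.evalStalk_germ]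

end Main

end Groth.Agent.H6.RefGenericExt
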