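import Groth.Agent.H6.RefOneInvertible
import Groth.Agent.H6.RefGenericExt
import Groth.Agent.H54.OrdAtOrd
import Groth.Agent.H15.CDivNormalSch

/-!
# Rank one reflexive modules on normal schemes: stalks at codimension one points (helper6)
-/

set_option autoImplicit false
set_option linter.style.haveILetI false
universe u

namespace Groth.Agent.H6.Ref1

open AlgebraicGeometry CategoryTheory CategoryTheory.Limits Opposite TopologicalSpace
open Groth.Agent.H8

variable {X : Scheme.{u}}

/-- pointwise version of `RefOneInvertible.nonempty_linearEquiv_stalk`: only the local ring at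
`x` is assumed factorial -/
theorem nonempty_linearEquiv_stalk_of_ufd [IsIntegral X] [IsLocallyNoetherian X]
    (F : X.Modules) (hF : Coh.IsCoh F)
    (hrefl : ∀ x : X, Module.IsReflexive (X.presheaf.stalk x) (F.presheaf.stalk x))
    (v0 : F.presheaf.stalk (genericPoint X))
    (hv0 : Function.Bijective (fun a : X.presheaf.stalk (genericPoint X) => a • v0)) (x : X)
    [IsDomain (X.presheaf.stalk x)] [UniqueFactorizationMonoid (X.presheaf.stalk x)] :
    Nonempty (X.presheaf.stalk x ≃ₗ[X.presheaf.stalk x] F.presheaf.stalk x) := by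
  haveI : F.IsQuasicoherent := hF.1
  have htf : ∀ y : X, Module.IsTorsionFree (X.presheaf.stalk y) (F.presheaf.stalk y) := by
    intro y
    haveI := hrefl y
    infer_instance
  obtain ⟨W, hW, hxW, -⟩ := exists_isAffineOpen_mem_and_subset (x := x) (U := ⊤) trivial
  have hsp : genericPoint X ⤳ x := genericPoint_specializes x
  have hη : genericPoint X ∈ W := hsp.mem_open W.2 hxW
  have hgs : ∀ t : Γ(F, W), F.presheaf.germ W x hxW t = 0 →
      F.presheaf.germ W (genericPoint X) hη t = 0 := by
    intro t ht
    have h1 := TopCat.Presheaf.germ_stalkSpecializes F.presheaf hxW hsp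
    have h2 := ConcreteCategory.congr_hom h1 t
    rw [← h2, ConcreteCategory.comp_apply, ht, map_zero]
  haveI : Module.Finite (X.presheaf.stalk x) (F.presheaf.stalk x) :=
    HomSh.finite_stalk_of_isCoh F hF x
  haveI := hrefl x
  have hv00 : v0 ≠ 0 := by
    intro h
    have h1 : (fun a : X.presheaf.stalk (genericPoint X) => a • v0) 1 =
        (fun a : X.presheaf.stalk (genericPoint X) => a • v0) 0 := by
      simp only [h, smul_zero]
    exact one_ne_zero (hv0.1 h1)
  haveI : Nontrivial (F.presheaf.stalk x) := by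
    by_contra hcon
    rw [not_nontrivial_iff_subsingleton] at hcon
    apply hv00
    letI := stalkModule F hη
    haveI := isLocalizedModule_germₗ F hW hη
    obtain ⟨⟨m0, s⟩, hms⟩ := IsLocalizedModule.surj
      (hW.primeIdealOf ⟨genericPoint X, hη⟩).asIdeal.primeCompl (germₗ F hη) v0
    have h1 : germₗ F hη m0 = 0 := hgs m0 (Subsingleton.elim _ _)
    have h2 : s • v0 = 0 := by rw [hms]; exact h1
    apply IsLocalizedModule.smul_injective (germₗ F hη) s
    change s • v0 = s • (0 : F.presheaf.stalk (genericPoint X))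
    rw [h2, smul_zero]
  letI := stalkModule F hxW
  haveI := isLocalizedModule_germₗ F hW hxW
  apply ReflUFD.nonempty_linearEquiv_of_isReflexive_of_rank_one
  intro m' n'
  obtain ⟨⟨m, s⟩, hms⟩ := IsLocalizedModule.surj
    (hW.primeIdealOf ⟨x, hxW⟩).asIdeal.primeCompl (germₗ F hxW) m'
  obtain ⟨⟨n, t⟩, hnt⟩ := IsLocalizedModule.surj
    (hW.primeIdealOf ⟨x, hxW⟩).asIdeal.primeCompl (germₗ F hxW) n'
  have hms' : X.presheaf.germ W x hxW (s : Γ(X, W)) • m' = F.presheaf.germ W x hxW m := hms
  have hnt' : X.presheaf.germ W x hxW (t : Γ(X, W)) • n' = F.presheaf.germ W x hxW n := hnt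
  obtain ⟨a, b, hab, h⟩ := RefOneInvertible.rank_le_one_sections F htf v0 hv0.2 hW hη m n
  have hs0 : (s : Γ(X, W)) ≠ 0 := fun h0 => s.2 (by rw [h0]; exact Ideal.zero_mem _)
  have ht0 : (t : Γ(X, W)) ≠ 0 := fun h0 => t.2 (by rw [h0]; exact Ideal.zero_mem _)
  haveI : Nonempty W := ⟨⟨x, hxW⟩⟩
  haveI : IsDomain Γ(X, W) := inferInstance
  have hgi : ∀ c : Γ(X, W), c ≠ 0 → X.presheaf.germ W x hxW c ≠ 0 := by
    intro c hc h0
    apply hc
    apply germ_injective_of_isIntegral X x hxW
    rw [h0, map_zero]
  refine ⟨X.presheaf.germ W x hxW (a * s), X.presheaf.germ W x hxW (b * t), ?_, ?_⟩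
  · rcases hab with ha | hb
    · exact Or.inl (hgi _ (mul_ne_zero ha hs0))
    · exact Or.inr (hgi _ (mul_ne_zero hb ht0))
  · rw [map_mul, map_mul, mul_smul, mul_smul, hms', hnt', ← Mero.germ_smul, ← Mero.germ_smul, h]

variable [IsIntegral X] [IsLocallyNoetherian X]

/-- the basic data of a rank one reflexive module -/
theorem isReflexive_stalks (F : X.Modules) (hF : RefHull.IsRef1 F) (x : X) :
    Module.IsReflexive (X.presheaf.stalk x) (F.presheaf.stalk x) :=
  (HomSh.isReflexive_iff_forall_isReflexiveAt F hF.1).mp hF.2.1 x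

theorem isTorsionFree_stalks (F : X.Modules) (hF : RefHull.IsRef1 F) (x : X) :
    Module.IsTorsionFree (X.presheaf.stalk x) (F.presheaf.stalk x) := by
  haveI := isReflexive_stalks F hF x
  infer_instance

/-- the generic stalk of a rank one reflexive module is generated by one element -/
theorem exists_gen_genericPoint (F : X.Modules) (hF : RefHull.IsRef1 F) :
    ∃ v0 : F.presheaf.stalk (genericPoint X),
      Function.Bijective (fun a : X.presheaf.stalk (genericPoint X) => a • v0) := by
  obtain ⟨U, hUd, hUinv⟩ := hF.2.2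
  have hηU : genericPoint X ∈ U := by
    obtain ⟨x, hx⟩ := hUd.nonempty
    exact ((genericPoint_spec X).mem_open_set_iff U.2).mpr ⟨x, Set.mem_univ x, hx⟩
  exact RefOneCodim.exists_gen_stalk_of_isInvertible_restrict F U hUinv _ hηU

/-- every nonzero element of the generic stalk of a rank one reflexive module generates it -/
theorem bijective_smul_of_ne_zero (F : X.Modules) (hF : RefHull.IsRef1 F)
    (w : F.presheaf.stalk (genericPoint X)) (hw : w ≠ 0) :
    Function.Bijective (fun a : X.presheaf.stalk (genericPoint X) => a • w) := by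
  letI : Field (X.presheaf.stalk (genericPoint X)) := inferInstanceAs (Field X.functionField)
  obtain ⟨v0, hv0⟩ := exists_gen_genericPoint F hF
  obtain ⟨c, hc⟩ := hv0.2 w
  have hc' : c • v0 = w := hc
  have hc0 : c ≠ 0 := by
    rintro rfl
    exact hw (by rw [← hc', zero_smul])
  constructor
  · intro a b hab
    have h1 : a • w = b • w := hab
    rw [← hc', ← mul_smul, ← mul_smul] at h1
    exact mul_right_cancel₀ hc0 (hv0.1 h1)
  · intro m
    obtain ⟨d, hd⟩ := hv0.2 m
    have hd' : d • v0 = m := hd
    refine ⟨d * c⁻¹, ?_⟩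
    change (d * c⁻¹) • w = m
    rw [← hc', ← mul_smul, mul_assoc, inv_mul_cancel₀ hc0, mul_one, hd']

/-- at a point of codimension one of a normal scheme, the stalk of a rank one reflexive module is
free of rank one -/
theorem exists_gen_stalk_of_coheight_one (hX : Pi1.IsNormalScheme X) (F : X.Modules)
    (hF : RefHull.IsRef1 F) (x : X) (hx : Order.coheight x = 1) :
    ∃ u : F.presheaf.stalk x, Function.Bijective (fun a : X.presheaf.stalk x => a • u) := by
  haveI := (hX x).1
  haveI := (hX x).2
  have hdim : ringKrullDim (X.presheaf.stalk x) = 1 := by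
    rw [ringKrullDim_stalk_eq_coheight, hx]
    rfl
  haveI : IsPrincipalIdealRing (X.presheaf.stalk x) :=
    Groth.Agent.H67.FreeLocus.isPrincipalIdealRing_of_normal _ hdim.le
  obtain ⟨v0, hv0⟩ := exists_gen_genericPoint F hF
  obtain ⟨e⟩ := nonempty_linearEquiv_stalk_of_ufd F hF.1 (isReflexive_stalks F hF) v0 hv0 x
  refine ⟨e 1, ?_⟩
  have : (fun a : X.presheaf.stalk x => a • e 1) = e := by
    funext a
    rw [← map_smul, smul_eq_mul, mul_one]
  rw [this]
  exact e.bijective

end Groth.Agent.H6.Ref1
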