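import Groth.Agent.H6.Ref1Basic
import Groth.Prelude.Def_RefFun

/-!
# Rank one reflexive modules on normal schemes: orders of rational sections (helper6)

`iso_iff`: two rank one reflexive modules are isomorphic iff the Weil divisors of nonzero rational
sections are linearly equivalent.
-/

set_option autoImplicit false
set_option linter.style.haveILetI false
universe u

namespace Groth.Agent.H6.Ref1

open AlgebraicGeometry CategoryTheory CategoryTheory.Limits Opposite TopologicalSpace
open Groth.Agent.H8

variable {X : Scheme.{u}} [IsIntegral X] [IsLocallyNoetherian X]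

/-- the local ring of a normal scheme at a point of codimension one is a discrete valuation
ring -/
theorem isDVR_of_coheight_one (hX : Pi1.IsNormalScheme X) (x : X) (hx : Order.coheight x = 1) :
    IsDiscreteValuationRing (X.presheaf.stalk x) := by
  haveI := (hX x).1
  haveI := (hX x).2
  have hdim : ringKrullDim (X.presheaf.stalk x) = 1 := by
    rw [ringKrullDim_stalk_eq_coheight, hx]
    rfl
  haveI : IsPrincipalIdealRing (X.presheaf.stalk x) :=
    Groth.Agent.H67.FreeLocus.isPrincipalIdealRing_of_normal _ hdim.le
  refine { not_a_field' := ?_ }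
  intro h0
  have hf : IsField (X.presheaf.stalk x) := IsLocalRing.isField_iff_maximalIdeal_eq.mpr h0
  have h1 : ringKrullDim (X.presheaf.stalk x) = 0 := by
    letI := hf.toField
    exact ringKrullDim_eq_zero_of_field _
  rw [h1] at hdim
  exact absurd hdim (by norm_num)

theorem ord_one (z : X) : Scheme.ord (1 : X.functionField) z = 0 := by
  have := Groth.Agent.H54.OrdAtOrd.ord_algebraMap_of_isUnit z (1 : X.presheaf.stalk z) isUnit_one
  rwa [map_one] at this

theorem ord_inv (z : X) (c : X.functionField) (hc : c ≠ 0) :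
    Scheme.ord c⁻¹ z = - Scheme.ord c z := by
  have h1 : Scheme.ord (c * c⁻¹) z = Scheme.ord c z + Scheme.ord c⁻¹ z :=
    Scheme.ord_mul hc (inv_ne_zero hc)
  rw [mul_inv_cancel₀ hc, ord_one z] at h1
  linarith

/-- a generator at a codimension one point and the order of a rational section -/
theorem exists_ord_data (hX : Pi1.IsNormalScheme X) (F : X.Modules) (hF : RefHull.IsRef1 F)
    (s' : F.presheaf.stalk (genericPoint X)) (hs' : s' ≠ 0) (x : X)
    (hx : Order.coheight x = 1) :
    ∃ (u : F.presheaf.stalk x) (a : X.presheaf.stalk (genericPoint X)),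
      Function.Bijective (fun r : X.presheaf.stalk x => r • u) ∧ a ≠ 0 ∧
      s' = a • (F.presheaf.stalkSpecializes (genericPoint_specializes x)).hom u ∧
      Cyc.secOrdAt F (genericPoint X) x (genericPoint_specializes x)
        (Submodule.Quotient.mk s') = Scheme.ord (a : X.functionField) x := by
  haveI : F.IsQuasicoherent := hF.1.1
  obtain ⟨u, hu⟩ := exists_gen_stalk_of_coheight_one hX F hF x hx
  have hsp := genericPoint_specializes x
  have hu0 : u ≠ 0 := by
    rintro rfl
    have h1 : (fun r : X.presheaf.stalk x => r • (0 : F.presheaf.stalk x)) 1 =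
        (fun r : X.presheaf.stalk x => r • (0 : F.presheaf.stalk x)) 0 := by
      simp only [smul_zero]
    exact one_ne_zero (hu.1 h1)
  have hspu : (F.presheaf.stalkSpecializes hsp).hom u ≠ 0 := by
    intro h0
    apply hu0
    apply RefGenericExt.injective_stalkSpecializes_genericPoint F (isTorsionFree_stalks F hF) x hsp
    rw [h0, map_zero]
  have hbη := bijective_smul_of_ne_zero F hF _ hspu
  obtain ⟨a, ha⟩ := hbη.2 s'
  have ha' : a • (F.presheaf.stalkSpecializes hsp).hom u = s' := ha
  have ha0 : a ≠ 0 := by
    rintro rfl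
    exact hs' (by rw [← ha', zero_smul])
  refine ⟨u, a, hu, ha0, ha'.symm, ?_⟩
  exact Groth.Agent.H54.OrdAtOrd.secOrdAt_eq_ord F x hx hsp u hu hbη.1 a ha0 _ (by rw [← ha'])

omit [IsLocallyNoetherian X] in
/-- morphisms into a torsion-free quasi-coherent module are determined by their generic stalk
map -/
theorem hom_ext_of_genericPoint {A B : X.Modules} [B.IsQuasicoherent]
    (htf : ∀ x : X, Module.IsTorsionFree (X.presheaf.stalk x) (B.presheaf.stalk x))
    (φ ψ : A ⟶ B)
    (h : RefHull.stalkMapₗ φ (genericPoint X) = RefHull.stalkMapₗ ψ (genericPoint X)) :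
    φ = ψ := by
  apply Scheme.Modules.hom_ext
  intro U
  ext m
  apply HomSh.section_ext B
  intro y
  rw [← RefHull.stalkMapₗ_germ φ y.1 y.2 m, ← RefHull.stalkMapₗ_germ ψ y.1 y.2 m]
  apply RefGenericExt.injective_stalkSpecializes_genericPoint B htf y.1
    (genericPoint_specializes y.1)
  rw [RefGenericExt.stalkSpecializes_stalkMapₗ, RefGenericExt.stalkSpecializes_stalkMapₗ, h]

/-- the condition at codimension one points for the map `c • s' ↦ (c * g) • t'` of generic
stalks -/
theorem mapsTo_of_ord (hX : Pi1.IsNormalScheme X) (F G : X.Modules) (hF : RefHull.IsRef1 F)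
    (hG : RefHull.IsRef1 G) (s' : F.presheaf.stalk (genericPoint X)) (hs' : s' ≠ 0)
    (t' : G.presheaf.stalk (genericPoint X)) (ht' : t' ≠ 0)
    (g : X.presheaf.stalk (genericPoint X)) (hg : g ≠ 0)
    (T : F.presheaf.stalk (genericPoint X) →ₗ[X.presheaf.stalk (genericPoint X)]
      G.presheaf.stalk (genericPoint X))
    (hT : ∀ c : X.presheaf.stalk (genericPoint X), T (c • s') = (c * g) • t')
    (x : X) (hx : Order.coheight x = 1)
    (hord : Cyc.secOrdAt F (genericPoint X) x (genericPoint_specializes x)
        (Submodule.Quotient.mk s') =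
      Cyc.secOrdAt G (genericPoint X) x (genericPoint_specializes x) (Submodule.Quotient.mk t') +
        Scheme.ord (g : X.functionField) x) :
    Set.MapsTo T
      (Set.range (F.presheaf.stalkSpecializes (genericPoint_specializes x)).hom)
      (Set.range (G.presheaf.stalkSpecializes (genericPoint_specializes x)).hom) := by
  letI : Field (X.presheaf.stalk (genericPoint X)) := inferInstanceAs (Field X.functionField)
  have hsp := genericPoint_specializes x
  obtain ⟨u, a, hub, ha, hsa, hordF⟩ := exists_ord_data hX F hF s' hs' x hx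
  obtain ⟨w, b, hwb, hb, htb, hordG⟩ := exists_ord_data hX G hG t' ht' x hx
  rw [hordF, hordG] at hord
  set c : X.presheaf.stalk (genericPoint X) := a⁻¹ * g * b with hc
  have hc0 : c ≠ 0 := mul_ne_zero (mul_ne_zero (inv_ne_zero ha) hg) hb
  have hordc : Scheme.ord (c : X.functionField) x = 0 := by
    have h1 : Scheme.ord ((a⁻¹ * g * b : X.presheaf.stalk (genericPoint X)) : X.functionField) x =
        Scheme.ord ((a⁻¹ * g : X.presheaf.stalk (genericPoint X)) : X.functionField) x +
          Scheme.ord (b : X.functionField) x :=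
      Scheme.ord_mul (mul_ne_zero (inv_ne_zero ha) hg) hb
    have h2 : Scheme.ord ((a⁻¹ * g : X.presheaf.stalk (genericPoint X)) : X.functionField) x =
        Scheme.ord ((a⁻¹ : X.presheaf.stalk (genericPoint X)) : X.functionField) x +
          Scheme.ord (g : X.functionField) x :=
      Scheme.ord_mul (inv_ne_zero ha) hg
    have h3 := ord_inv x (a : X.functionField) ha
    rw [hc, h1, h2]
    change Scheme.ord ((a : X.functionField)⁻¹) x + _ + _ = 0
    rw [h3]
    linarith
  haveI := isDVR_of_coheight_one hX x hx
  obtain ⟨c0, hc0'⟩ := Groth.Agent.H15.CDivB.mem_R_of_ord_nonneg x hx (c : X.functionField) hc0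
    (by rw [hordc])
  have hc0'' : (X.presheaf.stalkSpecializes hsp).hom c0 = c := hc0'
  rintro _ ⟨v, rfl⟩
  obtain ⟨r, hr⟩ := hub.2 v
  have hr' : r • u = v := hr
  refine ⟨(r * c0) • w, ?_⟩
  have e1 := Groth.Agent.H54.SecOrd.stalkSpecializes_smul G hsp (r * c0) w
  have e2 := Groth.Agent.H54.SecOrd.stalkSpecializes_smul F hsp r u
  have e1' : (G.presheaf.stalkSpecializes hsp).hom ((r * c0) • w) =
      (X.presheaf.stalkSpecializes hsp).hom (r * c0) • (G.presheaf.stalkSpecializes hsp).hom w := e1
  have e2' : (F.presheaf.stalkSpecializes hsp).hom (r • u) =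
      (X.presheaf.stalkSpecializes hsp).hom r • (F.presheaf.stalkSpecializes hsp).hom u := e2
  rw [e1', ← hr', e2']
  have hspu : (F.presheaf.stalkSpecializes hsp).hom u = a⁻¹ • s' := by
    rw [hsa, ← mul_smul, inv_mul_cancel₀ ha, one_smul]
  rw [hspu, ← mul_smul, hT, map_mul, hc0'', hc]
  conv_rhs => rw [htb, ← mul_smul]
  congr 1
  ring

/-- Two rank one reflexive modules on a normal scheme are isomorphic iff the Weil divisors of
nonzero rational sections are linearly equivalent. -/
theorem iso_iff (hX : Pi1.IsNormalScheme X) (F G : X.Modules) (hF : RefHull.IsRef1 F)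
    (hG : RefHull.IsRef1 G) (s : Cyc.secFibre F (genericPoint X)) (hs : s ≠ 0)
    (t : Cyc.secFibre G (genericPoint X)) (ht : t ≠ 0) :
    Nonempty (F ≅ G) ↔
      ∃ f : X.functionField, f ≠ 0 ∧
        ∀ (x : X), Order.coheight x = 1 →
          Cyc.secOrdAt F (genericPoint X) x (genericPoint_specializes x) s =
            Cyc.secOrdAt G (genericPoint X) x (genericPoint_specializes x) t + Scheme.ord f x := by
  letI : Field (X.presheaf.stalk (genericPoint X)) := inferInstanceAs (Field X.functionField)
  haveI : F.IsQuasicoherent := hF.1.1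
  haveI : G.IsQuasicoherent := hG.1.1
  obtain ⟨s', rfl⟩ := Submodule.Quotient.mk_surjective _ s
  obtain ⟨t', rfl⟩ := Submodule.Quotient.mk_surjective _ t
  have hs' : s' ≠ 0 := by
    rintro rfl
    exact hs rfl
  have ht' : t' ≠ 0 := by
    rintro rfl
    exact ht rfl
  have hbs := bijective_smul_of_ne_zero F hF s' hs'
  have hbt := bijective_smul_of_ne_zero G hG t' ht'
  constructor
  · rintro ⟨e⟩
    have hφη := HomSh.bijective_stalkMapₗ_of_isIso e.hom (genericPoint X)
    obtain ⟨f, hf⟩ := hbt.2 (RefHull.stalkMapₗ e.hom (genericPoint X) s')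
    have hf' : f • t' = RefHull.stalkMapₗ e.hom (genericPoint X) s' := hf
    have hf0 : f ≠ 0 := by
      rintro rfl
      rw [zero_smul] at hf'
      apply hs'
      apply hφη.1
      rw [← hf', map_zero]
    refine ⟨f, hf0, fun x hx => ?_⟩
    have hsp := genericPoint_specializes x
    obtain ⟨u, a, hub, ha, hsa, hordF⟩ := exists_ord_data hX F hF s' hs' x hx
    rw [hordF]
    set w := RefHull.stalkMapₗ e.hom x u with hw
    have hφx := HomSh.bijective_stalkMapₗ_of_isIso e.hom x
    have hwb : Function.Bijective (fun r : X.presheaf.stalk x => r • w) := by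
      have : (fun r : X.presheaf.stalk x => r • w) =
          RefHull.stalkMapₗ e.hom x ∘ (fun r : X.presheaf.stalk x => r • u) := by
        funext r
        rw [Function.comp_apply, map_smul]
      rw [this]
      exact hφx.comp hub
    have hw0 : w ≠ 0 := by
      intro h0
      have h1 : (fun r : X.presheaf.stalk x => r • w) 1 =
          (fun r : X.presheaf.stalk x => r • w) 0 := by
        simp only [h0, smul_zero]
      exact one_ne_zero (hwb.1 h1)
    have hspw : (G.presheaf.stalkSpecializes hsp).hom w ≠ 0 := by
      intro h0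
      apply hw0
      apply RefGenericExt.injective_stalkSpecializes_genericPoint G (isTorsionFree_stalks G hG) x
        hsp
      rw [h0, map_zero]
    have hbη := bijective_smul_of_ne_zero G hG _ hspw
    have ht'eq : t' = (f⁻¹ * a) • (G.presheaf.stalkSpecializes hsp).hom w := by
      rw [hw, RefGenericExt.stalkSpecializes_stalkMapₗ, mul_smul, ← map_smul, ← hsa, ← hf',
        ← mul_smul, inv_mul_cancel₀ hf0, one_smul]
    have hfa0 : f⁻¹ * a ≠ 0 := mul_ne_zero (inv_ne_zero hf0) ha
    have hordG := Groth.Agent.H54.OrdAtOrd.secOrdAt_eq_ord G x hx hsp w hwb hbη.1 (f⁻¹ * a) hfa0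
      (Submodule.Quotient.mk t') (by rw [ht'eq])
    rw [hordG]
    have h1 : Scheme.ord ((f⁻¹ * a : X.presheaf.stalk (genericPoint X)) : X.functionField) x =
        Scheme.ord ((f⁻¹ : X.presheaf.stalk (genericPoint X)) : X.functionField) x +
          Scheme.ord (a : X.functionField) x :=
      Scheme.ord_mul (inv_ne_zero hf0) ha
    have h3 := ord_inv x (f : X.functionField) hf0
    rw [h1]
    change _ = Scheme.ord ((f : X.functionField)⁻¹) x + _ + _
    rw [h3]
    ring
  · rintro ⟨f, hf0, hord⟩
    -- the maps of generic stalks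
    let eF := LinearEquiv.ofBijective
      (LinearMap.toSpanSingleton (X.presheaf.stalk (genericPoint X)) _ s') hbs
    let eG := LinearEquiv.ofBijective
      (LinearMap.toSpanSingleton (X.presheaf.stalk (genericPoint X)) _ t') hbt
    let T : F.presheaf.stalk (genericPoint X) →ₗ[X.presheaf.stalk (genericPoint X)]
        G.presheaf.stalk (genericPoint X) :=
      (LinearMap.toSpanSingleton (X.presheaf.stalk (genericPoint X)) _ (f • t')).comp
        eF.symm.toLinearMap
    let T' : G.presheaf.stalk (genericPoint X) →ₗ[X.presheaf.stalk (genericPoint X)]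
        F.presheaf.stalk (genericPoint X) :=
      (LinearMap.toSpanSingleton (X.presheaf.stalk (genericPoint X)) _ (f⁻¹ • s')).comp
        eG.symm.toLinearMap
    have hT : ∀ c : X.presheaf.stalk (genericPoint X), T (c • s') = (c * f) • t' := by
      intro c
      have h1 : eF.symm (c • s') = c := by
        rw [LinearEquiv.symm_apply_eq]
        rfl
      change LinearMap.toSpanSingleton _ _ (f • t') (eF.symm (c • s')) = _
      rw [h1, LinearMap.toSpanSingleton_apply, mul_smul]
    have hT' : ∀ c : X.presheaf.stalk (genericPoint X), T' (c • t') = (c * f⁻¹) • s' := by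
      intro c
      have h1 : eG.symm (c • t') = c := by
        rw [LinearEquiv.symm_apply_eq]
        rfl
      change LinearMap.toSpanSingleton _ _ (f⁻¹ • s') (eG.symm (c • t')) = _
      rw [h1, LinearMap.toSpanSingleton_apply, mul_smul]
    have hTT' : T'.comp T = LinearMap.id := by
      apply LinearMap.ext
      intro v
      obtain ⟨c, rfl⟩ := hbs.2 v
      change T' (T (c • s')) = c • s'
      rw [hT, hT', mul_assoc, mul_inv_cancel₀ hf0, mul_one]
    have hT'T : T.comp T' = LinearMap.id := by
      apply LinearMap.ext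
      intro v
      obtain ⟨c, rfl⟩ := hbt.2 v
      change T (T' (c • t')) = c • t'
      rw [hT', hT, mul_assoc, inv_mul_cancel₀ hf0, mul_one]
    have hdim : ∀ x : X, ringKrullDim (X.presheaf.stalk x) = 1 → Order.coheight x = 1 := by
      intro x hx
      rw [ringKrullDim_stalk_eq_coheight] at hx
      exact_mod_cast hx
    have hcondT : ∀ x : X, ringKrullDim (X.presheaf.stalk x) = 1 →
        Set.MapsTo T
          (Set.range (F.presheaf.stalkSpecializes (genericPoint_specializes x)).hom)
          (Set.range (G.presheaf.stalkSpecializes (genericPoint_specializes x)).hom) :=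
      fun x hx => mapsTo_of_ord hX F G hF hG s' hs' t' ht' f hf0 T hT x (hdim x hx)
        (hord x (hdim x hx))
    have hcondT' : ∀ x : X, ringKrullDim (X.presheaf.stalk x) = 1 →
        Set.MapsTo T'
          (Set.range (G.presheaf.stalkSpecializes (genericPoint_specializes x)).hom)
          (Set.range (F.presheaf.stalkSpecializes (genericPoint_specializes x)).hom) := by
      intro x hx
      refine mapsTo_of_ord hX G F hG hF t' ht' s' hs' f⁻¹ (inv_ne_zero hf0) T' hT' x (hdim x hx) ?_
      have h1 := hord x (hdim x hx)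
      have h3 := ord_inv x (f : X.functionField) hf0
      change _ = _ + Scheme.ord ((f : X.functionField)⁻¹) x
      rw [h3, h1]
      ring
    obtain ⟨ψ, hψ⟩ := (RefGenericExt.exists_hom_iff X hX G F hG.1 hF.1 T).mpr hcondT
    obtain ⟨χ, hχ⟩ := (RefGenericExt.exists_hom_iff X hX F G hF.1 hG.1 T').mpr hcondT'
    haveI : IsIso (RefHull.bidualMap F) := hF.2.1
    haveI : IsIso (RefHull.bidualMap G) := hG.2.1
    set ψ' : F ⟶ G := ψ ≫ inv (RefHull.bidualMap G) with hψ'
    set χ' : G ⟶ F := χ ≫ inv (RefHull.bidualMap F) with hχ'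
    have hψ'η : RefHull.stalkMapₗ ψ' (genericPoint X) = T := by
      have h1 : ψ' ≫ RefHull.bidualMap G = ψ := by
        rw [hψ', Category.assoc, IsIso.inv_hom_id, Category.comp_id]
      have h2 := congrArg (fun θ => RefHull.stalkMapₗ θ (genericPoint X)) h1
      simp only [RefFun.stalkMapₗ_comp] at h2
      rw [hψ] at h2
      apply LinearMap.ext
      intro v
      have h3 := LinearMap.congr_fun h2 v
      exact (RefGenericExt.bijective_stalkMapₗ_bidualMap_genericPoint X G hG.1).1 h3
    have hχ'η : RefHull.stalkMapₗ χ' (genericPoint X) = T' := by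
      have h1 : χ' ≫ RefHull.bidualMap F = χ := by
        rw [hχ', Category.assoc, IsIso.inv_hom_id, Category.comp_id]
      have h2 := congrArg (fun θ => RefHull.stalkMapₗ θ (genericPoint X)) h1
      simp only [RefFun.stalkMapₗ_comp] at h2
      rw [hχ] at h2
      apply LinearMap.ext
      intro v
      have h3 := LinearMap.congr_fun h2 v
      exact (RefGenericExt.bijective_stalkMapₗ_bidualMap_genericPoint X F hF.1).1 h3
    refine ⟨⟨ψ', χ', ?_, ?_⟩⟩
    · apply hom_ext_of_genericPoint (isTorsionFree_stalks F hF)
      rw [RefFun.stalkMapₗ_comp, RefFun.stalkMapₗ_id, hψ'η, hχ'η, hTT']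
    · apply hom_ext_of_genericPoint (isTorsionFree_stalks G hG)
      rw [RefFun.stalkMapₗ_comp, RefFun.stalkMapₗ_id, hψ'η, hχ'η, hT'T]

end Groth.Agent.H6.Ref1
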