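import Groth.Agent.H6.ReflUFD
import Groth.Agent.H6.RefOneCodim
import Groth.Agent.H56.AusBuchUFD
import Groth.Agent.H67.FreeLocus

/-!
# Rank one reflexive modules on regular schemes are invertible (helper6)
-/

set_option autoImplicit false
set_option linter.style.haveILetI false
universe u

namespace Groth.Agent.H6.RefOneInvertible

open AlgebraicGeometry CategoryTheory CategoryTheory.Limits Opposite TopologicalSpace

variable {X : Scheme.{u}}

/-- rank at most one for the sections over a nonempty affine open of a quasi-coherent torsion-free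
module whose generic stalk is generated by one element -/
theorem rank_le_one_sections [IsIntegral X] (F : X.Modules) [F.IsQuasicoherent]
    (htf : ∀ x : X, Module.IsTorsionFree (X.presheaf.stalk x) (F.presheaf.stalk x))
    (v0 : F.presheaf.stalk (genericPoint X))
    (hv0 : Function.Surjective (fun a : X.presheaf.stalk (genericPoint X) => a • v0))
    {W : X.Opens} (hW : IsAffineOpen W) (hη : genericPoint X ∈ W) (m n : Γ(F, W)) :
    ∃ a b : Γ(X, W), (a ≠ 0 ∨ b ≠ 0) ∧ a • m = b • n := by
  haveI : Nonempty W := ⟨⟨_, hη⟩⟩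
  haveI := functionField_isFractionRing_of_isAffineOpen X W hW
  obtain ⟨α, hα⟩ := hv0 (F.presheaf.germ W (genericPoint X) hη m)
  obtain ⟨β, hβ⟩ := hv0 (F.presheaf.germ W (genericPoint X) hη n)
  have hα' : α • v0 = F.presheaf.germ W (genericPoint X) hη m := hα
  have hβ' : β • v0 = F.presheaf.germ W (genericPoint X) hη n := hβ
  have hinj : ∀ t : Γ(F, W), F.presheaf.germ W (genericPoint X) hη t = 0 → t = 0 :=
    fun t ht => RefOneCodim.eq_zero_of_germ_genericPoint_eq_zero F htf hη t ht
  have halg : ∀ a : Γ(X, W), algebraMap Γ(X, W) X.functionField a =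
      X.presheaf.germ W (genericPoint X) hη a := fun a => rfl
  by_cases hβ0 : β = 0
  · refine ⟨0, 1, Or.inr one_ne_zero, ?_⟩
    have hn : n = 0 := by
      apply hinj
      rw [← hβ', hβ0, zero_smul]
    rw [zero_smul, hn, smul_zero]
  · obtain ⟨a1, a0, ha0, hα1⟩ := IsFractionRing.div_surjective (A := Γ(X, W)) (α : X.functionField)
    obtain ⟨b1, b0, hb0, hβ1⟩ := IsFractionRing.div_surjective (A := Γ(X, W)) (β : X.functionField)
    have ha0' : algebraMap Γ(X, W) X.functionField a0 ≠ 0 :=
      IsFractionRing.to_map_ne_zero_of_mem_nonZeroDivisors ha0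
    have hb0' : algebraMap Γ(X, W) X.functionField b0 ≠ 0 :=
      IsFractionRing.to_map_ne_zero_of_mem_nonZeroDivisors hb0
    have hb1 : b1 ≠ 0 := by
      intro h
      apply hβ0
      rw [← hβ1, h, map_zero, zero_div]
    refine ⟨a0 * b1, b0 * a1, Or.inl (mul_ne_zero (nonZeroDivisors.ne_zero ha0) hb1), ?_⟩
    rw [← sub_eq_zero]
    apply hinj
    rw [map_sub, sub_eq_zero, Mero.germ_smul, Mero.germ_smul, ← hα', ← hβ', smul_smul, smul_smul,
      ← halg, ← halg, ← hα1, ← hβ1, map_mul, map_mul]
    congr 1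
    field_simp

open Groth.Agent.H8 in
/-- the stalks of a coherent module with reflexive stalks and one-dimensional generic stalk on a
regular integral scheme are free of rank one -/
theorem nonempty_linearEquiv_stalk [IsIntegral X] [IsLocallyNoetherian X]
    (hreg : ∀ x : X, IsRegularLocalRing (X.presheaf.stalk x)) (F : X.Modules) (hF : Coh.IsCoh F)
    (hrefl : ∀ x : X, Module.IsReflexive (X.presheaf.stalk x) (F.presheaf.stalk x))
    (v0 : F.presheaf.stalk (genericPoint X))
    (hv0 : Function.Bijective (fun a : X.presheaf.stalk (genericPoint X) => a • v0)) (x : X) :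
    Nonempty (X.presheaf.stalk x ≃ₗ[X.presheaf.stalk x] F.presheaf.stalk x) := by
  haveI : F.IsQuasicoherent := hF.1
  have htf : ∀ y : X, Module.IsTorsionFree (X.presheaf.stalk y) (F.presheaf.stalk y) := by
    intro y
    haveI := hrefl y
    infer_instance
  obtain ⟨W, hW, hxW, -⟩ := exists_isAffineOpen_mem_and_subset (x := x) (U := ⊤) trivial
  have hsp : genericPoint X ⤳ x := genericPoint_specializes x
  have hη : genericPoint X ∈ W := hsp.mem_open W.2 hxW
  have hinj : ∀ t : Γ(F, W), F.presheaf.germ W (genericPoint X) hη t = 0 → t = 0 :=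
    fun t ht => RefOneCodim.eq_zero_of_germ_genericPoint_eq_zero F htf hη t ht
  have hgs : ∀ t : Γ(F, W), F.presheaf.germ W x hxW t = 0 →
      F.presheaf.germ W (genericPoint X) hη t = 0 := by
    intro t ht
    have h1 := TopCat.Presheaf.germ_stalkSpecializes F.presheaf hxW hsp
    have h2 := ConcreteCategory.congr_hom h1 t
    rw [← h2, ConcreteCategory.comp_apply, ht, map_zero]
  haveI := hreg x
  haveI : UniqueFactorizationMonoid (X.presheaf.stalk x) :=
    Groth.Agent.H56.AusBuchUFD.uniqueFactorizationMonoid _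
  haveI : IsDomain (X.presheaf.stalk x) := inferInstance
  haveI : Module.Finite (X.presheaf.stalk x) (F.presheaf.stalk x) :=
    HomSh.finite_stalk_of_isCoh F hF x
  haveI := hrefl x
  have hv00 : v0 ≠ 0 := by
    intro h
    have h1 : (fun a : X.presheaf.stalk (genericPoint X) => a • v0) 1 =
        (fun a : X.presheaf.stalk (genericPoint X) => a • v0) 0 := by
      simp only [h, smul_zero]
    exact one_ne_zero (hv0.1 h1)
  -- the stalk at `x` is nontrivial
  haveI : Nontrivial (F.presheaf.stalk x) := by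
    by_contra hcon
    rw [not_nontrivial_iff_subsingleton] at hcon
    apply hv00
    letI := stalkModule F hη
    haveI := isLocalizedModule_germₗ F hW hη
    obtain ⟨⟨m0, s⟩, hms⟩ := IsLocalizedModule.surj
      (hW.primeIdealOf ⟨genericPoint X, hη⟩).asIdeal.primeCompl (germₗ F hη) v0
    have h1 : germₗ F hη m0 = 0 := hgs m0 (Subsingleton.elim _ _)
    have h2 : s • v0 = 0 := by rw [hms]; exact h1
    apply IsLocalizedModule.smul_injective (germₗ F hη) s
    change s • v0 = s • (0 : F.presheaf.stalk (genericPoint X))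
    rw [h2, smul_zero]
  letI := stalkModule F hxW
  haveI := isLocalizedModule_germₗ F hW hxW
  apply ReflUFD.nonempty_linearEquiv_of_isReflexive_of_rank_one
  intro m' n'
  obtain ⟨⟨m, s⟩, hms⟩ := IsLocalizedModule.surj
    (hW.primeIdealOf ⟨x, hxW⟩).asIdeal.primeCompl (germₗ F hxW) m'
  obtain ⟨⟨n, t⟩, hnt⟩ := IsLocalizedModule.surj
    (hW.primeIdealOf ⟨x, hxW⟩).asIdeal.primeCompl (germₗ F hxW) n'
  have hms' : X.presheaf.germ W x hxW (s : Γ(X, W)) • m' = F.presheaf.germ W x hxW m := hms
  have hnt' : X.presheaf.germ W x hxW (t : Γ(X, W)) • n' = F.presheaf.germ W x hxW n := hnt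
  obtain ⟨a, b, hab, h⟩ := rank_le_one_sections F htf v0 hv0.2 hW hη m n
  have hs0 : (s : Γ(X, W)) ≠ 0 := fun h0 => s.2 (by rw [h0]; exact Ideal.zero_mem _)
  have ht0 : (t : Γ(X, W)) ≠ 0 := fun h0 => t.2 (by rw [h0]; exact Ideal.zero_mem _)
  haveI : Nonempty W := ⟨⟨x, hxW⟩⟩
  haveI : IsDomain Γ(X, W) := inferInstance
  have hgi : ∀ c : Γ(X, W), c ≠ 0 → X.presheaf.germ W x hxW c ≠ 0 := by
    intro c hc h0
    apply hc
    apply germ_injective_of_isIntegral X x hxW
    rw [h0, map_zero]
  refine ⟨X.presheaf.germ W x hxW (a * s), X.presheaf.germ W x hxW (b * t), ?_, ?_⟩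
  · rcases hab with ha | hb
    · exact Or.inl (hgi _ (mul_ne_zero ha hs0))
    · exact Or.inr (hgi _ (mul_ne_zero hb ht0))
  · rw [map_mul, map_mul, mul_smul, mul_smul, hms', hnt', ← Mero.germ_smul, ← Mero.germ_smul, h]

open Scheme.Modules Groth.Agent.H44 in
/-- a quasi-coherent module with finitely presented sections over an affine open `V` whose stalk
at `x ∈ V` is free of rank one is isomorphic to the structure sheaf near `x` -/
theorem exists_nhds_iso_structureModule (F : X.Modules) [F.IsQuasicoherent] {V : X.Opens}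
    (hV : IsAffineOpen V) [Module.FinitePresentation Γ(X, V) Γ(F, V)] {x : X} (hx : x ∈ V)
    (h : Nonempty (X.presheaf.stalk x ≃ₗ[X.presheaf.stalk x] F.presheaf.stalk x)) :
    ∃ U : X.Opens, x ∈ U ∧
      Nonempty (F.restrict U.ι ≅ Coh.structureModule (U : Scheme.{u})) := by
  set p := (hV.primeIdealOf ⟨x, hx⟩).asIdeal with hp
  letI := Groth.Agent.H8.stalkModule F hx
  letI : Algebra Γ(X, V) (X.presheaf.stalk x) :=
    TopCat.Presheaf.algebra_section_stalk X.presheaf ⟨x, hx⟩
  haveI : IsScalarTower Γ(X, V) (X.presheaf.stalk x) (F.presheaf.stalk x) :=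
    IsScalarTower.of_algebraMap_smul (fun r m => rfl)
  haveI := hV.isLocalization_stalk ⟨x, hx⟩
  haveI := Groth.Agent.H8.isLocalizedModule_germₗ F hV hx
  obtain ⟨ε⟩ := h
  let b : Module.Basis (Fin 1) (X.presheaf.stalk x) (F.presheaf.stalk x) :=
    Module.Basis.ofEquivFun
      (ε.symm.trans (LinearEquiv.funUnique (Fin 1) (X.presheaf.stalk x) (X.presheaf.stalk x)).symm)
  obtain ⟨r, hr, b', -⟩ := Module.FinitePresentation.exists_basis_localizedModule_powers
    p.primeCompl (Groth.Agent.H8.germₗ F hx) (X.presheaf.stalk x) b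
  letI := basicOpenModule F r
  haveI := isScalarTower_basicOpen F r
  haveI := isLocalizedModule_resBasicOpen F r hV
  haveI : IsLocalization (.powers r) Γ(X, X.basicOpen r) := hV.isLocalization_basicOpen r
  let b'' : Module.Basis (Fin 1) Γ(X, X.basicOpen r) Γ(F, X.basicOpen r) :=
    basisOfLocalizedModule (.powers r) Γ(X, X.basicOpen r) (resBasicOpen F r) b'
  obtain ⟨iso⟩ := nonempty_iso_freeMod_of_basis F (hV.basicOpen r) b''
  refine ⟨X.basicOpen r, (Groth.Agent.H8.notMem_primeIdealOf_iff hV hx r).mp hr, ⟨iso ≪≫ ?_⟩⟩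
  exact coproductUniqueIso (fun _ : Fin 1 => Coh.structureModule ((X.basicOpen r : X.Opens) : Scheme.{u}))

/-- S16491: a coherent reflexive module of rank one on a regular integral locally Noetherian
scheme is invertible -/
theorem isInvertible_of_isReflexive (X : Scheme.{u}) [IsIntegral X] [IsLocallyNoetherian X]
    (hreg : ∀ x : X, IsRegularLocalRing (X.presheaf.stalk x)) (F : X.Modules) (hF : Coh.IsCoh F)
    (hrefl : RefHull.IsReflexive F) (hrk : RefHull.GenInvertible F) : PicF.IsInvertible F := by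
  haveI : F.IsQuasicoherent := hF.1
  have hreflAt : ∀ x : X, Module.IsReflexive (X.presheaf.stalk x) (F.presheaf.stalk x) :=
    (HomSh.isReflexive_iff_forall_isReflexiveAt F hF).mp hrefl
  obtain ⟨U, hUd, hUinv⟩ := hrk
  have hηU : genericPoint X ∈ U := by
    obtain ⟨x, hx⟩ := hUd.nonempty
    exact ((genericPoint_spec X).mem_open_set_iff U.2).mpr ⟨x, Set.mem_univ x, hx⟩
  obtain ⟨v0, hv0⟩ := RefOneCodim.exists_gen_stalk_of_isInvertible_restrict F U hUinv _ hηU
  intro x
  obtain ⟨V, hV, hxV, -⟩ := exists_isAffineOpen_mem_and_subset (x := x) (U := ⊤) trivial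
  haveI := HomSh.finitePresentation_sections F hF V hV
  exact exists_nhds_iso_structureModule F hV hxV
    (nonempty_linearEquiv_stalk hreg F hF hreflAt v0 hv0 x)

end Groth.Agent.H6.RefOneInvertible
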