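import Mathlib

/-!
# Membership in `m • M_p` for a localized module (helper6)
-/

set_option autoImplicit false
universe u

namespace Groth.Agent.H6.RefPowAff

/-- if the image of `σ` in the localization `M_p` lies in `m M_p`, then `a σ ∈ p M` for some
`a ∉ p` -/
theorem exists_smul_mem_of_map_mem {A : Type*} [CommRing A] (p : Ideal A) [p.IsPrime]
    {A' : Type*} [CommRing A'] [Algebra A A'] [IsLocalRing A'] [IsLocalization.AtPrime A' p]
    {M M' : Type*} [AddCommGroup M] [Module A M] [AddCommGroup M'] [Module A M'] [Module A' M']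
    [IsScalarTower A A' M'] (f : M →ₗ[A] M') [IsLocalizedModule p.primeCompl f] (σ : M)
    (h : f σ ∈ IsLocalRing.maximalIdeal A' • (⊤ : Submodule A' M')) :
    ∃ a : A, a ∉ p ∧ a • σ ∈ p • (⊤ : Submodule A M) := by
  have key : ∀ y ∈ IsLocalRing.maximalIdeal A' • (⊤ : Submodule A' M'),
      ∃ t : A, t ∉ p ∧ ∃ y' ∈ p • (⊤ : Submodule A M), t • y = f y' := by
    intro y hy
    refine Submodule.smul_induction_on hy ?_ ?_
    · intro c hc m' _
      obtain ⟨c0, t0, rfl⟩ := IsLocalization.exists_mk'_eq p.primeCompl c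
      rw [IsLocalization.AtPrime.mk'_mem_maximal_iff A' p] at hc
      obtain ⟨⟨m0, t1⟩, rfl⟩ := IsLocalizedModule.mk'_surjective p.primeCompl f m'
      refine ⟨(t0 : A) * (t1 : A), ?_, c0 • m0, Submodule.smul_mem_smul hc trivial, ?_⟩
      · exact (t0 * t1).2
      · have h1 : (t1 : A) • IsLocalizedModule.mk' f m0 t1 = f m0 :=
          IsLocalizedModule.mk'_cancel' f m0 t1
        have h2 : algebraMap A A' (t0 : A) * IsLocalization.mk' A' c0 t0 = algebraMap A A' c0 :=
          IsLocalization.mk'_spec' A' c0 t0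
        simp only [Function.uncurry_apply_pair]
        rw [mul_smul, smul_comm (t1 : A) (IsLocalization.mk' A' c0 t0), h1,
          ← algebraMap_smul A' (t0 : A), ← mul_smul, h2, algebraMap_smul, map_smul]
    · intro y1 y2 ⟨t1, ht1, y1', hy1', h1⟩ ⟨t2, ht2, y2', hy2', h2⟩
      refine ⟨t1 * t2, ?_, t2 • y1' + t1 • y2', ?_, ?_⟩
      · exact (inferInstance : p.IsPrime).mul_notMem ht1 ht2
      · exact Submodule.add_mem _ (Submodule.smul_mem _ _ hy1') (Submodule.smul_mem _ _ hy2')
      · rw [smul_add, map_add, map_smul, map_smul, ← h1, ← h2, mul_smul, mul_smul,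
          smul_comm t1 t2 y1]
  obtain ⟨t, ht, y', hy', h1⟩ := key _ h
  rw [← map_smul] at h1
  obtain ⟨c, hc⟩ := IsLocalizedModule.exists_of_eq (S := p.primeCompl) (f := f) h1
  refine ⟨(c : A) * t, (inferInstance : p.IsPrime).mul_notMem c.2 ht, ?_⟩
  rw [mul_smul]
  have hc' : (c : A) • t • σ = (c : A) • y' := hc
  rw [hc']
  exact Submodule.smul_mem _ _ hy'

end Groth.Agent.H6.RefPowAff
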