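import Groth.Agent.H6.RefPowMain
import Groth.Agent.H6.RefPowAffineAlg
import Groth.Agent.H6.RefOneInvertible

/-!
# Affineness of the locus where a section of a rank one reflexive module generates (helper6)
-/

set_option autoImplicit false
set_option linter.style.haveILetI false
universe u

namespace Groth.Agent.H6.RefPowAff

open AlgebraicGeometry CategoryTheory CategoryTheory.Limits Opposite TopologicalSpace
open Groth.Agent.H6.RefPowS

variable {X : Scheme.{u}}

/-- if the germ of `σ` at `x` lies in `m_x G_x`, then `a σ ∈ p Γ(G, V)` for some `a` invertible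
at `x` -/
theorem exists_smul_mem_of_germ_mem (G : X.Modules) [G.IsQuasicoherent] {V : X.Opens}
    (hV : IsAffineOpen V) {x : X} (hx : x ∈ V) (σ : Γ(G, V))
    (h : G.presheaf.germ V x hx σ ∈ IsLocalRing.maximalIdeal (X.presheaf.stalk x) •
      (⊤ : Submodule (X.presheaf.stalk x) (G.presheaf.stalk x))) :
    ∃ a : Γ(X, V), x ∈ X.basicOpen a ∧
      a • σ ∈ (hV.primeIdealOf ⟨x, hx⟩).asIdeal • (⊤ : Submodule Γ(X, V) Γ(G, V)) := by
  letI := Groth.Agent.H8.stalkModule G hx
  letI : Algebra Γ(X, V) (X.presheaf.stalk x) :=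
    TopCat.Presheaf.algebra_section_stalk X.presheaf ⟨x, hx⟩
  haveI : IsScalarTower Γ(X, V) (X.presheaf.stalk x) (G.presheaf.stalk x) :=
    IsScalarTower.of_algebraMap_smul (fun r m => rfl)
  haveI := hV.isLocalization_stalk ⟨x, hx⟩
  haveI := Groth.Agent.H8.isLocalizedModule_germₗ G hV hx
  obtain ⟨a, ha, hmem⟩ := exists_smul_mem_of_map_mem (hV.primeIdealOf ⟨x, hx⟩).asIdeal
    (Groth.Agent.H8.germₗ G hx) σ h
  exact ⟨a, (Groth.Agent.H8.notMem_primeIdealOf_iff hV hx a).mp ha, hmem⟩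

/-- conversely, if `a σ ∈ p Γ(G, V)` with `a` invertible at `x`, the germ of `σ` lies in
`m_x G_x` -/
theorem germ_mem_of_smul_mem (G : X.Modules) {V : X.Opens}
    (hV : IsAffineOpen V) {x : X} (hx : x ∈ V) (σ : Γ(G, V)) (a : Γ(X, V))
    (ha : x ∈ X.basicOpen a)
    (h : a • σ ∈ (hV.primeIdealOf ⟨x, hx⟩).asIdeal • (⊤ : Submodule Γ(X, V) Γ(G, V))) :
    G.presheaf.germ V x hx σ ∈ IsLocalRing.maximalIdeal (X.presheaf.stalk x) •
      (⊤ : Submodule (X.presheaf.stalk x) (G.presheaf.stalk x)) := by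
  have key : ∀ t ∈ (hV.primeIdealOf ⟨x, hx⟩).asIdeal • (⊤ : Submodule Γ(X, V) Γ(G, V)),
      G.presheaf.germ V x hx t ∈ IsLocalRing.maximalIdeal (X.presheaf.stalk x) •
        (⊤ : Submodule (X.presheaf.stalk x) (G.presheaf.stalk x)) := by
    intro t ht
    refine Submodule.smul_induction_on ht ?_ ?_
    · intro r hr t' _
      rw [Groth.Agent.H8.germ_smul]
      refine Submodule.smul_mem_smul ?_ trivial
      rw [IsLocalRing.mem_maximalIdeal, mem_nonunits_iff]
      exact (Groth.Agent.H8.mem_primeIdealOf_iff hV hx r).mp hr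
    · intro t1 t2 h1 h2
      rw [map_add]
      exact Submodule.add_mem _ h1 h2
  have h1 := key _ h
  rw [Groth.Agent.H8.germ_smul] at h1
  have hu : IsUnit (X.presheaf.germ V x hx a) := (X.mem_basicOpen a x hx).mp ha
  obtain ⟨u, hu⟩ := hu
  have h2 : G.presheaf.germ V x hx σ =
      (↑u⁻¹ : X.presheaf.stalk x) • (X.presheaf.germ V x hx a • G.presheaf.germ V x hx σ) := by
    rw [← hu, smul_smul, Units.inv_mul, one_smul]
  rw [h2]
  exact Submodule.smul_mem _ _ h1

variable [IsLocallyNoetherian X] {F : X.Modules}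

/-- the legs send `s^n` to `1` -/
theorem leg_app_val (hF : Coh.IsCoh F) (s : Coh.structureModule X ⟶ F) (U : X.Opens)
    (hU : (U : Set X) = RefPow.isoLocus s) (n : ℕ) (V : X.Opens) :
    (leg hF s U hU n).app V (SecTwist.val (RefPow.sPow s n) V) =
      (show Γ(P U, V) from (1 : Γ(X, U.ι ''ᵁ (U.ι ⁻¹ᵁ V)))) := by
  apply sPow_app_injective hF s U hU n V
  refine (leg_spec hF s U hU n V _).trans ?_
  exact SecTwist.map_val (RefPow.sPow s n) (homOfLE (U.ι.image_preimage_le V))

omit [IsLocallyNoetherian X] in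
/-- the module structure on the sections of `j_* O_U` -/
theorem smul_P (U V : X.Opens) (a : Γ(X, V)) (b : Γ(P U, V)) :
    a • b = (show Γ(P U, V) from
      (X.presheaf.map (homOfLE (U.ι.image_preimage_le V)).op).hom a *
        (show Γ(X, U.ι ''ᵁ (U.ι ⁻¹ᵁ V)) from b)) := by
  have h1 : a • b = (show Γ(P U, V) from
      ((U.ι.appIso (U.ι ⁻¹ᵁ V)).inv (U.ι.app V a)) *
        (show Γ(X, U.ι ''ᵁ (U.ι ⁻¹ᵁ V)) from b)) := rfl
  rw [h1]
  have h2 : (U.ι.appIso (U.ι ⁻¹ᵁ V)).inv (U.ι.app V a) =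
      (X.presheaf.map (homOfLE (U.ι.image_preimage_le V)).op).hom a :=
    congr($(U.ι.app_appIso_inv V) a)
  rw [h2]

/-- the legs are injective on sections when `U` is nonempty -/
theorem leg_app_injective [IsIntegral X] (hF : Coh.IsCoh F)
    (hrefl : ∀ x : X, Module.IsReflexive (X.presheaf.stalk x) (F.presheaf.stalk x))
    (s : Coh.structureModule X ⟶ F) (U : X.Opens)
    (hU : (U : Set X) = RefPow.isoLocus s) (hηU : genericPoint X ∈ U) (n : ℕ) (V : X.Opens)
    (t t' : Γ(RefPow.refPow F n, V))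
    (h : (leg hF s U hU n).app V t = (leg hF s U hU n).app V t') : t = t' := by
  apply HomSh.section_ext
  rintro ⟨y, hy⟩
  rw [← sub_eq_zero, ← map_sub]
  apply leg_stalk_injective hF hrefl s U hU hηU n y
  rw [RefHull.stalkMapₗ_germ, map_sub, h, sub_self, map_zero]

/-- sections in the image of a leg are in the image of all later legs -/
theorem exists_leg_le (hF : Coh.IsCoh F) (s : Coh.structureModule X ⟶ F) (U : X.Opens)
    (hU : (U : Set X) = RefPow.isoLocus s) (V : X.Opens) (n N : ℕ) (hnN : n ≤ N)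
    (t : Γ(RefPow.refPow F n, V)) :
    ∃ t' : Γ(RefPow.refPow F N, V), (leg hF s U hU N).app V t' = (leg hF s U hU n).app V t := by
  induction N, hnN using Nat.le_induction with
  | base => exact ⟨t, rfl⟩
  | succ N _ ih =>
    obtain ⟨t', ht'⟩ := ih
    refine ⟨(RefPow.mulBy s N).app V t', ?_⟩
    rw [← ht', ← mulBy_leg hF s U hU N]
    rfl

omit [IsLocallyNoetherian X] in
/-- the germ of `s^n` computed on any open -/
theorem sPowGerm_eq_germ (s : Coh.structureModule X ⟶ F) (n : ℕ) (V : X.Opens) (x : X)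
    (hx : x ∈ V) :
    RefPow.sPowGerm s n x =
      (RefPow.refPow F n).presheaf.germ V x hx (SecTwist.val (RefPow.sPow s n) V) := by
  unfold RefPow.sPowGerm
  rw [← SecTwist.map_val (RefPow.sPow s n) (homOfLE (le_top : V ≤ ⊤))]
  exact (TopCat.Presheaf.germ_res_apply (RefPow.refPow F n).presheaf (homOfLE (le_top : V ≤ ⊤))
    x hx _).symm

/-- (2) ⇒ (1): if at every point outside `U` some power of `s` lies in `m_x F^[n]_x`, then `U`
is affine over `X` -/
theorem isAffineHom_of_forall_mem (hF : Coh.IsCoh F)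
    (s : Coh.structureModule X ⟶ F) (U : X.Opens) (hU : (U : Set X) = RefPow.isoLocus s)
    (h2 : ∀ x : X, x ∉ U → ∃ n : ℕ, 0 < n ∧
      RefPow.sPowGerm s n x ∈ IsLocalRing.maximalIdeal (X.presheaf.stalk x) •
        (⊤ : Submodule (X.presheaf.stalk x) ((RefPow.refPow F n).presheaf.stalk x))) :
    IsAffineHom U.ι := by
  refine ⟨fun V hV => ?_⟩
  rw [← U.ι.isAffineOpen_iff_of_isOpenImmersion]
  have hWV : U.ι ''ᵁ (U.ι ⁻¹ᵁ V) ≤ V := U.ι.image_preimage_le V
  apply isAffineOpen_of_isAffineOpen_basicOpen (U.ι ''ᵁ (U.ι ⁻¹ᵁ V))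
    {b | ∃ f : Γ(X, V), X.basicOpen f ≤ U ∧ (X.presheaf.map (homOfLE hWV).op).hom f = b}
  · by_contra hne
    obtain ⟨q, hq, hle⟩ := Ideal.exists_le_maximal _ hne
    haveI := hq.isPrime
    set p0 : Ideal Γ(X, V) := q.comap (X.presheaf.map (homOfLE hWV).op).hom with hp0
    haveI hp0prime : p0.IsPrime := Ideal.comap_isPrime _ q
    set x : X := hV.fromSpec ⟨p0, hp0prime⟩ with hx
    have hxV : x ∈ V := by
      have h1 : x ∈ Set.range hV.fromSpec := Set.mem_range_self _
      rw [hV.range_fromSpec] at h1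
      exact h1
    have key : ∀ f : Γ(X, V), x ∈ X.basicOpen f ↔ f ∉ p0 := by
      intro f
      have h1 := hV.fromSpec_preimage_basicOpen f
      change (⟨p0, hp0prime⟩ : Spec Γ(X, V)) ∈ hV.fromSpec ⁻¹ᵁ X.basicOpen f ↔ _
      rw [h1]
      rfl
    by_cases hxU : x ∈ U
    · obtain ⟨f, hfle, hxf⟩ := hV.exists_basicOpen_le ⟨x, hxU⟩ hxV
      have h3 : (X.presheaf.map (homOfLE hWV).op).hom f ∈ q :=
        hle (Ideal.subset_span ⟨f, hfle, rfl⟩)
      exact (key f).mp hxf h3
    · obtain ⟨n, -, hn⟩ := h2 x hxU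
      haveI : (RefPow.refPow F n).IsQuasicoherent := (isCoh_refPow hF n).1
      rw [sPowGerm_eq_germ s n V x hxV] at hn
      obtain ⟨a, hxa, hmem⟩ := exists_smul_mem_of_germ_mem (RefPow.refPow F n) hV hxV _ hn
      have hp : ∀ r ∈ (hV.primeIdealOf ⟨x, hxV⟩).asIdeal, r ∈ p0 := by
        intro r hr
        by_contra hr0
        exact ((Groth.Agent.H8.notMem_primeIdealOf_iff hV hxV r).mpr ((key r).mpr hr0)) hr
      have key2 : ∀ t ∈ (hV.primeIdealOf ⟨x, hxV⟩).asIdeal •
          (⊤ : Submodule Γ(X, V) Γ(RefPow.refPow F n, V)),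
          (show Γ(X, U.ι ''ᵁ (U.ι ⁻¹ᵁ V)) from (leg hF s U hU n).app V t) ∈ q := by
        intro t ht
        refine Submodule.smul_induction_on ht ?_ ?_
        · intro r hr t' _
          rw [Scheme.Modules.Hom.app_smul, smul_P]
          exact q.mul_mem_right _ (hp r hr)
        · intro t1 t2 h1 h2
          rw [map_add]
          exact q.add_mem h1 h2
      have h5 := key2 _ hmem
      rw [Scheme.Modules.Hom.app_smul, leg_app_val, smul_P] at h5
      have h6 : (X.presheaf.map (homOfLE hWV).op).hom a ∈ q := by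
        have h7 := h5
        change (X.presheaf.map (homOfLE hWV).op).hom a * 1 ∈ q at h7
        rwa [mul_one] at h7
      exact (key a).mp hxa h6
  · rintro _ ⟨f, hfU, rfl⟩
    have h1 : X.basicOpen ((X.presheaf.map (homOfLE hWV).op).hom f) = X.basicOpen f := by
      rw [Scheme.basicOpen_res]
      exact inf_eq_right.mpr (fun y hy => mem_image_preimage (hfU hy) (X.basicOpen_le f hy))
    rw [h1]
    exact hV.basicOpen f

omit [IsLocallyNoetherian X] in
/-- a point of `V` outside `U` whose prime survives in `Γ(U ∩ V)` would lie in `U ∩ V` when the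
latter is affine -/
theorem exists_notMem_map_mem (U V : X.Opens) (hV : IsAffineOpen V)
    (hW : IsAffineOpen (U.ι ''ᵁ (U.ι ⁻¹ᵁ V))) (x : X) (hxV : x ∈ V) (hxU : x ∉ U) :
    ∃ a : Γ(X, V), a ∉ (hV.primeIdealOf ⟨x, hxV⟩).asIdeal ∧
      (X.presheaf.map (homOfLE (U.ι.image_preimage_le V)).op).hom a ∈
        (hV.primeIdealOf ⟨x, hxV⟩).asIdeal.map
          (X.presheaf.map (homOfLE (U.ι.image_preimage_le V)).op).hom := by
  by_contra hcon
  push Not at hcon
  have h2 : ((hV.primeIdealOf ⟨x, hxV⟩).asIdeal.map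
      (X.presheaf.map (homOfLE (U.ι.image_preimage_le V)).op).hom).comap
        (X.presheaf.map (homOfLE (U.ι.image_preimage_le V)).op).hom =
      (hV.primeIdealOf ⟨x, hxV⟩).asIdeal :=
    le_antisymm (fun a ha => by
      by_contra hap
      exact hcon a hap ha) Ideal.le_comap_map
  obtain ⟨q, hq, hqp⟩ := (Ideal.comap_map_eq_self_iff_of_isPrime _).mp h2
  have h3 : hW.fromSpec ⟨q, hq⟩ = x := by
    have h4 := hV.map_fromSpec hW (homOfLE (U.ι.image_preimage_le V)).op
    rw [← h4, Scheme.Hom.comp_apply]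
    have h5 : (Spec.map (X.presheaf.map (homOfLE (U.ι.image_preimage_le V)).op))
        (⟨q, hq⟩ : Spec Γ(X, U.ι ''ᵁ (U.ι ⁻¹ᵁ V))) = hV.primeIdealOf ⟨x, hxV⟩ := by
      apply PrimeSpectrum.ext
      exact hqp
    rw [h5]
    exact hV.fromSpec_primeIdealOf ⟨x, hxV⟩
  have h6 : hW.fromSpec ⟨q, hq⟩ ∈ Set.range hW.fromSpec := Set.mem_range_self _
  rw [hW.range_fromSpec, h3] at h6
  obtain ⟨y, -, hy⟩ := h6
  apply hxU
  rw [← hy]
  exact y.2

/-- (1) ⇒ (2): if `U` is affine over `X`, then at every point outside `U` some positive power of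
`s` lies in `m_x F^[n]_x` -/
theorem forall_mem_of_isAffineHom [IsIntegral X] (hX : Pi1.IsNormalScheme X)
    (hF : RefHull.IsRef1 F) (s : Coh.structureModule X ⟶ F) (U : X.Opens)
    (hU : (U : Set X) = RefPow.isoLocus s) (haff : IsAffineHom U.ι) (x : X) (hxU : x ∉ U) :
    ∃ n : ℕ, 0 < n ∧
      RefPow.sPowGerm s n x ∈ IsLocalRing.maximalIdeal (X.presheaf.stalk x) •
        (⊤ : Submodule (X.presheaf.stalk x) ((RefPow.refPow F n).presheaf.stalk x)) := by
  classical
  have hrefl := Ref1.isReflexive_stalks F hF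
  by_cases hηU : genericPoint X ∈ U
  · obtain ⟨V, hV, hxV, -⟩ := exists_isAffineOpen_mem_and_subset (x := x) (U := ⊤) trivial
    have hηV : genericPoint X ∈ V := WeilSheaf.genericPoint_mem_of_mem hxV
    have hW : IsAffineOpen (U.ι ''ᵁ (U.ι ⁻¹ᵁ V)) :=
      (haff.isAffine_preimage V hV).image_of_isOpenImmersion U.ι
    obtain ⟨a, hap, hmem⟩ := exists_notMem_map_mem U V hV hW x hxV hxU
    obtain ⟨k, c, g, hsum⟩ := Submodule.mem_span_set'.mp hmem
    have hg : ∀ i, ∃ f ∈ (hV.primeIdealOf ⟨x, hxV⟩).asIdeal,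
        (X.presheaf.map (homOfLE (U.ι.image_preimage_le V)).op).hom f =
          (g i : Γ(X, U.ι ''ᵁ (U.ι ⁻¹ᵁ V))) := fun i => (g i).2
    choose f hfp hfg using hg
    have hc : ∀ i, ∃ (n : ℕ) (t : Γ(RefPow.refPow F n, V)),
        (leg hF.1 s U hU n).app V t = (show Γ(P U, V) from c i) := fun i =>
      exists_leg_eq hX hF s U hU hηU V hV.isCompact hηV _
    choose nf tf htf using hc
    set N := Finset.univ.sup nf + 1 with hNdef
    have hN : ∀ i, nf i ≤ N := fun i =>
      (Finset.le_sup (f := nf) (Finset.mem_univ i)).trans (Nat.le_succ _)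
    have hc' : ∀ i, ∃ t' : Γ(RefPow.refPow F N, V),
        (leg hF.1 s U hU N).app V t' = (show Γ(P U, V) from c i) := fun i => by
      obtain ⟨t', ht'⟩ := exists_leg_le hF.1 s U hU V (nf i) N (hN i) (tf i)
      exact ⟨t', ht'.trans (htf i)⟩
    choose t' ht' using hc'
    have hL : (leg hF.1 s U hU N).app V (∑ i, f i • t' i) = (show Γ(P U, V) from
        (X.presheaf.map (homOfLE (U.ι.image_preimage_le V)).op).hom a) := by
      rw [map_sum]
      have h1 : ∀ i, (leg hF.1 s U hU N).app V (f i • t' i) =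
          (show Γ(P U, V) from c i • (g i : Γ(X, U.ι ''ᵁ (U.ι ⁻¹ᵁ V)))) := by
        intro i
        rw [Scheme.Modules.Hom.app_smul, ht' i, smul_P, hfg i]
        exact mul_comm (g i : Γ(X, U.ι ''ᵁ (U.ι ⁻¹ᵁ V))) (c i)
      rw [Finset.sum_congr rfl (fun i _ => h1 i)]
      exact hsum
    let σ : Γ(RefPow.refPow F N, V) := SecTwist.val (RefPow.sPow s N) V
    have hR : (leg hF.1 s U hU N).app V (a • σ) =
        (show Γ(P U, V) from
          (X.presheaf.map (homOfLE (U.ι.image_preimage_le V)).op).hom a) := by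
      rw [Scheme.Modules.Hom.app_smul, leg_app_val, smul_P]
      exact mul_one ((X.presheaf.map (homOfLE (U.ι.image_preimage_le V)).op).hom a)
    have h8 := leg_app_injective hF.1 hrefl s U hU hηU N V _ _ (hL.trans hR.symm)
    have h9 : a • σ ∈ (hV.primeIdealOf ⟨x, hxV⟩).asIdeal •
        (⊤ : Submodule Γ(X, V) Γ(RefPow.refPow F N, V)) := by
      rw [← h8]
      exact Submodule.sum_mem _ (fun i _ => Submodule.smul_mem_smul (hfp i) trivial)
    refine ⟨N, Nat.succ_pos _, ?_⟩
    rw [sPowGerm_eq_germ s N V x hxV]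
    exact germ_mem_of_smul_mem (RefPow.refPow F N) hV hxV σ a
      ((Groth.Agent.H8.notMem_primeIdealOf_iff hV hxV a).mp hap) h9
  · refine ⟨1, one_pos, ?_⟩
    have h0 : SecTwist.val s ⊤ = 0 := val_eq_zero_of_not_mem hF s (by
      intro hb
      apply hηU
      have h1 : genericPoint X ∈ RefPow.isoLocus s := hb
      rw [← hU] at h1
      exact h1) ⊤
    have h1 : RefPow.sPowGerm s 1 x = 0 := by
      rw [sPowGerm_one, h0]
      exact map_zero _
    rw [h1]
    exact Submodule.zero_mem _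

/-- the equivalence -/
theorem isAffineHom_iff [IsIntegral X] (hX : Pi1.IsNormalScheme X)
    (hF : RefHull.IsRef1 F) (s : Coh.structureModule X ⟶ F) (U : X.Opens)
    (hU : (U : Set X) = RefPow.isoLocus s) :
    IsAffineHom U.ι ↔
      ∀ x : X, x ∉ U → ∃ n : ℕ, 0 < n ∧
        RefPow.sPowGerm s n x ∈ IsLocalRing.maximalIdeal (X.presheaf.stalk x) •
          (⊤ : Submodule (X.presheaf.stalk x) ((RefPow.refPow F n).presheaf.stalk x)) :=
  ⟨fun h x hx => forall_mem_of_isAffineHom hX hF s U hU h x hx,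
    fun h => isAffineHom_of_forall_mem hF.1 s U hU h⟩

end Groth.Agent.H6.RefPowAff
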