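import Groth.Agent.H6.RefPowStalk

/-!
# The cocone from the system of reflexive powers to `j_* O_U` (helper6)
-/

set_option autoImplicit false
set_option linter.style.haveILetI false
universe u

namespace Groth.Agent.H6.RefPowS

open AlgebraicGeometry CategoryTheory CategoryTheory.Limits Opposite TopologicalSpace

variable {X : Scheme.{u}}

/-- a morphism which is bijective on stalks at the points of `U` restricts to an isomorphism
on `U` -/
theorem isIso_restrict_map {A B : X.Modules} (φ : A ⟶ B)
    (U : X.Opens) (h : ∀ x ∈ U, Function.Bijective (RefHull.stalkMapₗ φ x)) :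
    IsIso ((Scheme.Modules.restrictFunctor U.ι).map φ) := by
  rw [Scheme.Modules.Hom.isIso_iff_isIso_app]
  intro V
  have h1 : Function.Bijective (φ.app (U.ι ''ᵁ V)) := by
    let A' : TopCat.Sheaf Ab X := ⟨A.presheaf, A.isSheaf⟩
    let B' : TopCat.Sheaf Ab X := ⟨B.presheaf, B.isSheaf⟩
    let f : A' ⟶ B' := ⟨φ.mapPresheaf⟩
    refine TopCat.Presheaf.app_bijective_of_stalkFunctor_map_bijective f (U.ι ''ᵁ V)
      (fun x hx => ?_)
    apply h x
    obtain ⟨y, -, rfl⟩ := hx
    exact y.2
  rw [ConcreteCategory.isIso_iff_bijective]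
  exact h1

variable [IsLocallyNoetherian X] {F : X.Modules}

/-- on the locus where `s` generates, all powers of `s` generate -/
theorem bijective_stalkMapₗ_sPow (hF : Coh.IsCoh F) (s : Coh.structureModule X ⟶ F) (x : X)
    (hx : Function.Bijective (RefHull.stalkMapₗ s x)) (n : ℕ) :
    Function.Bijective (RefHull.stalkMapₗ (RefPow.sPow s n) x) := by
  have hu := bijective_smul_of_bijective_stalkMapₗ s x hx
  obtain ⟨un, hun, hs⟩ := pow_data hF s x _ hu 1 (one_smul _ _).symm n
  apply bijective_stalkMapₗ_of_gen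
  have h1 : (RefPow.refPow F n).presheaf.germ ⊤ x trivial (SecTwist.val (RefPow.sPow s n) ⊤) =
      un := by
    have h2 := hs
    rw [one_pow, one_smul] at h2
    exact h2
  rw [h1]
  exact hun

theorem isIso_restrict_sPow (hF : Coh.IsCoh F) (s : Coh.structureModule X ⟶ F) (U : X.Opens)
    (hU : (U : Set X) = RefPow.isoLocus s) (n : ℕ) :
    IsIso ((Scheme.Modules.restrictFunctor U.ι).map (RefPow.sPow s n)) := by
  apply isIso_restrict_map
  intro x hx
  have hx' : x ∈ (U : Set X) := hx
  rw [hU] at hx'
  exact bijective_stalkMapₗ_sPow hF s x hx' n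

/-- the target `j_* (O_X|_U)` -/
noncomputable abbrev P (U : X.Opens) : X.Modules :=
  (Scheme.Modules.pushforward U.ι).obj ((Coh.structureModule X).restrict U.ι)

/-- the legs of the cocone: `F^[n] → j_* j^* F^[n] ≅ j_* j^* O_X`, the isomorphism being the
inverse of `s^n` -/
noncomputable def leg (hF : Coh.IsCoh F) (s : Coh.structureModule X ⟶ F) (U : X.Opens)
    (hU : (U : Set X) = RefPow.isoLocus s) (n : ℕ) : RefPow.refPow F n ⟶ P U :=
  haveI := isIso_restrict_sPow hF s U hU n
  (Scheme.Modules.restrictAdjunction U.ι).unit.app (RefPow.refPow F n) ≫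
    (Scheme.Modules.pushforward U.ι).map
      (inv ((Scheme.Modules.restrictFunctor U.ι).map (RefPow.sPow s n)))

omit [IsLocallyNoetherian X] in
theorem unit_comp_push_inv_id (G : X.Modules) (U : X.Opens) (φ : G ⟶ G)
    [IsIso ((Scheme.Modules.restrictFunctor U.ι).map φ)] (h : φ = 𝟙 G) :
    (Scheme.Modules.restrictAdjunction U.ι).unit.app G ≫
      (Scheme.Modules.pushforward U.ι).map (inv ((Scheme.Modules.restrictFunctor U.ι).map φ)) =
    (Scheme.Modules.restrictAdjunction U.ι).unit.app G := by
  subst h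
  simp

theorem leg_zero (hF : Coh.IsCoh F) (s : Coh.structureModule X ⟶ F) (U : X.Opens)
    (hU : (U : Set X) = RefPow.isoLocus s) :
    leg hF s U hU 0 = (Scheme.Modules.restrictAdjunction U.ι).unit.app (Coh.structureModule X) := by
  exact @unit_comp_push_inv_id X (Coh.structureModule X) U (RefPow.sPow s 0)
    (isIso_restrict_sPow hF s U hU 0) rfl

theorem mulBy_leg (hF : Coh.IsCoh F) (s : Coh.structureModule X ⟶ F) (U : X.Opens)
    (hU : (U : Set X) = RefPow.isoLocus s) (n : ℕ) :
    RefPow.mulBy s n ≫ leg hF s U hU (n + 1) = leg hF s U hU n := by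
  haveI := isIso_restrict_sPow hF s U hU n
  haveI := isIso_restrict_sPow hF s U hU (n + 1)
  unfold leg
  have nat := (Scheme.Modules.restrictAdjunction U.ι).unit.naturality (RefPow.mulBy s n)
  simp only [Functor.id_obj, Functor.id_map, Functor.comp_obj, Functor.comp_map] at nat
  rw [← Category.assoc, nat, Category.assoc, ← Functor.map_comp]
  congr 2
  rw [IsIso.comp_inv_eq, ← cancel_epi ((Scheme.Modules.restrictFunctor U.ι).map (RefPow.sPow s n)),
    IsIso.hom_inv_id_assoc, ← Functor.map_comp, ← RefPow.sPow_succ]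

/-- the cocone -/
noncomputable def ι (hF : Coh.IsCoh F) (s : Coh.structureModule X ⟶ F) (U : X.Opens)
    (hU : (U : Set X) = RefPow.isoLocus s) :
    RefPow.diagram F s ⟶ (Functor.const ℕ).obj (P U) :=
  NatTrans.ofSequence (fun n => leg hF s U hU n) (fun n => by
    have h1 : (RefPow.diagram F s).map (homOfLE (n.le_add_right 1)) = RefPow.mulBy s n :=
      RefPow.diagram_map F s n
    rw [h1]
    change _ = _ ≫ 𝟙 _
    rw [Category.comp_id]
    exact mulBy_leg hF s U hU n)

theorem ι_app (hF : Coh.IsCoh F) (s : Coh.structureModule X ⟶ F) (U : X.Opens)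
    (hU : (U : Set X) = RefPow.isoLocus s) (n : ℕ) : (ι hF s U hU).app n = leg hF s U hU n := rfl

end Groth.Agent.H6.RefPowS
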