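import Groth.Agent.H6.RefPowColim

/-!
# `j_* O_U` is the colimit of the reflexive powers: the theorem (helper6)
-/

set_option autoImplicit false
set_option linter.style.haveILetI false
universe u

namespace Groth.Agent.H6.RefPowS

open AlgebraicGeometry CategoryTheory CategoryTheory.Limits Opposite TopologicalSpace

variable {X : Scheme.{u}} [IsLocallyNoetherian X] {F : X.Modules}

theorem bijective_smul_smul_of_isUnit {R M : Type*} [CommRing R] [AddCommGroup M] [Module R M]
    (u : M) (hu : Function.Bijective (fun a : R => a • u)) (c : R) (hc : IsUnit c) :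
    Function.Bijective (fun a : R => a • c • u) := by
  have h1 : (fun a : R => a • c • u) = (fun a : R => a • u) ∘ (fun a : R => a * c) := by
    funext a
    exact (mul_smul a c u).symm
  rw [h1]
  refine hu.comp ?_
  obtain ⟨c', rfl⟩ := hc
  exact ⟨fun a b hab => by simpa using hab, fun b => ⟨b * ↑c'⁻¹, by simp⟩⟩

/-- if `s` does not generate at the generic point, it vanishes -/
theorem val_eq_zero_of_not_mem [IsIntegral X] (hF : RefHull.IsRef1 F)
    (s : Coh.structureModule X ⟶ F)
    (hη : ¬ Function.Bijective (RefHull.stalkMapₗ s (genericPoint X))) (V : X.Opens) :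
    SecTwist.val s V = 0 := by
  haveI : F.IsQuasicoherent := hF.1.1
  letI : Field (X.presheaf.stalk (genericPoint X)) := inferInstanceAs (Field X.functionField)
  obtain ⟨q, hq⟩ := Ref1.exists_gen_genericPoint F hF
  obtain ⟨c, hc⟩ := hq.2 (F.presheaf.germ ⊤ (genericPoint X) trivial (SecTwist.val s ⊤))
  have hc' : F.presheaf.germ ⊤ (genericPoint X) trivial (SecTwist.val s ⊤) = c • q := hc.symm
  have hc0 : c = 0 := by
    by_contra hne
    apply hη
    apply bijective_stalkMapₗ_of_gen
    rw [hc']
    exact bijective_smul_smul_of_isUnit q hq c (isUnit_iff_ne_zero.mpr hne)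
  have h0 : F.presheaf.germ ⊤ (genericPoint X) trivial (SecTwist.val s ⊤) = 0 := by
    rw [hc', hc0, zero_smul]
  have h1 : SecTwist.val s ⊤ = 0 :=
    RefOneCodim.eq_zero_of_germ_genericPoint_eq_zero F (Ref1.isTorsionFree_stalks F hF)
      (show genericPoint X ∈ (⊤ : X.Opens) from trivial) _ h0
  rw [← SecTwist.map_val s (homOfLE (le_top : V ≤ ⊤)), h1, map_zero]
  rfl

omit [IsLocallyNoetherian X] in
/-- multiplication by a vanishing section is zero on sections -/
theorem mulBy_app_eq_zero (s : Coh.structureModule X ⟶ F) (hs : ∀ V : X.Opens, SecTwist.val s V = 0)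
    (n : ℕ) (V : X.Opens) (t : Γ(RefPow.refPow F n, V)) : (RefPow.mulBy s n).app V t = 0 := by
  match n with
  | 0 =>
    let t' : Γ(X, V) := t
    have h1 : (t : Γ(Coh.structureModule X, V)) = t' • Groth.Agent.H79.StructStalk.oneSec X V :=
      (mul_one t').symm
    change s.app V t = 0
    have h2 : s.app V (Groth.Agent.H79.StructStalk.oneSec X V) = (0 : Γ(F, V)) := hs V
    rw [h1, Scheme.Modules.Hom.app_smul, h2, smul_zero]
  | k + 1 =>
    have h1 : Groth.Agent.H5.Stalk.Tensor.tm (RefPow.refPow F (k + 1)) F V t (SecTwist.val s V) =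
        (0 : Γ(CohB1.tensorMod (RefPow.refPow F (k + 1)) F, V)) := by
      have h3 : (SecTwist.val s V : Γ(F, V)) = (0 : Γ(X, V)) • (0 : Γ(F, V)) := by
        rw [zero_smul]
        exact hs V
      rw [h3, Groth.Agent.H5.Stalk.Tensor.tm_smul_right, zero_smul]
    have h2 : (RefPow.mulBy s (k + 1)).app V t =
        (RefPow.toRefTensor (RefPow.refPow F (k + 1)) F).app V
          (Groth.Agent.H5.Stalk.Tensor.tm (RefPow.refPow F (k + 1)) F V t (SecTwist.val s V)) :=
      RefPow.mulBy_succ_app s k V t
    rw [h2, h1, map_zero]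
    rfl

/-- On an integral locally Noetherian normal scheme, for a rank one reflexive module `F` with a
global section `s` generating exactly on the open `U`, the module `j_* O_U` is the colimit of the
reflexive powers of `F` along multiplication by `s`. -/
theorem main [IsIntegral X] (hX : Pi1.IsNormalScheme X) (hF : RefHull.IsRef1 F)
    (s : Coh.structureModule X ⟶ F) (U : X.Opens) (hU : (U : Set X) = RefPow.isoLocus s) :
    ∃ ι : RefPow.diagram F s ⟶ (Functor.const ℕ).obj (P U),
      ι.app 0 = (Scheme.Modules.restrictAdjunction U.ι).unit.app (Coh.structureModule X) ∧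
        Nonempty (IsColimit (Cocone.mk _ ι)) := by
  refine ⟨ι hF.1 s U hU, leg_zero hF.1 s U hU, ?_⟩
  have hrefl := Ref1.isReflexive_stalks F hF
  by_cases hηU : genericPoint X ∈ U
  · apply SeqColim.isColimit_of_stalks
    · intro x n m hm
      refine ⟨n, le_rfl, ?_⟩
      have hm' : RefHull.stalkMapₗ (leg hF.1 s U hU n) x m = 0 := hm
      have h0 : m = 0 := leg_stalk_injective hF.1 hrefl s U hU hηU n x m hm'
      rw [h0, map_zero]
    · intro x p
      obtain ⟨V₀, hxV₀, a₀, rfl⟩ := TopCat.Presheaf.exists_germ_eq (P U).presheaf p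
      obtain ⟨V, hV, hxV, hVV₀'⟩ := exists_isAffineOpen_mem_and_subset (x := x) (U := V₀) hxV₀
      have hVV₀ : V ≤ V₀ := hVV₀'
      obtain ⟨n, t, ht⟩ := exists_leg_eq hX hF s U hU hηU V hV.isCompact
        (WeilSheaf.genericPoint_mem_of_mem hxV) ((P U).presheaf.map (homOfLE hVV₀).op a₀)
      refine ⟨n, (RefPow.refPow F n).presheaf.germ V x hxV t, ?_⟩
      change RefHull.stalkMapₗ (leg hF.1 s U hU n) x _ = _
      rw [RefHull.stalkMapₗ_germ, ht, TopCat.Presheaf.germ_res_apply]
  · have hs : ∀ V : X.Opens, SecTwist.val s V = 0 := val_eq_zero_of_not_mem hF s (by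
      intro hb
      apply hηU
      have h1 : genericPoint X ∈ RefPow.isoLocus s := hb
      rw [← hU] at h1
      exact h1)
    apply SeqColim.isColimit_of_stalks
    · intro x n m _
      refine ⟨n + 1, Nat.le_succ n, ?_⟩
      obtain ⟨V, hxV, t, rfl⟩ := TopCat.Presheaf.exists_germ_eq (RefPow.refPow F n).presheaf m
      have h1 : (RefPow.diagram F s).map (homOfLE (Nat.le_succ n)) = RefPow.mulBy s n :=
        RefPow.diagram_map F s n
      change RefHull.stalkMapₗ ((RefPow.diagram F s).map (homOfLE (Nat.le_succ n))) x _ = 0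
      rw [h1]
      exact (RefHull.stalkMapₗ_germ (RefPow.mulBy s n) x hxV t).trans
        (by rw [mulBy_app_eq_zero s hs, map_zero]; rfl)
    · intro x p
      refine ⟨0, 0, ?_⟩
      rw [map_zero]
      obtain ⟨V, hxV, a, rfl⟩ := TopCat.Presheaf.exists_germ_eq (P U).presheaf p
      have ha : a = 0 := by
        apply HomSh.section_ext (Coh.structureModule X) (U := U.ι ''ᵁ (U.ι ⁻¹ᵁ V))
        rintro ⟨y, hy⟩
        exfalso
        apply hηU
        obtain ⟨y', -, rfl⟩ := hy
        exact WeilSheaf.genericPoint_mem_of_mem y'.2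
      rw [ha, map_zero]

end Groth.Agent.H6.RefPowS
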