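import Groth.Agent.H6.WeilSheafRef1
import Groth.Prelude.Def_RefPow

/-!
# Stalks of the reflexive powers of a module and powers of a section (helper6)
-/

set_option autoImplicit false
set_option linter.style.haveILetI false
universe u

namespace Groth.Agent.H6.RefPowS

open AlgebraicGeometry CategoryTheory CategoryTheory.Limits Opposite TopologicalSpace
open Groth.Agent.H5.Stalk.Tensor (b)

variable {X : Scheme.{u}}

/-- the stalk map of a global section sends the germ of one to the germ of the section -/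
theorem stalkMapₗ_oneGerm {G : X.Modules} (φ : Coh.structureModule X ⟶ G) (x : X) :
    RefHull.stalkMapₗ φ x (Ref1.oneGerm X x) = G.presheaf.germ ⊤ x trivial (SecTwist.val φ ⊤) := by
  unfold Ref1.oneGerm
  rw [RefHull.stalkMapₗ_germ]
  rfl

theorem stalkMapₗ_smul_oneGerm {G : X.Modules} (φ : Coh.structureModule X ⟶ G) (x : X)
    (a : X.presheaf.stalk x) :
    RefHull.stalkMapₗ φ x (a • Ref1.oneGerm X x) =
      a • G.presheaf.germ ⊤ x trivial (SecTwist.val φ ⊤) := by
  rw [map_smul, stalkMapₗ_oneGerm]

/-- if the germ of a global section is a free generator, its stalk map is bijective -/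
theorem bijective_stalkMapₗ_of_gen {G : X.Modules} (φ : Coh.structureModule X ⟶ G) (x : X)
    (h : Function.Bijective (fun a : X.presheaf.stalk x =>
      a • G.presheaf.germ ⊤ x trivial (SecTwist.val φ ⊤))) :
    Function.Bijective (RefHull.stalkMapₗ φ x) := by
  have h1 : (fun a : X.presheaf.stalk x => a • G.presheaf.germ ⊤ x trivial (SecTwist.val φ ⊤)) =
      (RefHull.stalkMapₗ φ x) ∘ (fun a : X.presheaf.stalk x => a • Ref1.oneGerm X x) := by
    funext a
    exact (stalkMapₗ_smul_oneGerm φ x a).symm
  rw [h1] at h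
  exact (Function.Bijective.of_comp_iff _ (Ref1.bijective_smul_oneGerm x)).mp h

/-- if the stalk map of a global section is bijective, its germ is a free generator -/
theorem bijective_smul_of_bijective_stalkMapₗ {G : X.Modules} (φ : Coh.structureModule X ⟶ G)
    (x : X) (h : Function.Bijective (RefHull.stalkMapₗ φ x)) :
    Function.Bijective (fun a : X.presheaf.stalk x =>
      a • G.presheaf.germ ⊤ x trivial (SecTwist.val φ ⊤)) := by
  have h1 : (fun a : X.presheaf.stalk x => a • G.presheaf.germ ⊤ x trivial (SecTwist.val φ ⊤)) =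
      (RefHull.stalkMapₗ φ x) ∘ (fun a : X.presheaf.stalk x => a • Ref1.oneGerm X x) := by
    funext a
    exact (stalkMapₗ_smul_oneGerm φ x a).symm
  rw [h1]
  exact h.comp (Ref1.bijective_smul_oneGerm x)

variable {F : X.Modules}

theorem val_comp {A B : X.Modules} (φ : Coh.structureModule X ⟶ A) (ψ : A ⟶ B) (U : X.Opens) :
    SecTwist.val (φ ≫ ψ) U = ψ.app U (SecTwist.val φ U) := rfl

/-- the germ of `s^(n+2)` -/
theorem sPowGerm_succ_succ (s : Coh.structureModule X ⟶ F) (n : ℕ) (x : X) :
    RefPow.sPowGerm s (n + 2) x =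
      RefHull.stalkMapₗ (RefPow.toRefTensor (RefPow.refPow F (n + 1)) F) x
        (b x (RefPow.refPow F (n + 1)) F (RefPow.sPowGerm s (n + 1) x)
          (F.presheaf.germ ⊤ x trivial (SecTwist.val s ⊤))) := by
  unfold RefPow.sPowGerm
  rw [Groth.Agent.H5.Stalk.Tensor.b_germ]
  unfold Groth.Agent.H5.Stalk.Tensor.tg Groth.Agent.H5.Stalk.Tensor.tm
  rw [RefHull.stalkMapₗ_germ, ← RefPow.mulBy_succ_app]
  rfl

theorem sPowGerm_one (s : Coh.structureModule X ⟶ F) (x : X) :
    RefPow.sPowGerm s 1 x = F.presheaf.germ ⊤ x trivial (SecTwist.val s ⊤) := by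
  unfold RefPow.sPowGerm
  rw [RefPow.sPow_one]
  rfl

theorem sPowGerm_zero (s : Coh.structureModule X ⟶ F) (x : X) :
    RefPow.sPowGerm s 0 x = Ref1.oneGerm X x := rfl

variable [IsLocallyNoetherian X]

theorem isCoh_refPow (hF : Coh.IsCoh F) (n : ℕ) : Coh.IsCoh (RefPow.refPow F n) := by
  induction n using Nat.strongRecOn with
  | ind n ih =>
    match n with
    | 0 => exact HomSh.isCoh_structureModule X
    | 1 => exact hF
    | k + 2 =>
      exact HomSh.isCoh_ddual _ (Ref1.isCoh_tensorMod _ _ (ih (k + 1) (by omega)) hF)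

/-- free generators of the stalks of the reflexive powers, and the germs of the powers of `s` -/
theorem pow_data (hF : Coh.IsCoh F) (s : Coh.structureModule X ⟶ F) (x : X)
    (u : F.presheaf.stalk x) (hu : Function.Bijective (fun a : X.presheaf.stalk x => a • u))
    (c : X.presheaf.stalk x) (hc : F.presheaf.germ ⊤ x trivial (SecTwist.val s ⊤) = c • u)
    (n : ℕ) :
    ∃ un : (RefPow.refPow F n).presheaf.stalk x,
      Function.Bijective (fun a : X.presheaf.stalk x => a • un) ∧
        RefPow.sPowGerm s n x = c ^ n • un := by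
  induction n using Nat.strongRecOn with
  | ind n ih =>
    match n with
    | 0 =>
      refine ⟨Ref1.oneGerm X x, Ref1.bijective_smul_oneGerm x, ?_⟩
      rw [pow_zero, one_smul]
      rfl
    | 1 =>
      refine ⟨u, hu, ?_⟩
      rw [pow_one, sPowGerm_one, hc]
      rfl
    | k + 2 =>
      obtain ⟨uk, huk, hsk⟩ := ih (k + 1) (by omega)
      have hE : Coh.IsCoh (CohB1.tensorMod (RefPow.refPow F (k + 1)) F) :=
        Ref1.isCoh_tensorMod _ _ (isCoh_refPow hF (k + 1)) hF
      have hb := Ref1.bijective_smul_b x (RefPow.refPow F (k + 1)) F uk u huk hu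
      obtain ⟨-, hgen⟩ := WeilSheaf.bijective_smul_bidual _ hE x _ hb
      refine ⟨_, hgen, ?_⟩
      rw [sPowGerm_succ_succ, hsk, hc, Groth.Agent.H5.Stalk.Tensor.b_smul_left,
        Groth.Agent.H5.Stalk.Tensor.b_smul_right, map_smul, map_smul, ← mul_smul, ← pow_succ]
      rfl

end Groth.Agent.H6.RefPowS
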