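import Groth.Agent.H6.RestrictStalk2
import Groth.Agent.H6.NormalDepth
import Groth.Agent.H6.HartogsAdj
import Groth.Agent.H6.HomShSections
import Groth.Agent.H6.HomShRefl2
import Groth.Agent.H34.ReflexiveDepth
import Groth.Agent.H67.FreeLocus
import Groth.Agent.H71.QCoh.StalkFree

/-!
# Reflexive modules as extensions from big opens (helper6)
-/

set_option autoImplicit false
set_option linter.style.haveILetI false
universe u

namespace Groth.Agent.H6.ReflExt

open AlgebraicGeometry CategoryTheory Opposite TopologicalSpace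

/-- If the unit `F ⟶ j_* j^* F` is an isomorphism then all restriction maps from `V` to `V ⊓ U`
are bijective. -/
theorem bijective_res_of_isIso_unit (X : Scheme.{u}) (F : X.Modules) (U : X.Opens)
    [IsIso ((Scheme.Modules.restrictAdjunction U.ι).unit.app F)] (V : X.Opens) :
    Function.Bijective (F.presheaf.map (homOfLE (inf_le_left : V ⊓ U ≤ V)).op) := by
  have h := (Scheme.Modules.Hom.isIso_iff_isIso_app
    (φ := (Scheme.Modules.restrictAdjunction U.ι).unit.app F)).mp inferInstance V
  rw [Scheme.Modules.restrictAdjunction_unit_app_app, ConcreteCategory.isIso_iff_bijective] at h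
  refine HartogsMod.bijective_of_eq F _ _ ?_ rfl h
  rw [Scheme.Hom.image_preimage_eq_opensRange_inf, Scheme.Opens.opensRange_ι, inf_comm]

/-- stalks of a module whose restriction to `U` is finite locally free are free at points of `U` -/
theorem free_stalk_of_isFinLocFree_restrict (X : Scheme.{u}) (F : X.Modules) [F.IsQuasicoherent]
    (U : X.Opens) (hlf : FlatMod.IsFinLocFree (F.restrict U.ι)) (x : X) (hx : x ∈ U) :
    Module.Free (X.presheaf.stalk x) (F.presheaf.stalk x) := by
  haveI : (F.restrict U.ι).IsQuasicoherent := inferInstance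
  have h := Groth.Agent.H71.QCoh.free_stalks_of_isFinLocFree (F.restrict U.ι) hlf ⟨x, hx⟩
  exact (RestrictStalk.free_restrict_iff U.ι F ⟨x, hx⟩).mp h

/-- reflexivity does not depend on the model of the localization -/
theorem isReflexive_of_models {R : Type*} [CommRing R] (S : Submonoid R) {M : Type*}
    [AddCommGroup M] [Module R M]
    (A : Type*) [CommRing A] [Algebra R A] [IsLocalization S A] {N : Type*} [AddCommGroup N]
    [Module R N] [Module A N] [IsScalarTower R A N] (f : M →ₗ[R] N) [IsLocalizedModule S f]
    (A' : Type*) [CommRing A'] [Algebra R A'] [IsLocalization S A'] {N' : Type*}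
    [AddCommGroup N']
    [Module R N'] [Module A' N'] [IsScalarTower R A' N'] (f' : M →ₗ[R] N')
    [IsLocalizedModule S f'] [Module.IsReflexive A N] : Module.IsReflexive A' N' := by
  let φ : A ≃ₐ[R] A' := IsLocalization.algEquiv S A A'
  letI : Module A N' := Module.compHom N' (φ : A →+* A')
  haveI : IsScalarTower R A N' := by
    refine ⟨fun a c n => ?_⟩
    change (φ (a • c)) • n = a • (φ c • n)
    rw [_root_.map_smul, smul_assoc]
  let e : N ≃ₗ[R] N' := IsLocalizedModule.linearEquiv S f f'
  let e' : N ≃ₗ[A] N' := e.extendScalarsOfIsLocalization S A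
  exact RestrictStalk.isReflexive_of_semilinear φ.toRingEquiv e'.toAddEquiv
    (fun r m => e'.map_smul r m)

/-- the localization of the sections over an affine open is reflexive if the stalk is -/
theorem isReflexive_localizedModule_of_isReflexive_stalk {X : Scheme.{u}} (F : X.Modules)
    [F.IsQuasicoherent] {V : X.Opens} (hV : IsAffineOpen V) (q : PrimeSpectrum Γ(X, V))
    (h : Module.IsReflexive (X.presheaf.stalk (hV.fromSpec q))
      (F.presheaf.stalk (hV.fromSpec q))) :
    Module.IsReflexive (Localization.AtPrime q.asIdeal)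
      (LocalizedModule q.asIdeal.primeCompl Γ(F, V)) := by
  have hxV : hV.fromSpec q ∈ V := Groth.Agent.H71.QCoh.fromSpec_mem hV q
  letI := Groth.Agent.H8.stalkModule F hxV
  letI : Algebra Γ(X, V) (X.presheaf.stalk (hV.fromSpec q)) :=
    TopCat.Presheaf.algebra_section_stalk X.presheaf ⟨hV.fromSpec q, hxV⟩
  haveI : IsScalarTower Γ(X, V) (X.presheaf.stalk (hV.fromSpec q))
      (F.presheaf.stalk (hV.fromSpec q)) :=
    IsScalarTower.of_algebraMap_smul (fun r m => rfl)
  haveI := hV.isLocalization_stalk ⟨hV.fromSpec q, hxV⟩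
  haveI := Groth.Agent.H8.isLocalizedModule_germₗ F hV hxV
  have key := isReflexive_of_models (hV.primeIdealOf ⟨hV.fromSpec q, hxV⟩).asIdeal.primeCompl
    (X.presheaf.stalk (hV.fromSpec q)) (Groth.Agent.H8.germₗ F hxV)
    (Localization.AtPrime (hV.primeIdealOf ⟨hV.fromSpec q, hxV⟩).asIdeal)
    (LocalizedModule.mkLinearMap (hV.primeIdealOf ⟨hV.fromSpec q, hxV⟩).asIdeal.primeCompl Γ(F, V))
  rwa [Groth.Agent.H71.QCoh.primeIdealOf_fromSpec] at key

/-- A coherent module on an integral locally Noetherian scheme whose stalks are reflexive at the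
points of an open `U`, and whose sections extend uniquely from `V ⊓ U` to `V`, has reflexive
stalks everywhere. -/
theorem isReflexive_stalks_of_bijective_res (X : Scheme.{u}) [IsIntegral X]
    [IsLocallyNoetherian X] (F : X.Modules) (hF : Coh.IsCoh F) (U : X.Opens)
    (hrefl : ∀ x ∈ U, Module.IsReflexive (X.presheaf.stalk x) (F.presheaf.stalk x))
    (hb : ∀ V : X.Opens,
      Function.Bijective (F.presheaf.map (homOfLE (inf_le_left : V ⊓ U ≤ V)).op))
    (x : X) : Module.IsReflexive (X.presheaf.stalk x) (F.presheaf.stalk x) := by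
  haveI : F.IsQuasicoherent := hF.1
  haveI : SheafOfModules.IsFiniteType (R := X.ringCatSheaf) F := hF.2
  obtain ⟨W, hW, hxW, -⟩ := exists_isAffineOpen_mem_and_subset (x := x) (U := ⊤) trivial
  haveI : Nonempty W := ⟨⟨x, hxW⟩⟩
  haveI : IsDomain Γ(X, W) := inferInstance
  haveI : IsNoetherianRing Γ(X, W) := IsLocallyNoetherian.component_noetherian ⟨W, hW⟩
  haveI : Module.Finite Γ(X, W) Γ(F, W) := Groth.Agent.H44.finite_sections_of_isFiniteType F hW
  have key : Module.IsReflexive Γ(X, W) Γ(F, W) := by
    apply Groth.Agent.H34.isReflexive_of_forall_reflexive_or_depth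
    intro p hp
    let q : PrimeSpectrum Γ(X, W) := ⟨p, hp⟩
    by_cases hy : hW.fromSpec q ∈ U
    · left
      exact isReflexive_localizedModule_of_isReflexive_stalk F hW q (hrefl _ hy)
    · right
      have h1 := HartogsMod.two_le_depth_of_bijective_res_fromSpec X F U W hW (hb W) q hy
      rw [HartogsMod.depth_stalk_fromSpec_eq X F W hW q Γ(F, W) (LinearEquiv.refl _ _)] at h1
      exact h1
  exact (HomSh.isReflexive_sections_iff F hF hW).mp key x hxW

end Groth.Agent.H6.ReflExt
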