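import Groth.Agent.H6.HartogsModRel
import Groth.Agent.H6.ReflRegular
import Groth.Agent.H6.HomShRefl2

/-!
# Coherent modules with reflexive stalks on regular schemes are normal (helper6)
-/

set_option autoImplicit false
universe u

namespace Groth.Agent.H6.ReflNormal

open AlgebraicGeometry CategoryTheory Opposite TopologicalSpace IsLocalRing

/-- a finite reflexive module over a regular local ring of dimension at least two has depth at
least two -/
theorem two_le_depth_of_isReflexive_of_regular (A : Type u) [CommRing A] [IsRegularLocalRing A]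
    (hdim : (2 : WithBot ℕ∞) ≤ ringKrullDim A) (M : Type u) [AddCommGroup M] [Module A M]
    [Module.Finite A M] [Module.IsReflexive A M] : (2 : ℕ∞) ≤ LocCoh.depth A M := by
  set d := (maximalIdeal A).spanFinrank with hd
  have hdA : ringKrullDim A = d := Groth.Agent.Lead.RLR.ringKrullDim_eq_spanFinrank A
  have hd2 : 2 ≤ d := by
    rw [hdA] at hdim
    exact_mod_cast hdim
  have hdepthA : LocCoh.depth A A = d := Groth.Agent.H29.RegFree.depth_eq_of_regular A d hdA
  have h1 := ReflRegular.min_two_depth_le_depth_of_isReflexive A M
  rw [hdepthA] at h1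
  refine le_trans ?_ h1
  rw [le_min_iff]
  exact ⟨le_rfl, by exact_mod_cast hd2⟩

/-- On a regular locally Noetherian scheme a coherent module with reflexive stalks is normal:
sections extend uniquely across closed subsets of codimension at least two. -/
theorem bijective_res_of_reflexive_stalks (X : Scheme.{u}) [IsLocallyNoetherian X]
    (hreg : ∀ x : X, IsRegularLocalRing (X.presheaf.stalk x)) (F : X.Modules) (hF : Coh.IsCoh F)
    (hrefl : ∀ x : X, Module.IsReflexive (X.presheaf.stalk x) (F.presheaf.stalk x))
    (U V : X.Opens) (hVU : V ≤ U)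
    (hdim : ∀ x : X, x ∈ U → x ∉ V → (2 : WithBot ℕ∞) ≤ ringKrullDim (X.presheaf.stalk x)) :
    Function.Bijective (F.presheaf.map (homOfLE hVU).op) := by
  refine HartogsMod.bijective_res_mod_rel X F hF V U ?_ V (inf_eq_right.mpr hVU).symm hVU
  intro x hxU hxV
  have := hreg x
  have : Module.Finite (X.presheaf.stalk x) (F.presheaf.stalk x) :=
    HomSh.finite_stalk_of_isCoh F hF x
  have := hrefl x
  exact two_le_depth_of_isReflexive_of_regular _ (hdim x hxU hxV) _

end Groth.Agent.H6.ReflNormal
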