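import Mathlib

/-!
# Rank one reflexive modules over factorial domains are free (helper6)
-/

set_option autoImplicit false
universe u

namespace Groth.Agent.H6.ReflUFD

variable {A : Type u} [CommRing A] [IsDomain A]

/-- every linear functional on an ideal generated by elements with greatest common divisor one
is multiplication by an element of the ring -/
theorem exists_eq_mul_of_gcd_eq_one [NormalizedGCDMonoid A] {β : Type*} (s : Finset β)
    (g : β → A) (hg : s.gcd g = 1) (J : Ideal A) (hJ : J = Ideal.span (g '' (s : Set β)))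
    (ψ : J →ₗ[A] A) : ∃ c : A, ∀ x : J, ψ x = c * (x : A) := by
  by_cases hJ0 : J = ⊥
  · refine ⟨0, fun x => ?_⟩
    have hx : (x : A) = 0 := by
      have h1 : (x : A) ∈ J := x.2
      have h2 : (x : A) ∈ (⊥ : Ideal A) := hJ0 ▸ h1
      exact (Submodule.mem_bot A).mp h2
    have hx' : x = 0 := Subtype.ext hx
    rw [hx', map_zero, zero_mul]
  obtain ⟨y0, hy0J, hy0⟩ := Submodule.exists_mem_ne_zero_of_ne_bot hJ0
  have hcomm : ∀ x y : J, (x : A) * ψ y = (y : A) * ψ x := by
    intro x y
    have h1 : ψ ((x : A) • y) = (x : A) * ψ y := by rw [map_smul, smul_eq_mul]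
    have h2 : ψ ((y : A) • x) = (y : A) * ψ x := by rw [map_smul, smul_eq_mul]
    have h3 : (x : A) • y = (y : A) • x := by
      apply Subtype.ext
      change (x : A) * (y : A) = (y : A) * (x : A)
      exact mul_comm _ _
    rw [← h1, ← h2, h3]
  have hmem : ∀ b ∈ s, g b ∈ J := by
    intro b hb
    rw [hJ]
    exact Ideal.subset_span ⟨b, hb, rfl⟩
  have hdvd : y0 ∣ ψ ⟨y0, hy0J⟩ := by
    have h1 : y0 ∣ s.gcd (fun b => g b * ψ ⟨y0, hy0J⟩) := by
      apply Finset.dvd_gcd
      intro b hb
      have := hcomm ⟨g b, hmem b hb⟩ ⟨y0, hy0J⟩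
      exact ⟨ψ ⟨g b, hmem b hb⟩, this⟩
    have h2 := Finset.gcd_mul_right' s g (ψ ⟨y0, hy0J⟩)
    rw [hg, one_mul] at h2
    exact h1.trans h2.dvd
  obtain ⟨c, hc⟩ := hdvd
  refine ⟨c, fun x => ?_⟩
  have h1 := hcomm x ⟨y0, hy0J⟩
  rw [hc] at h1
  have h2 : y0 * ψ x = y0 * (c * (x : A)) := by
    have : (x : A) * (y0 * c) = y0 * ψ x := h1
    rw [← this]
    ring
  exact mul_left_cancel₀ hy0 h2

/-- a nonzero reflexive ideal generated by elements with greatest common divisor one is the unit
ideal -/
theorem eq_top_of_isReflexive_of_gcd_eq_one [NormalizedGCDMonoid A] {β : Type*} (s : Finset β)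
    (g : β → A) (hg : s.gcd g = 1) (J : Ideal A) (hJ : J = Ideal.span (g '' (s : Set β)))
    (hJ0 : J ≠ ⊥) [Module.IsReflexive A J] : J = ⊤ := by
  let incl : Module.Dual A J := J.subtype
  have hincl : incl ≠ 0 := by
    obtain ⟨y0, hy0J, hy0⟩ := Submodule.exists_mem_ne_zero_of_ne_bot hJ0
    intro h
    have := LinearMap.congr_fun h ⟨y0, hy0J⟩
    exact hy0 this
  have hbij : Function.Bijective (LinearMap.toSpanSingleton A (Module.Dual A J) incl) := by
    constructor
    · rw [injective_iff_map_eq_zero]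
      intro c hc
      rw [LinearMap.toSpanSingleton_apply] at hc
      rcases smul_eq_zero.mp hc with h | h
      · exact h
      · exact absurd h hincl
    · intro ψ
      obtain ⟨c, hc⟩ := exists_eq_mul_of_gcd_eq_one s g hg J hJ ψ
      refine ⟨c, ?_⟩
      apply LinearMap.ext
      intro x
      rw [LinearMap.toSpanSingleton_apply, LinearMap.smul_apply, hc x]
      rfl
  let e1 : A ≃ₗ[A] Module.Dual A J := LinearEquiv.ofBijective _ hbij
  obtain ⟨x, hx⟩ := (Module.bijective_dual_eval A J).2 (e1.symm : Module.Dual A J →ₗ[A] A)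
  have h1 := LinearMap.congr_fun hx incl
  have h2 : e1.symm incl = 1 := by
    rw [LinearEquiv.symm_apply_eq]
    change incl = LinearMap.toSpanSingleton A (Module.Dual A J) incl 1
    rw [LinearMap.toSpanSingleton_apply, one_smul]
  have h3 : (x : A) = 1 := by
    have : Module.Dual.eval A J x incl = (x : A) := rfl
    rw [← this, h1]
    exact h2
  rw [Ideal.eq_top_iff_one, ← h3]
  exact x.2

/-- a nonzero finitely generated reflexive ideal of a factorial domain is free of rank one -/
theorem nonempty_linearEquiv_of_isReflexive_ideal [UniqueFactorizationMonoid A] (J : Ideal A)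
    (hfg : J.FG) (hJ0 : J ≠ ⊥) [Module.IsReflexive A J] : Nonempty (A ≃ₗ[A] J) := by
  classical
  obtain ⟨inst⟩ := (inferInstance : Nonempty (NormalizedGCDMonoid A))
  obtain ⟨s, hs⟩ := hfg
  have hs' : Ideal.span (s : Set A) = J := hs
  have hne : s.Nonempty := by
    by_contra h
    rw [Finset.not_nonempty_iff_eq_empty] at h
    apply hJ0
    rw [← hs', h, Finset.coe_empty, Ideal.span_empty]
  set d := s.gcd id with hd
  have hd0 : d ≠ 0 := by
    intro h0
    apply hJ0
    rw [← hs', Ideal.span_eq_bot]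
    intro x hx
    exact (Finset.gcd_eq_zero_iff.mp h0) x hx
  obtain ⟨g, hg1, hg2⟩ := Finset.extract_gcd (id : A → A) hne
  let J' : Ideal A := Ideal.span (g '' (s : Set A))
  have hJJ' : J = Ideal.span {d} * J' := by
    rw [← hs', Ideal.span_mul_span']
    congr 1
    ext x
    constructor
    · intro hx
      refine ⟨d, rfl, g x, ⟨x, hx, rfl⟩, ?_⟩
      exact (hg1 x hx).symm
    · rintro ⟨_, rfl, _, ⟨b, hb, rfl⟩, rfl⟩
      have := hg1 b hb
      simp only [id] at this
      change d * g b ∈ (s : Set A)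
      rw [← this]
      exact hb
  have hmem : ∀ x : J', d * (x : A) ∈ J := by
    intro x
    rw [hJJ']
    exact Ideal.mem_span_singleton_mul.mpr ⟨x, x.2, rfl⟩
  let f : J' →ₗ[A] J := LinearMap.codRestrict J ((LinearMap.mul A A d).comp J'.subtype) hmem
  have hf : ∀ x : J', ((f x : J) : A) = d * (x : A) := fun x => rfl
  have hfbij : Function.Bijective f := by
    constructor
    · intro x y hxy
      have h1 : d * (x : A) = d * (y : A) := by rw [← hf, ← hf, hxy]
      exact Subtype.ext (mul_left_cancel₀ hd0 h1)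
    · intro y
      have hy : (y : A) ∈ Ideal.span {d} * J' := hJJ' ▸ y.2
      obtain ⟨z, hz, hzy⟩ := Ideal.mem_span_singleton_mul.mp hy
      exact ⟨⟨z, hz⟩, Subtype.ext hzy⟩
  let e : J' ≃ₗ[A] J := LinearEquiv.ofBijective f hfbij
  have : Module.IsReflexive A J' := Module.equiv e.symm
  have hJ'0 : J' ≠ ⊥ := by
    intro h
    apply hJ0
    rw [hJJ', h, Ideal.mul_bot]
  have hJ'top : J' = ⊤ := eq_top_of_isReflexive_of_gcd_eq_one s g hg2 J' rfl hJ'0
  exact ⟨(Submodule.topEquiv (R := A) (M := A)).symm.trans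
    ((LinearEquiv.ofEq _ _ hJ'top.symm).trans e)⟩

/-- a nonzero finite reflexive module of rank at most one over a Noetherian factorial domain is
free of rank one -/
theorem nonempty_linearEquiv_of_isReflexive_of_rank_one [UniqueFactorizationMonoid A]
    [IsNoetherianRing A] (M : Type*) [AddCommGroup M] [Module A M] [Module.Finite A M]
    [Module.IsReflexive A M] [Nontrivial M]
    (hr : ∀ m n : M, ∃ a b : A, (a ≠ 0 ∨ b ≠ 0) ∧ a • m = b • n) : Nonempty (A ≃ₗ[A] M) := by
  have hex : ∃ φ : Module.Dual A M, φ ≠ 0 := by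
    by_contra hcon
    push Not at hcon
    obtain ⟨m, hm⟩ := exists_ne (0 : M)
    apply hm
    apply (Module.bijective_dual_eval A M).1
    apply LinearMap.ext
    intro φ
    rw [hcon φ, map_zero]
    rfl
  obtain ⟨φ, hφ⟩ := hex
  obtain ⟨n, hn⟩ : ∃ n : M, φ n ≠ 0 := by
    by_contra hcon
    push Not at hcon
    exact hφ (LinearMap.ext hcon)
  have hinj : Function.Injective φ := by
    rw [injective_iff_map_eq_zero]
    intro m hm
    obtain ⟨a, b, hab, h⟩ := hr m n
    have h1 : b * φ n = 0 := by
      have := congrArg φ h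
      rw [map_smul, map_smul, hm, smul_zero, smul_eq_mul] at this
      exact this.symm
    have hb : b = 0 := by
      rcases mul_eq_zero.mp h1 with h2 | h2
      · exact h2
      · exact absurd h2 hn
    have ha : a ≠ 0 := by
      rcases hab with h2 | h2
      · exact h2
      · exact absurd hb h2
    rw [hb, zero_smul] at h
    rcases smul_eq_zero.mp h with h2 | h2
    · exact absurd h2 ha
    · exact h2
  let J : Ideal A := LinearMap.range φ
  let e : M ≃ₗ[A] J := LinearEquiv.ofInjective φ hinj
  have : Module.IsReflexive A J := Module.equiv e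
  have hJ0 : J ≠ ⊥ := by
    intro h
    apply hn
    have h1 : φ n ∈ J := LinearMap.mem_range_self φ n
    rw [h] at h1
    exact (Submodule.mem_bot A).mp h1
  have hfg : J.FG := (isNoetherianRing_iff_ideal_fg A).mp inferInstance J
  obtain ⟨e2⟩ := nonempty_linearEquiv_of_isReflexive_ideal J hfg hJ0
  exact ⟨e2.trans e.symm⟩

end Groth.Agent.H6.ReflUFD
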