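import Mathlib

/-!
# Shear maps for group objects

For group objects `G`, `H` in a cartesian monoidal category and a homomorphism `u : G ⟶ H`, the shear map
`(g, h) ↦ (g, u(g) h)` is an automorphism of `G ⊗ H`, compatible with `G ◁ u`.
-/

set_option autoImplicit false
set_option linter.unusedSectionVars false
universe u v
open CategoryTheory CategoryTheory.Limits MonoidalCategory CartesianMonoidalCategory MonObj GrpObj

namespace Groth.Agent.H6.Shear

variable {C : Type u} [Category.{v} C] [CartesianMonoidalCategory C] {G H : C} [GrpObj G] [GrpObj H]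
  (u : G ⟶ H) [IsMonHom u]

/-- The shear map `(g, h) ↦ (g, u(g) h)`. -/
def shear : G ⊗ H ⟶ G ⊗ H := lift (fst G H) ((fst G H ≫ u) * snd G H)

/-- The inverse shear map `(g, h) ↦ (g, u(g)⁻¹ h)`. -/
def shearInv : G ⊗ H ⟶ G ⊗ H := lift (fst G H) ((fst G H ≫ u)⁻¹ * snd G H)

@[reassoc (attr := simp)]
lemma shear_fst : shear u ≫ fst G H = fst G H := by simp [shear]

@[reassoc (attr := simp)]
lemma shear_snd : shear u ≫ snd G H = (fst G H ≫ u) * snd G H := by simp [shear]

@[reassoc (attr := simp)]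
lemma shearInv_fst : shearInv u ≫ fst G H = fst G H := by simp [shearInv]

@[reassoc (attr := simp)]
lemma shearInv_snd : shearInv u ≫ snd G H = (fst G H ≫ u)⁻¹ * snd G H := by simp [shearInv]

lemma shear_shearInv : shear u ≫ shearInv u = 𝟙 _ := by
  apply CartesianMonoidalCategory.hom_ext
  · simp
  · simp [MonObj.comp_mul, GrpObj.comp_inv]

lemma shearInv_shear : shearInv u ≫ shear u = 𝟙 _ := by
  apply CartesianMonoidalCategory.hom_ext
  · simp
  · simp [MonObj.comp_mul]

/-- The shear isomorphism. -/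
def shearIso : G ⊗ H ≅ G ⊗ H where
  hom := shear u
  inv := shearInv u
  hom_inv_id := shear_shearInv u
  inv_hom_id := shearInv_shear u

lemma shear_comm : shear (𝟙 G) ≫ (G ◁ u) = (G ◁ u) ≫ shear u := by
  apply CartesianMonoidalCategory.hom_ext
  · simp
  · simp [MonObj.comp_mul, MonObj.mul_comp]

lemma shearInv_comm : shearInv (𝟙 G) ≫ (G ◁ u) = (G ◁ u) ≫ shearInv u := by
  have h := shear_comm u
  have h1 : shearInv (𝟙 G) ≫ (shear (𝟙 G) ≫ (G ◁ u)) ≫ shearInv u =
      shearInv (𝟙 G) ≫ ((G ◁ u) ≫ shear u) ≫ shearInv u := by rw [h]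
  simp only [Category.assoc, shear_shearInv, Category.comp_id] at h1
  rw [← Category.assoc, shearInv_shear, Category.id_comp] at h1
  exact h1.symm

/-- `g ↦ (g⁻¹, u g)` followed by the shear is `g ↦ (g⁻¹, 1)`. -/
lemma lift_inv_shear_snd : lift ι[G] u ≫ shear u ≫ snd G H = 1 := by
  simp [MonObj.comp_mul, GrpObj.inv_eq_inv, GrpObj.inv_comp]

/-- `g ↦ (g⁻¹, 1)` followed by the shear has second component `g ↦ u(g⁻¹)`. -/
lemma lift_inv_one_shear_snd : lift ι[G] (1 : G ⟶ H) ≫ shear u ≫ snd G H = ι[G] ≫ u := by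
  simp [MonObj.comp_mul]

/-- `(g, g') ↦ (g, u g')` followed by the shear has second component `(g, g') ↦ u(g g')`. -/
lemma whiskerLeft_shear_snd : (G ◁ u) ≫ shear u ≫ snd G H = μ[G] ≫ u := by
  simp [MonObj.comp_mul, MonObj.mul_eq_mul, MonObj.mul_comp]

end Groth.Agent.H6.Shear
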