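import Groth.Agent.H6.SpreadLfp
import Mathlib.AlgebraicGeometry.Morphisms.FiniteType
import Mathlib.RingTheory.EssentialFiniteness

set_option autoImplicit false
universe u

open CategoryTheory AlgebraicGeometry

namespace Groth.Agent.H6.SpreadUnique

variable {Z Y S : Scheme.{u}}

lemma appLE_congr_hom {Z S : Scheme.{u}} (h₁ h₂ : Z ⟶ S) (e : h₁ = h₂) (W : S.Opens) (U : Z.Opens)
    (p : U ≤ h₁ ⁻¹ᵁ W) (q : U ≤ h₂ ⁻¹ᵁ W) : h₁.appLE W U p = h₂.appLE W U q := by
  subst e; rfl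

set_option backward.isDefEq.respectTransparency.types false in
/-- Uniqueness of spreading out when the target is locally of finite type over `S` and both
morphisms are `S`-morphisms: no germ-injectivity needed. -/
lemma spread_out_unique_of_lft (sY : Y ⟶ S) [LocallyOfFiniteType sY] {z : Z}
    (f g : Z ⟶ Y) (hfg : f ≫ sY = g ≫ sY)
    (hz : Z.fromSpecStalk z ≫ f = Z.fromSpecStalk z ≫ g) :
    ∃ (W : Z.Opens), z ∈ W ∧ W.ι ≫ f = W.ι ≫ g := by
  classical
  have e : f z = g z := by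
    simpa using congr($hz (IsLocalRing.closedPoint _))
  have H : f.stalkMap z =
      Y.presheaf.stalkSpecializes (Inseparable.of_eq e.symm).specializes ≫ g.stalkMap z := by
    apply Spec.map_injective
    rw [← cancel_mono (Y.fromSpecStalk _)]
    simpa [Scheme.SpecMap_stalkSpecializes_fromSpecStalk]
  obtain ⟨_, ⟨W₀, hW₀, rfl⟩, hW₀z, -⟩ :=
    S.isBasis_affineOpens.exists_subset_of_mem_open (Set.mem_univ (sY (f z))) isOpen_univ
  obtain ⟨_, ⟨V : Y.Opens, hV, rfl⟩, hzV, iVW⟩ :=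
    Y.isBasis_affineOpens.exists_subset_of_mem_open hW₀z (sY ⁻¹ᵁ W₀).2
  have hzV' : g z ∈ V := e ▸ hzV
  set U₀ : Z.Opens := f ⁻¹ᵁ V ⊓ g ⁻¹ᵁ V with hU₀
  have hzU₀ : z ∈ U₀ := ⟨hzV, hzV'⟩
  have hfin := sY.finiteType_appLE hW₀ hV iVW
  have hess := hfin.essFiniteType
  -- the two maps agree after germ
  have hgerm : f.appLE V U₀ inf_le_left ≫ Z.presheaf.germ U₀ z hzU₀ =
      g.appLE V U₀ inf_le_right ≫ Z.presheaf.germ U₀ z hzU₀ := by
    simp only [Scheme.Hom.appLE, Category.assoc, Z.presheaf.germ_res', ← Scheme.Hom.germ_stalkMap, H]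
    simp only [TopCat.Presheaf.germ_stalkSpecializes_assoc, Scheme.Hom.germ_stalkMap]
  -- shrink so that they agree on the generators
  have hex : ∀ a : hess.finset, ∃ (U : Z.Opens) (_ : z ∈ U) (i : U ⟶ U₀),
      Z.presheaf.map i.op (f.appLE V U₀ inf_le_left a.1) =
        Z.presheaf.map i.op (g.appLE V U₀ inf_le_right a.1) := by
    intro a
    have hga : Z.presheaf.germ U₀ z hzU₀ (f.appLE V U₀ inf_le_left a.1) =
        Z.presheaf.germ U₀ z hzU₀ (g.appLE V U₀ inf_le_right a.1) := congr($hgerm a.1)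
    obtain ⟨U, hzU, i₁, i₂, h⟩ := Z.presheaf.germ_eq z hzU₀ hzU₀ _ _ hga
    obtain rfl : i₁ = i₂ := Subsingleton.elim _ _
    exact ⟨U, hzU, i₁, h⟩
  choose U hzU iU hU using hex
  have hzW : z ∈ (Finset.univ.inf U ⊓ U₀ : Z.Opens) := by
    rw [← SetLike.mem_coe, TopologicalSpace.Opens.coe_inf, TopologicalSpace.Opens.coe_finset_inf]
    exact ⟨by simpa using fun a ↦ hzU a, hzU₀⟩
  set W : Z.Opens := Finset.univ.inf U ⊓ U₀ with hW
  have hWU₀ : W ≤ U₀ := inf_le_right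
  refine ⟨W, hzW, ?_⟩
  rw [← Scheme.Hom.resLE_comp_ι _ (hWU₀.trans inf_le_left),
    ← Scheme.Hom.resLE_comp_ι _ (hWU₀.trans inf_le_right)]
  congr 1
  have : IsAffine V := hV
  suffices ∀ (W' V') (eW : W = W') (eV : V = V'),
      f.appLE V' W' (eW ▸ eV ▸ hWU₀.trans inf_le_left) =
        g.appLE V' W' (eW ▸ eV ▸ hWU₀.trans inf_le_right) by
    rw [← cancel_mono V.toScheme.isoSpec.hom]
    simp only [Scheme.isoSpec, asIso_hom, Scheme.toSpecΓ_naturality,
      Scheme.Hom.app_eq_appLE, Scheme.Hom.resLE_appLE]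
    congr 2
    apply this <;> simp
  rintro _ _ rfl rfl
  ext1
  apply hess.ext
  · rw [← CommRingCat.hom_comp, ← CommRingCat.hom_comp, Scheme.Hom.appLE_comp_appLE,
      Scheme.Hom.appLE_comp_appLE]
    congr 1
    exact appLE_congr_hom _ _ hfg _ _ _ _
  · intro a ha
    have hle : W ≤ U ⟨a, ha⟩ := inf_le_left.trans (Finset.inf_le (Finset.mem_univ _))
    have h1 : ∀ (h : Z ⟶ Y) (p : U₀ ≤ h ⁻¹ᵁ V) (q : W ≤ h ⁻¹ᵁ V),
        (h.appLE V W q).hom a = Z.presheaf.map (homOfLE hle).op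
          (Z.presheaf.map (iU ⟨a, ha⟩).op (h.appLE V U₀ p a)) := by
      intro h p q
      rw [← ConcreteCategory.comp_apply (Z.presheaf.map _) (Z.presheaf.map _), ← Functor.map_comp,
        ← ConcreteCategory.comp_apply, Scheme.Hom.appLE_map]
    rw [h1 f inf_le_left, h1 g inf_le_right, hU ⟨a, ha⟩]

end Groth.Agent.H6.SpreadUnique
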