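import Groth.Prelude.Def_CurvBase
import Mathlib.AlgebraicGeometry.Stalk

set_option autoImplicit false
universe u

open CategoryTheory AlgebraicGeometry

namespace Groth.Agent.H6.StalkOverAffine

/-- For `s : X ⟶ Spec A`, the composite `Spec 𝒪_{X,x} ⟶ X ⟶ Spec A` is `Spec` of the ring map
`A → Γ(X, ⊤) → 𝒪_{X,x}`. -/
lemma fromSpecStalk_comp_eq_SpecMap {A : Type u} [CommRing A] (X : Scheme.{u})
    (s : X ⟶ Spec (CommRingCat.of A)) (x : X) :
    X.fromSpecStalk x ≫ s =
      Spec.map (CommRingCat.ofHom ((X.presheaf.germ ⊤ x trivial).hom.comp (Coh.toGlobal s))) := by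
  apply ext_of_isAffine
  have h1 : (Spec.map (CommRingCat.ofHom
      ((X.presheaf.germ ⊤ x trivial).hom.comp (Coh.toGlobal s)))).appTop =
      (Scheme.ΓSpecIso _).hom ≫ (CommRingCat.ofHom
        ((X.presheaf.germ ⊤ x trivial).hom.comp (Coh.toGlobal s))) ≫ (Scheme.ΓSpecIso _).inv := by
    rw [Scheme.ΓSpecIso_inv_naturality, Iso.hom_inv_id_assoc]
  rw [h1, Scheme.Hom.comp_appTop, Scheme.fromSpecStalk_appTop]
  have h2 : CommRingCat.ofHom ((X.presheaf.germ ⊤ x trivial).hom.comp (Coh.toGlobal s)) =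
      (Scheme.ΓSpecIso (CommRingCat.of A)).inv ≫ s.appTop ≫ X.presheaf.germ ⊤ x trivial := by
    ext a; rfl
  rw [h2]
  simp only [Category.assoc, Iso.hom_inv_id_assoc]
  congr 3

/-- Same, phrased with `Curv2.stalkMap` for a scheme over a field. -/
lemma fromSpecStalk_comp_over (k : Type u) [Field k] (X : Scheme.{u})
    [X.Over (Spec (CommRingCat.of k))] (x : X) :
    X.fromSpecStalk x ≫ (X ↘ Spec (CommRingCat.of k)) =
      Spec.map (CommRingCat.ofHom (Curv2.stalkMap k X x)) :=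
  fromSpecStalk_comp_eq_SpecMap X _ x

end Groth.Agent.H6.StalkOverAffine
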