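import Mathlib.CategoryTheory.Triangulated.Generators

/-!
# A classical generator is strong as soon as a strong generator exists (Stacks 0FXA)
-/

set_option autoImplicit false

namespace Groth.Agent.H6.StrongGen

open CategoryTheory Category Limits Pretriangulated ObjectProperty

variable {C : Type*} [Category* C] [HasZeroObject C] [HasShift C ℤ] [Preadditive C]
  [∀ (n : ℤ), (shiftFunctor C n).Additive] [Pretriangulated C]

/-- criterion for closure under binary products via products indexed by `WalkingPair` -/
lemma isClosedUnderBinaryProducts_of_pi (P : ObjectProperty C) [P.IsClosedUnderIsomorphisms]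
    (h : ∀ (f : WalkingPair → C), (∀ j, P (f j)) → P (∏ᶜ f)) :
    P.IsClosedUnderBinaryProducts where
  limitsOfShape_le := by
    rintro X ⟨p⟩
    let f : WalkingPair → C := fun j => p.diag.obj ⟨j⟩
    have e : X ≅ ∏ᶜ f :=
      IsLimit.conePointsIsoOfNatIso p.isLimit (limit.isLimit (Discrete.functor f))
        (Discrete.natIsoFunctor (F := p.diag))
    exact P.prop_of_iso e.symm (h f (fun j => p.prop_diag_obj ⟨j⟩))

lemma prop_pi_walkingPair (P : ObjectProperty C) [P.IsClosedUnderBinaryProducts]
    (f : WalkingPair → C) (hf : ∀ j, P (f j)) : P (∏ᶜ f) :=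
  P.prop_pi f hf

instance retractClosure_isClosedUnderBinaryProducts (P : ObjectProperty C)
    [P.IsClosedUnderBinaryProducts] : P.retractClosure.IsClosedUnderBinaryProducts := by
  apply isClosedUnderBinaryProducts_of_pi
  intro f hf
  choose Y hY r using hf
  refine ⟨∏ᶜ Y, prop_pi_walkingPair P Y hY, ⟨?_⟩⟩
  exact
    { i := Limits.Pi.map (fun j => (r j).some.i)
      r := Limits.Pi.map (fun j => (r j).some.r)
      retract := by
        rw [Limits.Pi.map_comp_map]
        simp }

instance extensionProduct_isClosedUnderBinaryProducts (P Q : ObjectProperty C)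
    [P.IsClosedUnderBinaryProducts] [Q.IsClosedUnderBinaryProducts] :
    (extensionProduct P Q).IsClosedUnderBinaryProducts := by
  apply isClosedUnderBinaryProducts_of_pi
  intro f hf
  choose Y Z u v w hT hY hZ using hf
  let T : WalkingPair → Triangle C := fun j => Triangle.mk (u j) (v j) (w j)
  have hT' : productTriangle T ∈ distTriang C := productTriangle_distinguished T hT
  exact ⟨_, _, _, _, _, hT', prop_pi_walkingPair P Y hY, prop_pi_walkingPair Q Z hZ⟩

instance extensionProductIter_isClosedUnderBinaryProducts (P : ObjectProperty C)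
    [P.IsClosedUnderBinaryProducts] (n : ℕ) :
    (P.extensionProductIter n).IsClosedUnderBinaryProducts := by
  induction n with
  | zero => rwa [extensionProductIter_zero]
  | succ n h => rw [extensionProductIter_succ]; infer_instance

instance triangEnvelopeIter_isClosedUnderBinaryProducts (P : ObjectProperty C) (n : ℕ) :
    (P.triangEnvelopeIter n).IsClosedUnderBinaryProducts := by
  unfold triangEnvelopeIter
  infer_instance

variable [IsTriangulated C]

lemma triangEnvelopeIter_le_of_le (P Q : ObjectProperty C) [Q.Nonempty] (m : ℕ)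
    (h : P ≤ Q.triangEnvelopeIter m) (k : ℕ) :
    ∃ N : ℕ, P.triangEnvelopeIter k ≤ Q.triangEnvelopeIter N := by
  have h0 : P.triangEnvelopeIter 0 ≤ Q.triangEnvelopeIter m := by
    rw [triangEnvelopeIter_zero]
    rwa [retractClosure_le_iff, binaryProductsClosure_le_iff, shiftClosure_le_iff]
  induction k with
  | zero => exact ⟨m, h0⟩
  | succ k ih =>
    obtain ⟨N, hN⟩ := ih
    refine ⟨(m + 1) + N, ?_⟩
    rw [triangEnvelopeIter_succ, ← triangEnvelopeIter_zero,
      triangEnvelopeIter_add Q (n := m + 1) (m := N) (n' := m) rfl]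
    exact monotone_retractClosure
      ((monotone_extensionProduct_left _ h0).trans (monotone_extensionProduct_right _ hN))

theorem isStrong_of_le (P Q : ObjectProperty C) [Q.Nonempty]
    (hP : P.IsStrongTriangulatedGenerator) (m : ℕ) (h : P ≤ Q.triangEnvelopeIter m) :
    Q.IsStrongTriangulatedGenerator := by
  obtain ⟨n, hn⟩ := hP
  obtain ⟨N, hN⟩ := triangEnvelopeIter_le_of_le P Q m h n
  exact ⟨N, eq_top_iff.mpr (hn ▸ hN)⟩

theorem isStrong_singleton_of_isClassical (G E : C)
    (hG : ObjectProperty.IsStrongTriangulatedGenerator (fun X : C => X = G))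
    (hE : ObjectProperty.IsClassicalTriangulatedGenerator (fun X : C => X = E)) :
    ObjectProperty.IsStrongTriangulatedGenerator (fun X : C => X = E) := by
  have : ObjectProperty.Nonempty (fun X : C => X = E) := ⟨E, rfl⟩
  have hGE : ObjectProperty.triangEnvelope (fun X : C => X = E) G := by
    rw [isClassicalTriangulatedGenerator_iff] at hE
    rw [hE]; trivial
  obtain ⟨m, hm⟩ := (prop_triangEnvelope_iff _ G).mp hGE
  refine isStrong_of_le _ _ hG m ?_
  intro X hX
  have hX' : X = G := hX
  rw [hX']; exact hm

end Groth.Agent.H6.StrongGen
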