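import Groth.Agent.H33.PC.FT
import Groth.Agent.H12.QCohAbelian
import Groth.Agent.H18.QCohLocal
import Groth.Agent.H44.Retract
import Groth.Agent.H7.ZClosBase

/-!
# Submodules of finite type of quasi-coherent modules are quasi-coherent (helper6)
-/

set_option autoImplicit false
set_option linter.style.haveILetI false
universe u

namespace Groth.Agent.H6.SubFT

open AlgebraicGeometry CategoryTheory CategoryTheory.Limits Opposite TopologicalSpace

variable {X : Scheme.{u}}

/-- restriction to an open subscheme preserves monomorphisms -/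
theorem mono_restrict_map {M N : X.Modules} (φ : M ⟶ N) [Mono φ] (U : X.Opens) :
    Mono ((Scheme.Modules.restrictFunctor U.ι).map φ) := by
  apply Groth.Agent.H7.ZClosBase.mono_of_injective_app
  intro V
  exact Groth.Agent.H7.ZClosBase.injective_app_of_mono φ (U.ι ''ᵁ V)

/-- a submodule of finite type of a quasi-coherent module is quasi-coherent -/
theorem isQuasicoherent_of_mono_of_isFiniteType (A F : X.Modules) [A.IsQuasicoherent]
    (ι : F ⟶ A) [Mono ι] (hF : CohB1.IsFT F) : F.IsQuasicoherent := by
  have h := Groth.Agent.H33.PC.locFinGen_of_isFT F hF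
  choose U n q hxU hq using h
  have hcov : IsOpenCover U := by
    rw [IsOpenCover, eq_top_iff]
    intro x _
    exact Opens.mem_iSup.mpr ⟨x, hxU x⟩
  apply Groth.Agent.H18.isQuasicoherent_of_isOpenCover F U hcov
  intro x
  haveI := hq x
  haveI := mono_restrict_map ι (U x)
  haveI : (FlatMod.freeMod ((U x : X.Opens) : Scheme.{u}) (n x)).IsQuasicoherent :=
    Groth.Agent.H44.isQuasicoherent_freeMod (n x)
  haveI : (A.restrict (U x).ι).IsQuasicoherent := inferInstance
  have hI := Groth.Agent.H12.QCohAbelian.isQuasicoherent_image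
    (q x ≫ (Scheme.Modules.restrictFunctor (U x).ι).map ι)
  haveI : StrongEpi (q x) := strongEpi_of_epi (q x)
  let e1 := Limits.image.isoStrongEpiMono (q x) ((Scheme.Modules.restrictFunctor (U x).ι).map ι)
    (f := q x ≫ (Scheme.Modules.restrictFunctor (U x).ι).map ι) rfl
  let e2 := Abelian.imageIsoImage (q x ≫ (Scheme.Modules.restrictFunctor (U x).ι).map ι)
  exact Groth.Agent.H12.QCohAbelian.isQuasicoherent_of_iso (e2 ≪≫ e1.symm)

end Groth.Agent.H6.SubFT
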