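import Groth.Agent.H6.Refine
import Mathlib.CategoryTheory.Simple
import Mathlib.Order.ModularLattice
import Mathlib.CategoryTheory.Abelian.Subobject

set_option autoImplicit false
universe v u

open CategoryTheory CategoryTheory.Limits

namespace Groth.Agent.H6.SubLat

variable {C : Type u} [Category.{v} C] [Abelian C] {X : C}

/-- The sup of two subobjects is the image of the sum map. -/
lemma sup_eq_imageSubobject (x y : Subobject X) :
    x ⊔ y = imageSubobject (biprod.desc x.arrow y.arrow) := by
  apply le_antisymm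
  · apply sup_le
    · apply Subobject.le_of_factors
      rw [imageSubobject_factors_iff]
      exact ⟨_, 𝟙 _, inferInstance, biprod.inl, by simp⟩
    · apply Subobject.le_of_factors
      rw [imageSubobject_factors_iff]
      exact ⟨_, 𝟙 _, inferInstance, biprod.inr, by simp⟩
  · apply imageSubobject_le _ (biprod.desc (Subobject.ofLE x (x ⊔ y) le_sup_left)
      (Subobject.ofLE y (x ⊔ y) le_sup_right))
    apply biprod.hom_ext' <;> simp

lemma sup_factors_iff (x y : Subobject X) {T : C} (t : T ⟶ X) :
    (x ⊔ y).Factors t ↔ ∃ (T' : C) (π : T' ⟶ T) (_ : Epi π) (t₁ t₂ : T' ⟶ X),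
      x.Factors t₁ ∧ y.Factors t₂ ∧ π ≫ t = t₁ + t₂ := by
  rw [sup_eq_imageSubobject, imageSubobject_factors_iff]
  constructor
  · rintro ⟨T', π, hπ, w, hw⟩
    refine ⟨T', π, hπ, (w ≫ biprod.fst) ≫ x.arrow, (w ≫ biprod.snd) ≫ y.arrow,
      Subobject.factors_comp_arrow _, Subobject.factors_comp_arrow _, ?_⟩
    rw [hw]
    have : w = (w ≫ biprod.fst) ≫ biprod.inl + (w ≫ biprod.snd) ≫ biprod.inr := by
      rw [Category.assoc, Category.assoc, ← Preadditive.comp_add, biprod.total, Category.comp_id]
    conv_lhs => rw [this]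
    simp only [Preadditive.add_comp, Category.assoc, biprod.inl_desc, biprod.inr_desc]
  · rintro ⟨T', π, hπ, t₁, t₂, h₁, h₂, h⟩
    refine ⟨T', π, hπ, biprod.lift (x.factorThru t₁ h₁) (y.factorThru t₂ h₂), ?_⟩
    rw [h]
    have : biprod.lift (x.factorThru t₁ h₁) (y.factorThru t₂ h₂) =
        x.factorThru t₁ h₁ ≫ biprod.inl + y.factorThru t₂ h₂ ≫ biprod.inr := by
      apply biprod.hom_ext <;> simp
    rw [this, Preadditive.add_comp, Category.assoc, Category.assoc, biprod.inl_desc,
      biprod.inr_desc, Subobject.factorThru_arrow, Subobject.factorThru_arrow]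

lemma factors_add {x : Subobject X} {T : C} {t₁ t₂ : T ⟶ X} (h₁ : x.Factors t₁)
    (h₂ : x.Factors t₂) : x.Factors (t₁ + t₂) :=
  CategoryTheory.Subobject.factors_add _ _ h₁ h₂

instance isModularLattice_subobject : IsModularLattice (Subobject X) where
  sup_inf_le_assoc_of_le {x} y {z} hxz := by
    rw [Subobject.le_iff_forall_factors]
    intro T t ht
    rw [CategoryTheory.Subobject.inf_factors] at ht
    obtain ⟨h1, h2⟩ := ht
    rw [sup_factors_iff] at h1
    obtain ⟨T', π, hπ, t₁, t₂, ht₁, ht₂, e⟩ := h1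
    have hz : z.Factors (t₁ + t₂) := by
      rw [← e]
      exact CategoryTheory.Subobject.factors_of_factors_right π h2
    have hz₂ : z.Factors t₂ :=
      CategoryTheory.Subobject.factors_right_of_factors_add t₁ t₂ hz
        (CategoryTheory.Subobject.factors_of_le t₁ hxz ht₁)
    apply Subobject.factors_of_epi_comp _ π
    rw [e, sup_factors_iff]
    exact ⟨T', 𝟙 T', inferInstance, t₁, t₂, ht₁,
      (CategoryTheory.Subobject.inf_factors t₂).2 ⟨ht₂, hz₂⟩, Category.id_comp _⟩

/-- A mono is the kernel of its cokernel: lifting version for `ofLE`. -/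
lemma exists_lift_of_comp_cokernel_π_eq_zero {a b : Subobject X} (h : a ≤ b) {T : C}
    (t : T ⟶ (b : C)) (ht : t ≫ cokernel.π (Subobject.ofLE a b h) = 0) :
    ∃ u : T ⟶ (a : C), u ≫ Subobject.ofLE a b h = t := by
  have hker : IsLimit (KernelFork.ofι (Subobject.ofLE a b h)
      (cokernel.condition (Subobject.ofLE a b h))) :=
    Abelian.monoIsKernelOfCokernel _ (colimit.isColimit _)
  exact ⟨hker.lift (KernelFork.ofι t ht), hker.fac (KernelFork.ofι t ht) WalkingParallelPair.zero⟩

section secondIso

variable (x y : Subobject X)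

/-- The map `y ⟶ (x ⊔ y) / x`. -/
noncomputable def φ : (y : C) ⟶ cokernel (Subobject.ofLE x (x ⊔ y) le_sup_left) :=
  Subobject.ofLE y (x ⊔ y) le_sup_right ≫ cokernel.π _

lemma ofLE_inf_comp_φ : Subobject.ofLE (x ⊓ y) y inf_le_right ≫ φ x y = 0 := by
  unfold φ
  rw [← Category.assoc, Subobject.ofLE_comp_ofLE,
    ← Subobject.ofLE_comp_ofLE (x ⊓ y) x (x ⊔ y) inf_le_left le_sup_left, Category.assoc,
    cokernel.condition, comp_zero]

/-- `x ⊓ y ⟶ y` is the kernel of `φ`. -/
noncomputable def isLimitKernelForkφ :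
    IsLimit (KernelFork.ofι (Subobject.ofLE (x ⊓ y) y inf_le_right) (ofLE_inf_comp_φ x y)) := by
  have key : ∀ {T : C} (t : T ⟶ (y : C)), t ≫ φ x y = 0 → (x ⊓ y).Factors (t ≫ y.arrow) := by
    intro T t ht
    unfold φ at ht
    rw [← Category.assoc] at ht
    obtain ⟨u, hu⟩ := exists_lift_of_comp_cokernel_π_eq_zero _ _ ht
    rw [CategoryTheory.Subobject.inf_factors]
    refine ⟨?_, CategoryTheory.Subobject.factors_comp_arrow _⟩
    have : t ≫ y.arrow = u ≫ x.arrow := by
      rw [← Subobject.ofLE_arrow (le_sup_right : y ≤ x ⊔ y), ← Category.assoc, ← hu,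
        Category.assoc, Subobject.ofLE_arrow]
    rw [this]
    exact CategoryTheory.Subobject.factors_comp_arrow _
  refine KernelFork.IsLimit.ofι _ _ (fun {T} t ht => (x ⊓ y).factorThru (t ≫ y.arrow) (key t ht))
    (fun {T} t ht => ?_) (fun {T} t ht m hm => ?_)
  · rw [← cancel_mono y.arrow, Category.assoc, Subobject.ofLE_arrow,
      CategoryTheory.Subobject.factorThru_arrow]
  · rw [← cancel_mono (Subobject.ofLE (x ⊓ y) y inf_le_right), hm, ← cancel_mono y.arrow,
      Category.assoc, Subobject.ofLE_arrow, CategoryTheory.Subobject.factorThru_arrow]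

instance epi_φ : Epi (φ x y) := by
  rw [epi_iff_surjective_up_to_refinements]
  intro T q
  obtain ⟨T₁, π₁, hπ₁, q', hq'⟩ := surjective_up_to_refinements_of_epi
    (cokernel.π (Subobject.ofLE x (x ⊔ y) le_sup_left)) q
  have h1 : (x ⊔ y).Factors (q' ≫ (x ⊔ y).arrow) :=
    CategoryTheory.Subobject.factors_comp_arrow _
  rw [sup_factors_iff] at h1
  obtain ⟨T₂, π₂, hπ₂, t₁, t₂, ht₁, ht₂, e⟩ := h1
  refine ⟨T₂, π₂ ≫ π₁, epi_comp _ _, y.factorThru t₂ ht₂, ?_⟩
  have h2 : π₂ ≫ q' = x.factorThru t₁ ht₁ ≫ Subobject.ofLE x (x ⊔ y) le_sup_left +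
      y.factorThru t₂ ht₂ ≫ Subobject.ofLE y (x ⊔ y) le_sup_right := by
    rw [← cancel_mono (x ⊔ y).arrow, Category.assoc, e, Preadditive.add_comp, Category.assoc,
      Category.assoc, Subobject.ofLE_arrow, Subobject.ofLE_arrow,
      CategoryTheory.Subobject.factorThru_arrow, CategoryTheory.Subobject.factorThru_arrow]
  rw [Category.assoc, hq', ← Category.assoc, h2, Preadditive.add_comp, Category.assoc,
    cokernel.condition, comp_zero, zero_add, Category.assoc]
  rfl

/-- The second isomorphism theorem: `y / (x ⊓ y) ≅ (x ⊔ y) / x`. -/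
noncomputable def secondIso : cokernel (Subobject.ofLE (x ⊓ y) y inf_le_right) ≅
    cokernel (Subobject.ofLE x (x ⊔ y) le_sup_left) :=
  (colimit.isColimit _).coconePointUniqueUpToIso
    (Abelian.epiIsCokernelOfKernel _ (isLimitKernelForkφ x y))

end secondIso

section simple

variable {a b : Subobject X}

lemma covBy_of_simple (h : a ≤ b) [Simple (cokernel (Subobject.ofLE a b h))] : a ⋖ b := by
  have hne : a ≠ b := by
    intro hab
    subst hab
    have hz : IsZero (cokernel (Subobject.ofLE a a h)) := by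
      have : IsIso (Subobject.ofLE a a h) := by
        rw [Subobject.ofLE_refl]
        infer_instance
      exact isZero_cokernel_of_epi _
    exact Simple.not_isZero _ hz
  refine ⟨lt_of_le_of_ne h hne, fun c hac hcb => ?_⟩
  by_cases hf : Subobject.ofLE c b hcb.le ≫ cokernel.π (Subobject.ofLE a b h) = 0
  · obtain ⟨u, hu⟩ := exists_lift_of_comp_cokernel_π_eq_zero h _ hf
    have hca : c ≤ a := Subobject.le_of_comm u (by
      rw [← Subobject.ofLE_arrow h, ← Category.assoc, hu, Subobject.ofLE_arrow])
    exact lt_irrefl _ (lt_of_lt_of_le hac hca)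
  · have hι : image.ι (Subobject.ofLE c b hcb.le ≫ cokernel.π (Subobject.ofLE a b h)) ≠ 0 :=
      fun h0 => hf (by rw [← image.fac (Subobject.ofLE c b hcb.le ≫ cokernel.π _), h0, comp_zero])
    have hiso : IsIso (image.ι (Subobject.ofLE c b hcb.le ≫ cokernel.π (Subobject.ofLE a b h))) :=
      isIso_of_mono_of_nonzero hι
    have hepi : Epi (Subobject.ofLE c b hcb.le ≫ cokernel.π (Subobject.ofLE a b h)) := by
      rw [← image.fac (Subobject.ofLE c b hcb.le ≫ cokernel.π _)]
      exact epi_comp _ _
    have hbc : b ≤ c := by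
      rw [Subobject.le_iff_forall_factors]
      intro T t ht
      obtain ⟨T', π, hπ, t'', ht''⟩ := surjective_up_to_refinements_of_epi
        (Subobject.ofLE c b hcb.le ≫ cokernel.π (Subobject.ofLE a b h))
        (b.factorThru t ht ≫ cokernel.π (Subobject.ofLE a b h))
      have h0 : (π ≫ b.factorThru t ht - t'' ≫ Subobject.ofLE c b hcb.le) ≫
          cokernel.π (Subobject.ofLE a b h) = 0 := by
        rw [Preadditive.sub_comp, Category.assoc, ht'', Category.assoc, sub_self]
      obtain ⟨u, hu⟩ := exists_lift_of_comp_cokernel_π_eq_zero h _ h0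
      apply Subobject.factors_of_epi_comp _ π
      have e1 : π ≫ b.factorThru t ht =
          t'' ≫ Subobject.ofLE c b hcb.le + u ≫ Subobject.ofLE a b h := by
        rw [hu]; abel
      have e2 : π ≫ t = (t'' + u ≫ Subobject.ofLE a c hac.le) ≫ c.arrow := by
        calc π ≫ t = (π ≫ b.factorThru t ht) ≫ b.arrow := by
              rw [Category.assoc, CategoryTheory.Subobject.factorThru_arrow]
          _ = (t'' + u ≫ Subobject.ofLE a c hac.le) ≫ c.arrow := by
              rw [e1, Preadditive.add_comp, Preadditive.add_comp, Category.assoc, Category.assoc,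
                Category.assoc, Subobject.ofLE_arrow, Subobject.ofLE_arrow, Subobject.ofLE_arrow]
      rw [e2]
      exact CategoryTheory.Subobject.factors_comp_arrow _
    exact lt_irrefl _ (lt_of_lt_of_le hcb hbc)

lemma simple_of_covBy (h : a ≤ b) (hab : a ⋖ b) : Simple (cokernel (Subobject.ofLE a b h)) := by
  have hnz : ¬ IsZero (cokernel (Subobject.ofLE a b h)) := by
    intro hz
    have hepi : Epi (Subobject.ofLE a b h) := Preadditive.epi_of_isZero_cokernel _ hz
    have hiso : IsIso (Subobject.ofLE a b h) := isIso_of_mono_of_epi _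
    have hba : b ≤ a := Subobject.le_of_comm (inv (Subobject.ofLE a b h)) (by
      rw [IsIso.inv_comp_eq, Subobject.ofLE_arrow])
    exact hab.lt.not_ge hba
  refine ⟨fun {Y} f _ => ⟨fun hiso h0 => hnz ?_, fun hf => ?_⟩⟩
  · rw [IsZero.iff_id_eq_zero, ← IsIso.inv_hom_id f]
    exact (congrArg (fun g => inv f ≫ g) h0).trans comp_zero
  · have hac : a ≤ Subobject.mk (pullback.snd f (cokernel.π (Subobject.ofLE a b h)) ≫ b.arrow) := by
      refine Subobject.le_mk_of_comm (pullback.lift 0 (Subobject.ofLE a b h)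
        (by rw [zero_comp, cokernel.condition])) ?_
      rw [← Category.assoc, pullback.lift_snd, Subobject.ofLE_arrow]
    have hcb : Subobject.mk (pullback.snd f (cokernel.π (Subobject.ofLE a b h)) ≫ b.arrow) ≤ b :=
      Subobject.mk_le_of_comm (pullback.snd f (cokernel.π (Subobject.ofLE a b h))) rfl
    rcases hab.eq_or_eq hac hcb with hc | hc
    · exfalso
      have hfac : a.Factors (pullback.snd f (cokernel.π (Subobject.ofLE a b h)) ≫ b.arrow) :=
        CategoryTheory.Subobject.factors_of_le _ hc.le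
          ((CategoryTheory.Subobject.mk_factors_iff _ _).2 ⟨𝟙 _, Category.id_comp _⟩)
      have h1 : a.factorThru _ hfac ≫ Subobject.ofLE a b h =
          pullback.snd f (cokernel.π (Subobject.ofLE a b h)) := by
        rw [← cancel_mono b.arrow, Category.assoc, Subobject.ofLE_arrow,
          CategoryTheory.Subobject.factorThru_arrow]
      have h2 : pullback.fst f (cokernel.π (Subobject.ofLE a b h)) ≫ f = 0 := by
        rw [pullback.condition, ← h1, Category.assoc, cokernel.condition, comp_zero]
      apply hf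
      rw [← cancel_epi (pullback.fst f (cokernel.π (Subobject.ofLE a b h))), h2, comp_zero]
    · have hfac : (Subobject.mk (pullback.snd f (cokernel.π (Subobject.ofLE a b h)) ≫ b.arrow)).Factors
          b.arrow := by
        rw [hc]
        exact CategoryTheory.Subobject.factors_self _
      obtain ⟨w, hw⟩ : ∃ w : (b : C) ⟶ pullback f (cokernel.π (Subobject.ofLE a b h)),
          w ≫ pullback.snd f (cokernel.π (Subobject.ofLE a b h)) ≫ b.arrow = b.arrow :=
        (CategoryTheory.Subobject.mk_factors_iff _ _).1 hfac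
      have h1 : w ≫ pullback.snd f (cokernel.π (Subobject.ofLE a b h)) = 𝟙 _ := by
        rw [← cancel_mono b.arrow, Category.assoc, hw, Category.id_comp]
      have h2 : (w ≫ pullback.fst f (cokernel.π (Subobject.ofLE a b h))) ≫ f =
          cokernel.π (Subobject.ofLE a b h) := by
        rw [Category.assoc, pullback.condition, ← Category.assoc, h1, Category.id_comp]
      have hepi : Epi f := epi_of_epi_fac h2
      exact isIso_of_mono_of_epi f

end simple

end Groth.Agent.H6.SubLat
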