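import Mathlib
import Groth.Agent.H6.SubtrLC
import Groth.Agent.H17.ProConsCompl
import Groth.Agent.S3399

/-!
# Locally closed subsets descend along finitely presented universally S-subtrusive maps
-/

set_option autoImplicit false
universe u

namespace Groth.Agent.H6.SubtrLC

open AlgebraicGeometry CategoryTheory Topology Set Set.Notation Groth.Agent.H17

variable {S' S : Scheme.{u}} (f : S' ⟶ S) [QuasiCompact f] [LocallyOfFinitePresentation f]

/-- Backward direction for morphisms of finite presentation. -/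
theorem lc_of_preimage_of_fp (hf : Subtr.UnivSSubtrusive f) {E : Set S}
    (h1 : IsLocallyClosed (f ⁻¹' E)) : IsLocallyClosed E := by
  have hsub : Subtr.IsSSubtrusive f := MorphismProperty.universally_le _ _ hf
  have hsurj : Function.Surjective f := by
    intro y
    obtain ⟨x, _, _, hx, _⟩ := hsub (specializes_rfl (x := y))
    exact ⟨x, hx⟩
  have himg : f '' (f ⁻¹' E) = E := image_preimage_eq E hsurj
  -- the set of points whose fibre lies in the closure of `W = f ⁻¹' E`
  set Z := closure (f ⁻¹' E) with hZ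
  have hGpro : ProCons.IsProConstructible (f '' Zᶜ)ᶜ :=
    pro_compl_of_ind (Groth.Agent.S3399.result f Zᶜ
      (isIndConstructible_of_isOpen isClosed_closure.isOpen_compl))
  have hEG : E ⊆ (f '' Zᶜ)ᶜ := by
    rintro t ht ⟨x, hx, rfl⟩
    exact hx (subset_closure ht)
  have hK : ∀ t ∈ closure E, ∃ e, e ⤳ t ∧ ∀ q : S', f q = e → q ∈ Z := by
    intro t ht
    obtain ⟨e, he, het⟩ := Groth.Agent.H73.SubtrProCons.exists_specializes_of_mem_closure hGpro
      (closure_mono hEG ht)
    refine ⟨e, het, fun q hq => ?_⟩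
    by_contra hqZ
    exact he ⟨q, hqZ, hq⟩
  -- `closure E \ E` is the image of the closed set `Z \ W`
  have hdiff : closure E \ E = f '' (Z \ f ⁻¹' E) := by
    ext t
    constructor
    · rintro ⟨ht1, ht2⟩
      obtain ⟨e, het, hfib⟩ := hK t ht1
      obtain ⟨x, q, hqx, hfx, hfq⟩ := hsub het
      exact ⟨x, ⟨hqx.mem_closed isClosed_closure (hfib q hfq), by rw [mem_preimage, hfx]; exact ht2⟩,
        hfx⟩
    · rintro ⟨x, ⟨hx1, hx2⟩, rfl⟩
      refine ⟨?_, hx2⟩
      have := image_closure_subset_closure_image (s := f ⁻¹' E) f.continuous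
      rw [himg] at this
      exact this ⟨x, hx1, rfl⟩
  have hclosedW : IsClosed (Z \ f ⁻¹' E) := by
    have := h1.isOpen_coborder
    rw [coborder] at this
    exact isOpen_compl_iff.mp this
  have hstab : StableUnderSpecialization (f '' (Z \ f ⁻¹' E)) := by
    rw [← hdiff]
    rintro t t' htt' ⟨ht1, ht2⟩
    refine ⟨htt'.mem_closed isClosed_closure ht1, fun ht'E => ?_⟩
    obtain ⟨e, het, hfib⟩ := hK t ht1
    obtain ⟨x₀, x₁, x₂, h01, h12, hf0, hf1, hf2⟩ := chain3 f hf het htt'
    have hx₂ : x₂ ∈ f ⁻¹' E := by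
      change f x₂ ∈ E
      rw [hf2]
      exact ht'E
    have hx₁ : x₁ ∉ f ⁻¹' E := by
      change f x₁ ∉ E
      rw [hf1]
      exact ht2
    have hx₁Z : x₁ ∈ Z := h01.mem_closed isClosed_closure (hfib x₀ hf0)
    obtain ⟨U, Z₀, hU, hZ₀, hWeq⟩ := h1
    have hZZ₀ : Z ⊆ Z₀ := by
      rw [hZ, hWeq]
      exact closure_minimal inter_subset_right hZ₀
    rw [hWeq] at hx₂ hx₁
    exact hx₁ ⟨h12.mem_open hU hx₂.1, hZZ₀ hx₁Z⟩
  have hfinal : IsClosed (closure E \ E) := by
    rw [hdiff]
    exact isClosed_image_of_stable f hclosedW hstab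
  rw [isLocallyClosed_iff_isOpen_coborder, coborder]
  exact hfinal.isOpen_compl

end Groth.Agent.H6.SubtrLC
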