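import Mathlib.Algebra.Homology.DerivedCategory.TStructure
import Mathlib.Algebra.Homology.DerivedCategory.Fractions
import Mathlib.Algebra.Homology.DerivedCategory.ShortExact
import Mathlib.Algebra.Homology.Embedding.CochainComplex

set_option autoImplicit false
universe w v u
open CategoryTheory CategoryTheory.Limits Category Pretriangulated

namespace Groth.Agent.H6
open DerivedCategory HomologicalComplex

variable {C : Type u} [Category.{v} C] [Abelian C] [HasDerivedCategory.{w} C]

/-- A morphism out of `Q K` killing `τ_{≤ n-1} K` factors through `Q K ⟶ Q (τ_{≥ n} K)`. -/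
lemma exists_fac_πTruncGE (K : CochainComplex C ℤ) (n₀ n : ℤ) (hn : n₀ + 1 = n)
    {Y : DerivedCategory C} (g : Q.obj K ⟶ Y) (hg : Q.map (K.ιTruncLE n₀) ≫ g = 0) :
    ∃ φ : Q.obj (K.truncGE n) ⟶ Y, Q.map (K.πTruncGE n) ≫ φ = g := by
  have hS := K.shortComplexTruncLE_shortExact n₀
  obtain ⟨g', hg'⟩ : ∃ g' : Q.obj (K.shortComplexTruncLE n₀).X₃ ⟶ Y,
      g = Q.map (K.shortComplexTruncLE n₀).g ≫ g' :=
    Triangle.yoneda_exact₂ _ (triangleOfSES_distinguished hS) g hg
  have : IsIso (Q.map (K.shortComplexTruncLEX₃ToTruncGE n₀ n hn)) := by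
    rw [isIso_Q_map_iff_quasiIso]; infer_instance
  refine ⟨inv (Q.map (K.shortComplexTruncLEX₃ToTruncGE n₀ n hn)) ≫ g', ?_⟩
  have e : Q.map (K.πTruncGE n) = Q.map (K.shortComplexTruncLE n₀).g ≫
      Q.map (K.shortComplexTruncLEX₃ToTruncGE n₀ n hn) := by
    have := Q.congr_map (K.g_shortComplexTruncLEX₃ToTruncGE n₀ n hn)
    rw [Q.map_comp] at this
    exact this.symm
  have e' : Q.map (K.πTruncGE n) ≫ inv (Q.map (K.shortComplexTruncLEX₃ToTruncGE n₀ n hn)) =
      Q.map (K.shortComplexTruncLE n₀).g := (IsIso.comp_inv_eq _).mpr e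
  rw [hg', ← assoc]
  exact congrArg (· ≫ g') e'

omit [HasDerivedCategory C] in
/-- A chain map from a complex strictly `≤ j` to a complex strictly `≥ j` inducing zero on `H^j`
is zero. -/
lemma hom_eq_zero_of_homologyMap_eq_zero (L M : CochainComplex C ℤ) (j : ℤ)
    [L.IsStrictlyLE j] [M.IsStrictlyGE j] (g : L ⟶ M) (hg : homologyMap g j = 0) : g = 0 := by
  ext i
  obtain hi | rfl | hi := lt_trichotomy i j
  · exact (M.isZero_of_isStrictlyGE j i hi).eq_of_tgt _ _
  · let eL := L.iCyclesIso i (i + 1) (by simp)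
      ((L.isZero_of_isStrictlyLE i (i + 1) (by simp)).eq_of_tgt _ _)
    let eM := M.pOpcyclesIso (i - 1) i (by simp)
      ((M.isZero_of_isStrictlyGE i (i - 1) (by simp)).eq_of_src _ _)
    have key : g.f i = eL.inv ≫ L.homologyπ i ≫ homologyMap g i ≫ M.homologyι i ≫ eM.inv := by
      rw [← cancel_epi eL.hom, ← cancel_mono eM.hom]
      simp only [assoc, Iso.hom_inv_id_assoc, Iso.inv_hom_id, comp_id]
      rw [homologyπ_naturality_assoc, homology_π_ι, cyclesMap_i_assoc]
      rfl
    rw [key, hg]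
    simp
  · exact (L.isZero_of_isStrictlyLE j i hi).eq_of_src _ _

/-- A morphism in the derived category from an object strictly `≤ j` to one strictly `≥ j`
which induces zero on `H^j` vanishes. -/
lemma Q_hom_eq_zero_of_homology_map_eq_zero (L M : CochainComplex C ℤ) (j : ℤ)
    [L.IsStrictlyLE j] [M.IsStrictlyGE j] (f : Q.obj L ⟶ Q.obj M)
    (hf : (DerivedCategory.homologyFunctor C j).map f = 0) : f = 0 := by
  obtain ⟨L', _, s, hs, g, rfl⟩ := right_fac_of_isStrictlyLE f j
  have h1 : (DerivedCategory.homologyFunctor C j).map (Q.map g) = 0 := by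
    rw [Functor.map_comp, Functor.map_inv, IsIso.inv_comp_eq, comp_zero] at hf
    exact hf
  have h2 : homologyMap g j = 0 := by
    have := (homologyFunctorFactors C j).hom.naturality g
    dsimp at this
    rw [h1, zero_comp] at this
    have h3 : (homologyFunctorFactors C j).hom.app L' ≫ homologyMap g j = 0 := this.symm
    exact (cancel_epi ((homologyFunctorFactors C j).hom.app L')).mp (h3.trans comp_zero.symm)
  rw [hom_eq_zero_of_homologyMap_eq_zero L' M j g h2, Q.map_zero, comp_zero]

end Groth.Agent.H6
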