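import Groth.Agent.H6.UnivOpenDVR2

/-!
# Universal openness at a point can be tested after base change to the local scheme (EGA IV 14.3.?)
-/

set_option autoImplicit false
universe u

open CategoryTheory Limits AlgebraicGeometry

namespace Groth.Agent.H6.UnivOpenDVR

theorem isUnivOpenAt_of_localScheme {X Y : Scheme.{u}} (f : X ⟶ Y)
    [LocallyOfFinitePresentation f] (x : X)
    (x₁ : ↥(pullback f (Y.fromSpecStalk (f.base x))))
    (hx₁ : (pullback.fst f (Y.fromSpecStalk (f.base x))).base x₁ = x)
    (h : EGA43.IsUnivOpenAt (pullback.snd f (Y.fromSpecStalk (f.base x))) x₁) :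
    EGA43.IsUnivOpenAt f x := by
  intro Y' g x' hx'
  let j := Y.fromSpecStalk (f.base x)
  have huniq : ∀ x₂ : ↥(pullback f j), (pullback.fst f j).base x₂ = x → x₂ = x₁ :=
    fun x₂ hx₂ => (pullback.fst f j).isEmbedding.injective (hx₂.trans hx₁.symm)
  have hfp : LocallyOfFinitePresentation (pullback.snd f g) := inferInstance
  refine ((Groth.Agent.S3404.result (pullback.snd f g) x').2 hfp).2 ?_
  intro y'' hy''
  let a := pullback.snd j g
  have hgy' : g.base ((pullback.snd f g).base x') = f.base x := by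
    rw [← Scheme.Hom.comp_apply, ← pullback.condition, Scheme.Hom.comp_apply, hx']
  have hlift : ∀ z : Y', g.base z ⤳ f.base x → ∃ z' : ↥(pullback j g), a.base z' = z := by
    intro z hz
    have : g.base z ∈ Set.range j.base := by
      change g.base z ∈ Set.range (Y.fromSpecStalk (f.base x)).base
      rw [Scheme.range_fromSpecStalk]
      exact hz
    obtain ⟨l, hl⟩ := this
    obtain ⟨q, -, hq⟩ := Scheme.Pullback.exists_preimage_pullback l z hl
    exact ⟨q, hq⟩
  obtain ⟨yb₁, hyb₁a⟩ := hlift ((pullback.snd f g).base x') (by rw [hgy'])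
  obtain ⟨yb₂, hyb₂a⟩ := hlift y'' (by rw [← hgy']; exact hy''.map g.continuous)
  have hsp : yb₂ ⤳ yb₁ := by
    rw [← a.isEmbedding.specializes_iff, hyb₂a, hyb₁a]
    exact hy''
  obtain ⟨p'', hp''1, hp''2⟩ := Scheme.Pullback.exists_preimage_pullback
    (f := pullback.snd f g) (g := a) x' yb₁ hyb₁a.symm
  have hop := Groth.Agent.H25.isOpenAt_double_baseChange f j g x
    (fun x₂ hx₂ => by rw [huniq x₂ hx₂]; exact h) x' hx' p'' hp''1
  obtain ⟨p''', hp''', hp'''y⟩ := (Groth.Agent.S3404.result
    (pullback.snd (pullback.snd f g) a) p'').1 hop yb₂ (by rw [hp''2]; exact hsp)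
  refine ⟨(pullback.fst (pullback.snd f g) a).base p''', ?_, ?_⟩
  · rw [← hp''1]
    exact hp'''.map (pullback.fst (pullback.snd f g) a).continuous
  · rw [← Scheme.Hom.comp_apply, pullback.condition, Scheme.Hom.comp_apply, hp'''y, hyb₂a]

end Groth.Agent.H6.UnivOpenDVR
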