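import Groth.Agent.H6.RZCompact
import Groth.Agent.H6.FlatIrred

set_option autoImplicit false
universe u

namespace Groth.Agent.H6.ValQC

open AlgebraicGeometry CategoryTheory TopologicalSpace IsLocalRing

variable {X Y : Scheme.{u}} (f : X ⟶ Y)

/-- `Γ(X, W) ⟶ κ(ξ)` for `ξ ∈ W`. -/
noncomputable def rho (ξ : X) (W : X.Opens) (hξ : ξ ∈ W) : Γ(X, W) ⟶ X.residueField ξ :=
  X.presheaf.germ W ξ hξ ≫ X.residue ξ

lemma SpecMap_rho_fromSpec (ξ : X) {W : X.Opens} (hW : IsAffineOpen W) (hξ : ξ ∈ W) :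
    Spec.map (rho ξ W hξ) ≫ hW.fromSpec = X.fromSpecResidueField ξ := by
  rw [rho, Spec.map_comp, Category.assoc, Scheme.fromSpecResidueField,
    ← hW.fromSpecStalk_eq_fromSpecStalk hξ]
  rfl

lemma map_rho (ξ : X) {W W' : X.Opens} (h : W' ≤ W) (hξ : ξ ∈ W') :
    X.presheaf.map (homOfLE h).op ≫ rho ξ W' hξ = rho ξ W (h hξ) := by
  rw [rho, rho, ← Category.assoc, X.presheaf.germ_res]

/-- `Γ(Y, V) ⟶ κ(ξ)` for `f ξ ∈ V`. -/
noncomputable def phi (V : Y.Opens) (ξ : X) (hξ : ξ ∈ f ⁻¹ᵁ V) : Γ(Y, V) ⟶ X.residueField ξ :=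
  f.app V ≫ rho ξ (f ⁻¹ᵁ V) hξ

lemma appLE_rho (V : Y.Opens) (ξ : X) {W : X.Opens} (e : W ≤ f ⁻¹ᵁ V) (hξ : ξ ∈ W) :
    f.appLE V W e ≫ rho ξ W hξ = phi f V ξ (e hξ) := by
  rw [Scheme.Hom.appLE, Category.assoc, map_rho, phi]

/-- The ring map `Γ(Y, V) → R` when `R` contains the image of `Γ(Y, V)` in `κ(ξ)`. -/
noncomputable def alpha (V : Y.Opens) (ξ : X) (hξ : ξ ∈ f ⁻¹ᵁ V)
    (R : ValuationSubring (X.residueField ξ)) (hR : ∀ a, (phi f V ξ hξ).hom a ∈ R) :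
    Γ(Y, V) →+* R :=
  (phi f V ξ hξ).hom.codRestrict R.toSubring hR

lemma alpha_comp (V : Y.Opens) (ξ : X) (hξ : ξ ∈ f ⁻¹ᵁ V)
    (R : ValuationSubring (X.residueField ξ)) (hR : ∀ a, (phi f V ξ hξ).hom a ∈ R) :
    CommRingCat.ofHom (alpha f V ξ hξ R hR) ≫ CommRingCat.ofHom (algebraMap R (X.residueField ξ)) =
      phi f V ξ hξ := by
  ext a
  rfl

/-- The valuative square attached to a valuation ring of `κ(ξ)` containing the image of `Γ(Y, V)`. -/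
noncomputable def sq {V : Y.Opens} (hV : IsAffineOpen V) (ξ : X) (hξ : ξ ∈ f ⁻¹ᵁ V)
    (R : ValuationSubring (X.residueField ξ)) (hR : ∀ a, (phi f V ξ hξ).hom a ∈ R) :
    ValuativeCommSq f where
  R := R
  K := X.residueField ξ
  i₁ := X.fromSpecResidueField ξ
  i₂ := Spec.map (CommRingCat.ofHom (alpha f V ξ hξ R hR)) ≫ hV.fromSpec
  commSq := ⟨by
    obtain ⟨W, hW, hξW, hWV⟩ : ∃ W : X.Opens, IsAffineOpen W ∧ ξ ∈ W ∧ W ≤ f ⁻¹ᵁ V := by
      obtain ⟨_, ⟨W, hW : IsAffineOpen W, rfl⟩, hξW, hle⟩ :=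
        X.isBasis_affineOpens.exists_subset_of_mem_open hξ (f ⁻¹ᵁ V).2
      exact ⟨W, hW, hξW, hle⟩
    rw [← SpecMap_rho_fromSpec ξ hW hξW, Category.assoc, ← hV.SpecMap_appLE_fromSpec f hW hWV,
      ← Spec.map_comp_assoc, appLE_rho, ← Spec.map_comp_assoc, alpha_comp]⟩

lemma exists_affine_le (x : X) {U : X.Opens} (hx : x ∈ U) :
    ∃ W : X.Opens, IsAffineOpen W ∧ x ∈ W ∧ W ≤ U := by
  obtain ⟨_, ⟨W, hW : IsAffineOpen W, rfl⟩, hxW, hle⟩ :=
    X.isBasis_affineOpens.exists_subset_of_mem_open hx U.2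
  exact ⟨W, hW, hxW, hle⟩

/-- Existence part: a valuation ring of `κ(ξ)` over `Γ(Y, V)` contains the image of `Γ(X, W)` for
some affine open `W ∋ ξ`. -/
lemma exists_affine_of_existence (hf : ValuativeCriterion.Existence f) {V : Y.Opens}
    (hV : IsAffineOpen V) (ξ : X) (hξ : ξ ∈ f ⁻¹ᵁ V)
    (R : ValuationSubring (X.residueField ξ)) (hR : ∀ a, (phi f V ξ hξ).hom a ∈ R) :
    ∃ (W : X.Opens) (_ : IsAffineOpen W) (_ : W ≤ f ⁻¹ᵁ V) (hξW : ξ ∈ W),
      ∀ b, (rho ξ W hξW).hom b ∈ R := by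
  obtain ⟨⟨ℓ, h₁, h₂⟩⟩ := (hf (sq f hV ξ hξ R hR)).exists_lift
  change Spec (CommRingCat.of R) ⟶ X at ℓ
  change Spec.map (CommRingCat.ofHom (algebraMap R (X.residueField ξ))) ≫ ℓ =
    X.fromSpecResidueField ξ at h₁
  change ℓ ≫ f = Spec.map (CommRingCat.ofHom (alpha f V ξ hξ R hR)) ≫ hV.fromSpec at h₂
  have hx₀V : ℓ (closedPoint R) ∈ f ⁻¹ᵁ V := by
    show f (ℓ (closedPoint R)) ∈ V
    rw [← Scheme.Hom.comp_apply, h₂, Scheme.Hom.comp_apply]
    have : hV.fromSpec (Spec.map (CommRingCat.ofHom (alpha f V ξ hξ R hR)) (closedPoint R)) ∈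
        Set.range hV.fromSpec := ⟨_, rfl⟩
    rwa [hV.range_fromSpec] at this
  obtain ⟨W, hW, hx₀W, hWV⟩ := exists_affine_le _ hx₀V
  have hℓW : ℓ ⁻¹ᵁ W = ⊤ := closed_point_mem_iff.mp hx₀W
  have hrange : Set.range ℓ ⊆ Set.range hW.fromSpec := by
    rw [hW.range_fromSpec]
    rintro _ ⟨z, rfl⟩
    have : z ∈ ℓ ⁻¹ᵁ W := hℓW ▸ trivial
    exact this
  have hℓ' : IsOpenImmersion.lift hW.fromSpec ℓ hrange ≫ hW.fromSpec = ℓ :=
    IsOpenImmersion.lift_fac _ _ _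
  obtain ⟨γ, hγ⟩ : ∃ γ : Γ(X, W) ⟶ CommRingCat.of R,
      Spec.map γ = IsOpenImmersion.lift hW.fromSpec ℓ hrange := ⟨Spec.preimage _, Spec.map_preimage _⟩
  have hξW : ξ ∈ W := by
    have h3 : X.fromSpecResidueField ξ (default : Spec (X.residueField ξ)) = ξ :=
      Scheme.fromSpecResidueField_apply _ _
    rw [← h3, ← h₁, Scheme.Hom.comp_apply]
    have : Spec.map (CommRingCat.ofHom (algebraMap R (X.residueField ξ))) default ∈ ℓ ⁻¹ᵁ W :=
      hℓW ▸ trivial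
    exact this
  refine ⟨W, hW, hWV, hξW, ?_⟩
  have key : γ ≫ CommRingCat.ofHom (algebraMap R (X.residueField ξ)) = rho ξ W hξW := by
    apply Spec.map_injective
    rw [← cancel_mono hW.fromSpec, Spec.map_comp, Category.assoc, hγ, hℓ', h₁,
      SpecMap_rho_fromSpec]
  intro b
  have := congr($(key).hom b)
  rw [← this]
  exact (γ.hom b).2

/-- `𝒪_{X,x} ⟶ κ(ξ)` for `ξ ⤳ x`. -/
noncomputable def sigma {ξ x : X} (hsp : ξ ⤳ x) : X.presheaf.stalk x ⟶ X.residueField ξ :=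
  X.presheaf.stalkSpecializes hsp ≫ X.residue ξ

lemma germ_sigma {ξ x : X} (hsp : ξ ⤳ x) {W : X.Opens} (hx : x ∈ W) :
    X.presheaf.germ W x hx ≫ sigma hsp = rho ξ W (hsp.mem_open W.2 hx) := by
  rw [sigma, rho, ← Category.assoc, TopCat.Presheaf.germ_stalkSpecializes]

lemma SpecMap_sigma_fromSpecStalk {ξ x : X} (hsp : ξ ⤳ x) :
    Spec.map (sigma hsp) ≫ X.fromSpecStalk x = X.fromSpecResidueField ξ := by
  rw [sigma, Spec.map_comp, Category.assoc, Scheme.SpecMap_stalkSpecializes_fromSpecStalk,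
    Scheme.fromSpecResidueField]

/-- Uniqueness part: if a valuation ring `R` of `κ(ξ)` dominates the image of `𝒪_{X,x}` and
contains the image of `Γ(X, W)` (`W ∋ ξ` affine), then `x ∈ W`. -/
lemma mem_of_uniqueness (hf : ValuativeCriterion.Uniqueness f) {V : Y.Opens} (hV : IsAffineOpen V)
    {ξ x : X} (hsp : ξ ⤳ x) (hx : x ∈ f ⁻¹ᵁ V)
    (R : ValuationSubring (X.residueField ξ))
    (hσ : ∀ a, (sigma hsp).hom a ∈ R)
    (hloc : IsLocalHom ((sigma hsp).hom.codRestrict R.toSubring hσ))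
    {W : X.Opens} (hW : IsAffineOpen W) (hWV : W ≤ f ⁻¹ᵁ V) (hξW : ξ ∈ W)
    (hρ : ∀ b, (rho ξ W hξW).hom b ∈ R) : x ∈ W := by
  have hξV : ξ ∈ f ⁻¹ᵁ V := hsp.mem_open (f ⁻¹ᵁ V).2 hx
  have hR : ∀ a, (phi f V ξ hξV).hom a ∈ R := by
    intro a
    rw [← appLE_rho f V ξ hWV hξW]
    exact hρ _
  -- first lift, through `W`
  let γ : Γ(X, W) →+* R := (rho ξ W hξW).hom.codRestrict R.toSubring hρ
  have hγ : CommRingCat.ofHom γ ≫ CommRingCat.ofHom (algebraMap R (X.residueField ξ)) =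
      rho ξ W hξW := by ext a; rfl
  have hγα : f.appLE V W hWV ≫ CommRingCat.ofHom γ =
      CommRingCat.ofHom (alpha f V ξ hξV R hR) := by
    ext a
    exact congr($(appLE_rho f V ξ hWV hξW).hom a)
  let ℓ₁ : Spec (CommRingCat.of R) ⟶ X := Spec.map (CommRingCat.ofHom γ) ≫ hW.fromSpec
  have h₁l : Spec.map (CommRingCat.ofHom (algebraMap R (X.residueField ξ))) ≫ ℓ₁ =
      X.fromSpecResidueField ξ := by
    rw [← Category.assoc, ← Spec.map_comp, hγ, SpecMap_rho_fromSpec]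
  have h₁r : ℓ₁ ≫ f = Spec.map (CommRingCat.ofHom (alpha f V ξ hξV R hR)) ≫ hV.fromSpec := by
    rw [Category.assoc, ← hV.SpecMap_appLE_fromSpec f hW hWV, ← Spec.map_comp_assoc, hγα]
  -- second lift, through the local ring at `x`
  let β : X.presheaf.stalk x →+* R := (sigma hsp).hom.codRestrict R.toSubring hσ
  have hβ : CommRingCat.ofHom β ≫ CommRingCat.ofHom (algebraMap R (X.residueField ξ)) =
      sigma hsp := by ext a; rfl
  obtain ⟨W', hW', hxW', hW'V⟩ := exists_affine_le x hx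
  have hβα : f.appLE V W' hW'V ≫ X.presheaf.germ W' x hxW' ≫ CommRingCat.ofHom β =
      CommRingCat.ofHom (alpha f V ξ hξV R hR) := by
    ext a
    have h1 := congr($(germ_sigma hsp hxW').hom ((f.appLE V W' hW'V).hom a))
    have h2 := congr($(appLE_rho f V ξ hW'V (hsp.mem_open W'.2 hxW')).hom a)
    exact h1.trans h2
  let ℓ₂ : Spec (CommRingCat.of R) ⟶ X := Spec.map (CommRingCat.ofHom β) ≫ X.fromSpecStalk x
  have h₂l : Spec.map (CommRingCat.ofHom (algebraMap R (X.residueField ξ))) ≫ ℓ₂ =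
      X.fromSpecResidueField ξ := by
    rw [← Category.assoc, ← Spec.map_comp, hβ, SpecMap_sigma_fromSpecStalk]
  have h₂r : ℓ₂ ≫ f = Spec.map (CommRingCat.ofHom (alpha f V ξ hξV R hR)) ≫ hV.fromSpec := by
    rw [Category.assoc, ← hW'.fromSpecStalk_eq_fromSpecStalk hxW', IsAffineOpen.fromSpecStalk,
      Category.assoc, ← hV.SpecMap_appLE_fromSpec f hW' hW'V, ← Spec.map_comp_assoc,
      ← Spec.map_comp_assoc]
    exact congrArg (fun t => Spec.map t ≫ hV.fromSpec) hβα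
  -- uniqueness
  have huniq := hf (sq f hV ξ hξV R hR)
  have heq : ℓ₁ = ℓ₂ := by
    have := huniq.elim ⟨ℓ₁, h₁l, h₁r⟩ ⟨ℓ₂, h₂l, h₂r⟩
    exact congrArg CommSq.LiftStruct.l this
  have hx' : ℓ₂ (closedPoint R) = x := by
    have : IsLocalHom (CommRingCat.ofHom β).hom := hloc
    show (Spec.map (CommRingCat.ofHom β) ≫ X.fromSpecStalk x) (closedPoint R) = x
    rw [Scheme.Hom.comp_apply]
    erw [Spec_closedPoint]
    exact Scheme.fromSpecStalk_closedPoint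
  rw [← hx', ← heq]
  have : hW.fromSpec (Spec.map (CommRingCat.ofHom γ) (closedPoint R)) ∈ Set.range hW.fromSpec :=
    ⟨_, rfl⟩
  rw [hW.range_fromSpec] at this
  exact this

/-- If `R ⊇ φ(Γ(Y, V))` contains the images of algebra generators of `Γ(X, W)` over `Γ(Y, V)`,
it contains the image of `Γ(X, W)`. -/
lemma rho_mem_of_generators {V : Y.Opens} {ξ : X} {W : X.Opens} (e : W ≤ f ⁻¹ᵁ V) (hξW : ξ ∈ W)
    (R : ValuationSubring (X.residueField ξ)) (hR : ∀ a, (phi f V ξ (e hξW)).hom a ∈ R)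
    (g : Finset Γ(X, W))
    (hg : @Algebra.adjoin Γ(Y, V) Γ(X, W) _ _ (f.appLE V W e).hom.toAlgebra (g : Set Γ(X, W)) = ⊤)
    (hgR : ∀ b ∈ g, (rho ξ W hξW).hom b ∈ R) (b : Γ(X, W)) : (rho ξ W hξW).hom b ∈ R := by
  let _ := (f.appLE V W e).hom.toAlgebra
  let S : Subalgebra Γ(Y, V) Γ(X, W) :=
    { R.toSubring.comap (rho ξ W hξW).hom with
      algebraMap_mem' := fun a => by
        show (rho ξ W hξW).hom ((f.appLE V W e).hom a) ∈ R
        have := congr($(appLE_rho f V ξ e hξW).hom a)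
        exact this ▸ hR a }
  have h1 : Algebra.adjoin Γ(Y, V) (g : Set Γ(X, W)) ≤ S := Algebra.adjoin_le fun b hb => hgR b hb
  rw [hg] at h1
  exact h1 (Algebra.mem_top : b ∈ (⊤ : Subalgebra Γ(Y, V) Γ(X, W)))

/-- Finitely many affine opens cover all specializations (inside `f⁻¹V`) of a point `ξ`. -/
lemma exists_finite_affine_cover [LocallyOfFiniteType f] (hf : ValuativeCriterion f) {V : Y.Opens}
    (hV : IsAffineOpen V) (ξ : X) :
    ∃ s : Set X.Opens, s.Finite ∧ (∀ W ∈ s, IsAffineOpen W ∧ W ≤ f ⁻¹ᵁ V) ∧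
      ∀ x, ξ ⤳ x → x ∈ f ⁻¹ᵁ V → ∃ W ∈ s, x ∈ W := by
  classical
  by_cases hξ : ξ ∈ f ⁻¹ᵁ V
  swap
  · exact ⟨∅, Set.finite_empty, by simp, fun x hsp hx => (hξ (hsp.mem_open (f ⁻¹ᵁ V).2 hx)).elim⟩
  let ι := {W : X.Opens // IsAffineOpen W ∧ W ≤ f ⁻¹ᵁ V ∧ ξ ∈ W}
  have hft : ∀ i : ι, ∃ g : Finset Γ(X, i.1),
      @Algebra.adjoin Γ(Y, V) Γ(X, i.1) _ _ (f.appLE V i.1 i.2.2.1).hom.toAlgebra
        (g : Set Γ(X, i.1)) = ⊤ := fun i =>
    (f.finiteType_appLE hV i.2.1 i.2.2.1).out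
  choose g hg using hft
  let F : ι → Finset (X.residueField ξ) := fun i => (g i).image (rho ξ i.1 i.2.2.2).hom
  let A₀ : Subring (X.residueField ξ) := (phi f V ξ hξ).hom.range
  have h : ∀ R : ValuationSubring (X.residueField ξ), A₀ ≤ R.toSubring →
      ∃ i, ∀ y ∈ F i, y ∈ R := by
    intro R hR
    obtain ⟨W, hW, e, hξW, hb⟩ := exists_affine_of_existence f hf.existence hV ξ hξ R
      (fun a => hR ⟨a, rfl⟩)
    refine ⟨⟨W, hW, e, hξW⟩, fun y hy => ?_⟩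
    obtain ⟨b, -, rfl⟩ := Finset.mem_image.mp hy
    exact hb b
  obtain ⟨t, ht⟩ := RZCompact.exists_finset_of_forall_valuationSubring A₀ F h
  refine ⟨(fun i : ι => i.1) '' (t : Set ι), (t.finite_toSet).image _, ?_, ?_⟩
  · rintro _ ⟨i, -, rfl⟩
    exact ⟨i.2.1, i.2.2.1⟩
  · intro x hsp hx
    obtain ⟨R, hσ, hloc⟩ := IsLocalRing.exists_factor_valuationRing (sigma hsp).hom
    obtain ⟨W', hW', hxW', hW'V⟩ := exists_affine_le x hx
    have hR : ∀ a, (phi f V ξ hξ).hom a ∈ R := by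
      intro a
      have h1 := congr($(germ_sigma hsp hxW').hom ((f.appLE V W' hW'V).hom a))
      have h2 := congr($(appLE_rho f V ξ hW'V (hsp.mem_open W'.2 hxW')).hom a)
      have h3 : (phi f V ξ hξ).hom a = (sigma hsp).hom
          ((X.presheaf.germ W' x hxW').hom ((f.appLE V W' hW'V).hom a)) := (h1.trans h2).symm
      rw [h3]
      exact hσ _
    obtain ⟨i, hit, hi⟩ := ht R (by rintro _ ⟨a, rfl⟩; exact hR a)
    refine ⟨i.1, ⟨i, hit, rfl⟩, ?_⟩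
    have hρ : ∀ b, (rho ξ i.1 i.2.2.2).hom b ∈ R :=
      rho_mem_of_generators f i.2.2.1 i.2.2.2 R hR (g i) (hg i)
        (fun b hb => hi _ (Finset.mem_image_of_mem _ hb))
    exact mem_of_uniqueness f hf.uniqueness hV hsp hx R hσ hloc i.2.1 i.2.2.1 i.2.2.2 hρ

/-- A morphism locally of finite type satisfying the valuative criterion, whose source has
finitely many irreducible components, is quasi-compact. -/
theorem quasiCompact_of_valuativeCriterion [LocallyOfFiniteType f] (hf : ValuativeCriterion f)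
    (hX : (irreducibleComponents ↥X).Finite) : QuasiCompact f := by
  rw [quasiCompact_iff_forall_isAffineOpen]
  intro V hV
  have hΞ : {ξ : X | FlatIrred.IsMaxPt ξ}.Finite :=
    FlatIrred.finite_isMaxPt_of_finite_irreducibleComponents hX
  choose s hsfin hsaff hscov using fun ξ : X => exists_finite_affine_cover f hf hV ξ
  have heq : (f ⁻¹ᵁ V : Set X) = ⋃ ξ ∈ {ξ : X | FlatIrred.IsMaxPt ξ}, ⋃ W ∈ s ξ, (W : Set X) := by
    apply Set.Subset.antisymm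
    · intro x hx
      obtain ⟨Z, hZ, hxZ⟩ := exists_mem_irreducibleComponents_subset_of_isIrreducible {x}
        isIrreducible_singleton
      obtain ⟨ξ, hξ⟩ := QuasiSober.sober hZ.1 (isClosed_of_mem_irreducibleComponents Z hZ)
      have hmax : FlatIrred.IsMaxPt ξ :=
        FlatIrred.isMaxPt_of_mem_irreducibleComponents (by rw [hξ.def]; exact hZ)
      have hsp : ξ ⤳ x := by
        rw [specializes_iff_mem_closure, hξ.def]
        exact hxZ rfl
      obtain ⟨W, hW, hxW⟩ := hscov ξ x hsp hx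
      exact Set.mem_iUnion₂.mpr ⟨ξ, hmax, Set.mem_iUnion₂.mpr ⟨W, hW, hxW⟩⟩
    · intro x hx
      obtain ⟨ξ, -, hx⟩ := Set.mem_iUnion₂.mp hx
      obtain ⟨W, hW, hxW⟩ := Set.mem_iUnion₂.mp hx
      exact (hsaff ξ W hW).2 hxW
  rw [heq]
  exact hΞ.isCompact_biUnion fun ξ _ =>
    (hsfin ξ).isCompact_biUnion fun W hW => (hsaff ξ W hW).1.isCompact

end Groth.Agent.H6.ValQC
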